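/-
Numeric tables for the Sylow normalisers of the large primes in a group of Janko-four order,
and a Singer cycle of SL(5, 2) with an element of order five normalising it.
-/
import Mathlib

set_option autoImplicit false
set_option linter.style.haveILetI false

namespace CfsgLib.JankoFour.Big

/-- The order of a group of Janko-four type. -/
def orderJ4 : ℕ := 86775571046077562880

/-- The five large primes. -/
def bigs : List ℕ := [23, 29, 31, 37, 43]

/-- The divisors of the order prime to 2, 3, 5 and 7. -/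
def dList : List ℕ :=
  [1, 11, 121, 1331].flatMap fun k =>
    [1, 23].flatMap fun a => [1, 29].flatMap fun b => [1, 31].flatMap fun c => [1, 37].flatMap fun d =>
      [1, 43].map fun e => k * (a * b * c * d * e)

/-- A prime known to divide the order of the automiser. -/
def eDiv (p : ℕ) : ℕ := if p = 23 then 11 else if p = 31 then 5 else 1

/-- The possible pairs (centraliser order, automiser order) for a Sylow subgroup of order `p`. -/
def pairsFor (p : ℕ) : List (ℕ × ℕ) :=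
  dList.flatMap fun d =>
    ((List.range p).filter fun e =>
      Nat.beq (d % p) 0 && !Nat.beq e 0 && Nat.beq ((p - 1) % e) 0 && Nat.beq (e % eDiv p) 0 &&
        Nat.beq (orderJ4 % (d * e)) 0 && Nat.beq ((orderJ4 / (d * e)) % p) 1).map fun e => (d, e)

/-- A group of order `d` has only one Sylow subgroup for `q`, of order `q`. -/
def uniqB (d q : ℕ) : Bool :=
  !Nat.beq ((d / q) % q) 0 &&
    dList.all fun k => !Nat.beq ((d / q) % k) 0 || !Nat.beq (k % q) 1 || Nat.beq k 1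

/-- A pair has a compatible partner for each other prime dividing its centraliser order. -/
def alive (T : ℕ → List (ℕ × ℕ)) (p : ℕ) (x : ℕ × ℕ) : Bool :=
  bigs.all fun q => Nat.beq q p || !Nat.beq (x.1 % q) 0 ||
    (T q).any fun y => Nat.beq (y.1 % p) 0 && (!uniqB x.1 q || Nat.beq ((y.1 * y.2) % (x.1 * x.2)) 0)

/-- One round of elimination, tabulated. -/
def prune (T : List (ℕ × List (ℕ × ℕ))) : List (ℕ × List (ℕ × ℕ)) :=
  T.map fun pl => (pl.1, pl.2.filter (alive (fun q => (T.lookup q).getD []) pl.1))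

/-- The starting table. -/
def table0 : List (ℕ × List (ℕ × ℕ)) := bigs.map fun p => (p, pairsFor p)

/-- The surviving pairs. -/
def finalTable : List (ℕ × List (ℕ × ℕ)) :=
  [(23, [(23, 22)]), (29, [(29, 28)]), (31, [(31, 10), (341, 15)]), (37, [(37, 12)]), (43, [(43, 14)])]

theorem table_checked :
    prune (prune (prune (prune (prune (prune (prune (prune table0))))))) = finalTable := by
  decide +kernel

/-- The companion matrix of a primitive polynomial of degree five. -/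
def singer : Matrix (Fin 5) (Fin 5) (ZMod 2) :=
  !![0, 0, 0, 0, 1; 1, 0, 0, 0, 0; 0, 1, 0, 0, 1; 0, 0, 1, 0, 0; 0, 0, 0, 1, 0]

/-- The Frobenius map in the power basis. -/
def frob : Matrix (Fin 5) (Fin 5) (ZMod 2) :=
  !![1, 0, 0, 0, 1; 0, 0, 0, 1, 0; 0, 1, 0, 0, 1; 0, 0, 0, 1, 1; 0, 0, 1, 0, 0]

/-- The square of the Singer matrix. -/
def singer2 : Matrix (Fin 5) (Fin 5) (ZMod 2) :=
  !![0, 0, 0, 1, 0; 0, 0, 0, 0, 1; 1, 0, 0, 1, 0; 0, 1, 0, 0, 1; 0, 0, 1, 0, 0]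

theorem singer_steps :
    singer * singer = singer2 ∧ singer2 * singer2 = !![0, 1, 0, 0, 1; 0, 0, 1, 0, 0; 0, 1, 0, 1, 1; 0, 0, 1, 0, 1; 1, 0, 0, 1, 0] ∧
    (!![0, 1, 0, 0, 1; 0, 0, 1, 0, 0; 0, 1, 0, 1, 1; 0, 0, 1, 0, 1; 1, 0, 0, 1, 0] : Matrix (Fin 5) (Fin 5) (ZMod 2)) * !![0, 1, 0, 0, 1; 0, 0, 1, 0, 0; 0, 1, 0, 1, 1; 0, 0, 1, 0, 1; 1, 0, 0, 1, 0] = !![1, 0, 1, 1, 0; 0, 1, 0, 1, 1; 1, 0, 0, 1, 1; 1, 1, 0, 0, 1; 0, 1, 1, 0, 0] ∧
    (!![1, 0, 1, 1, 0; 0, 1, 0, 1, 1; 1, 0, 0, 1, 1; 1, 1, 0, 0, 1; 0, 1, 1, 0, 0] : Matrix (Fin 5) (Fin 5) (ZMod 2)) * !![1, 0, 1, 1, 0; 0, 1, 0, 1, 1; 1, 0, 0, 1, 1; 1, 1, 0, 0, 1; 0, 1, 1, 0, 0] = !![1, 1, 1, 0, 0; 1, 1, 1, 1, 0; 0, 0, 0, 1, 1; 1, 0, 0, 0, 1; 1, 1, 0, 0, 0] ∧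
    (!![1, 1, 1, 0, 0; 1, 1, 1, 1, 0; 0, 0, 0, 1, 1; 1, 0, 0, 0, 1; 1, 1, 0, 0, 0] : Matrix (Fin 5) (Fin 5) (ZMod 2)) * !![1, 0, 1, 1, 0; 0, 1, 0, 1, 1; 1, 0, 0, 1, 1; 1, 1, 0, 0, 1; 0, 1, 1, 0, 0] * !![0, 1, 0, 0, 1; 0, 0, 1, 0, 0; 0, 1, 0, 1, 1; 0, 0, 1, 0, 1; 1, 0, 0, 1, 0] * singer2 * singer = 1 := by
  decide +kernel

theorem frob_facts : frob * frob * frob * frob * frob = 1 ∧ frob * singer = singer2 * frob ∧ singer ≠ 1 ∧
    frob ≠ 1 := by
  decide +kernel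

theorem singer_pow : singer ^ 31 = 1 := by
  obtain ⟨h1, h2, h3, h4, h5⟩ := singer_steps
  have e : singer ^ 31 = singer ^ 16 * singer ^ 8 * singer ^ 4 * singer ^ 2 * singer := by
    simp only [← pow_add, ← pow_succ]
  have e2 : singer ^ 2 = singer2 := by rw [pow_two, h1]
  have e4 : singer ^ 4 = !![0, 1, 0, 0, 1; 0, 0, 1, 0, 0; 0, 1, 0, 1, 1; 0, 0, 1, 0, 1; 1, 0, 0, 1, 0] := (pow_mul singer 2 2).trans (by rw [e2, pow_two, h2])
  have e8 : singer ^ 8 = !![1, 0, 1, 1, 0; 0, 1, 0, 1, 1; 1, 0, 0, 1, 1; 1, 1, 0, 0, 1; 0, 1, 1, 0, 0] := (pow_mul singer 4 2).trans (by rw [e4, pow_two, h3])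
  have e16 : singer ^ 16 = !![1, 1, 1, 0, 0; 1, 1, 1, 1, 0; 0, 0, 0, 1, 1; 1, 0, 0, 0, 1; 1, 1, 0, 0, 0] := (pow_mul singer 8 2).trans (by rw [e8, pow_two, h4])
  rw [e, e16, e8, e4, e2, h5]

/-- An element of order 31 in SL(5, 2) and an element of order five conjugating it to its square. -/
theorem exists_singer : ∃ u f : Matrix.SpecialLinearGroup (Fin 5) (ZMod 2),
    orderOf u = 31 ∧ orderOf f = 5 ∧ f * u * f⁻¹ = u * u := by
  obtain ⟨f5, fs, s1, f1⟩ := frob_facts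
  have hdet : ∀ (A : Matrix (Fin 5) (Fin 5) (ZMod 2)) (n : ℕ), n ≠ 0 → A ^ n = 1 → A.det = 1 := by
    intro A n hn h
    have h2 : ∀ x : ZMod 2, x ≠ 0 → x = 1 := by decide
    refine h2 _ fun h0 => ?_
    have := congrArg Matrix.det h
    rw [Matrix.det_pow, h0, zero_pow hn, Matrix.det_one] at this
    exact zero_ne_one this
  have hF : frob ^ 5 = 1 := by
    simp only [pow_succ, pow_zero, one_mul]
    exact f5
  let u : Matrix.SpecialLinearGroup (Fin 5) (ZMod 2) := ⟨singer, hdet _ 31 (by norm_num) singer_pow⟩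
  let f : Matrix.SpecialLinearGroup (Fin 5) (ZMod 2) := ⟨frob, hdet _ 5 (by norm_num) hF⟩
  haveI : Fact (Nat.Prime 31) := ⟨by norm_num⟩
  haveI : Fact (Nat.Prime 5) := ⟨by norm_num⟩
  refine ⟨u, f, orderOf_eq_prime ?_ ?_, orderOf_eq_prime ?_ ?_, ?_⟩
  · exact Subtype.ext (by rw [Matrix.SpecialLinearGroup.coe_pow]; exact singer_pow)
  · exact fun h => s1 (congrArg Subtype.val h)
  · exact Subtype.ext (by rw [Matrix.SpecialLinearGroup.coe_pow]; exact hF)
  · exact fun h => f1 (congrArg Subtype.val h)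
  · rw [mul_inv_eq_iff_eq_mul]
    refine Subtype.ext ?_
    show frob * singer = singer * singer * frob
    rw [singer_steps.1]; exact fs

end CfsgLib.JankoFour.Big
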