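/-
Sylow normalisers of the large primes in a group of Janko-four order with small centralisers.
-/
import Cfsg.Agent.Lib.JankoFour.BigPrimeCheck

set_option autoImplicit false
set_option linter.style.haveILetI false

namespace CfsgLib.JankoFour.Big

open Subgroup

universe u

/-- The small primes. -/
def smalls : List ℕ := [2, 3, 5, 7]

theorem bigs_prime {p : ℕ} (hp : p ∈ bigs) : p.Prime := by
  simp only [bigs, List.mem_cons, List.not_mem_nil, or_false] at hp
  rcases hp with rfl | rfl | rfl | rfl | rfl <;> norm_num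

theorem bigs_once {p : ℕ} (hp : p ∈ bigs) : p ∣ orderJ4 ∧ ¬ p ^ 2 ∣ orderJ4 := by
  simp only [bigs, List.mem_cons, List.not_mem_nil, or_false] at hp
  rcases hp with rfl | rfl | rfl | rfl | rfl <;> exact ⟨by norm_num [orderJ4], by norm_num [orderJ4]⟩

theorem mem_dList {d : ℕ} (h : d ∣ 11 ^ 3 * (23 * 29 * 31 * 37 * 43)) : d ∈ dList := by
  obtain ⟨k, m, hk, hm, rfl⟩ := Nat.dvd_mul.mp h
  obtain ⟨a4, e, h4, he, rfl⟩ := Nat.dvd_mul.mp hm
  obtain ⟨a3, d', h3, hd, rfl⟩ := Nat.dvd_mul.mp h4
  obtain ⟨a2, c, h2, hc, rfl⟩ := Nat.dvd_mul.mp h3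
  obtain ⟨a, b, ha, hb, rfl⟩ := Nat.dvd_mul.mp h2
  obtain ⟨i, hi, rfl⟩ := (Nat.dvd_prime_pow (show Nat.Prime 11 by norm_num)).mp hk
  have hk' : 11 ^ i ∈ [1, 11, 121, 1331] := by
    interval_cases i <;> decide
  have ha' := (Nat.dvd_prime (show Nat.Prime 23 by norm_num)).mp ha
  have hb' := (Nat.dvd_prime (show Nat.Prime 29 by norm_num)).mp hb
  have hc' := (Nat.dvd_prime (show Nat.Prime 31 by norm_num)).mp hc
  have hd' := (Nat.dvd_prime (show Nat.Prime 37 by norm_num)).mp hd
  have he' := (Nat.dvd_prime (show Nat.Prime 43 by norm_num)).mp he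
  simp only [dList, List.mem_flatMap, List.mem_map]
  exact ⟨_, hk', a, by simpa using ha', b, by simpa using hb', c, by simpa using hc', d', by simpa using hd',
    e, by simpa using he', rfl⟩

theorem mem_pairsFor {p d e : ℕ} (hd : d ∈ dList) (hpd : p ∣ d) (he : e ∣ p - 1) (he0 : e ≠ 0) (hep : e < p)
    (hr : eDiv p ∣ e) (hde : d * e ∣ orderJ4) (hn : orderJ4 / (d * e) % p = 1) : (d, e) ∈ pairsFor p := by
  simp only [pairsFor, List.mem_flatMap, List.mem_map, List.mem_filter, List.mem_range]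
  refine ⟨d, hd, e, ⟨hep, ?_⟩, rfl⟩
  rw [Nat.mod_eq_zero_of_dvd hpd, Nat.mod_eq_zero_of_dvd he, Nat.mod_eq_zero_of_dvd hr,
    Nat.mod_eq_zero_of_dvd hde, hn]
  cases e with
  | zero => exact absurd rfl he0
  | succ k => rfl

theorem lookup_table0 {p : ℕ} (hp : p ∈ bigs) : (table0.lookup p).getD [] = pairsFor p := by
  simp only [bigs, List.mem_cons, List.not_mem_nil, or_false] at hp
  rcases hp with rfl | rfl | rfl | rfl | rfl <;> rfl

theorem mem_prune {T : List (ℕ × List (ℕ × ℕ))} {p : ℕ} {x : ℕ × ℕ}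
    (hx : x ∈ (T.lookup p).getD []) (ha : alive (fun q => (T.lookup q).getD []) p x = true) :
    x ∈ ((prune T).lookup p).getD [] := by
  have key : ∀ L : List (ℕ × List (ℕ × ℕ)),
      ((L.map fun pl => (pl.1, pl.2.filter (alive (fun q => (T.lookup q).getD []) pl.1))).lookup p).getD [] =
        ((L.lookup p).getD []).filter (alive (fun q => (T.lookup q).getD []) p) := by
    intro L
    induction L with
    | nil => rfl
    | cons a L ih =>
      obtain ⟨k, l⟩ := a
      by_cases h : p = k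
      · subst h; simp [List.lookup]
      · simp [List.lookup, beq_eq_false_iff_ne.mpr h, ih]
  rw [prune, key, List.mem_filter]
  exact ⟨hx, ha⟩

theorem uniqB_spec {d q : ℕ} (h : uniqB d q = true) :
    ¬ q ∣ d / q ∧ ∀ k ∈ dList, k ∣ d / q → k % q = 1 → k = 1 := by
  simp only [uniqB, Bool.and_eq_true, Bool.not_eq_true', List.all_eq_true, Bool.or_eq_true] at h
  obtain ⟨h1, h2⟩ := h
  refine ⟨fun hdvd => ?_, fun k hk hkd hk1 => ?_⟩
  · rw [Nat.mod_eq_zero_of_dvd hdvd] at h1
    exact Bool.noConfusion h1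
  · rcases h2 k hk with (h3 | h3) | h3
    · rw [Nat.mod_eq_zero_of_dvd hkd] at h3; exact Bool.noConfusion h3
    · rw [hk1] at h3; exact Bool.noConfusion h3
    · exact Nat.eq_of_beq_eq_true h3

variable {G : Type u} [Group G] [Finite G]

/-- The hypotheses of the counting argument. -/
structure Hyp (G : Type u) [Group G] : Prop where
  card : Nat.card G = orderJ4
  small : ∀ r ∈ smalls, ∀ p ∈ bigs, ∀ x y : G, orderOf x = r → orderOf y = p → x * y = y * x → False
  thirtyone : ∃ u f : G, orderOf u = 31 ∧ orderOf f = 5 ∧ f * u * f⁻¹ = u * u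
  twentythree : ∃ u f : G, orderOf u = 23 ∧ orderOf f = 11 ∧ f * u * f⁻¹ = u * u

theorem card_sylow_big (h : Hyp G) {p : ℕ} (hp : p ∈ bigs) [Fact p.Prime] (U : Sylow p G) :
    Nat.card ↥(U : Subgroup G) = p := by
  obtain ⟨h1, h2⟩ := bigs_once hp
  obtain ⟨k, hk⟩ := IsPGroup.iff_card.mp U.isPGroup'
  have hdvd := Subgroup.card_subgroup_dvd_card (U : Subgroup G)
  rw [hk, h.card] at hdvd
  have hpU : p ∣ Nat.card ↥(U : Subgroup G) := U.dvd_card_of_dvd_card (h.card ▸ h1)
  have hk0 : k ≠ 0 := fun e => by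
    rw [hk, e, pow_zero] at hpU
    exact (bigs_prime hp).not_dvd_one hpU
  have hk2 : k < 2 := by
    by_contra hc
    exact h2 ((Nat.pow_dvd_pow p (by omega)).trans hdvd)
  rw [hk, show k = 1 by omega, pow_one]

/-- A prime dividing the automiser, from an element squaring an element of order `p`. -/
theorem dvd_index_ker (h : Hyp G) {p r : ℕ} (hp : p ∈ bigs) [Fact p.Prime] (hr : r.Prime) (U : Sylow p G)
    (hex : ∃ u f : G, orderOf u = p ∧ orderOf f = r ∧ f * u * f⁻¹ = u * u) :
    r ∣ (U : Subgroup G).normalizerMonoidHom.ker.index := by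
  classical
  obtain ⟨u, f, hu, hf, hfu⟩ := hex
  obtain ⟨V, hV⟩ := (IsPGroup.of_card (n := 1) (by rw [Nat.card_zpowers, hu, pow_one]) :
    IsPGroup p ↥(zpowers u)).exists_le_sylow
  obtain ⟨g, hg⟩ := MulAction.exists_smul_eq G V U
  have hcV : zpowers u = (V : Subgroup G) := eq_of_le_of_card_ge hV (by
    rw [card_sylow_big h hp V, Nat.card_zpowers, hu])
  set u' := g * u * g⁻¹ with hu'
  set f' := g * f * g⁻¹ with hf'
  have hU : zpowers u' = (U : Subgroup G) := by
    rw [← hg, Sylow.coe_subgroup_smul, ← hcV, hu']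
    exact (MonoidHom.map_zpowers (MulAut.conj g).toMonoidHom u).symm
  have hfu' : f' * u' * f'⁻¹ = u' * u' := by
    rw [hu', hf', show g * f * g⁻¹ * (g * u * g⁻¹) * (g * f * g⁻¹)⁻¹ = g * (f * u * f⁻¹) * g⁻¹ by group, hfu]
    group
  have hf'N : f' ∈ normalizer ((U : Subgroup G) : Set G) := by
    rw [← hU]
    have hle : (zpowers u').map (MulAut.conj f').toMonoidHom ≤ zpowers u' := by
      rw [MonoidHom.map_zpowers, zpowers_le, MulEquiv.coe_toMonoidHom, MulAut.conj_apply, hfu']
      exact mul_mem (mem_zpowers u') (mem_zpowers u')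
    have heq := eq_of_le_of_card_ge hle (by rw [card_map_of_injective (MulAut.conj f').injective])
    rw [mem_normalizer_iff]
    refine fun v => ⟨fun hv => hle ⟨v, hv, rfl⟩, fun hv => ?_⟩
    obtain ⟨w, hw, hwv⟩ := heq.symm ▸ hv
    have : w = v := by
      simpa using hwv
    exact this ▸ hw
  set φ := (U : Subgroup G).normalizerMonoidHom
  set fN : ↥(normalizer ((U : Subgroup G) : Set G)) := ⟨f', hf'N⟩
  have hne : φ fN ≠ 1 := by
    intro h1
    have hmem : fN ∈ φ.ker := h1
    rw [Subgroup.normalizerMonoidHom_ker, mem_subgroupOf] at hmem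
    have hc := mem_centralizer_iff.mp hmem u' (hU ▸ mem_zpowers u')
    change u' * f' = f' * u' at hc
    rw [← hc, mul_inv_cancel_right] at hfu'
    have h1 : u' = 1 := mul_eq_left.mp hfu'.symm
    have h2 : orderOf u' = p := by rw [hu', ← hu]; exact (MulAut.conj g).orderOf_eq u
    rw [h1, orderOf_one] at h2
    exact (bigs_prime hp).ne_one h2.symm
  have hord : orderOf (φ fN) = r := by
    haveI := Fact.mk hr
    refine orderOf_eq_prime ?_ hne
    rw [← map_pow, show fN ^ r = 1 from Subtype.ext (by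
      show f' ^ r = 1
      rw [hf', conj_pow, ← hf, pow_orderOf_eq_one, mul_one, mul_inv_cancel]), map_one]
  rw [Subgroup.index_ker, ← hord, ← Subgroup.orderOf_mk (φ fN) (show φ fN ∈ φ.range from ⟨fN, rfl⟩)]
  exact orderOf_dvd_natCard _

/-- The orders of the centraliser and of the normaliser of a Sylow subgroup. -/
theorem sylow_data (h : Hyp G) {p : ℕ} (hp : p ∈ bigs) [Fact p.Prime] (U : Sylow p G) :
    ∃ e, (Nat.card ↥(centralizer ((U : Subgroup G) : Set G)), e) ∈ pairsFor p ∧
      Nat.card ↥(normalizer ((U : Subgroup G) : Set G)) =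
        Nat.card ↥(centralizer ((U : Subgroup G) : Set G)) * e := by
  classical
  have hU := card_sylow_big h hp U
  haveI : IsCyclic ↥(U : Subgroup G) := isCyclic_of_prime_card hU
  obtain ⟨⟨y, hyU⟩, hy⟩ := exists_prime_orderOf_dvd_card' (G := ↥(U : Subgroup G)) p (by rw [hU])
  rw [← Subgroup.orderOf_coe] at hy
  change orderOf y = p at hy
  set C := centralizer ((U : Subgroup G) : Set G) with hC
  set N := normalizer ((U : Subgroup G) : Set G) with hN
  have hUC : (U : Subgroup G) ≤ C := fun x hx => mem_centralizer_iff.mpr fun w hw => by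
    obtain ⟨g, hg⟩ := IsCyclic.exists_generator (α := ↥(U : Subgroup G))
    obtain ⟨i, hi⟩ := mem_zpowers_iff.mp (hg ⟨x, hx⟩)
    obtain ⟨j, hj⟩ := mem_zpowers_iff.mp (hg ⟨w, hw⟩)
    have := (Commute.zpow_zpow_self g j i).eq
    rw [hi, hj] at this
    exact congrArg Subtype.val this
  have hpd : p ∣ Nat.card C := hU ▸ card_dvd_of_le hUC
  have hsmall : ∀ r ∈ smalls, ¬ r ∣ Nat.card C := by
    intro r hr hdvd
    have hr' : r.Prime := by
      simp only [smalls, List.mem_cons, List.not_mem_nil, or_false] at hr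
      rcases hr with rfl | rfl | rfl | rfl <;> norm_num
    haveI := Fact.mk hr'
    obtain ⟨⟨x, hxC⟩, hx⟩ := exists_prime_orderOf_dvd_card' r hdvd
    rw [← Subgroup.orderOf_coe] at hx
    exact h.small r hr p hp x y hx hy (mem_centralizer_iff.mp hxC y hyU).symm
  have hdC : Nat.card C ∈ dList := by
    refine mem_dList ?_
    have hall : Nat.card C ∣ (11 ^ 3 * (23 * 29 * 31 * 37 * 43)) * (2 ^ 21 * 3 ^ 3 * 5 * 7) := by
      have := card_subgroup_dvd_card C
      rwa [h.card, show orderJ4 = (11 ^ 3 * (23 * 29 * 31 * 37 * 43)) * (2 ^ 21 * 3 ^ 3 * 5 * 7) by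
        norm_num [orderJ4]] at this
    refine Nat.Coprime.dvd_of_dvd_mul_right ?_ hall
    have hc : ∀ r ∈ smalls, r.Prime → Nat.Coprime (Nat.card C) r := fun r hr hr' =>
      ((Nat.Prime.coprime_iff_not_dvd hr').mpr (hsmall r hr)).symm
    refine Nat.Coprime.mul_right (Nat.Coprime.mul_right (Nat.Coprime.mul_right
      (Nat.Coprime.pow_right _ (hc 2 (by decide) (by norm_num))) (Nat.Coprime.pow_right _ (hc 3 (by decide) (by norm_num))))
      (hc 5 (by decide) (by norm_num))) (hc 7 (by decide) (by norm_num))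
  let φ := (U : Subgroup G).normalizerMonoidHom
  have hker : φ.ker = C.subgroupOf N := Subgroup.normalizerMonoidHom_ker _
  have hCN : C ≤ N := centralizer_le_normalizer _
  have hidx : Nat.card C * φ.ker.index = Nat.card N := by
    rw [← Nat.card_congr (subgroupOfEquivOfLe hCN).toEquiv, ← hker]
    exact φ.ker.card_mul_index
  have he : φ.ker.index ∣ p - 1 := by
    rw [Subgroup.index_ker]
    have := Subgroup.card_subgroup_dvd_card φ.range
    rwa [(inferInstance : IsCyclic ↥(U : Subgroup G)).card_mulAut, hU, Nat.totient_prime (bigs_prime hp)] at this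
  have he0 : φ.ker.index ≠ 0 := Subgroup.index_ne_zero_of_finite
  have h1 := (bigs_prime hp).one_lt
  have hep : φ.ker.index < p := lt_of_le_of_lt (Nat.le_of_dvd (by omega) he) (by omega)
  have hde : Nat.card C * φ.ker.index ∣ orderJ4 := by
    rw [hidx, ← h.card]; exact card_subgroup_dvd_card N
  have hn : orderJ4 / (Nat.card C * φ.ker.index) % p = 1 := by
    have h2 : N.index = orderJ4 / Nat.card N := by
      rw [← h.card, ← N.card_mul_index, Nat.mul_div_cancel_left _ Nat.card_pos]
    have h3 : Nat.card (Sylow p G) % p = 1 % p := card_sylow_modEq_one p G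
    rw [U.card_eq_index_normalizer, Nat.mod_eq_of_lt (bigs_prime hp).one_lt] at h3
    rw [hidx, ← h2]; exact h3
  have hr : eDiv p ∣ φ.ker.index := by
    simp only [eDiv]
    split_ifs with h23 h31
    · subst h23; exact dvd_index_ker h hp (by norm_num) U h.twentythree
    · subst h31; exact dvd_index_ker h hp (by norm_num) U h.thirtyone
    · exact one_dvd _
  exact ⟨φ.ker.index, mem_pairsFor hdC hpd he he0 hep hr hde hn, hidx.symm⟩

/-- A subgroup with a single Sylow subgroup for `q` normalises any of its subgroups of order `q`. -/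
theorem le_normalizer_of (H : Subgroup G) {q m : ℕ} (hq : q.Prime) (hH : Nat.card H = q * m) (hqm : ¬ q ∣ m)
    (hm : ∀ k, k ∣ m → k % q = 1 → k = 1) {x : G} (hxH : x ∈ H) (hx : orderOf x = q) :
    H ≤ normalizer (zpowers x : Set G) := by
  classical
  haveI := Fact.mk hq
  have hm0 : m ≠ 0 := fun e => hqm (e ▸ dvd_zero q)
  have hc : Nat.card ↥(zpowers (⟨x, hxH⟩ : H)) = q := by
    rw [Nat.card_zpowers, ← Subgroup.orderOf_coe, hx]
  let S : Sylow q H := Sylow.ofCard (zpowers ⟨x, hxH⟩) (by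
    rw [hc, hH, Nat.factorization_mul hq.ne_zero hm0, Finsupp.add_apply, hq.factorization_self,
      Nat.factorization_eq_zero_of_not_dvd hqm, add_zero, pow_one])
  have hcS : Nat.card ↥(S : Subgroup H) = q := hc
  have hd : Nat.card (Sylow q H) ∣ m := by
    have h2 := (S : Subgroup H).card_mul_index
    rw [hcS, hH] at h2
    exact (Nat.eq_of_mul_eq_mul_left hq.pos h2) ▸ S.card_dvd_index
  have h1 : Nat.card (Sylow q H) = 1 := by
    refine hm _ hd ?_
    have := card_sylow_modEq_one q H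
    rwa [Nat.ModEq, Nat.one_mod_eq_one.mpr hq.ne_one] at this
  haveI : Subsingleton (Sylow q H) := (Nat.card_eq_one_iff_unique.mp h1).1
  have hn : (zpowers (⟨x, hxH⟩ : H)).Normal := Sylow.normal_of_subsingleton S
  intro w hw
  rw [mem_normalizer_iff]
  intro v
  constructor
  · intro hv
    obtain ⟨i, rfl⟩ := mem_zpowers_iff.mp hv
    obtain ⟨j, hj⟩ := mem_zpowers_iff.mp (hn.conj_mem _ (zpow_mem (mem_zpowers _) i) ⟨w, hw⟩)
    exact mem_zpowers_iff.mpr ⟨j, congrArg Subtype.val hj⟩
  · intro hv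
    obtain ⟨i, hi⟩ := mem_zpowers_iff.mp hv
    obtain ⟨j, hj⟩ := mem_zpowers_iff.mp (hn.conj_mem _ (zpow_mem (mem_zpowers _) i) ⟨w, hw⟩⁻¹)
    refine mem_zpowers_iff.mpr ⟨j, ?_⟩
    have := congrArg Subtype.val hj
    simp only [coe_mul, coe_inv, coe_zpow, inv_inv] at this
    rw [this, hi]
    group

/-- A prime dividing the centraliser of a Sylow subgroup gives a Sylow subgroup centralised by the first. -/
theorem partner (h : Hyp G) {p q : ℕ} (hp : p ∈ bigs) (hq : q ∈ bigs) [Fact p.Prime] [Fact q.Prime]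
    (U : Sylow p G) (hd : q ∣ Nat.card ↥(centralizer ((U : Subgroup G) : Set G))) :
    ∃ W : Sylow q G, (W : Subgroup G) ≤ centralizer ((U : Subgroup G) : Set G) ∧
      p ∣ Nat.card ↥(centralizer ((W : Subgroup G) : Set G)) := by
  classical
  obtain ⟨⟨x, hxC⟩, hx⟩ := exists_prime_orderOf_dvd_card' q hd
  rw [← Subgroup.orderOf_coe] at hx
  change orderOf x = q at hx
  obtain ⟨h1, h2⟩ := bigs_once hq
  have hfac : (Nat.card G).factorization q = 1 := by
    rw [h.card]
    refine le_antisymm ?_ ((bigs_prime hq).factorization_pos_of_dvd (by norm_num [orderJ4]) h1)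
    by_contra hc
    exact h2 (((bigs_prime hq).pow_dvd_iff_le_factorization (by norm_num [orderJ4])).mpr (by omega))
  let W : Sylow q G := Sylow.ofCard (zpowers x) (by rw [Nat.card_zpowers, hx, hfac, pow_one])
  have hW : (W : Subgroup G) = zpowers x := rfl
  refine ⟨W, hW ▸ zpowers_le.mpr hxC, ?_⟩
  have hle : (U : Subgroup G) ≤ centralizer ((W : Subgroup G) : Set G) := fun w hw =>
    mem_centralizer_iff.mpr fun v hv => by
      rw [hW] at hv
      exact (mem_centralizer_iff.mp ((zpowers_le.mpr hxC) hv) w hw).symm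
  exact card_sylow_big h hp U ▸ card_dvd_of_le hle

/-- The invariant of the elimination. -/
def Inv (G : Type u) [Group G] (T : List (ℕ × List (ℕ × ℕ))) : Prop :=
  ∀ p ∈ bigs, ∀ [Fact p.Prime], ∀ U : Sylow p G, ∃ e,
    (Nat.card ↥(centralizer ((U : Subgroup G) : Set G)), e) ∈ (T.lookup p).getD [] ∧
      Nat.card ↥(normalizer ((U : Subgroup G) : Set G)) =
        Nat.card ↥(centralizer ((U : Subgroup G) : Set G)) * e

theorem inv_table0 (h : Hyp G) : Inv G table0 := fun p hp _ U => by
  rw [lookup_table0 hp]; exact sylow_data h hp U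

/-- One round of elimination is sound. -/
theorem inv_prune (h : Hyp G) {T : List (ℕ × List (ℕ × ℕ))} (hT : Inv G T) : Inv G (prune T) := by
  classical
  intro p hp _ U
  obtain ⟨e, hmem, hN⟩ := hT p hp U
  refine ⟨e, mem_prune hmem ?_, hN⟩
  obtain ⟨e0, hmem0, -⟩ := sylow_data h hp U
  set C := centralizer ((U : Subgroup G) : Set G) with hC
  have hdC : Nat.card C ∈ dList := by
    simp only [pairsFor, List.mem_flatMap, List.mem_map] at hmem0
    obtain ⟨d, hd, e', -, heq⟩ := hmem0
    rw [← (Prod.mk.injEq _ _ _ _).mp heq |>.1]; exact hd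
  simp only [alive, List.all_eq_true, Bool.or_eq_true, List.any_eq_true, Bool.and_eq_true,
    Bool.not_eq_true']
  intro q hq
  by_cases hqp : q = p
  · exact Or.inl (Or.inl (by rw [hqp]; exact Nat.beq_refl p))
  by_cases hqd : Nat.beq (Nat.card C % q) 0 = true
  swap
  · exact Or.inl (Or.inr (eq_false_of_ne_true hqd))
  haveI := Fact.mk (bigs_prime hq)
  have hqd' : q ∣ Nat.card C := Nat.dvd_of_mod_eq_zero (Nat.eq_of_beq_eq_true hqd)
  obtain ⟨W, hWle, hW⟩ := partner h hp hq U hqd'
  obtain ⟨e', hmem', hN'⟩ := hT q hq W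
  refine Or.inr ⟨_, hmem', by rw [Nat.mod_eq_zero_of_dvd hW]; rfl, ?_⟩
  by_cases hu : uniqB (Nat.card C) q = true
  swap
  · exact Or.inl (eq_false_of_ne_true hu)
  obtain ⟨hqm, hk⟩ := uniqB_spec hu
  obtain ⟨⟨x, hxW⟩, hx⟩ := exists_prime_orderOf_dvd_card' (G := ↥(W : Subgroup G)) q
    (by rw [card_sylow_big h hq W])
  rw [← Subgroup.orderOf_coe] at hx
  change orderOf x = q at hx
  have hWx : (W : Subgroup G) = zpowers x := (eq_of_le_of_card_ge (zpowers_le.mpr hxW) (by
    rw [card_sylow_big h hq W, Nat.card_zpowers, hx])).symm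
  have hm : ∀ k, k ∣ Nat.card C / q → k % q = 1 → k = 1 := fun k hkd hk1 => by
    refine hk k (mem_dList (hkd.trans ((Nat.div_dvd_of_dvd hqd').trans ?_))) hkd hk1
    simp only [dList, List.mem_flatMap, List.mem_map] at hdC
    obtain ⟨k', hk', a, ha, b, hb, c, hc, d, hd, f, hf, hdd⟩ := hdC
    rw [← hdd]
    simp only [List.mem_cons, List.not_mem_nil, or_false] at hk' ha hb hc hd hf
    refine Nat.mul_dvd_mul ?_ ?_
    · rcases hk' with rfl | rfl | rfl | rfl <;> norm_num
    · refine Nat.mul_dvd_mul (Nat.mul_dvd_mul (Nat.mul_dvd_mul (Nat.mul_dvd_mul ?_ ?_) ?_) ?_) ?_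
      · rcases ha with rfl | rfl <;> norm_num
      · rcases hb with rfl | rfl <;> norm_num
      · rcases hc with rfl | rfl <;> norm_num
      · rcases hd with rfl | rfl <;> norm_num
      · rcases hf with rfl | rfl <;> norm_num
  -- every subgroup of order q of C is the given one
  have hle := le_normalizer_of C (bigs_prime hq) (Nat.mul_div_cancel' hqd').symm hqm hm (hWle hxW) hx
  have hNN : normalizer ((U : Subgroup G) : Set G) ≤ normalizer ((W : Subgroup G) : Set G) := by
    rw [hWx]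
    intro n hn
    have hnx : n * x * n⁻¹ ∈ C := mem_centralizer_iff.mpr fun v hv => by
      have h2 := mem_centralizer_iff.mp (hWle hxW) _ ((mem_normalizer_iff''.mp hn v).mp hv)
      calc v * (n * x * n⁻¹) = n * (n⁻¹ * v * n * x) * n⁻¹ := by group
        _ = n * x * n⁻¹ * v := by rw [h2]; group
    -- an element of order q of C normalising a Sylow subgroup of C lies in it
    set D := zpowers x with hD
    have hmem : n * x * n⁻¹ ∈ D := by
      have hp' : IsPGroup q ↥(D ⊔ zpowers (n * x * n⁻¹)) :=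
        IsPGroup.to_sup_of_normal_left'
          (IsPGroup.of_card (n := 1) (by rw [Nat.card_zpowers, hx, pow_one]))
          (IsPGroup.of_card (n := 1) (by
            rw [Nat.card_zpowers, show orderOf (n * x * n⁻¹) = orderOf x from (MulAut.conj n).orderOf_eq x, hx,
              pow_one]))
          ((zpowers_le.mpr hnx).trans hle)
      obtain ⟨R, hR⟩ := hp'.exists_le_sylow
      have hRD : D = (R : Subgroup G) := eq_of_le_of_card_ge (le_sup_left.trans hR) (by
        rw [card_sylow_big h hq R, Nat.card_zpowers, hx])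
      exact hRD.symm ▸ hR (mem_sup_right (mem_zpowers _))
    have hle2 : D.map (MulAut.conj n).toMonoidHom ≤ D := by
      rw [hD, MonoidHom.map_zpowers, zpowers_le]; exact hmem
    have heq := eq_of_le_of_card_ge hle2 (by rw [card_map_of_injective (MulAut.conj n).injective])
    rw [mem_normalizer_iff]
    refine fun v => ⟨fun hv => hle2 ⟨v, hv, rfl⟩, fun hv => ?_⟩
    obtain ⟨w, hw, hwv⟩ := heq.symm ▸ hv
    have : w = v := by
      simpa using hwv
    exact this ▸ hw
  have hdvd := card_dvd_of_le hNN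
  rw [hN, hN'] at hdvd
  exact Or.inr (by rw [Nat.mod_eq_zero_of_dvd hdvd]; rfl)

theorem inv_final (h : Hyp G) : Inv G finalTable := by
  rw [← table_checked]
  exact inv_prune h (inv_prune h (inv_prune h (inv_prune h (inv_prune h (inv_prune h (inv_prune h
    (inv_prune h (inv_table0 h))))))))

theorem cent_eq_self (h : Hyp G) {p : ℕ} (hp : p ∈ bigs) [Fact p.Prime] (U : Sylow p G)
    (hc : Nat.card ↥(centralizer ((U : Subgroup G) : Set G)) = p) :
    centralizer ((U : Subgroup G) : Set G) = (U : Subgroup G) := by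
  have hU := card_sylow_big h hp U
  haveI : IsCyclic ↥(U : Subgroup G) := isCyclic_of_prime_card hU
  refine (eq_of_le_of_card_ge (fun x hx => mem_centralizer_iff.mpr fun w hw => ?_) (by rw [hc, hU])).symm
  obtain ⟨g, hg⟩ := IsCyclic.exists_generator (α := ↥(U : Subgroup G))
  obtain ⟨i, hi⟩ := mem_zpowers_iff.mp (hg ⟨x, hx⟩)
  obtain ⟨j, hj⟩ := mem_zpowers_iff.mp (hg ⟨w, hw⟩)
  have := (Commute.zpow_zpow_self g j i).eq
  rw [hi, hj] at this
  exact congrArg Subtype.val this

/-- The five Sylow normalisers, once no element of order 11 centralises one of order 31. -/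
theorem sylow_big (h : Hyp G)
    (h11 : ∀ x y : G, orderOf x = 11 → orderOf y = 31 → x * y = y * x → False) :
    (∀ U : Sylow 23 G, centralizer ((U : Subgroup G) : Set G) = (U : Subgroup G) ∧
      Nat.card ↥(normalizer ((U : Subgroup G) : Set G)) = 23 * 22) ∧
    (∀ U : Sylow 29 G, centralizer ((U : Subgroup G) : Set G) = (U : Subgroup G) ∧
      Nat.card ↥(normalizer ((U : Subgroup G) : Set G)) = 29 * 28) ∧
    (∀ U : Sylow 31 G, centralizer ((U : Subgroup G) : Set G) = (U : Subgroup G) ∧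
      Nat.card ↥(normalizer ((U : Subgroup G) : Set G)) = 31 * 10) ∧
    (∀ U : Sylow 37 G, centralizer ((U : Subgroup G) : Set G) = (U : Subgroup G) ∧
      Nat.card ↥(normalizer ((U : Subgroup G) : Set G)) = 37 * 12) ∧
    (∀ U : Sylow 43 G, centralizer ((U : Subgroup G) : Set G) = (U : Subgroup G) ∧
      Nat.card ↥(normalizer ((U : Subgroup G) : Set G)) = 43 * 14) := by
  have hI := inv_final h
  haveI : Fact (Nat.Prime 23) := ⟨by norm_num⟩
  haveI : Fact (Nat.Prime 29) := ⟨by norm_num⟩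
  haveI : Fact (Nat.Prime 31) := ⟨by norm_num⟩
  haveI : Fact (Nat.Prime 37) := ⟨by norm_num⟩
  haveI : Fact (Nat.Prime 43) := ⟨by norm_num⟩
  refine ⟨fun U => ?_, fun U => ?_, fun U => ?_, fun U => ?_, fun U => ?_⟩
  · obtain ⟨e, hm, hN⟩ := hI 23 (by decide) U
    change (_, e) ∈ [(23, 22)] at hm
    rw [List.mem_singleton, Prod.mk.injEq] at hm
    obtain ⟨hd, rfl⟩ := hm
    exact ⟨cent_eq_self h (by decide) U hd, by rw [hN, hd]⟩
  · obtain ⟨e, hm, hN⟩ := hI 29 (by decide) U
    change (_, e) ∈ [(29, 28)] at hm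
    rw [List.mem_singleton, Prod.mk.injEq] at hm
    obtain ⟨hd, rfl⟩ := hm
    exact ⟨cent_eq_self h (by decide) U hd, by rw [hN, hd]⟩
  · obtain ⟨e, hm, hN⟩ := hI 31 (by decide) U
    change (_, e) ∈ [(31, 10), (341, 15)] at hm
    rw [List.mem_cons, List.mem_singleton, Prod.mk.injEq, Prod.mk.injEq] at hm
    rcases hm with ⟨hd, rfl⟩ | ⟨hd, rfl⟩
    · exact ⟨cent_eq_self h (by decide) U hd, by rw [hN, hd]⟩
    · exfalso
      haveI : Fact (Nat.Prime 11) := ⟨by norm_num⟩
      obtain ⟨⟨x, hxC⟩, hx⟩ := exists_prime_orderOf_dvd_card'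
        (G := ↥(centralizer ((U : Subgroup G) : Set G))) 11 (by rw [hd]; norm_num)
      rw [← Subgroup.orderOf_coe] at hx
      obtain ⟨⟨y, hyU⟩, hy⟩ := exists_prime_orderOf_dvd_card' (G := ↥(U : Subgroup G)) 31
        (by rw [card_sylow_big h (by decide) U])
      rw [← Subgroup.orderOf_coe] at hy
      exact h11 x y hx hy (mem_centralizer_iff.mp hxC y hyU).symm
  · obtain ⟨e, hm, hN⟩ := hI 37 (by decide) U
    change (_, e) ∈ [(37, 12)] at hm
    rw [List.mem_singleton, Prod.mk.injEq] at hm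
    obtain ⟨hd, rfl⟩ := hm
    exact ⟨cent_eq_self h (by decide) U hd, by rw [hN, hd]⟩
  · obtain ⟨e, hm, hN⟩ := hI 43 (by decide) U
    change (_, e) ∈ [(43, 14)] at hm
    rw [List.mem_singleton, Prod.mk.injEq] at hm
    obtain ⟨hd, rfl⟩ := hm
    exact ⟨cent_eq_self h (by decide) U hd, by rw [hN, hd]⟩

end CfsgLib.JankoFour.Big
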