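/-
Kernel checks on a Sylow 2-subgroup of M22.
-/
import Cfsg.Agent.Lib.JankoFour.M22Data
import Cfsg.Agent.Lib.Golay.ElAb
import Cfsg.Agent.Lib.Golay.Subgroups

set_option autoImplicit false
set_option maxRecDepth 20000

namespace CfsgLib.JankoFour

open CfsgGolay M22Data

/-- The code is that of an element of M22. -/
def memB (c : ℕ) : Bool := permOK c && gensKept c && inSub [0, 23] [] c

/-- The word with the given bits. -/
def wd (n : ℕ) : ℕ := elW sylB n

/-- The elements of an index list are closed under products. -/
def closedB (l : List ℕ) : Bool :=
  l.all fun i => Nat.blt i 128 && invI.contains i &&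
    l.all fun j => l.any fun k => Nat.beq (pcomp (wd i) (wd j)) (wd k)

/-- The code normalizes the elements of an index list. -/
def normB (x : ℕ) (l : List ℕ) : Bool := l.all fun i => l.any fun k => Nat.beq (pcomp x (wd i)) (pcomp (wd k) x)

/-- Indices commuting with a given one, by the masks. -/
def comB (i j : ℕ) : Bool := Nat.testBit ((comM.getD (invI.idxOf i) 0)) j

/-- Search through the commuting sets of size at least sixteen. -/
def searchB : ℕ → List ℕ → List ℕ → Bool
  | 0, _, _ => false
  | k + 1, cand, chosen =>
    bif Nat.blt (chosen.length + cand.length) 16 then true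
    else bif ((chosen ++ cand).all fun i => hexI.contains i) ||
        ((chosen ++ cand).all fun i => duadI.contains i) then true
    else match cand with
      | [] => false
      | h :: t => searchB k (t.filter fun j => comB h j) (h :: chosen) && searchB k t chosen

theorem mem_checked : (sylB.all memB && memB threeU && memB threeV && hexTr.all memB && memB fiveG &&
    memB fourF) = true := by decide +kernel

theorem step_checked : ((List.range 7).all fun j => (List.range 128).all fun n =>
    Nat.blt ((sylT.getD j []).getD n 128) 128 &&
      Nat.beq (pcomp (sylB.getD j 0) (wd n)) (wd ((sylT.getD j []).getD n 128))) = true := by decide +kernel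

theorem syl_nodup : ((List.range 128).map wd).Nodup := by decide +kernel

theorem inv_checked : ((List.range 128).all fun n =>
    (!Nat.beq (pcomp (wd n) (wd n)) pid) || invI.contains n) = true := by decide +kernel

theorem com_checked : (invI.all fun i => Nat.blt i 128 && invI.all fun j =>
    (!Nat.beq (pcomp (wd i) (wd j)) (pcomp (wd j) (wd i))) || comB i j) = true := by decide +kernel

theorem sq_checked : (invI.all fun n => Nat.beq (pcomp (wd n) (wd n)) pid) = true := by decide +kernel

theorem search_checked : searchB 80 invI [] = true := by decide +kernel

theorem sets_checked : (closedB hexI && closedB duadI && Nat.beq hexI.length 16 && Nat.beq duadI.length 16 &&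
    hexI.contains 0 && duadI.contains 0 && decide hexI.Nodup && decide duadI.Nodup) = true := by decide +kernel

theorem hex_checked : (normB threeU hexI && normB threeV hexI &&
    Nat.beq (pcomp threeU threeV) (pcomp threeV threeU) &&
    Nat.beq (ppow threeU 3) pid && !Nat.beq (pcomp threeU pid) (pcomp pid pid) && Nat.beq (ppow threeV 3) pid &&
    ([pid, threeU, pcomp threeU threeU].all fun c => !Nat.beq (pcomp c pid) (pcomp threeV pid)) &&
    (hexTr.all fun x => normB x hexI) &&
    ((hexI.erase 0).all fun b => Nat.beq b (hexI.getD 1 0) ||
      hexTr.any fun x => Nat.beq (pcomp x (wd (hexI.getD 1 0))) (pcomp (wd b) x))) = true := by decide +kernel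

theorem duad_checked : (normB fiveG duadI && normB fourF duadI &&
    Nat.beq (ppow fiveG 5) pid && Nat.beq (ppow fourF 4) pid &&
    Nat.beq (pcomp fourF fiveG) (pcomp (pcomp fiveG fiveG) fourF) &&
    duadI.contains duadA &&
    !Nat.beq (pcomp fiveG (wd duadA)) (pcomp (wd duadA) fiveG)) = true := by decide +kernel

end CfsgLib.JankoFour
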