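/-
Further data on M22: involutions, elements of order five and three in the normalizer of a hexad group,
and the normalizer of a Sylow 3-subgroup (checked in Lib/JankoFour/M22MoreChecks.lean).
-/

import Mathlib.Data.Nat.Notation

set_option autoImplicit false
set_option maxRecDepth 20000

namespace CfsgLib.JankoFour.M22Data

/-- The index of an involution central in the Sylow 2-subgroup, inside the hexad group. -/
def cenI : ℕ := 1

/-- Elements moving the involutions of the Sylow 2-subgroup into the hexad group. -/
def invTr : List ℕ := [975402758314293935432616216839245248, 957421186505941060632258144122285344, 975145418722665641027316200471308960, 963707760513397188512840806652232768, 969148260663263633296797796196983200, 981997172194654036292609580263348640, 975061254097848174959238942591438368, 959630021956283168924328204659507328, 971424346903466706646245113815279072, 977017148122057153089992543616752064, 976356223153008684172607369346894912, 974059254578695867275662450573300032]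

/-- An element of order five normalizing the hexad group. -/
def fiveH : ℕ := 971512592610665264272077266181233984

/-- An element of order three normalizing the hexad group and centralizing four of its elements. -/
def threeW : ℕ := 976934284780134291178401542866963072

/-- Another one commuting with it. -/
def threeS : ℕ := 971328461452517091508394265797733792

/-- Two indices of elements centralized by the first. -/
def threeA : ℕ := 4

def threeB : ℕ := 56

/-- The nine products of the two generators of a Sylow 3-subgroup. -/
def nineL : List ℕ := [984818244535754528103549039458486304, 976934284780134291178401542866963072, 971286152259741836073851412389726496, 971328461452517091508394265797733792, 983990503394815577785215189100702816, 976979963374903222143912093789301984, 976446442282523623549234299448994400, 971513612755241974742157667391023360, 984086333416455410653842970236725920]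

/-- Elements normalizing it and carrying the first generator to each of the eight others. -/
def nineTr : List ℕ := [961395419690751909991788643464169120, 962652640644950896466740450749954336, 984818244535754528103549039458486304, 974418476345527161187767737172399328, 968428853789317386149275849235677824, 971828192964268965813084282031212640, 970213189612234163186865935836371168, 979279923588092753218948796410533472]

end CfsgLib.JankoFour.M22Data
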