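/-
Kernel checks of the further data on M22.
-/
import Cfsg.Agent.Lib.JankoFour.M22Checks
import Cfsg.Agent.Lib.JankoFour.M22MoreData
import Cfsg.Agent.Lib.Golay.ElemClasses

set_option autoImplicit false
set_option maxRecDepth 20000

namespace CfsgLib.JankoFour

open CfsgGolay M22Data

/-- The two codes commute. -/
def commC (a b : ℕ) : Bool := Nat.beq (pcomp a b) (pcomp b a)

theorem more_mem_checked : (invTr.all memB && memB fiveH && memB threeW && memB threeS && nineTr.all memB) = true := by
  decide +kernel

theorem into_hex_checked : (invI.all fun i => hexI.contains i ||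
    invTr.any fun x => hexI.any fun k => Nat.beq (pcomp x (wd i)) (pcomp (wd k) x)) = true := by decide +kernel

theorem self_cent_checked : ([hexI, duadI].all fun l => (List.range 128).all fun n =>
    l.contains n || l.any fun i => !commC (wd n) (wd i)) = true := by decide +kernel

theorem cenI_checked : (hexI.contains cenI && !Nat.beq cenI 0 && sylB.all (fun b => commC b (wd cenI)) &&
    Nat.beq (pc (fixedMask (wd cenI))) 8) = true := by decide +kernel

theorem hex_five_checked : (normB fiveH hexI && Nat.beq (ppow fiveH 5) pid &&
    !Nat.beq (pcomp fiveH pid) (pcomp pid pid)) = true := by decide +kernel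

theorem hex_three_checked : (normB threeW hexI && normB threeS hexI && Nat.beq (ppow threeW 3) pid &&
    Nat.beq (ppow threeS 3) pid && commC threeW threeS && !Nat.beq (pcomp threeW pid) (pcomp pid pid) &&
    ([pid, threeW, pcomp threeW threeW].all fun c => !Nat.beq (pcomp c pid) (pcomp threeS pid)) &&
    hexI.contains threeA && hexI.contains threeB && !Nat.beq threeA 0 && !Nat.beq threeB 0 &&
    !Nat.beq threeA threeB && commC threeW (wd threeA) && commC threeW (wd threeB)) = true := by decide +kernel

theorem nine_checked : (Nat.beq (nineL.getD 0 0) pid && decide (nineL.Nodup) &&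
    (List.range 3).all (fun a => (List.range 3).all fun b =>
      Nat.beq (pcomp (ppow threeU a) (ppow threeV b)) (nineL.getD (3 * a + b) 0)) &&
    (List.range 8).all (fun k =>
      Nat.beq (pcomp (nineTr.getD k 0) threeU) (pcomp (nineL.getD (k + 1) 0) (nineTr.getD k 0)) &&
      nineL.any (fun c => Nat.beq (pcomp (nineTr.getD k 0) threeV) (pcomp c (nineTr.getD k 0)))) &&
    Nat.beq (pc (fixedMask threeU)) 6 && Nat.beq (pc (fixedMask threeU &&& fixedMask threeV)) 3) = true := by decide +kernel

end CfsgLib.JankoFour
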