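/-
The elementary abelian subgroups of order at least sixteen in a Sylow 2-subgroup of M22.
-/
import Cfsg.Agent.Lib.JankoFour.M22Checks
import Cfsg.Agent.Lib.Golay.Mathieu
import Cfsg.Prelude.Def_Transfer

set_option autoImplicit false

namespace CfsgLib.JankoFour

open Cfsg CfsgGolay M22Data
open scoped Pointwise

/-- M22 as a group. -/
abbrev MTwoTwo : Type := ↥Cfsg.Spor.M22

local notation "M" => MTwoTwo

/-- `A` is normalized by a group of order divisible by nine which is transitive on its involutions. -/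
def HexLike {K : Type*} [Group K] (A : Subgroup K) : Prop :=
  IsElementaryAbelian 2 A ∧ Nat.card A = 16 ∧ 9 ∣ Nat.card (Subgroup.normalizer (A : Set K)) ∧
    ∀ a ∈ A, ∀ b ∈ A, a ≠ 1 → b ≠ 1 → ∃ n ∈ Subgroup.normalizer (A : Set K), n * a * n⁻¹ = b

/-- `B` has order sixteen and is normalized, not centralized, by an element of order five conjugate to its square. -/
def DuadLike {K : Type*} [Group K] (B : Subgroup K) : Prop :=
  Nat.card B = 16 ∧ ∃ g ∈ Subgroup.normalizer (B : Set K), ∃ f ∈ Subgroup.normalizer (B : Set K),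
    g ^ 5 = 1 ∧ f ^ 4 = 1 ∧ f * g * f⁻¹ = g ^ 2 ∧ ∃ b ∈ B, g * b ≠ b * g

theorem exists_el {c : ℕ} (h : memB c = true) : ∃ g : M, Repr c (g : Equiv.Perm GolayPt) := by
  simp only [memB, Bool.and_eq_true] at h
  obtain ⟨g, hg⟩ := exists_repr_of_permOK h.1.1
  exact ⟨⟨g, by rw [M22_eq]; exact mem_subG_of_inSub (mem_M24_of_gensKept hg h.1.2) hg h.2⟩, hg⟩

theorem el_eq {c : ℕ} {g h : M} (hg : Repr c (g : Equiv.Perm GolayPt)) (hh : Repr c (h : Equiv.Perm GolayPt)) :
    g = h := Subtype.ext (hg.unique hh)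

theorem repr_mul {c d : ℕ} {g h : M} (hg : Repr c (g : Equiv.Perm GolayPt)) (hh : Repr d (h : Equiv.Perm GolayPt)) :
    Repr (pcomp c d) ((g * h : M) : Equiv.Perm GolayPt) := hg.comp hh

theorem repr_pow {c : ℕ} {g : M} (hg : Repr c (g : Equiv.Perm GolayPt)) (n : ℕ) :
    Repr (ppow c n) ((g ^ n : M) : Equiv.Perm GolayPt) := by
  rw [Subgroup.coe_pow]; exact hg.pow n

theorem repr_one : Repr pid ((1 : M) : Equiv.Perm GolayPt) := repr_pid

theorem pcomp_eq_of {a b c d : ℕ} {x : Equiv.Perm GolayPt} (h1 : Repr (pcomp a b) x) (h2 : Repr (pcomp c d) x) :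
    pcomp a b = pcomp c d := by
  have key : ∀ k, k ≤ 24 → pack (fun i => papp a (papp b i)) k = pack (fun i => papp c (papp d i)) k := by
    intro k
    induction k with
    | zero => exact fun _ => rfl
    | succ k ih =>
      intro hk
      rw [pack, pack, ih (by omega)]
      congr 2
      have := (h1 (pt k)).symm.trans (h2 (pt k))
      rwa [idx_pt (by omega), pcomp, pcomp,
        (pack_spec (fun i => papp a (papp b i)) (fun i => Nat.mod_lt _ (by norm_num)) 24).2 k (by omega),
        (pack_spec (fun i => papp c (papp d i)) (fun i => Nat.mod_lt _ (by norm_num)) 24).2 k (by omega)] at this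
  exact key 24 le_rfl

theorem pcomp_pid_pid : pcomp pid pid = pid := by decide +kernel

theorem ne_of_code {a b c d : ℕ} {g h : M} (hg : Repr (pcomp a b) (g : Equiv.Perm GolayPt))
    (hh : Repr (pcomp c d) (h : Equiv.Perm GolayPt)) (hne : Nat.beq (pcomp a b) (pcomp c d) = false) : g ≠ h := by
  rintro rfl
  rw [pcomp_eq_of hg hh, Nat.beq_refl] at hne
  exact Bool.noConfusion hne

theorem exists_wd (n : ℕ) : ∃ g : M, Repr (wd n) (g : Equiv.Perm GolayPt) := by
  have hm := mem_checked
  simp only [Bool.and_eq_true, List.all_eq_true] at hm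
  have key : ∀ (B : List ℕ), (∀ c ∈ B, memB c = true) → ∀ n, ∃ g : M, Repr (elW B n) (g : Equiv.Perm GolayPt) := by
    intro B
    induction B with
    | nil => exact fun _ n => ⟨1, by rw [elW]; exact repr_one⟩
    | cons c cs ih =>
      intro h n
      obtain ⟨g, hg⟩ := ih (fun x hx => h x (List.mem_cons_of_mem _ hx)) (n / 2)
      rw [elW]
      cases Nat.beq (n % 2) 1
      · rw [cond_false]; exact ⟨g, hg⟩
      · obtain ⟨a, ha⟩ := exists_el (h c List.mem_cons_self)
        rw [cond_true]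
        exact ⟨a * g, repr_mul ha hg⟩
  exact key sylB hm.1.1.1.1.1 n

/-- The element with a given word. -/
noncomputable def we (n : ℕ) : M := Classical.choose (exists_wd n)

theorem we_repr (n : ℕ) : Repr (wd n) ((we n : M) : Equiv.Perm GolayPt) := Classical.choose_spec (exists_wd n)

theorem invI_sq (i : ℕ) (hi : i ∈ invI) : (we i) ^ 2 = 1 := by
  have h := sq_checked
  simp only [List.all_eq_true] at h
  rw [sq]
  refine el_eq (repr_mul (we_repr i) (we_repr i)) ?_
  rw [Nat.eq_of_beq_eq_true (h i hi)]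
  exact repr_one

theorem we_zero : we 0 = 1 := el_eq (we_repr 0) (by rw [wd, elW_zero]; exact repr_one)

theorem we_inj {a b : ℕ} (ha : a < 128) (hb : b < 128) (h : we a = we b) : a = b := by
  have hp : ∀ n : ℕ, ∃ f : ℕ → ℕ, (∀ i, f i < 32) ∧ elW sylB n = pack f 24 := by
    intro n
    generalize sylB = B
    induction B generalizing n with
    | nil => exact ⟨fun i => i % 32, fun i => Nat.mod_lt _ (by norm_num), by rw [elW, pid]⟩
    | cons c cs ih =>
      rw [elW]
      cases Nat.beq (n % 2) 1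
      · rw [cond_false]; exact ih _
      · exact ⟨fun i => papp c (papp (elW cs (n / 2)) i), fun i => Nat.mod_lt _ (by norm_num),
          by rw [cond_true, pcomp]⟩
  refine List.inj_on_of_nodup_map syl_nodup (List.mem_range.mpr ha) (List.mem_range.mpr hb) ?_
  have hc : ∀ i < 24, papp (wd a) i = papp (wd b) i := fun i hi => by
    have := we_repr b
    rw [← h] at this
    rw [← idx_pt hi, ← we_repr a (pt i), this (pt i)]
  obtain ⟨fa, hfa, ea⟩ := hp a
  obtain ⟨fb, hfb, eb⟩ := hp b
  unfold wd at hc ⊢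
  rw [ea, eb] at hc ⊢
  have key : ∀ k, k ≤ 24 → (∀ i < k, fa i = fb i) → pack fa k = pack fb k := by
    intro k
    induction k with
    | zero => exact fun _ _ => rfl
    | succ k ih => exact fun hk he => by rw [pack, pack, ih (by omega) (fun i hi => he i (by omega)), he k (by omega)]
  refine key 24 le_rfl fun i hi => ?_
  have := hc i hi
  rwa [(pack_spec fa hfa 24).2 i hi, (pack_spec fb hfb 24).2 i hi] at this

/-- The Sylow 2-subgroup. -/
noncomputable def sylS : Subgroup M :=
  Subgroup.closure {g : M | ∃ c ∈ sylB, Repr c (g : Equiv.Perm GolayPt)}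

theorem we_mem (n : ℕ) : we n ∈ sylS := by
  have hm := mem_checked
  simp only [Bool.and_eq_true, List.all_eq_true] at hm
  have key : ∀ (B : List ℕ), (∀ c ∈ B, memB c = true) → (∀ c ∈ B, c ∈ sylB) → ∀ n,
      ∃ g ∈ sylS, Repr (elW B n) (g : Equiv.Perm GolayPt) := by
    intro B
    induction B with
    | nil => exact fun _ _ n => ⟨1, one_mem _, by rw [elW]; exact repr_one⟩
    | cons c cs ih =>
      intro h hs n
      obtain ⟨g, hgm, hg⟩ := ih (fun x hx => h x (List.mem_cons_of_mem _ hx))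
        (fun x hx => hs x (List.mem_cons_of_mem _ hx)) (n / 2)
      rw [elW]
      cases Nat.beq (n % 2) 1
      · rw [cond_false]; exact ⟨g, hgm, hg⟩
      · obtain ⟨a, ha⟩ := exists_el (h c List.mem_cons_self)
        rw [cond_true]
        exact ⟨a * g, mul_mem (Subgroup.subset_closure ⟨c, hs c List.mem_cons_self, ha⟩) hgm, repr_mul ha hg⟩
  obtain ⟨g, hg, hr⟩ := key sylB hm.1.1.1.1.1 (fun c hc => hc) n
  rwa [el_eq (we_repr n) hr]

theorem mem_sylS_iff {g : M} : g ∈ sylS ↔ ∃ n < 128, we n = g := by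
  refine ⟨fun hg => ?_, fun ⟨n, _, h⟩ => h ▸ we_mem n⟩
  have hs := step_checked
  simp only [List.all_eq_true, List.mem_range, Bool.and_eq_true, Nat.blt_eq] at hs
  have hstep : ∀ a : M, (∃ c ∈ sylB, Repr c (a : Equiv.Perm GolayPt)) →
      ∀ n < 128, ∃ m < 128, we m = a * we n := by
    rintro a ⟨c, hc, ha⟩ n hn
    obtain ⟨j, hj, rfl⟩ := List.getElem_of_mem hc
    rw [← List.getD_eq_getElem _ 0 hj] at ha
    obtain ⟨h1, h2⟩ := hs j (by simpa [sylB] using hj) n hn
    refine ⟨_, h1, el_eq (we_repr _) ?_⟩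
    have := repr_mul ha (we_repr n)
    rwa [Nat.eq_of_beq_eq_true h2] at this
  refine Subgroup.closure_induction_left (p := fun g _ => ∃ n < 128, we n = g) ⟨0, by norm_num, we_zero⟩
    ?_ ?_ hg
  · rintro a ha y _ ⟨n, hn, rfl⟩
    exact hstep a ha n hn
  · rintro a ha y _ ⟨n, hn, rfl⟩
    let F : Fin 128 → Fin 128 := fun k => ⟨_, (Classical.choose_spec (hstep a ha k k.2)).1⟩
    have hF : Function.Injective F := fun k l e => by
      have h1 := (Classical.choose_spec (hstep a ha k k.2)).2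
      have h2 := (Classical.choose_spec (hstep a ha l l.2)).2
      have e' : (F k : ℕ) = F l := congrArg Fin.val e
      simp only [F] at e'
      rw [e', h2] at h1
      exact Fin.ext (we_inj k.2 l.2 (mul_left_cancel h1).symm)
    obtain ⟨k, hk⟩ := (Finite.injective_iff_surjective.mp hF) ⟨n, hn⟩
    refine ⟨k, k.2, ?_⟩
    have h1 := (Classical.choose_spec (hstep a ha k k.2)).2
    have e' : (F k : ℕ) = n := congrArg Fin.val hk
    simp only [F] at e'
    rw [e'] at h1
    rw [h1, inv_mul_cancel_left]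

theorem card_sylS : Nat.card sylS = 128 := by
  let F : Fin 128 → sylS := fun n => ⟨we n, we_mem n⟩
  have hF : Function.Bijective F := ⟨fun a b e => Fin.ext (we_inj a.2 b.2 (congrArg Subtype.val e)),
    fun g => by
      obtain ⟨n, hn, h⟩ := mem_sylS_iff.mp g.2
      exact ⟨⟨n, hn⟩, Subtype.ext h⟩⟩
  rw [← Nat.card_congr (Equiv.ofBijective F hF), Nat.card_eq_fintype_card, Fintype.card_fin]

theorem searchB_sound : ∀ (k : ℕ) (cand chosen : List ℕ), searchB k cand chosen = true →
    ∀ K : Finset ℕ, (∀ i ∈ K, i ∈ chosen ∨ i ∈ cand) → (∀ i ∈ chosen, i ∈ K) →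
      (∀ i ∈ K, ∀ j ∈ K, comB i j = true) → 16 ≤ K.card →
      (∀ i ∈ K, i ∈ hexI) ∨ (∀ i ∈ K, i ∈ duadI) := by
  intro k
  induction k with
  | zero => intro cand chosen h; simp [searchB] at h
  | succ k ih =>
    intro cand chosen h K hK hch hcom hcard
    simp only [searchB] at h
    have hlen : K.card ≤ chosen.length + cand.length := by
      refine le_trans (Finset.card_le_card (t := (chosen ++ cand).toFinset) fun i hi => ?_) ?_
      · simpa using hK i hi
      · simpa using List.toFinset_card_le (chosen ++ cand)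
    cases h16 : Nat.blt (chosen.length + cand.length) 16
    · rw [h16, cond_false] at h
      cases hsub : (((chosen ++ cand).all fun i => hexI.contains i) || (chosen ++ cand).all fun i => duadI.contains i)
      · rw [hsub, cond_false] at h
        cases cand with
        | nil => simp at h
        | cons c t =>
          simp only [Bool.and_eq_true] at h
          by_cases hc : c ∈ K
          · refine ih _ _ h.1 K (fun i hi => ?_) ?_ hcom hcard
            · rcases hK i hi with h' | h'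
              · exact Or.inl (List.mem_cons_of_mem _ h')
              · rcases List.mem_cons.mp h' with rfl | h'
                · exact Or.inl List.mem_cons_self
                · exact Or.inr (List.mem_filter.mpr ⟨h', hcom c hc i hi⟩)
            · intro i hi
              rcases List.mem_cons.mp hi with rfl | hi
              · exact hc
              · exact hch i hi
          · refine ih _ _ h.2 K (fun i hi => ?_) hch hcom hcard
            rcases hK i hi with h' | h'
            · exact Or.inl h'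
            · rcases List.mem_cons.mp h' with rfl | h'
              · exact absurd hi hc
              · exact Or.inr h'
      · simp only [Bool.or_eq_true, List.all_eq_true, List.contains_iff_mem, List.mem_append] at hsub
        exact hsub.imp (fun h' i hi => h' i (hK i hi)) (fun h' i hi => h' i (hK i hi))
    · rw [Nat.blt_eq] at h16
      omega

/-- The elements with indices in the list. -/
noncomputable def idxSet (l : List ℕ) : Set M := {g | ∃ i ∈ l, we i = g}

theorem closedB_spec {l : List ℕ} (h : closedB l = true) :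
    (∀ i ∈ l, i < 128 ∧ i ∈ invI) ∧ ∀ i ∈ l, ∀ j ∈ l, ∃ k ∈ l, we i * we j = we k := by
  simp only [closedB, List.all_eq_true, Bool.and_eq_true, Nat.blt_eq, List.contains_iff_mem, List.any_eq_true] at h
  refine ⟨fun i hi => (h i hi).1, fun i hi j hj => ?_⟩
  obtain ⟨k, hk, he⟩ := (h i hi).2 j hj
  refine ⟨k, hk, el_eq (repr_mul (we_repr i) (we_repr j)) ?_⟩
  rw [Nat.eq_of_beq_eq_true he]
  exact we_repr k

theorem idx_subgroup {l : List ℕ} (h : closedB l = true) (h0 : 0 ∈ l) :
    ∃ A : Subgroup M, (A : Set M) = idxSet l := by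
  obtain ⟨h1, h2⟩ := closedB_spec h
  have hfin : (idxSet l).Finite := Set.toFinite _
  let N : Submonoid M :=
    { carrier := idxSet l
      one_mem' := ⟨0, h0, we_zero⟩
      mul_mem' := by
        rintro _ _ ⟨i, hi, rfl⟩ ⟨j, hj, rfl⟩
        obtain ⟨k, hk, e⟩ := h2 i hi j hj
        exact ⟨k, hk, e.symm⟩ }
  have hinv : ∀ g ∈ idxSet l, g⁻¹ ∈ idxSet l := fun g hg => by
    have : g⁻¹ = g ^ (orderOf g - 1) := by
      refine inv_eq_of_mul_eq_one_left ?_
      rw [← pow_succ, Nat.sub_add_cancel (orderOf_pos g), pow_orderOf_eq_one]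
    rw [this]
    exact Submonoid.pow_mem N hg _
  exact ⟨{ N with inv_mem' := fun hg => hinv _ hg }, rfl⟩

theorem card_idxSet {l : List ℕ} (h : closedB l = true) (hnd : l.Nodup) : Nat.card (idxSet l) = l.length := by
  classical
  have e : idxSet l = ((l.toFinset.image we : Finset M) : Set M) := by ext g; simp [idxSet]
  rw [e, Nat.card_coe_set_eq, Set.ncard_coe_finset, Finset.card_image_of_injOn,
    List.toFinset_card_of_nodup hnd]
  intro a ha b hb hab
  simp only [List.coe_toFinset, Set.mem_ofPred_eq] at ha hb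
  exact we_inj ((closedB_spec h).1 a ha).1 ((closedB_spec h).1 b hb).1 hab

theorem comm_of {i j : ℕ} (hi : i ∈ invI) (hj : j ∈ invI) (h : we i * we j = we j * we i) : comB i j = true := by
  have hc := com_checked
  simp only [List.all_eq_true, Bool.and_eq_true, Bool.or_eq_true, Bool.not_eq_true'] at hc
  refine ((hc i hi).2 j hj).resolve_left fun hne => ?_
  exact ne_of_code (repr_mul (we_repr i) (we_repr j)) (repr_mul (we_repr j) (we_repr i)) hne h

theorem inv_of {n : ℕ} (hn : n < 128) (h : we n * we n = 1) : n ∈ invI := by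
  have hc := inv_checked
  simp only [List.all_eq_true, List.mem_range, Bool.or_eq_true, Bool.not_eq_true', List.contains_iff_mem] at hc
  refine (hc n hn).resolve_left fun hne => ?_
  rw [← pcomp_pid_pid] at hne
  exact ne_of_code (repr_mul (we_repr n) (we_repr n)) (repr_mul repr_one repr_one) hne (by rw [h, mul_one])

theorem nine_dvd {K : Type*} [Group K] [Finite K] (u v : K) (u3 : u ^ 3 = 1) (v3 : v ^ 3 = 1) (huv : Commute u v)
    (hv : ∀ k : ℕ, v ≠ u ^ k) {N : Subgroup K} (hu : u ∈ N) (hvN : v ∈ N) (hu1 : u ≠ 1) : 9 ∣ Nat.card N := by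
  haveI : Fact (Nat.Prime 3) := ⟨by norm_num⟩
  have ou : orderOf u = 3 := orderOf_eq_prime u3 hu1
  have hv1 : v ≠ 1 := by simpa using hv 0
  have ov : orderOf v = 3 := orderOf_eq_prime v3 hv1
  let φ : Subgroup.zpowers u × Subgroup.zpowers v →* N :=
    { toFun := fun x => ⟨x.1 * x.2, mul_mem (Subgroup.zpowers_le.mpr hu x.1.2) (Subgroup.zpowers_le.mpr hvN x.2.2)⟩
      map_one' := Subtype.ext (by simp)
      map_mul' := fun x y => Subtype.ext (by
        obtain ⟨i, hi⟩ := Subgroup.mem_zpowers_iff.mp y.1.2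
        obtain ⟨j, hj⟩ := Subgroup.mem_zpowers_iff.mp x.2.2
        simp only [Prod.fst_mul, Prod.snd_mul, Subgroup.coe_mul, ← hi, ← hj]
        exact (huv.zpow_zpow i j).mul_mul_mul_comm _ _) }
  have hinj : Function.Injective φ := by
    rw [injective_iff_map_eq_one]
    rintro ⟨⟨a, ha⟩, ⟨b, hb⟩⟩ hab
    have hab' : a * b = 1 := congrArg Subtype.val hab
    by_cases hb1 : b = 1
    · subst hb1; simp only [mul_one] at hab'; subst hab'; rfl
    exfalso
    have hbu : b ∈ Subgroup.zpowers u := by rw [eq_inv_of_mul_eq_one_right hab']; exact inv_mem ha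
    obtain ⟨j, hj⟩ := Subgroup.mem_zpowers_iff.mp hb
    have hvu : v ∈ Subgroup.zpowers u := by
      have hob : orderOf b = 3 := orderOf_eq_prime (by rw [← hj, ← zpow_natCast, ← zpow_mul, mul_comm, zpow_mul,
        zpow_natCast, v3, one_zpow]) hb1
      have e : Subgroup.zpowers b = Subgroup.zpowers v := Subgroup.eq_of_le_of_card_ge (Subgroup.zpowers_le.mpr hb)
        (by rw [Nat.card_zpowers, Nat.card_zpowers, hob, ov])
      exact (e ▸ Subgroup.zpowers_le.mpr hbu : Subgroup.zpowers v ≤ _) (Subgroup.mem_zpowers v)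
    obtain ⟨k, hk⟩ := mem_powers_iff_mem_zpowers.mpr hvu
    exact hv k hk.symm
  have := Subgroup.card_dvd_of_injective φ hinj
  rwa [Nat.card_prod, Nat.card_zpowers, Nat.card_zpowers, ou, ov] at this

theorem normB_spec {x : ℕ} {g : M} (hg : Repr x (g : Equiv.Perm GolayPt)) {l : List ℕ} (h : normB x l = true)
    {A : Subgroup M} (hA : (A : Set M) = idxSet l) : g ∈ Subgroup.normalizer (A : Set M) := by
  simp only [normB, List.all_eq_true, List.any_eq_true] at h
  have hmap : ∀ a ∈ A, g * a * g⁻¹ ∈ A := by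
    intro a ha
    rw [← SetLike.mem_coe, hA] at ha ⊢
    obtain ⟨i, hi, rfl⟩ := ha
    obtain ⟨k, hk, he⟩ := h i hi
    refine ⟨k, hk, eq_mul_inv_iff_mul_eq.mpr (el_eq (repr_mul (we_repr k) hg) ?_)⟩
    rw [← Nat.eq_of_beq_eq_true he]
    exact repr_mul hg (we_repr i)
  rw [Subgroup.mem_normalizer_iff]
  refine fun a => ⟨hmap a, fun ha => ?_⟩
  let F : A → A := fun a => ⟨g * a * g⁻¹, hmap a a.2⟩
  have hF : Function.Injective F := fun a b e => Subtype.ext (by
    have := congrArg Subtype.val e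
    simpa [F] using this)
  obtain ⟨b, hb⟩ := Finite.injective_iff_surjective.mp hF ⟨_, ha⟩
  have := congrArg Subtype.val hb
  simp only [F, mul_left_inj, mul_right_inj] at this
  exact this ▸ b.2

/-- An elementary abelian subgroup of order at least sixteen of the Sylow 2-subgroup consists of indices of the
hexad group or of indices of the duad group. -/
theorem syl_class {B : Subgroup M} (hB : B ≤ sylS) (hel : IsElementaryAbelian 2 B) (h16 : 16 ≤ Nat.card B) :
    (B : Set M) ⊆ idxSet hexI ∨ (B : Set M) ⊆ idxSet duadI := by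
  classical
  let K : Finset ℕ := (Finset.range 128).filter fun n => we n ∈ B
  have hK : ∀ {n}, n ∈ K ↔ n < 128 ∧ we n ∈ B := by simp [K]
  have hinv : ∀ i ∈ K, i ∈ invI := fun i hi => inv_of (hK.mp hi).1 (by
    rw [← sq]; exact hel.2 _ (hK.mp hi).2)
  have hKc : 16 ≤ K.card := by
    refine le_trans h16 ?_
    have e : (B : Set M) = ((K.image we : Finset M) : Set M) := by
      ext g
      simp only [Finset.coe_image, Set.mem_image, Finset.mem_coe, hK, SetLike.mem_coe]
      exact ⟨fun hg => by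
        obtain ⟨n, hn, rfl⟩ := mem_sylS_iff.mp (hB hg); exact ⟨n, ⟨hn, hg⟩, rfl⟩,
        fun ⟨n, ⟨_, h⟩, e⟩ => e ▸ h⟩
    calc Nat.card B = Nat.card ((B : Set M)) := rfl
      _ = (K.image we).card := by rw [e, Nat.card_coe_set_eq, Set.ncard_coe_finset]
      _ ≤ K.card := Finset.card_image_le
  have hres := searchB_sound _ _ _ search_checked K (fun i hi => Or.inr (hinv i hi)) (by simp)
    (fun i hi j hj => comm_of (hinv i hi) (hinv j hj)
      (haveI := hel.1; setLike_mul_comm (hK.mp hi).2 (hK.mp hj).2)) hKc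
  have fin : ∀ l : List ℕ, (∀ i ∈ K, i ∈ l) → (B : Set M) ⊆ idxSet l := by
    intro l h g hg
    obtain ⟨n, hn, rfl⟩ := mem_sylS_iff.mp (hB hg)
    exact ⟨n, h n (hK.mpr ⟨hn, hg⟩), rfl⟩
  exact hres.imp (fin _) (fin _)

theorem sylS_facts : ∃ A : Subgroup M, A ≤ sylS ∧ (A : Set M) = idxSet hexI ∧ HexLike A ∧
    ∀ B : Subgroup M, B ≤ sylS → IsElementaryAbelian 2 B → 16 ≤ Nat.card B → B = A ∨ DuadLike B := by
  classical
  have hs := sets_checked
  simp only [Bool.and_eq_true, List.contains_iff_mem, decide_eq_true_eq] at hs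
  obtain ⟨⟨⟨⟨⟨⟨⟨hh, hd⟩, hhl⟩, hdl⟩, hh0⟩, hd0⟩, hhn⟩, hdn⟩ := hs
  obtain ⟨A, hA⟩ := idx_subgroup hh hh0
  obtain ⟨D, hD⟩ := idx_subgroup hd hd0
  have hle : ∀ (l : List ℕ) (C : Subgroup M), (C : Set M) = idxSet l → C ≤ sylS := fun l C hC g hg => by
    rw [← SetLike.mem_coe, hC] at hg
    obtain ⟨i, -, rfl⟩ := hg
    exact we_mem i
  have hcard : ∀ (l : List ℕ) (C : Subgroup M), (C : Set M) = idxSet l → closedB l = true → l.Nodup →
      Nat.card C = l.length := fun l C hC hl hn => by
    rw [← card_idxSet hl hn, ← hC]; rfl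
  have hcA : Nat.card A = 16 := by rw [hcard _ A hA hh hhn, Nat.eq_of_beq_eq_true hhl]
  have hcD : Nat.card D = 16 := by rw [hcard _ D hD hd hdn, Nat.eq_of_beq_eq_true hdl]
  have hclass : ∀ B : Subgroup M, B ≤ sylS → IsElementaryAbelian 2 B → 16 ≤ Nat.card B → B = A ∨ B = D := by
    intro B hB hel h16
    refine (syl_class hB hel h16).imp (fun h => ?_) (fun h => ?_) <;>
      refine Subgroup.eq_of_le_of_card_ge (fun g hg => ?_) (by omega) <;> rw [← SetLike.mem_coe]
    · rw [hA]; exact h hg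
    · rw [hD]; exact h hg
  have helem : ∀ (l : List ℕ) (C : Subgroup M), (C : Set M) = idxSet l → closedB l = true →
      IsElementaryAbelian 2 C := by
    intro l C hC hl
    have hsq : ∀ a ∈ C, a ^ 2 = 1 := by
      intro a ha
      rw [← SetLike.mem_coe, hC] at ha
      obtain ⟨i, hi, rfl⟩ := ha
      have hi' := ((closedB_spec hl).1 i hi)
      have hc := com_checked
      simp only [List.all_eq_true, Bool.and_eq_true] at hc
      exact invI_sq i hi'.2
    refine ⟨⟨⟨fun a b => Subtype.ext ?_⟩⟩, hsq⟩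
    have ha := hsq _ a.2
    have hb := hsq _ b.2
    have hab := hsq _ (C.mul_mem a.2 b.2)
    simp only [Subgroup.coe_mul]
    rw [sq] at ha hb hab
    calc (a : M) * b = (a * b)⁻¹ := eq_inv_of_mul_eq_one_left hab
      _ = (b : M)⁻¹ * (a : M)⁻¹ := mul_inv_rev _ _
      _ = b * a := by rw [inv_eq_of_mul_eq_one_left ha, inv_eq_of_mul_eq_one_left hb]
  have hm := mem_checked
  simp only [Bool.and_eq_true, List.all_eq_true] at hm
  obtain ⟨⟨⟨⟨⟨-, hu⟩, hv⟩, htr⟩, hg5⟩, hf4⟩ := hm
  obtain ⟨u, hu⟩ := exists_el hu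
  obtain ⟨v, hv⟩ := exists_el hv
  obtain ⟨g, hg⟩ := exists_el hg5
  obtain ⟨f, hf⟩ := exists_el hf4
  have hx := hex_checked
  simp only [Bool.and_eq_true, List.all_eq_true, List.any_eq_true, Bool.or_eq_true, Bool.not_eq_true'] at hx
  obtain ⟨⟨⟨⟨⟨⟨⟨⟨hnu, hnv⟩, huv⟩, hu3⟩, hun⟩, hv3⟩, hne⟩, hntr⟩, htrans⟩ := hx
  have u3 : u ^ 3 = 1 := el_eq (repr_pow hu 3) (by rw [Nat.eq_of_beq_eq_true hu3]; exact repr_one)
  have v3 : v ^ 3 = 1 := el_eq (repr_pow hv 3) (by rw [Nat.eq_of_beq_eq_true hv3]; exact repr_one)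
  have huv' : Commute u v := el_eq (repr_mul hu hv) (by rw [Nat.eq_of_beq_eq_true huv]; exact repr_mul hv hu)
  simp only [List.mem_cons, List.not_mem_nil, or_false, forall_eq_or_imp, forall_eq] at hne
  obtain ⟨hne0, hne1, hne2⟩ := hne
  have vne : v * 1 ≠ 1 * 1 := fun e => ne_of_code (repr_mul repr_one repr_one) (repr_mul hv repr_one) hne0 e.symm
  have hvk : ∀ k : ℕ, v ≠ u ^ k := by
    intro k e
    have e' : v * 1 = u ^ (k % 3) * 1 := by rw [e, ← pow_eq_pow_mod k u3]
    have : k % 3 < 3 := Nat.mod_lt _ (by norm_num)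
    interval_cases h : k % 3
    · exact ne_of_code (repr_mul repr_one repr_one) (repr_mul hv repr_one) hne0 (by rw [e']; simp)
    · exact ne_of_code (repr_mul hu repr_one) (repr_mul hv repr_one) hne1 (by rw [e']; simp)
    · exact ne_of_code (repr_mul (repr_mul hu hu) repr_one) (repr_mul hv repr_one) hne2 (by rw [e', sq])
  have hu1 : u ≠ 1 := by
    intro e
    exact ne_of_code (repr_mul hu repr_one) (repr_mul repr_one repr_one) hun (by rw [e])
  have hnine : 9 ∣ Nat.card (Subgroup.normalizer (A : Set M)) :=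
    nine_dvd u v u3 v3 huv' hvk (normB_spec hu hnu hA) (normB_spec hv hnv hA) hu1
  refine ⟨A, hle _ A hA, hA, ⟨helem _ A hA hh, hcA, hnine, ?_⟩, fun B hB hel h16 => ?_⟩
  · set b₁ := hexI.getD 1 0
    have hb₁ : b₁ ∈ hexI := by
      rw [show b₁ = hexI.getD 1 0 from rfl, List.getD_eq_getElem _ _ (by rw [Nat.eq_of_beq_eq_true hhl]; norm_num)]
      exact List.getElem_mem _
    have key : ∀ a ∈ A, a ≠ 1 → ∃ n ∈ Subgroup.normalizer (A : Set M), n * we b₁ * n⁻¹ = a := by
      intro a ha ha1
      rw [← SetLike.mem_coe, hA] at ha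
      obtain ⟨i, hi, rfl⟩ := ha
      have hi0 : i ≠ 0 := by rintro rfl; exact ha1 we_zero
      rcases htrans i ((List.mem_erase_of_ne hi0).mpr hi) with he | ⟨x, hx, he⟩
      · exact ⟨1, one_mem _, by rw [Nat.eq_of_beq_eq_true he]; simp [b₁]⟩
      · obtain ⟨n, hn⟩ := exists_el (htr x hx)
        refine ⟨n, normB_spec hn (hntr x hx) hA, mul_inv_eq_iff_eq_mul.mpr (el_eq (repr_mul hn (we_repr b₁)) ?_)⟩
        rw [Nat.eq_of_beq_eq_true he]
        exact repr_mul (we_repr i) hn
    intro a ha b hb ha1 hb1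
    obtain ⟨n, hn, hna⟩ := key a ha ha1
    obtain ⟨m, hm, hmb⟩ := key b hb hb1
    refine ⟨m * n⁻¹, mul_mem hm (inv_mem hn), ?_⟩
    rw [← hna, ← hmb]
    group
  · refine (hclass B hB hel h16).imp_right fun hBD => ?_
    subst hBD
    have hx := duad_checked
    simp only [Bool.and_eq_true, List.contains_iff_mem, Bool.not_eq_true'] at hx
    obtain ⟨⟨⟨⟨⟨⟨hng, hnf⟩, h5⟩, h4⟩, hfg⟩, hda⟩, hnc⟩ := hx
    refine ⟨hcD, g, normB_spec hg hng hD, f, normB_spec hf hnf hD,
      el_eq (repr_pow hg 5) (by rw [Nat.eq_of_beq_eq_true h5]; exact repr_one),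
      el_eq (repr_pow hf 4) (by rw [Nat.eq_of_beq_eq_true h4]; exact repr_one),
      mul_inv_eq_iff_eq_mul.mpr (el_eq (repr_mul hf hg) ?_), we duadA, ?_, ?_⟩
    · rw [Nat.eq_of_beq_eq_true hfg, sq]
      exact repr_mul (repr_mul hg hg) hf
    · rw [← SetLike.mem_coe, hD]; exact ⟨_, hda, rfl⟩
    · exact ne_of_code (repr_mul hg (we_repr duadA)) (repr_mul (we_repr duadA) hg) hnc

theorem HexLike.map {K K' : Type*} [Group K] [Group K'] (e : K ≃* K') {A : Subgroup K} (h : HexLike A) :
    HexLike (A.map e.toMonoidHom) := by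
  obtain ⟨⟨hc, hp⟩, hcard, h9, htr⟩ := h
  have hN : Subgroup.normalizer ((A.map e.toMonoidHom : Subgroup K') : Set K') =
      (Subgroup.normalizer (A : Set K)).map e.toMonoidHom :=
    (Subgroup.map_equiv_normalizer_eq A e).symm
  refine ⟨⟨Subgroup.map_isMulCommutative A e.toMonoidHom, ?_⟩, ?_, ?_, ?_⟩
  · rintro _ ⟨a, ha, rfl⟩; rw [← map_pow, hp a ha, map_one]
  · rw [Subgroup.card_map_of_injective e.injective, hcard]
  · rw [hN, Subgroup.card_map_of_injective e.injective]; exact h9
  · rintro _ ⟨a, ha, rfl⟩ _ ⟨b, hb, rfl⟩ ha1 hb1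
    obtain ⟨n, hn, rfl⟩ := htr a ha b hb (fun h => ha1 (by rw [h, map_one])) (fun h => hb1 (by rw [h, map_one]))
    exact ⟨e n, hN ▸ ⟨n, hn, rfl⟩, by simp⟩

theorem DuadLike.map {K K' : Type*} [Group K] [Group K'] (e : K ≃* K') {B : Subgroup K} (h : DuadLike B) :
    DuadLike (B.map e.toMonoidHom) := by
  obtain ⟨hcard, g, hg, f, hf, h5, h4, hfg, b, hb, hne⟩ := h
  have hN : Subgroup.normalizer ((B.map e.toMonoidHom : Subgroup K') : Set K') =
      (Subgroup.normalizer (B : Set K)).map e.toMonoidHom :=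
    (Subgroup.map_equiv_normalizer_eq B e).symm
  refine ⟨by rw [Subgroup.card_map_of_injective e.injective, hcard], e g, hN ▸ ⟨g, hg, rfl⟩, e f,
    hN ▸ ⟨f, hf, rfl⟩, by rw [← map_pow, h5, map_one], by rw [← map_pow, h4, map_one],
    by rw [← map_inv, ← map_mul, ← map_mul, hfg, map_pow], e b, ⟨b, hb, rfl⟩, ?_⟩
  rw [← map_mul, ← map_mul]
  exact fun h => hne (e.injective h)

/-- In a Sylow 2-subgroup of M22 there is one hexad group of order sixteen, and every other elementary abelian
subgroup of at least that order is a duad group. -/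
theorem m22_data (S : Sylow 2 MTwoTwo) : ∃ A : Subgroup MTwoTwo, A ≤ (S : Subgroup MTwoTwo) ∧ HexLike A ∧
    ∀ B : Subgroup MTwoTwo, B ≤ (S : Subgroup MTwoTwo) → IsElementaryAbelian 2 B → 16 ≤ Nat.card B →
      B = A ∨ DuadLike B := by
  obtain ⟨A, hA, -, hhex, hclass⟩ := sylS_facts
  have hfac : (Nat.card MTwoTwo).factorization 2 = 7 := by
    rw [card_sporM22, show (443520 : ℕ) = 2 ^ 7 * 3465 from rfl, Nat.factorization_mul (by norm_num) (by norm_num),
      Finsupp.add_apply, Nat.Prime.factorization_pow (by norm_num), Finsupp.single_eq_same,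
      Nat.factorization_eq_zero_of_not_dvd (by norm_num)]
  obtain ⟨h, hh⟩ := MulAction.exists_smul_eq MTwoTwo (Sylow.ofCard sylS (by rw [card_sylS, hfac]; rfl)) S
  set φ := MulAut.conj h
  have hS : (S : Subgroup MTwoTwo) = sylS.map φ.toMonoidHom := by
    rw [← hh, Sylow.coe_subgroup_smul, Subgroup.pointwise_smul_def]; rfl
  refine ⟨A.map φ.toMonoidHom, hS ▸ Subgroup.map_mono hA, hhex.map φ, fun B hB hel h16 => ?_⟩
  have eB : (B.map φ.symm.toMonoidHom).map φ.toMonoidHom = B := by
    rw [Subgroup.map_map]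
    ext x
    refine ⟨?_, fun hx => ⟨x, hx, by simp⟩⟩
    rintro ⟨b, hb, rfl⟩
    simpa using hb
  have hB' : B.map φ.symm.toMonoidHom ≤ sylS := by
    rintro _ ⟨b, hb, rfl⟩
    obtain ⟨s, hs, rfl⟩ := (hS ▸ hB) hb
    simpa using hs
  rcases hclass _ hB' ⟨haveI := hel.1; Subgroup.map_isMulCommutative B φ.symm.toMonoidHom,
      by rintro _ ⟨a, ha, rfl⟩; rw [← map_pow, hel.2 a ha, map_one]⟩
    (by rw [Subgroup.card_map_of_injective φ.symm.injective]; exact h16) with h | h
  · exact Or.inl (by rw [← eB, h])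
  · exact Or.inr (eB ▸ h.map φ)

end CfsgLib.JankoFour
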