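/-
More facts on M22: involutions, hexad groups, elements and Sylow subgroups for the prime three.
-/
import Cfsg.Agent.Lib.JankoFour.M22Syl
import Cfsg.Agent.Lib.JankoFour.M22MoreChecks
import Cfsg.Agent.Lib.Golay.Base

set_option autoImplicit false

namespace CfsgLib.JankoFour

open Cfsg CfsgGolay M22Data
open scoped Pointwise

attribute [local irreducible] codeL octadL dodecadL slpCodes

local notation "M" => MTwoTwo

/-- A hexad group together with an element of order five and two of order three normalizing it. -/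
def HexData {K : Type*} [Group K] (A : Subgroup K) : Prop :=
  HexLike A ∧ (∃ g ∈ Subgroup.normalizer (A : Set K), g ^ 5 = 1 ∧ g ≠ 1) ∧
    ∃ r ∈ Subgroup.normalizer (A : Set K), ∃ s ∈ Subgroup.normalizer (A : Set K),
      r ^ 3 = 1 ∧ s ^ 3 = 1 ∧ r * s = s * r ∧ r ≠ 1 ∧ (∀ k : ℕ, s ≠ r ^ k) ∧
        ∃ a ∈ A, ∃ b ∈ A, a ≠ 1 ∧ b ≠ 1 ∧ a ≠ b ∧ r * a = a * r ∧ r * b = b * r

theorem HexData.map {K K' : Type*} [Group K] [Group K'] (e : K ≃* K') {A : Subgroup K} (h : HexData A) :
    HexData (A.map e.toMonoidHom) := by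
  obtain ⟨hh, ⟨g, hg, g5, g1⟩, r, hr, s, hs, r3, s3, hrs, r1, hsk, a, ha, b, hb, a1, b1, hab, hra, hrb⟩ := h
  have hN : Subgroup.normalizer ((A.map e.toMonoidHom : Subgroup K') : Set K') =
      (Subgroup.normalizer (A : Set K)).map e.toMonoidHom :=
    (Subgroup.map_equiv_normalizer_eq A e).symm
  have n1 : ∀ {x : K}, x ≠ 1 → e x ≠ 1 := fun hx h => hx (e.injective (h.trans (map_one e).symm))
  refine ⟨hh.map e, ⟨e g, hN ▸ ⟨g, hg, rfl⟩, by rw [← map_pow, g5, map_one], n1 g1⟩,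
    e r, hN ▸ ⟨r, hr, rfl⟩, e s, hN ▸ ⟨s, hs, rfl⟩, by rw [← map_pow, r3, map_one], by rw [← map_pow, s3, map_one],
    by rw [← map_mul, hrs, map_mul], n1 r1, fun k h => hsk k (e.injective (h.trans (map_pow e r k).symm)),
    e a, ⟨a, ha, rfl⟩, e b, ⟨b, hb, rfl⟩, n1 a1, n1 b1, fun h => hab (e.injective h),
    by rw [← map_mul, hra, map_mul], by rw [← map_mul, hrb, map_mul]⟩

theorem commC_of {c d : ℕ} {g h : M} (hg : Repr c (g : Equiv.Perm GolayPt)) (hh : Repr d (h : Equiv.Perm GolayPt))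
    (e : g * h = h * g) : commC c d = true := by
  rw [commC, pcomp_eq_of (repr_mul hg hh) (e ▸ repr_mul hh hg)]; exact Nat.beq_refl _

theorem comm_of_commC {c d : ℕ} {g h : M} (hg : Repr c (g : Equiv.Perm GolayPt)) (hh : Repr d (h : Equiv.Perm GolayPt))
    (e : commC c d = true) : g * h = h * g :=
  el_eq (repr_mul hg hh) (by rw [Nat.eq_of_beq_eq_true e]; exact repr_mul hh hg)

/-- The hexad group in the chosen Sylow 2-subgroup. -/
theorem exists_hex0 : ∃ A : Subgroup M, A ≤ sylS ∧ (A : Set M) = idxSet hexI ∧ HexData A ∧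
    ∀ B : Subgroup M, B ≤ sylS → IsElementaryAbelian 2 B → 16 ≤ Nat.card B → B = A ∨ DuadLike B := by
  obtain ⟨A, hle, hA, hhex, hclass⟩ := sylS_facts
  refine ⟨A, hle, hA, ⟨hhex, ?_, ?_⟩, hclass⟩
  · have hm := more_mem_checked
    simp only [Bool.and_eq_true] at hm
    obtain ⟨g, hg⟩ := exists_el hm.1.1.1.2
    have h := hex_five_checked
    simp only [Bool.and_eq_true, Bool.not_eq_true'] at h
    refine ⟨g, normB_spec hg h.1.1 hA, el_eq (repr_pow hg 5) (by rw [Nat.eq_of_beq_eq_true h.1.2]; exact repr_one),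
      fun e => ne_of_code (repr_mul hg repr_one) (repr_mul repr_one repr_one) h.2 (by rw [e])⟩
  · have hm := more_mem_checked
    simp only [Bool.and_eq_true] at hm
    obtain ⟨r, hr⟩ := exists_el hm.1.1.2
    obtain ⟨s, hs⟩ := exists_el hm.1.2
    have h := hex_three_checked
    simp only [Bool.and_eq_true, Bool.not_eq_true', List.all_eq_true, List.contains_iff_mem] at h
    obtain ⟨⟨⟨⟨⟨⟨⟨⟨⟨⟨⟨⟨⟨hnr, hns⟩, hr3⟩, hs3⟩, hrs⟩, hr1⟩, hne⟩, ha⟩, hb⟩, ha0⟩, hb0⟩, hab⟩, hca⟩, hcb⟩ := h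
    have r3 : r ^ 3 = 1 := el_eq (repr_pow hr 3) (by rw [Nat.eq_of_beq_eq_true hr3]; exact repr_one)
    have hsk : ∀ k : ℕ, s ≠ r ^ k := by
      intro k e
      have e' : s * 1 = r ^ (k % 3) * 1 := by rw [e, ← pow_eq_pow_mod k r3]
      have hk : k % 3 < 3 := Nat.mod_lt _ (by norm_num)
      interval_cases h : k % 3
      · exact ne_of_code (repr_mul repr_one repr_one) (repr_mul hs repr_one) (hne pid (by simp)) (by rw [e']; simp)
      · exact ne_of_code (repr_mul hr repr_one) (repr_mul hs repr_one) (hne threeW (by simp)) (by rw [e']; simp)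
      · exact ne_of_code (repr_mul (repr_mul hr hr) repr_one) (repr_mul hs repr_one) (hne _ (by simp))
          (by rw [e', sq])
    have hlt : ∀ i ∈ hexI, i < 128 := by decide
    have hne0 : ∀ i ∈ hexI, Nat.beq i 0 = false → we i ≠ 1 := fun i hi h0 e => by
      have := we_inj (hlt i hi) (by norm_num) (e.trans we_zero.symm)
      rw [this] at h0; exact Bool.noConfusion h0
    refine ⟨r, normB_spec hr hnr hA, s, normB_spec hs hns hA, r3,
      el_eq (repr_pow hs 3) (by rw [Nat.eq_of_beq_eq_true hs3]; exact repr_one), comm_of_commC hr hs hrs,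
      fun e => ne_of_code (repr_mul hr repr_one) (repr_mul repr_one repr_one) hr1 (by rw [e]), hsk,
      we threeA, ?_, we threeB, ?_, hne0 _ ha ha0, hne0 _ hb hb0, fun e => ?_,
      comm_of_commC hr (we_repr _) hca, comm_of_commC hr (we_repr _) hcb⟩
    · rw [← SetLike.mem_coe, hA]; exact ⟨_, ha, rfl⟩
    · rw [← SetLike.mem_coe, hA]; exact ⟨_, hb, rfl⟩
    · rw [we_inj (hlt _ ha) (hlt _ hb) e, Nat.beq_refl] at hab
      exact Bool.noConfusion hab

theorem factorization_M22 : (Nat.card M).factorization 2 = 7 ∧ (Nat.card M).factorization 3 = 2 := by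
  rw [card_sporM22]
  refine ⟨?_, ?_⟩
  · rw [show (443520 : ℕ) = 2 ^ 7 * 3465 from rfl, Nat.factorization_mul (by norm_num) (by norm_num),
      Finsupp.add_apply, Nat.Prime.factorization_pow (by norm_num), Finsupp.single_eq_same,
      Nat.factorization_eq_zero_of_not_dvd (by norm_num)]
  · rw [show (443520 : ℕ) = 3 ^ 2 * 49280 from rfl, Nat.factorization_mul (by norm_num) (by norm_num),
      Finsupp.add_apply, Nat.Prime.factorization_pow (by norm_num), Finsupp.single_eq_same,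
      Nat.factorization_eq_zero_of_not_dvd (by norm_num)]

theorem sylow_two_conj (S : Sylow 2 M) : ∃ h : M, (S : Subgroup M) = sylS.map (MulAut.conj h).toMonoidHom := by
  obtain ⟨h, hh⟩ := MulAction.exists_smul_eq M
    (Sylow.ofCard sylS (by rw [card_sylS, factorization_M22.1]; rfl)) S
  exact ⟨h, by rw [← hh, Sylow.coe_subgroup_smul, Subgroup.pointwise_smul_def]; rfl⟩

theorem map_conj_symm {K : Type*} [Group K] (B : Subgroup K) (φ : K ≃* K) :
    (B.map φ.symm.toMonoidHom).map φ.toMonoidHom = B := by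
  rw [Subgroup.map_map]
  ext x
  refine ⟨?_, fun hx => ⟨x, hx, by simp⟩⟩
  rintro ⟨b, hb, rfl⟩
  simpa using hb

theorem elem_map {K K' : Type*} [Group K] [Group K'] (e : K →* K') {B : Subgroup K} (h : IsElementaryAbelian 2 B) :
    IsElementaryAbelian 2 (B.map e) :=
  ⟨haveI := h.1; Subgroup.map_isMulCommutative B e, by
    rintro _ ⟨a, ha, rfl⟩; rw [← map_pow, h.2 a ha, map_one]⟩

/-- Every Sylow 2-subgroup contains a hexad group, and its other elementary abelian subgroups of order at least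
sixteen are duad groups. -/
theorem hex_data (S : Sylow 2 M) : ∃ A : Subgroup M, A ≤ (S : Subgroup M) ∧ HexData A ∧
    ∀ B : Subgroup M, B ≤ (S : Subgroup M) → IsElementaryAbelian 2 B → 16 ≤ Nat.card B → B = A ∨ DuadLike B := by
  obtain ⟨A, hA, -, hhex, hclass⟩ := exists_hex0
  obtain ⟨h, hS⟩ := sylow_two_conj S
  set φ := MulAut.conj h
  refine ⟨A.map φ.toMonoidHom, hS ▸ Subgroup.map_mono hA, hhex.map φ, fun B hB hel h16 => ?_⟩
  have eB := map_conj_symm B φ
  have hB' : B.map φ.symm.toMonoidHom ≤ sylS := by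
    rintro _ ⟨b, hb, rfl⟩
    obtain ⟨s, hs, rfl⟩ := (hS ▸ hB) hb
    simpa using hs
  rcases hclass _ hB' (elem_map _ hel)
    (by rw [Subgroup.card_map_of_injective φ.symm.injective]; exact h16) with h | h
  · exact Or.inl (by rw [← eB, h])
  · exact Or.inr (eB ▸ h.map φ)

/-- A 2-subgroup centralizing an elementary abelian group of order sixteen inside it lies in it. -/
theorem self_cent {B D : Subgroup M} (hel : IsElementaryAbelian 2 B) (h16 : 16 ≤ Nat.card B) (hD : IsPGroup 2 D)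
    (hBD : B ≤ D) (hc : ∀ x ∈ D, ∀ b ∈ B, x * b = b * x) : D ≤ B := by
  classical
  obtain ⟨S, hS⟩ := hD.exists_le_sylow
  obtain ⟨h, hh⟩ := sylow_two_conj S
  set φ := MulAut.conj h
  have hin : ∀ x ∈ D, φ.symm x ∈ sylS := fun x hx => by
    obtain ⟨s, hs, rfl⟩ := (hh ▸ hS) hx
    simpa using hs
  set B' := B.map φ.symm.toMonoidHom
  have hB' : B' ≤ sylS := by rintro _ ⟨b, hb, rfl⟩; exact hin b (hBD hb)
  have hcard : 16 ≤ Nat.card B' := by rw [Subgroup.card_map_of_injective φ.symm.injective]; exact h16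
  intro x hx
  obtain ⟨n, hn, hnx⟩ := mem_sylS_iff.mp (hin x hx)
  have hlen : ∀ l ∈ [hexI, duadI], l.length = 16 := by decide
  have main : ∀ l ∈ [hexI, duadI], (B' : Set M) ⊆ idxSet l → φ.symm x ∈ B' := by
    intro l hl hsub
    have heq : (B' : Set M) = idxSet l := by
      have hfin : idxSet l = ((l.toFinset.image we : Finset M) : Set M) := by
        ext g; simp [idxSet]
      refine Set.eq_of_subset_of_ncard_le hsub ?_ (Set.toFinite _)
      rw [hfin, Set.ncard_coe_finset]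
      refine Finset.card_image_le.trans ((List.toFinset_card_le l).trans ?_)
      rw [hlen l hl]
      exact hcard.trans (le_of_eq (Nat.card_coe_set_eq _))
    have h := self_cent_checked
    simp only [List.all_eq_true, List.mem_range, Bool.or_eq_true, List.contains_iff_mem, List.any_eq_true,
      Bool.not_eq_true'] at h
    rcases h l hl n hn with h | ⟨i, hi, h⟩
    · rw [← SetLike.mem_coe, heq, ← hnx]; exact ⟨n, h, rfl⟩
    · exfalso
      have hiB : we i ∈ (B' : Set M) := heq ▸ ⟨i, hi, rfl⟩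
      obtain ⟨b, hb, hbi⟩ := hiB
      have e : φ.symm x * φ.symm b = φ.symm b * φ.symm x := by rw [← map_mul, hc x hx b hb, map_mul]
      rw [← hnx] at e
      have hbi' : φ.symm b = we i := hbi
      rw [hbi'] at e
      rw [commC_of (we_repr n) (we_repr i) e] at h
      exact Bool.noConfusion h
  obtain ⟨b, hb, hbx⟩ := (syl_class hB' (elem_map _ hel) hcard).elim (main _ (by simp)) (main _ (by simp))
  exact φ.symm.injective hbx ▸ hb

/-- Every involution is conjugate into the chosen hexad group. -/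
theorem invol_into {i : M} (hi : i * i = 1) : ∃ h : M, ∃ a ∈ idxSet hexI, h * a * h⁻¹ = i := by
  have hp : IsPGroup 2 (Subgroup.zpowers i) := by
    intro x
    refine ⟨1, ?_⟩
    obtain ⟨k, hk⟩ := Subgroup.mem_zpowers_iff.mp x.2
    refine Subtype.ext ?_
    rw [Subgroup.coe_pow, ← hk, ← zpow_natCast, ← zpow_mul, mul_comm, zpow_mul, zpow_natCast, pow_one, sq, hi,
      one_zpow, OneMemClass.coe_one]
  obtain ⟨S, hS⟩ := hp.exists_le_sylow
  obtain ⟨h, hh⟩ := sylow_two_conj S
  have h1 := hS (Subgroup.mem_zpowers i)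
  rw [hh] at h1
  obtain ⟨s, hs, hsi⟩ := h1
  obtain ⟨n, hn, rfl⟩ := mem_sylS_iff.mp hs
  have hsi' : h * we n * h⁻¹ = i := hsi
  have hn2 : we n * we n = 1 := by
    have e : we n = h⁻¹ * i * h := by rw [← hsi']; group
    rw [e, show h⁻¹ * i * h * (h⁻¹ * i * h) = h⁻¹ * (i * i) * h by group, hi]; group
  have hc := into_hex_checked
  simp only [List.all_eq_true, Bool.or_eq_true, List.contains_iff_mem, List.any_eq_true] at hc
  rcases hc n (inv_of hn hn2) with h2 | ⟨x, hx, k, hk, he⟩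
  · exact ⟨h, we n, ⟨n, h2, rfl⟩, hsi'⟩
  · have hm := more_mem_checked
    simp only [Bool.and_eq_true, List.all_eq_true] at hm
    obtain ⟨g, hg⟩ := exists_el (hm.1.1.1.1 x hx)
    have e : g * we n = we k * g := el_eq (repr_mul hg (we_repr n))
      (by rw [Nat.eq_of_beq_eq_true he]; exact repr_mul (we_repr k) hg)
    refine ⟨h * g⁻¹, we k, ⟨k, hk, rfl⟩, ?_⟩
    rw [← hsi', show h * g⁻¹ * we k * (h * g⁻¹)⁻¹ = h * g⁻¹ * (we k * g) * h⁻¹ by group, ← e]
    group

/-- Every involution lies in a hexad group. -/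
theorem hex_of_invol {i : M} (hi : i * i = 1) : ∃ A : Subgroup M, HexData A ∧ i ∈ A := by
  obtain ⟨h, a, ha, rfl⟩ := invol_into hi
  obtain ⟨A, -, hA, hhex, -⟩ := exists_hex0
  exact ⟨A.map (MulAut.conj h).toMonoidHom, hhex.map _, a, by rw [hA]; exact ha, rfl⟩

theorem cenI_facts : (we cenI ∈ idxSet hexI ∧ we cenI ≠ 1) ∧ sylS ≤ Subgroup.centralizer {we cenI} ∧
    (fixF ((we cenI : M) : Equiv.Perm GolayPt)).card = 8 := by
  have h := cenI_checked
  simp only [Bool.and_eq_true, Bool.not_eq_true', List.contains_iff_mem, List.all_eq_true] at h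
  obtain ⟨⟨⟨hc, h0⟩, hcom⟩, hfix⟩ := h
  refine ⟨⟨⟨_, hc, rfl⟩, fun e => ?_⟩, ?_, ?_⟩
  · have hlt : ∀ i ∈ hexI, i < 128 := by decide
    rw [we_inj (hlt _ hc) (by norm_num) (e.trans we_zero.symm)] at h0
    exact Bool.noConfusion h0
  · rw [sylS, Subgroup.closure_le]
    rintro g ⟨c, hc', hg⟩
    exact Subgroup.mem_centralizer_singleton_iff.mpr (comm_of_commC hg (we_repr _) (hcom c hc'))
  · rw [fixF_repr (we_repr _), card_toSet]; exact Nat.eq_of_beq_eq_true hfix

/-- All involutions are conjugate to the central one. -/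
theorem invol_conj {i : M} (hi : i * i = 1) (hi1 : i ≠ 1) : ∃ h : M, h * we cenI * h⁻¹ = i := by
  obtain ⟨A, -, hA, hhex, -⟩ := exists_hex0
  obtain ⟨h, a, ha, rfl⟩ := invol_into hi
  have ha1 : a ≠ 1 := fun e => hi1 (by rw [e]; group)
  obtain ⟨⟨hcA, hc1⟩, -, -⟩ := cenI_facts
  obtain ⟨g, -, hg⟩ := hhex.1.2.2.2 (we cenI) (by rw [← SetLike.mem_coe, hA]; exact hcA) a
    (by rw [← SetLike.mem_coe, hA]; exact ha) hc1 ha1
  exact ⟨h * g, by rw [← hg]; group⟩

theorem fixF_conjM (h g : M) : (fixF ((h * g * h⁻¹ : M) : Equiv.Perm GolayPt)).card =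
    (fixF (g : Equiv.Perm GolayPt)).card := by
  rw [Subgroup.coe_mul, Subgroup.coe_mul, Subgroup.coe_inv]; exact card_fixF_conj _ _

theorem invol_fix {i : M} (hi : i * i = 1) (hi1 : i ≠ 1) : (fixF (i : Equiv.Perm GolayPt)).card = 8 := by
  obtain ⟨h, rfl⟩ := invol_conj hi hi1
  rw [fixF_conjM]; exact cenI_facts.2.2

theorem invol_cent {i : M} (hi : i * i = 1) (hi1 : i ≠ 1) :
    ∃ D : Subgroup M, Nat.card D = 128 ∧ ∀ x ∈ D, x * i = i * x := by
  obtain ⟨h, rfl⟩ := invol_conj hi hi1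
  refine ⟨sylS.map (MulAut.conj h).toMonoidHom, by
    rw [Subgroup.card_map_of_injective (MulAut.conj h).injective, card_sylS], ?_⟩
  rintro _ ⟨x, hx, rfl⟩
  have := Subgroup.mem_centralizer_singleton_iff.mp (cenI_facts.2.1 hx)
  show h * x * h⁻¹ * (h * we cenI * h⁻¹) = h * we cenI * h⁻¹ * (h * x * h⁻¹)
  rw [show h * x * h⁻¹ * (h * we cenI * h⁻¹) = h * (x * we cenI) * h⁻¹ by group, this]; group

theorem fixed_pts (g : M) : none ∈ fixF (g : Equiv.Perm GolayPt) ∧ pt 0 ∈ fixF (g : Equiv.Perm GolayPt) := by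
  have hg : (g : Equiv.Perm GolayPt) ∈ subG [0, 23] [] := M22_eq.le g.2
  rw [mem_subG, mem_fixL] at hg
  constructor
  · rw [mem_fixF]
    exact hg.2.1 none (by decide)
  · rw [mem_fixF]
    exact hg.2.1 (pt 0) (by rw [idx_pt (by norm_num)]; simp)

end CfsgLib.JankoFour
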