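/-
Elements and Sylow subgroups of M22 for the prime three.
-/
import Cfsg.Agent.Lib.JankoFour.M22More

set_option autoImplicit false

namespace CfsgLib.JankoFour

open Cfsg CfsgGolay M22Data
open scoped Pointwise

attribute [local irreducible] codeL octadL dodecadL slpCodes

local notation "M" => MTwoTwo

/-- The subgroup of the products of two commuting elements of cube one. -/
def pairGrp {K : Type*} [Group K] (u v : K) (u3 : u ^ 3 = 1) (v3 : v ^ 3 = 1) (huv : Commute u v) : Subgroup K where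
  carrier := {x | ∃ a < 3, ∃ b < 3, x = u ^ a * v ^ b}
  one_mem' := ⟨0, by norm_num, 0, by norm_num, by simp⟩
  mul_mem' := by
    rintro _ _ ⟨a, -, b, -, rfl⟩ ⟨a', -, b', -, rfl⟩
    refine ⟨(a + a') % 3, Nat.mod_lt _ (by norm_num), (b + b') % 3, Nat.mod_lt _ (by norm_num), ?_⟩
    rw [← pow_eq_pow_mod _ u3, ← pow_eq_pow_mod _ v3, pow_add, pow_add]
    exact (huv.pow_pow a' b).symm.mul_mul_mul_comm _ _
  inv_mem' := by
    rintro _ ⟨a, -, b, -, rfl⟩
    refine ⟨(2 * a) % 3, Nat.mod_lt _ (by norm_num), (2 * b) % 3, Nat.mod_lt _ (by norm_num), ?_⟩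
    rw [← pow_eq_pow_mod _ u3, ← pow_eq_pow_mod _ v3]
    refine inv_eq_of_mul_eq_one_right ?_
    rw [(huv.pow_pow (2 * a) b).symm.mul_mul_mul_comm, ← pow_add, ← pow_add, show a + 2 * a = 3 * a by omega,
      show b + 2 * b = 3 * b by omega, pow_mul, pow_mul, u3, v3, one_pow, one_pow, one_mul]

theorem nine_data : ∃ (R : Subgroup M) (u v : M), Nat.card R = 9 ∧ u ∈ R ∧ u ≠ 1 ∧
    (∀ x ∈ R, ∀ y ∈ R, x * y = y * x) ∧ (∀ x ∈ R, x ^ 3 = 1) ∧
    (∀ x ∈ R, x ≠ 1 → ∃ n ∈ Subgroup.normalizer (R : Set M), n * u * n⁻¹ = x) ∧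
    (fixF (u : Equiv.Perm GolayPt)).card = 6 ∧ v ∈ R ∧
    (fixF (u : Equiv.Perm GolayPt) ∩ fixF (v : Equiv.Perm GolayPt)).card = 3 ∧
    (∀ x ∈ R, ∃ a b : ℕ, x = u ^ a * v ^ b) := by
  classical
  obtain ⟨u, hu⟩ := exists_el (show memB threeU = true by
    have := mem_checked; simp only [Bool.and_eq_true] at this; exact this.1.1.1.1.2)
  obtain ⟨v, hv⟩ := exists_el (show memB threeV = true by
    have := mem_checked; simp only [Bool.and_eq_true] at this; exact this.1.1.1.2)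
  have hx := hex_checked
  simp only [Bool.and_eq_true, Bool.not_eq_true', List.all_eq_true] at hx
  obtain ⟨⟨⟨⟨⟨⟨⟨⟨-, -⟩, huv⟩, hu3⟩, hun⟩, hv3⟩, -⟩, -⟩, -⟩ := hx
  have u3 : u ^ 3 = 1 := el_eq (repr_pow hu 3) (by rw [Nat.eq_of_beq_eq_true hu3]; exact repr_one)
  have v3 : v ^ 3 = 1 := el_eq (repr_pow hv 3) (by rw [Nat.eq_of_beq_eq_true hv3]; exact repr_one)
  have huv' : Commute u v := el_eq (repr_mul hu hv) (by rw [Nat.eq_of_beq_eq_true huv]; exact repr_mul hv hu)
  have hu1 : u ≠ 1 := by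
    intro e
    exact ne_of_code (repr_mul hu repr_one) (repr_mul repr_one repr_one) hun (by rw [e])
  have hn := nine_checked
  simp only [Bool.and_eq_true, decide_eq_true_eq, List.all_eq_true, List.mem_range, List.any_eq_true] at hn
  obtain ⟨⟨⟨⟨⟨h0, hnd⟩, hprod⟩, htr⟩, hfu⟩, hfuv⟩ := hn
  set R := pairGrp u v u3 v3 huv'
  have hR : ∀ a < 3, ∀ b < 3, Repr (nineL.getD (3 * a + b) 0) ((u ^ a * v ^ b : M) : Equiv.Perm GolayPt) :=
    fun a ha b hb => by rw [← Nat.eq_of_beq_eq_true (hprod a ha b hb)]; exact repr_mul (repr_pow hu a) (repr_pow hv b)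
  have hlen : nineL.length = 9 := rfl
  have hcard : Nat.card R = 9 := by
    let F : Fin 3 × Fin 3 → R := fun x => ⟨u ^ (x.1 : ℕ) * v ^ (x.2 : ℕ), x.1, x.1.2, x.2, x.2.2, rfl⟩
    have hF : Function.Bijective F := by
      refine ⟨?_, fun ⟨x, a, ha, b, hb, e⟩ => ⟨(⟨a, ha⟩, ⟨b, hb⟩), Subtype.ext e.symm⟩⟩
      rintro ⟨a, b⟩ ⟨a', b'⟩ e
      have e' : u ^ (a : ℕ) * v ^ (b : ℕ) = u ^ (a' : ℕ) * v ^ (b' : ℕ) := congrArg Subtype.val e
      have r1 := hR a a.2 b b.2
      have r2 := hR a' a'.2 b' b'.2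
      rw [← e'] at r2
      have h1 : 3 * (a : ℕ) + b < nineL.length := by omega
      have h2 : 3 * (a' : ℕ) + b' < nineL.length := by omega
      -- the codes of one element agree
      have hc : nineL.getD (3 * (a : ℕ) + b) 0 = nineL.getD (3 * (a' : ℕ) + b') 0 := by
        have q1 := Nat.eq_of_beq_eq_true (hprod a a.2 b b.2)
        have q2 := Nat.eq_of_beq_eq_true (hprod a' a'.2 b' b'.2)
        rw [← q1] at r1 ⊢
        rw [← q2] at r2 ⊢
        exact pcomp_eq_of r1 r2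
      rw [List.getD_eq_getElem _ _ h1, List.getD_eq_getElem _ _ h2] at hc
      have := (hnd.getElem_inj_iff).mp hc
      have := a.2; have := b.2; have := a'.2; have := b'.2
      refine Prod.ext (Fin.ext ?_) (Fin.ext ?_) <;> (dsimp only; omega)
    rw [← Nat.card_congr (Equiv.ofBijective F hF)]; simp
  have humem : u ∈ R := ⟨1, by norm_num, 0, by norm_num, by simp⟩
  have hvmem : v ∈ R := ⟨0, by norm_num, 1, by norm_num, by simp⟩
  have hidx : ∀ i < 9, i = 3 * (i / 3) + i % 3 ∧ i / 3 < 3 ∧ i % 3 < 3 := by omega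
  refine ⟨R, u, v, hcard, humem, hu1, ?_, ?_, ?_, ?_, hvmem, ?_, ?_⟩
  · rintro _ ⟨a, -, b, -, rfl⟩ _ ⟨a', -, b', -, rfl⟩
    rw [(huv'.pow_pow a' b).symm.mul_mul_mul_comm, ← pow_add, ← pow_add, add_comm a, add_comm b, pow_add, pow_add,
      ← (huv'.pow_pow a b').symm.mul_mul_mul_comm]
  · rintro _ ⟨a, -, b, -, rfl⟩
    rw [(huv'.pow_pow a b).mul_pow, ← pow_mul, ← pow_mul, mul_comm a, mul_comm b, pow_mul, pow_mul, u3, v3, one_pow,
      one_pow, one_mul]
  · rintro _ ⟨a, ha, b, hb, rfl⟩ hx1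
    have hne : 3 * a + b ≠ 0 := fun h => hx1 (by
      obtain ⟨rfl, rfl⟩ : a = 0 ∧ b = 0 := by omega
      simp)
    obtain ⟨k, hk, hk'⟩ : ∃ k < 8, k + 1 = 3 * a + b := ⟨3 * a + b - 1, by omega, by omega⟩
    obtain ⟨h1, c, hc, h2⟩ := htr k hk
    have hm := more_mem_checked
    simp only [Bool.and_eq_true, List.all_eq_true] at hm
    have hlt : k < nineTr.length := by
      have : nineTr.length = 8 := rfl
      omega
    obtain ⟨n, hn⟩ := exists_el (hm.2 _ (by rw [List.getD_eq_getElem _ 0 hlt]; exact List.getElem_mem _) :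
      memB (nineTr.getD k 0) = true)
    have e1 : n * u * n⁻¹ = u ^ a * v ^ b := mul_inv_eq_iff_eq_mul.mpr (el_eq (repr_mul hn hu) (by
      rw [Nat.eq_of_beq_eq_true h1, hk']; exact repr_mul (hR a ha b hb) hn))
    obtain ⟨i, hi, rfl⟩ := List.getElem_of_mem hc
    rw [hlen] at hi
    obtain ⟨e3, hi1, hi2⟩ := hidx i hi
    have e2 : n * v * n⁻¹ = u ^ (i / 3) * v ^ (i % 3) := mul_inv_eq_iff_eq_mul.mpr (el_eq (repr_mul hn hv) (by
      rw [Nat.eq_of_beq_eq_true h2]
      have hr := hR _ hi1 _ hi2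
      rw [← e3, List.getD_eq_getElem _ _ (by omega)] at hr
      exact repr_mul hr hn))
    refine ⟨n, ?_, e1⟩
    have hmap : ∀ x ∈ R, n * x * n⁻¹ ∈ R := by
      rintro _ ⟨a', -, b', -, rfl⟩
      rw [← conj_mul, ← conj_pow, ← conj_pow, e1, e2]
      exact mul_mem (pow_mem (show u ^ a * v ^ b ∈ R from ⟨a, ha, b, hb, rfl⟩) _)
        (pow_mem (show u ^ (i / 3) * v ^ (i % 3) ∈ R from ⟨_, hi1, _, hi2, rfl⟩) _)
    rw [Subgroup.mem_normalizer_iff]
    refine fun x => ⟨hmap x, fun hx => ?_⟩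
    let F : R → R := fun x => ⟨n * x * n⁻¹, hmap x x.2⟩
    have hF : Function.Injective F := fun x y e => Subtype.ext (by
      have := congrArg Subtype.val e
      simpa [F] using this)
    obtain ⟨y, hy⟩ := Finite.injective_iff_surjective.mp hF ⟨_, hx⟩
    have := congrArg Subtype.val hy
    simp only [F, mul_left_inj, mul_right_inj] at this
    exact this ▸ y.2
  · rw [fixF_repr hu, card_toSet]; exact Nat.eq_of_beq_eq_true hfu
  · have : fixF (u : Equiv.Perm GolayPt) ∩ fixF (v : Equiv.Perm GolayPt) =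
        toSet (fixedMask threeU &&& fixedMask threeV) := by
      rw [fixF_repr hu, fixF_repr hv]
      ext p
      simp [Nat.testBit_and]
    rw [this, card_toSet]; exact Nat.eq_of_beq_eq_true hfuv
  · rintro _ ⟨a, -, b, -, rfl⟩; exact ⟨a, b, rfl⟩

/-- The facts on a Sylow 3-subgroup. -/
theorem nine_facts {R : Subgroup M} (hR : Nat.card R = 9) :
    (∀ x ∈ R, ∀ y ∈ R, x * y = y * x) ∧ (∀ x ∈ R, x ^ 3 = 1) ∧
    (∀ r ∈ R, ∀ r' ∈ R, r ≠ 1 → r' ≠ 1 → ∃ n ∈ Subgroup.normalizer (R : Set M), n * r * n⁻¹ = r') ∧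
    (∀ r ∈ R, r ≠ 1 → (fixF (r : Equiv.Perm GolayPt)).card = 6) ∧
    ∃ F : Finset GolayPt, F.card = 3 ∧ ∀ p, p ∈ F ↔ ∀ r ∈ R, p ∈ fixF (r : Equiv.Perm GolayPt) := by
  classical
  obtain ⟨R0, u, v, hc0, hu, hu1, hcomm, hcube, htr, hfu, hv, hfuv, hgen⟩ := nine_data
  haveI : Fact (Nat.Prime 3) := ⟨by norm_num⟩
  have hpow : ∀ R' : Subgroup M, Nat.card R' = 9 → Nat.card R' = 3 ^ (Nat.card M).factorization 3 :=
    fun R' h => by rw [h, factorization_M22.2]; norm_num
  obtain ⟨h, hh⟩ := MulAction.exists_smul_eq M (Sylow.ofCard R0 (hpow _ hc0)) (Sylow.ofCard R (hpow _ hR))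
  have hR' : R = R0.map (MulAut.conj h).toMonoidHom := by
    have := congrArg (fun S : Sylow 3 M => (S : Subgroup M)) hh
    simp only [Sylow.coe_subgroup_smul, Subgroup.pointwise_smul_def, Sylow.coe_ofCard] at this
    exact this.symm
  subst hR'
  have mem : ∀ {x : M}, x ∈ R0 → h * x * h⁻¹ ∈ R0.map (MulAut.conj h).toMonoidHom := fun hx => ⟨_, hx, rfl⟩
  have hnorm : ∀ n ∈ Subgroup.normalizer (R0 : Set M),
      h * n * h⁻¹ ∈ Subgroup.normalizer ((R0.map (MulAut.conj h).toMonoidHom : Subgroup M) : Set M) := fun n hn => by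
    rw [← Subgroup.map_equiv_normalizer_eq R0 (MulAut.conj h)]
    exact ⟨n, hn, rfl⟩
  refine ⟨?_, ?_, ?_, ?_, ?_⟩
  · rintro _ ⟨x, hx, rfl⟩ _ ⟨y, hy, rfl⟩
    rw [← map_mul, hcomm x hx y hy, map_mul]
  · rintro _ ⟨x, hx, rfl⟩
    rw [← map_pow, hcube x hx, map_one]
  · rintro _ ⟨x, hx, rfl⟩ _ ⟨y, hy, rfl⟩ hx1 hy1
    obtain ⟨n, hn, hnx⟩ := htr x hx (fun e => hx1 (by rw [e, map_one]))
    obtain ⟨m, hm, hmy⟩ := htr y hy (fun e => hy1 (by rw [e, map_one]))
    refine ⟨h * (m * n⁻¹) * h⁻¹, hnorm _ (mul_mem hm (inv_mem hn)), ?_⟩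
    show h * (m * n⁻¹) * h⁻¹ * (h * x * h⁻¹) * (h * (m * n⁻¹) * h⁻¹)⁻¹ = h * y * h⁻¹
    rw [← hnx, ← hmy]; group
  · rintro _ ⟨x, hx, rfl⟩ hx1
    obtain ⟨n, -, hnx⟩ := htr x hx (fun e => hx1 (by rw [e, map_one]))
    show (fixF ((h * x * h⁻¹ : M) : Equiv.Perm GolayPt)).card = 6
    rw [fixF_conjM, ← hnx, fixF_conjM, hfu]
  · refine ⟨(fixF (u : Equiv.Perm GolayPt) ∩ fixF (v : Equiv.Perm GolayPt)).image (h : Equiv.Perm GolayPt),
      by rw [Finset.card_image_of_injective _ (Equiv.injective _), hfuv], fun p => ?_⟩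
    have key : ∀ x : M, p ∈ fixF ((h * x * h⁻¹ : M) : Equiv.Perm GolayPt) ↔
        (h : Equiv.Perm GolayPt)⁻¹ p ∈ fixF (x : Equiv.Perm GolayPt) := fun x => by
      rw [mem_fixF, mem_fixF, Subgroup.coe_mul, Subgroup.coe_mul, Subgroup.coe_inv, Equiv.Perm.mul_apply,
        Equiv.Perm.mul_apply]
      exact ⟨fun e => by rw [Equiv.Perm.eq_inv_iff_eq]; exact e, fun e => by
        rw [e, Equiv.Perm.coe_inv, Equiv.apply_symm_apply]⟩
    rw [Finset.mem_image]
    constructor
    · rintro ⟨q, hq, rfl⟩ _ ⟨x, hx, rfl⟩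
      rw [Finset.mem_inter] at hq
      show _ ∈ fixF ((h * x * h⁻¹ : M) : Equiv.Perm GolayPt)
      rw [key, Equiv.Perm.coe_inv, Equiv.symm_apply_apply]
      obtain ⟨a, b, rfl⟩ := hgen x hx
      rw [mem_fixF, Subgroup.coe_mul, Subgroup.coe_pow, Subgroup.coe_pow, Equiv.Perm.mul_apply]
      have e1 := MulAction.mem_stabilizer_iff.mp ((MulAction.stabilizer (Equiv.Perm GolayPt) q).pow_mem
        (MulAction.mem_stabilizer_iff.mpr (mem_fixF.mp hq.2)) b)
      have e2 := MulAction.mem_stabilizer_iff.mp ((MulAction.stabilizer (Equiv.Perm GolayPt) q).pow_mem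
        (MulAction.mem_stabilizer_iff.mpr (mem_fixF.mp hq.1)) a)
      rw [Equiv.Perm.smul_def] at e1 e2
      rw [e1, e2]
    · intro hp
      refine ⟨(h : Equiv.Perm GolayPt)⁻¹ p, ?_, by rw [Equiv.Perm.coe_inv, Equiv.apply_symm_apply]⟩
      rw [Finset.mem_inter]
      exact ⟨(key u).mp (hp _ (mem hu)), (key v).mp (hp _ (mem hv))⟩

theorem exists_nine {r : M} (hr : r ^ 3 = 1) : ∃ R : Subgroup M, Nat.card R = 9 ∧ r ∈ R := by
  haveI : Fact (Nat.Prime 3) := ⟨by norm_num⟩
  have hp : IsPGroup 3 (Subgroup.zpowers r) := by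
    intro x
    refine ⟨1, Subtype.ext ?_⟩
    obtain ⟨k, hk⟩ := Subgroup.mem_zpowers_iff.mp x.2
    rw [Subgroup.coe_pow, ← hk, pow_one, ← zpow_natCast, ← zpow_mul, mul_comm, zpow_mul, zpow_natCast, hr, one_zpow,
      OneMemClass.coe_one]
  obtain ⟨S, hS⟩ := hp.exists_le_sylow
  exact ⟨S, by rw [Sylow.card_eq_multiplicity, factorization_M22.2]; norm_num, hS (Subgroup.mem_zpowers r)⟩

theorem three_fix {r : M} (hr : r ^ 3 = 1) (hr1 : r ≠ 1) : (fixF (r : Equiv.Perm GolayPt)).card = 6 := by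
  obtain ⟨R, hR, hrR⟩ := exists_nine hr
  exact (nine_facts hR).2.2.2.1 r hrR hr1

/-- A permutation of prime-power order moves a multiple of the prime in an invariant set. -/
theorem fix_count {α : Type*} [DecidableEq α] [Fintype α] (σ : Equiv.Perm α) (S : Finset α)
    (hS : ∀ x ∈ S, σ x ∈ S) {p : ℕ} (hp : p.Prime) (hσ : σ ^ p = 1) :
    S.card ≡ (S.filter fun x => σ x = x).card [MOD p] := by
  haveI := Fact.mk hp
  let f : Function.End S := fun x => ⟨σ x, hS x x.2⟩
  have hf : ∀ (n : ℕ) (x : S), ((f ^ n) x : α) = (σ ^ n) x := by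
    intro n
    induction n with
    | zero => intro x; rfl
    | succ k ih =>
      intro x
      rw [pow_succ, pow_succ, Equiv.Perm.mul_apply]
      exact ih (f x)
  have h1 : f ^ p ^ 1 = 1 := funext fun x => Subtype.ext (by rw [pow_one, hf, hσ]; rfl)
  have h2 := Equiv.Perm.card_fixedPoints_modEq (f := f) h1
  rw [Fintype.card_coe] at h2
  have e : Fintype.card f.fixedPoints = (S.filter fun x => σ x = x).card := by
    rw [← Fintype.card_coe]
    refine Fintype.card_congr ⟨fun x => ⟨x.1, Finset.mem_filter.mpr ⟨x.1.2, congrArg Subtype.val x.2⟩⟩,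
      fun x => ⟨⟨x.1, (Finset.mem_filter.mp x.2).1⟩, Subtype.ext (Finset.mem_filter.mp x.2).2⟩,
      fun x => rfl, fun x => rfl⟩
  rwa [e] at h2

theorem fixF_comm {g h : M} (e : g * h = h * g) {p : GolayPt} (hp : p ∈ fixF (g : Equiv.Perm GolayPt)) :
    (h : Equiv.Perm GolayPt) p ∈ fixF (g : Equiv.Perm GolayPt) := by
  rw [mem_fixF] at hp ⊢
  have e' : (g : Equiv.Perm GolayPt) * h = h * g := congrArg Subtype.val e
  rw [← Equiv.Perm.mul_apply, e', Equiv.Perm.mul_apply, hp]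

/-- A commuting involution and element of order three fix only the two special points in common. -/
theorem invol_no_fix {i r : M} (hi : i * i = 1) (hi1 : i ≠ 1) (hr : r ^ 3 = 1) (hr1 : r ≠ 1) (hc : i * r = r * i)
    {p : GolayPt} (hpi : p ∈ fixF (i : Equiv.Perm GolayPt)) (hpr : p ∈ fixF (r : Equiv.Perm GolayPt)) :
    p = none ∨ p = pt 0 := by
  classical
  set Fi := fixF (i : Equiv.Perm GolayPt)
  set Fr := fixF (r : Equiv.Perm GolayPt)
  have h3 := fix_count (r : Equiv.Perm GolayPt) Fi (fun x hx => fixF_comm hc hx) Nat.prime_three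
    (by rw [← Subgroup.coe_pow, hr]; rfl)
  have h2 := fix_count (i : Equiv.Perm GolayPt) Fr (fun x hx => fixF_comm hc.symm hx) Nat.prime_two
    (by rw [← Subgroup.coe_pow, sq, hi]; rfl)
  have e3 : Fi.filter (fun x => (r : Equiv.Perm GolayPt) x = x) = Fi ∩ Fr := by
    ext x; simp [Fr, mem_fixF]
  have e2 : Fr.filter (fun x => (i : Equiv.Perm GolayPt) x = x) = Fi ∩ Fr := by
    ext x; simp [Fi, mem_fixF, and_comm]
  rw [e3, invol_fix hi hi1] at h3
  rw [e2, three_fix hr hr1] at h2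
  have hle : (Fi ∩ Fr).card ≤ 6 := (Finset.card_le_card Finset.inter_subset_right).trans (three_fix hr hr1).le
  have hc2 : (Fi ∩ Fr).card = 2 := by
    have a3 : (Fi ∩ Fr).card % 3 = 2 := h3.symm
    have a2 : (Fi ∩ Fr).card % 2 = 0 := h2.symm
    omega
  have hne : (none : GolayPt) ≠ pt 0 := by decide
  have hsub : ({none, pt 0} : Finset GolayPt) ⊆ Fi ∩ Fr := by
    intro x hx
    simp only [Finset.mem_insert, Finset.mem_singleton] at hx
    rw [Finset.mem_inter]
    rcases hx with rfl | rfl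
    · exact ⟨(fixed_pts i).1, (fixed_pts r).1⟩
    · exact ⟨(fixed_pts i).2, (fixed_pts r).2⟩
  have heq := Finset.eq_of_subset_of_card_le hsub (by rw [hc2, Finset.card_pair hne])
  have : p ∈ ({none, pt 0} : Finset GolayPt) := heq ▸ Finset.mem_inter.mpr ⟨hpi, hpr⟩
  simpa using this

/-- The four further fixed points of an element of order three. -/
theorem three_four {r : M} (hr : r ^ 3 = 1) (hr1 : r ≠ 1) :
    ∃ F : Finset GolayPt, F.card = 4 ∧ (∀ p ∈ F, p ∈ fixF (r : Equiv.Perm GolayPt) ∧ p ≠ none ∧ p ≠ pt 0) ∧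
      ∀ g : M, g * r = r * g → ∀ p ∈ F, (g : Equiv.Perm GolayPt) p ∈ F := by
  classical
  refine ⟨fixF (r : Equiv.Perm GolayPt) \ {none, pt 0}, ?_, fun p hp => ?_, fun g hg p hp => ?_⟩
  · rw [Finset.card_sdiff_of_subset (fun x hx => ?_), three_fix hr hr1, Finset.card_pair (by decide)]
    simp only [Finset.mem_insert, Finset.mem_singleton] at hx
    rcases hx with rfl | rfl
    exacts [(fixed_pts r).1, (fixed_pts r).2]
  · simp only [Finset.mem_sdiff, Finset.mem_insert, Finset.mem_singleton, not_or] at hp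
    exact ⟨hp.1, hp.2.1, hp.2.2⟩
  · simp only [Finset.mem_sdiff, Finset.mem_insert, Finset.mem_singleton, not_or] at hp ⊢
    refine ⟨fixF_comm hg.symm hp.1, fun e => hp.2.1 ?_, fun e => hp.2.2 ?_⟩
    · exact (g : Equiv.Perm GolayPt).injective (e.trans (mem_fixF.mp (fixed_pts g).1).symm)
    · exact (g : Equiv.Perm GolayPt).injective (e.trans (mem_fixF.mp (fixed_pts g).2).symm)

/-- A 2-group centralizing an element of order three has order at most four. -/
theorem cent_three_two {r : M} (hr : r ^ 3 = 1) (hr1 : r ≠ 1) {D : Subgroup M} (hD : IsPGroup 2 D)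
    (hc : ∀ x ∈ D, x * r = r * x) : Nat.card D ≤ 4 := by
  classical
  obtain ⟨F, hF, hFp, hFg⟩ := three_four hr hr1
  obtain ⟨p, hp⟩ := Finset.card_pos.mp (by omega : 0 < F.card)
  let f : D → F := fun x => ⟨((x : M) : Equiv.Perm GolayPt) p, hFg x (hc x x.2) p hp⟩
  have hf : Function.Injective f := by
    intro x y e
    have e' : ((x : M) : Equiv.Perm GolayPt) p = ((y : M) : Equiv.Perm GolayPt) p := congrArg Subtype.val e
    by_contra hne
    set d : D := x⁻¹ * y with hd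
    have hd1 : d ≠ 1 := fun h => hne (inv_mul_eq_one.mp h)
    obtain ⟨k, hk⟩ := (IsPGroup.iff_orderOf.mp hD) d
    have hk0 : k ≠ 0 := fun h => by
      rw [h, pow_zero, orderOf_eq_one_iff] at hk
      exact hd1 hk
    set t : D := d ^ 2 ^ (k - 1) with ht
    have ht2 : t * t = 1 := by
      rw [ht, ← pow_add, show 2 ^ (k - 1) + 2 ^ (k - 1) = 2 ^ k by
        conv_rhs => rw [show k = k - 1 + 1 by omega, pow_succ]
        ring, ← hk, pow_orderOf_eq_one]
    have ht1 : t ≠ 1 := fun h => by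
      have := orderOf_dvd_of_pow_eq_one (ht ▸ h : d ^ 2 ^ (k - 1) = 1)
      rw [hk, Nat.pow_dvd_pow_iff_le_right (by norm_num)] at this
      omega
    have hdp : ((d : M) : Equiv.Perm GolayPt) p = p := by
      rw [hd, Subgroup.coe_mul, Subgroup.coe_inv, Subgroup.coe_mul, Subgroup.coe_inv, Equiv.Perm.mul_apply, ← e',
        Equiv.Perm.coe_inv, Equiv.symm_apply_apply]
    have htp : ((t : M) : Equiv.Perm GolayPt) p = p := by
      rw [ht, Subgroup.coe_pow, Subgroup.coe_pow]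
      exact MulAction.mem_stabilizer_iff.mp ((MulAction.stabilizer (Equiv.Perm GolayPt) p).pow_mem
        (MulAction.mem_stabilizer_iff.mpr hdp) _)
    rcases invol_no_fix (i := (t : M)) (congrArg Subtype.val ht2) (fun h => ht1 (Subtype.ext h)) hr hr1
      (hc t t.2) (mem_fixF.mpr htp) (hFp p hp).1 with h | h
    exacts [(hFp p hp).2.1 h, (hFp p hp).2.2 h]
  have := Nat.card_le_card_of_injective f hf
  rwa [Nat.card_eq_fintype_card (α := F), Fintype.card_coe, hF] at this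

/-- No element of prime order at least five centralizes an element of order three. -/
theorem cent_three_prime {r g : M} (hr : r ^ 3 = 1) (hr1 : r ≠ 1) {q : ℕ} (hq : q.Prime) (hq5 : 5 ≤ q)
    (hg : g ^ q = 1) (hc : g * r = r * g) : g = 1 := by
  classical
  by_contra hg1
  haveI := Fact.mk hq
  obtain ⟨F, hF, hFp, hFg⟩ := three_four hr hr1
  have hgq : (g : Equiv.Perm GolayPt) ^ q = 1 := by rw [← Subgroup.coe_pow, hg]; rfl
  have hm := fix_count (g : Equiv.Perm GolayPt) F (hFg g hc) hq hgq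
  rw [hF] at hm
  have hle := Finset.card_filter_le F fun x => (g : Equiv.Perm GolayPt) x = x
  have hfull : (F.filter fun x => (g : Equiv.Perm GolayPt) x = x).card = 4 :=
    ((Nat.mod_eq_of_lt (show (F.filter fun x => (g : Equiv.Perm GolayPt) x = x).card < q by omega)).symm.trans
      hm.symm).trans (Nat.mod_eq_of_lt (by omega))
  have hfix : ∀ p ∈ F, (g : Equiv.Perm GolayPt) p = p := fun p hp => by
    have := Finset.eq_of_subset_of_card_le (Finset.filter_subset (fun x => (g : Equiv.Perm GolayPt) x = x) F)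
      (by rw [hfull, hF])
    rw [← this] at hp
    exact (Finset.mem_filter.mp hp).2
  have hn : none ∉ F := fun h => (hFp _ h).2.1 rfl
  set B := insert none F
  have hB : B.card = 5 := by rw [Finset.card_insert_of_notMem hn, hF]
  have hgB : (g : Equiv.Perm GolayPt) ∈ M24 ⊓ fixingSubgroup (Equiv.Perm GolayPt) (B : Set GolayPt) := by
    refine ⟨?_, (mem_fixingSubgroup_iff _).mpr fun p hp => ?_⟩
    · exact (subG_le [0, 23] []) (M22_eq.le g.2)
    · rcases Finset.mem_insert.mp (Finset.mem_coe.mp hp) with rfl | hp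
      exacts [mem_fixF.mp (fixed_pts g).1, hfix p hp]
  have h48 := card_fix_finset (B := B) hB.le
  rw [hB] at h48
  have hdvd : orderOf (g : Equiv.Perm GolayPt) ∣ 48 := by
    have h := orderOf_dvd_natCard (⟨_, hgB⟩ :
      ↥(M24 ⊓ fixingSubgroup (Equiv.Perm GolayPt) (B : Set GolayPt)))
    rw [← Subgroup.orderOf_coe, h48] at h
    simpa using h
  rw [Subgroup.orderOf_coe, orderOf_eq_prime hg hg1] at hdvd
  have h2 : q ∣ 2 ^ 4 * 3 := hdvd
  rcases (Nat.Prime.dvd_mul hq).mp h2 with h | h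
  · have := (Nat.prime_dvd_prime_iff_eq hq Nat.prime_two).mp (hq.dvd_of_dvd_pow h); omega
  · have := (Nat.prime_dvd_prime_iff_eq hq Nat.prime_three).mp h; omega

/-- An involution normalizing a Sylow 3-subgroup centralizes none of its nontrivial elements. -/
theorem nine_invol {R : Subgroup M} (hR : Nat.card R = 9) {i : M} (hi : i * i = 1) (hi1 : i ≠ 1)
    (hN : i ∈ Subgroup.normalizer (R : Set M)) {r : M} (hr : r ∈ R) (hr1 : r ≠ 1) : i * r ≠ r * i := by
  classical
  intro hc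
  obtain ⟨-, hcube, -, -, F, hF, hFp⟩ := nine_facts hR
  have hinv : ∀ p ∈ F, (i : Equiv.Perm GolayPt) p ∈ F := by
    intro p hp
    rw [hFp] at hp ⊢
    intro x hx
    have hy : i⁻¹ * x * i ∈ R := (Subgroup.mem_normalizer_iff''.mp hN x).mp hx
    have := mem_fixF.mp (hp _ hy)
    rw [Subgroup.coe_mul, Subgroup.coe_mul, Subgroup.coe_inv, Equiv.Perm.mul_apply, Equiv.Perm.mul_apply,
      Equiv.Perm.inv_eq_iff_eq] at this
    rw [mem_fixF]; exact this
  obtain ⟨p, hp, hpn⟩ : ∃ p ∈ F, p ≠ none ∧ p ≠ pt 0 := by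
    by_contra hall
    push Not at hall
    have : F.card ≤ ({none, pt 0} : Finset GolayPt).card := Finset.card_le_card fun x hx => by
      simp only [Finset.mem_insert, Finset.mem_singleton]
      by_cases h : x = none
      exacts [Or.inl h, Or.inr (hall x hx h)]
    rw [hF, Finset.card_pair (by decide)] at this
    omega
  have hspec : ∀ q ∈ F, q ≠ none → q ≠ pt 0 → q = p := by
    intro q hq hq1 hq2
    by_contra hne
    have : ({none, pt 0, p, q} : Finset GolayPt).card ≤ F.card := Finset.card_le_card fun x hx => by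
      simp only [Finset.mem_insert, Finset.mem_singleton] at hx
      rcases hx with rfl | rfl | rfl | rfl
      exacts [(hFp _).mpr fun r _ => (fixed_pts r).1, (hFp _).mpr fun r _ => (fixed_pts r).2, hp, hq]
    have h4 : ({none, pt 0, p, q} : Finset GolayPt).card = 4 := by
      have e1 : (none : GolayPt) ≠ pt 0 := by decide
      simp [e1, Ne.symm hpn.1, Ne.symm hpn.2, Ne.symm hq1, Ne.symm hq2, Ne.symm hne]
    omega
  have hip : (i : Equiv.Perm GolayPt) p = p := hspec _ (hinv p hp)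
    (fun e => hpn.1 ((i : Equiv.Perm GolayPt).injective (e.trans (mem_fixF.mp (fixed_pts i).1).symm)))
    (fun e => hpn.2 ((i : Equiv.Perm GolayPt).injective (e.trans (mem_fixF.mp (fixed_pts i).2).symm)))
  rcases invol_no_fix hi hi1 (hcube r hr) hr1 hc (mem_fixF.mpr hip) ((hFp p).mp hp r hr) with h | h
  exacts [hpn.1 h, hpn.2 h]

theorem prime_cases {q : ℕ} (hq : q.Prime) : q = 2 ∨ q = 3 ∨ 5 ≤ q := by
  have := hq.two_le
  have : q ≠ 4 := by rintro rfl; norm_num at hq
  omega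

/-- A group normalizing a Sylow 3-subgroup and centralizing a nontrivial element of it lies in it. -/
theorem nine_stab {R : Subgroup M} (hR : Nat.card R = 9) {r : M} (hr : r ∈ R) (hr1 : r ≠ 1) {K : Subgroup M}
    (hK : ∀ x ∈ K, x ∈ Subgroup.normalizer (R : Set M) ∧ x * r = r * x) : K ≤ R := by
  haveI : Fact (Nat.Prime 3) := ⟨by norm_num⟩
  obtain ⟨-, hcube, -, -, -⟩ := nine_facts hR
  have hK3 : IsPGroup 3 K := by
    rcases eq_or_ne (Nat.card K) 1 with h1 | h1
    · exact IsPGroup.of_card (n := 0) (by rw [h1, pow_zero])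
    refine IsPGroup.iff_card.mpr ⟨(Nat.card K).primeFactorsList.length, Nat.eq_prime_pow_of_unique_prime_dvd
      (Nat.pos_of_ne_zero Nat.card_pos.ne').ne' fun {q} hq hdvd => ?_⟩
    haveI := Fact.mk hq
    obtain ⟨g, hg⟩ := exists_prime_orderOf_dvd_card' q hdvd
    have hg' : orderOf (g : M) = q := by rw [Subgroup.orderOf_coe, hg]
    have hgq : (g : M) ^ q = 1 := by rw [← hg']; exact pow_orderOf_eq_one _
    have hgne : (g : M) ≠ 1 := fun e => by rw [e, orderOf_one] at hg'; exact hq.ne_one hg'.symm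
    rcases prime_cases hq with rfl | rfl | h5
    · exact absurd (hK g g.2).2 (nine_invol hR (by rw [← sq]; exact hgq) hgne (hK g g.2).1 hr hr1)
    · rfl
    · exact absurd (cent_three_prime (hcube r hr) hr1 hq h5 hgq (hK g g.2).2) hgne
  -- R K is a 3-group
  have hle : K ≤ Subgroup.normalizer (R : Set M) := fun x hx => (hK x hx).1
  have hsup : IsPGroup 3 ↥(R ⊔ K) :=
    IsPGroup.to_sup_of_normal_left' (IsPGroup.of_card (n := 2) (by rw [hR]; norm_num)) hK3 hle
  obtain ⟨S, hS⟩ := hsup.exists_le_sylow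
  have h9 : Nat.card (S : Subgroup M) = 9 := by
    rw [Sylow.card_eq_multiplicity, factorization_M22.2]; norm_num
  have : R = (S : Subgroup M) := Subgroup.eq_of_le_of_card_ge (le_sup_left.trans hS) (by rw [h9, hR])
  exact this ▸ le_sup_right.trans hS

/-- The normalizer of a Sylow 3-subgroup has order 72. -/
theorem nine_norm {R : Subgroup M} (hR : Nat.card R = 9) :
    Nat.card ↥(Subgroup.normalizer (R : Set M)) = 72 := by
  classical
  obtain ⟨hcomm, hcube, htr, -, -⟩ := nine_facts hR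
  haveI : Nontrivial R := Finite.one_lt_card_iff_nontrivial.mp (by rw [hR]; norm_num)
  obtain ⟨r0, hr0⟩ := exists_ne (1 : R)
  set r : M := (r0 : M)
  have hr1 : r ≠ 1 := fun e => hr0 (Subtype.ext e)
  let N := Subgroup.normalizer (R : Set M)
  let X := {x : M // x ∈ R ∧ x ≠ 1}
  letI : MulAction N X :=
    { smul := fun n x => ⟨n * x.1 * (n : M)⁻¹, (Subgroup.mem_normalizer_iff.mp n.2 x.1).mp x.2.1,
        fun e => x.2.2 (conj_eq_one_iff.mp e)⟩
      one_smul := fun x => Subtype.ext (by show (1 : M) * x.1 * (1 : M)⁻¹ = x.1; group)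
      mul_smul := fun a b x => Subtype.ext (by
        show ((a : M) * b) * x.1 * ((a : M) * b)⁻¹ = a * (b * x.1 * (b : M)⁻¹) * (a : M)⁻¹; group) }
  let x0 : X := ⟨r, r0.2, hr1⟩
  have horb : MulAction.orbit N x0 = Set.univ := Set.eq_univ_of_forall fun y => by
    obtain ⟨n, hn, e⟩ := htr r r0.2 y.1 y.2.1 hr1 y.2.2
    exact ⟨⟨n, hn⟩, Subtype.ext e⟩
  have hX : Nat.card X = 8 := by
    have e : Nat.card X = Nat.card ↥((R : Set M) \ {1}) := rfl
    rw [e, Nat.card_coe_set_eq, Set.ncard_sdiff_singleton_of_mem (one_mem R), ← Nat.card_coe_set_eq,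
      SetLike.coe_sort_coe, hR]
  have hst : (MulAction.stabilizer N x0).map N.subtype = R := by
    refine le_antisymm (nine_stab hR r0.2 hr1 ?_) fun x hx => ?_
    · rintro _ ⟨n, hn, rfl⟩
      have e : (n : M) * r * (n : M)⁻¹ = r := congrArg Subtype.val (MulAction.mem_stabilizer_iff.mp hn)
      exact ⟨n.2, mul_inv_eq_iff_eq_mul.mp e⟩
    · refine ⟨⟨x, Subgroup.le_normalizer hx⟩, MulAction.mem_stabilizer_iff.mpr (Subtype.ext ?_), rfl⟩
      show x * r * x⁻¹ = r
      rw [hcomm x hx r r0.2, mul_inv_cancel_right]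
  have h := Subgroup.card_mul_index (MulAction.stabilizer N x0)
  rw [MulAction.index_stabilizer, horb, Set.ncard_univ, hX,
    ← Subgroup.card_map_of_injective N.subtype_injective, hst, hR] at h
  exact h.symm

end CfsgLib.JankoFour
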