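/-
Groups of Janko-four type: the map from the centralizer of P in H onto M22.
-/
import Cfsg.Prelude.Def_JankoFourType
import Cfsg.Agent.Lib.JankoFour.M22Syl
import Cfsg.Agent.Lib.Golay.OutMathieuSmall
import Cfsg.Agent.Lib.Basic
import Cfsg.Agent.Lib.ExtraspecialTwo

set_option autoImplicit false

namespace CfsgLib.JankoFour

open Cfsg Subgroup

universe u

variable {G : Type u} [Group G]

/-- A perfect group lies in every subgroup of index at most two. -/
theorem perfect_le_of_index_two {K : Type*} [Group K] {I U : Subgroup K} (hI : ⁅I, I⁆ = I) (hU : U.index = 2) :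
    I ≤ U := by
  have hn : U.Normal := Subgroup.normal_of_index_eq_two hU
  rw [← hI, Subgroup.commutator_le]
  intro a _ b _
  rw [commutatorElement_def]
  simp only [Subgroup.mul_mem_iff_of_index_two hU, inv_mem_iff]
  tauto

/-- What we use about a group of Janko-four type. -/
structure Ctx (z : G) (P E : Subgroup G) : Type u where
  oz : orderOf z = 2
  zE : z ∈ E
  zP : ∀ p ∈ P, p * z = z * p
  hP : Nat.card P = 3
  hE : Nat.card E = 2 ^ 13
  extE : ∃ hz : z ∈ E, CfsgLib.ExtraTwo.Ext2 E ⟨z, hz⟩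
  fpf : ∀ e ∈ E, (∀ p ∈ P, p * e = e * p) → e ∈ zpowers z
  cent : ∀ h ∈ centralizer ({z} : Set G), (∀ e ∈ E, e * h = h * e) → h ∈ E
  Ez : E ≤ centralizer ({z} : Set G)
  normE : centralizer ({z} : Set G) ≤ normalizer (E : Set G)
  N : Subgroup G
  EN : E ≤ N
  PN : P ≤ N
  hN : Nat.card N = 3 * 2 ^ 13
  H0 : Subgroup G
  H0le : H0 ≤ centralizer ({z} : Set G)
  H0two : ∀ h ∈ centralizer ({z} : Set G), h ∉ H0 → ∀ k ∈ centralizer ({z} : Set G), k ∉ H0 → h * k ∈ H0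
  NH0 : N ≤ H0
  C_H0 : centralizer ({z} : Set G) ⊓ centralizer (P : Set G) ≤ H0
  ψ : ↥H0 →* MTwoTwo
  ψker : ∀ h : H0, ψ h = 1 ↔ (h : G) ∈ N
  ψC : ∀ m : MTwoTwo, ∃ c : H0, (c : G) ∈ centralizer (P : Set G) ∧ ψ c = m
  decomp : ∀ h ∈ H0, ∃ e ∈ E, ∃ c ∈ centralizer ({z} : Set G) ⊓ centralizer (P : Set G), h = e * c
  outer : ∀ h ∈ centralizer ({z} : Set G), h ∉ H0 →
    ∃ e ∈ E, ∃ n ∈ centralizer ({z} : Set G), h = e * n ∧ ∀ p ∈ P, n * p * n⁻¹ = p⁻¹
  Pcomm : P ≤ ⁅centralizer ({z} : Set G) ⊓ centralizer (P : Set G),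
    centralizer ({z} : Set G) ⊓ centralizer (P : Set G)⁆

theorem conj_inv_of_card_three {P : Subgroup G} (hP : Nat.card P = 3) {n p q : G} (hn : n ∈ normalizer (P : Set G))
    (hp : p ∈ P) (hne : n * p ≠ p * n) (hq : q ∈ P) : n * q * n⁻¹ = q⁻¹ := by
  haveI : Finite P := Nat.finite_of_card_ne_zero (by rw [hP]; norm_num)
  have p1 : p ≠ 1 := by rintro rfl; simp at hne
  have p3 : p ^ 3 = 1 := by
    have h := pow_card_eq_one' (x := (⟨p, hp⟩ : P))
    rw [hP] at h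
    exact congrArg Subtype.val h
  have ord : orderOf p = 3 := orderOf_eq_prime (hp := ⟨by norm_num⟩) p3 p1
  have hz : zpowers p = P := by
    refine eq_of_le_of_card_ge (zpowers_le.mpr hp) ?_
    rw [Nat.card_zpowers, ord, hP]
  have key : n * p * n⁻¹ = p⁻¹ := by
    have h := (mem_normalizer_iff.mp hn p).mp hp
    rw [← hz, mem_zpowers_iff] at h
    obtain ⟨i, hi⟩ := h
    rw [zpow_eq_zpow_emod' i p3] at hi
    have hlt : i % ((3 : ℕ) : ℤ) < 3 := Int.emod_lt_of_pos _ (by norm_num)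
    have hge : 0 ≤ i % ((3 : ℕ) : ℤ) := Int.emod_nonneg _ (by norm_num)
    interval_cases hc : i % ((3 : ℕ) : ℤ)
    · rw [zpow_zero] at hi; exact absurd (conj_eq_one_iff.mp hi.symm) p1
    · rw [zpow_one] at hi; exact absurd (mul_inv_eq_iff_eq_mul.mp hi.symm) hne
    · rw [← hi, eq_inv_iff_mul_eq_one, ← zpow_add_one]; exact_mod_cast p3
  rw [← hz, mem_zpowers_iff] at hq
  obtain ⟨j, rfl⟩ := hq
  rw [← conj_zpow, key, inv_zpow]

theorem ctx_of_type [Finite G] {z : G} {P : Subgroup G} (hJ : IsOfJankoFourTypeWith z P) :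
    Nonempty (Ctx z P (twoCoreOfCentralizer z)) := by
  classical
  obtain ⟨oz, hext, hE, hcent, ⟨N, hEN, hNH, hHN, hN, ⟨hnorm, ⟨iso⟩⟩, hPN⟩, hP, hfix, hne, hcomm⟩ := hJ
  set H := centralizer ({z} : Set G) with hH
  set E := twoCoreOfCentralizer z with hEdef
  have hEH : E ≤ H := Subgroup.map_subtype_le _
  have hPH : P ≤ H := hPN.trans hNH
  have hzEC : z ∈ E ⊓ centralizer (P : Set G) := hfix ▸ mem_zpowers z
  have hzH : ∀ h ∈ H, h * z = z * h := fun h hh => mem_centralizer_singleton_iff.mp hh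
  have hnE : H ≤ normalizer (E : Set G) := by
    intro h hh
    rw [mem_normalizer_iff]
    haveI : (pCore 2 ↥H).Normal := (sSup_prop_of_closed_sup (fun A : Subgroup H => A.Normal ∧ IsPGroup 2 A)
      ⟨inferInstance, IsPGroup.of_bot⟩ (fun _ _ h₁ h₂ => CfsgLib.pCore_mem_sup 2 h₁ h₂)
      (S := {N : Subgroup H | N.Normal ∧ IsPGroup 2 N}) (fun _ h => h)).1
    intro e
    simp only [hEdef, twoCoreOfCentralizer, mem_map]
    constructor
    · rintro ⟨x, hx, rfl⟩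
      exact ⟨⟨h, hh⟩ * x * ⟨h, hh⟩⁻¹, Normal.conj_mem ‹_› x hx ⟨h, hh⟩, rfl⟩
    · rintro ⟨x, hx, e'⟩
      refine ⟨⟨h, hh⟩⁻¹ * x * ⟨h, hh⟩, by simpa using Normal.conj_mem ‹_› x hx ⟨h, hh⟩⁻¹, ?_⟩
      simp only [map_mul, map_inv, coe_subtype] at e' ⊢
      rw [e']; group
  have hfpf : ∀ e ∈ E, (∀ p ∈ P, p * e = e * p) → e ∈ zpowers z := fun e he hp =>
    hfix ▸ ⟨he, mem_centralizer_iff.mpr fun p hp' => hp p hp'⟩
  set NH := N.subgroupOf H
  let φ₀ : H →* MulAut ↥Spor.M22 := iso.toMonoidHom.comp (QuotientGroup.mk' NH)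
  have hφker : ∀ h : H, φ₀ h = 1 ↔ (h : G) ∈ N := fun h => by
    show iso (QuotientGroup.mk' NH h) = 1 ↔ _
    rw [EmbeddingLike.map_eq_one_iff]
    exact QuotientGroup.eq_one_iff h
  have hφsurj : Function.Surjective φ₀ := iso.surjective.comp (QuotientGroup.mk'_surjective NH)
  -- N = E P
  have hNEP : ∀ x ∈ N, ∃ e ∈ E, ∃ p ∈ P, x = e * p := by
    intro x hx
    have hle : (E ⊔ P) ≤ N := sup_le hEN hPN
    have hcard : Nat.card N ≤ Nat.card ↥(E ⊔ P) := by
      refine Nat.le_of_dvd Nat.card_pos ?_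
      rw [hN]
      exact Nat.Coprime.mul_dvd_of_dvd_of_dvd (by rw [hE]; norm_num) (hP ▸ card_dvd_of_le le_sup_right)
        (card_dvd_of_le le_sup_left)
    rw [← eq_of_le_of_card_ge hle hcard] at hx
    rw [← SetLike.mem_coe, Subgroup.coe_mul_of_right_le_normalizer_left E P (hPH.trans hnE)] at hx
    obtain ⟨e, he, p, hp, rfl⟩ := hx
    exact ⟨e, he, p, hp, rfl⟩
  -- Frattini
  have hfrat : ∀ h ∈ H, ∃ e ∈ E, ∃ n ∈ H ⊓ normalizer (P : Set G), h = e * n := by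
    intro h hh
    haveI : Fact (Nat.Prime 3) := ⟨by norm_num⟩
    have hfac : (Nat.card N).factorization 3 = 1 := by
      rw [hN, hE, Nat.factorization_mul (by norm_num) (by norm_num), Finsupp.add_apply,
        Nat.Prime.factorization_self (by norm_num), Nat.factorization_eq_zero_of_not_dvd (by norm_num)]
    let S₁ : Sylow 3 N := Sylow.ofCard (P.subgroupOf N)
      (by rw [hfac, Nat.card_congr (subgroupOfEquivOfLe hPN).toEquiv, hP, pow_one])
    let P' := P.map (MulAut.conj h).toMonoidHom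
    have hP'N : P' ≤ N := by
      rintro _ ⟨p, hp, rfl⟩
      exact (mem_normalizer_iff.mp (hHN hh) p).mp (hPN hp)
    let S₂ : Sylow 3 N := Sylow.ofCard (P'.subgroupOf N)
      (by rw [hfac, Nat.card_congr (subgroupOfEquivOfLe hP'N).toEquiv,
        card_map_of_injective (MulAut.conj h).injective, hP, pow_one])
    obtain ⟨x, hx⟩ := MulAction.exists_smul_eq N S₁ S₂
    obtain ⟨e, he, p, hp, hxe⟩ := hNEP x x.2
    have hxP : P.map (MulAut.conj (x : G)).toMonoidHom = P' := by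
      have h1 : ((x • S₁ : Sylow 3 N) : Subgroup N) = P'.subgroupOf N := by rw [hx]; rfl
      rw [Sylow.coe_subgroup_smul, Subgroup.pointwise_smul_def] at h1
      have h2 := congrArg (Subgroup.map N.subtype) h1
      rw [subgroupOf_map_subtype, inf_eq_left.mpr hP'N] at h2
      rw [← h2]
      ext y
      constructor
      · rintro ⟨q, hq, rfl⟩
        exact ⟨x * ⟨q, hPN hq⟩ * x⁻¹, ⟨⟨q, hPN hq⟩, hq, rfl⟩, rfl⟩
      · rintro ⟨_, ⟨q, hq, rfl⟩, rfl⟩
        exact ⟨q, hq, rfl⟩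
    have hn : e⁻¹ * h ∈ normalizer (P : Set G) := by
      have h3 : P.map (MulAut.conj ((x : G)⁻¹ * h)).toMonoidHom = P := by
        ext y
        constructor
        · rintro ⟨q, hq, rfl⟩
          have : h * q * h⁻¹ ∈ P.map (MulAut.conj (x : G)).toMonoidHom := hxP ▸ ⟨q, hq, rfl⟩
          obtain ⟨r, hr, e'⟩ := this
          simp only [MulEquiv.coe_toMonoidHom, MulAut.conj_apply] at e' ⊢
          rw [show (x : G)⁻¹ * h * q * ((x : G)⁻¹ * h)⁻¹ = (x : G)⁻¹ * (h * q * h⁻¹) * x by group, ← e']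
          group
          exact hr
        · intro hy
          have : (x : G) * y * (x : G)⁻¹ ∈ P' := hxP ▸ ⟨y, hy, rfl⟩
          obtain ⟨q, hq, e'⟩ := this
          refine ⟨q, hq, ?_⟩
          simp only [MulEquiv.coe_toMonoidHom, MulAut.conj_apply] at e' ⊢
          rw [show (x : G)⁻¹ * h * q * ((x : G)⁻¹ * h)⁻¹ = (x : G)⁻¹ * (h * q * h⁻¹) * x by group, e']
          group
      have h4 : (x : G)⁻¹ * h ∈ normalizer (P : Set G) := by
        rw [mem_normalizer_iff]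
        intro q
        constructor
        · intro hq; rw [← h3]; exact ⟨q, hq, rfl⟩
        · intro hq
          rw [← h3] at hq
          obtain ⟨r, hr, e'⟩ := hq
          have e'' := (MulAut.conj ((x : G)⁻¹ * h)).injective (a₁ := r) (a₂ := q) e'
          exact e'' ▸ hr
      have e5 : e⁻¹ * h = p * ((x : G)⁻¹ * h) := by rw [hxe]; group
      rw [e5]
      exact Subgroup.mul_mem _ (le_normalizer hp) h4
    exact ⟨e, he, e⁻¹ * h, ⟨H.mul_mem (H.inv_mem (hEH he)) hh, hn⟩, by rw [mul_inv_cancel_left]⟩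
  -- the inner part
  have hout : (MulAut.conj (G := ↥Spor.M22)).range.index = 2 := CfsgGolay.OutSmall.out_M22
  haveI := CfsgGolay.isSimple_sporM22
  have hnab : ∃ a b : ↥Spor.M22, a * b ≠ b * a := by
    by_contra hab
    push Not at hab
    have hp : (Nat.card ↥Spor.M22).Prime := by
      let _ : CommGroup ↥Spor.M22 := { (inferInstance : Group ↥Spor.M22) with mul_comm := hab }
      exact (CommGroup.is_simple_iff_prime_card).mp inferInstance
    rw [CfsgGolay.card_sporM22] at hp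
    norm_num at hp
  have hinj : Function.Injective (MulAut.conj (G := ↥Spor.M22)) := by
    rw [← MonoidHom.ker_eq_bot_iff]
    rcases Subgroup.Normal.eq_bot_or_eq_top (inferInstance : (MulAut.conj (G := ↥Spor.M22)).ker.Normal) with h | h
    · exact h
    · exfalso
      obtain ⟨a, b, hab⟩ := hnab
      have ha : a ∈ (MulAut.conj (G := ↥Spor.M22)).ker := h ▸ mem_top a
      exact hab (mul_inv_eq_iff_eq_mul.mp (DFunLike.congr_fun (MonoidHom.mem_ker.mp ha) b))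
  have hperf : ⁅(MulAut.conj (G := ↥Spor.M22)).range, (MulAut.conj (G := ↥Spor.M22)).range⁆ =
      (MulAut.conj (G := ↥Spor.M22)).range := by
    have htop : ⁅(⊤ : Subgroup ↥Spor.M22), (⊤ : Subgroup ↥Spor.M22)⁆ = ⊤ := by
      refine (Subgroup.Normal.eq_bot_or_eq_top inferInstance).resolve_left fun h => ?_
      obtain ⟨a, b, hab⟩ := hnab
      refine hab (commutatorElement_eq_one_iff_mul_comm.mp ?_)
      rw [← mem_bot, ← h]
      exact commutator_mem_commutator (mem_top a) (mem_top b)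
    rw [MonoidHom.range_eq_map, ← map_commutator, htop]
  set C := H ⊓ centralizer (P : Set G) with hC
  set NP := H ⊓ normalizer (P : Set G) with hNP
  have hCNP : C ≤ NP := inf_le_inf_left _ (centralizer_le_normalizer _)
  obtain ⟨w, hw, hwC⟩ : ∃ w ∈ NP, w ∉ C := by
    by_contra hall
    push Not at hall
    exact hne (le_antisymm hall hCNP)
  obtain ⟨p₀, hp₀, hwp⟩ : ∃ p ∈ P, w * p ≠ p * w := by
    by_contra hall
    push Not at hall
    exact hwC ⟨hw.1, mem_centralizer_iff.mpr fun p hp => (hall p hp).symm⟩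
  have hinv : ∀ n ∈ NP, n ∉ C → ∀ p ∈ P, n * p * n⁻¹ = p⁻¹ := by
    intro n hn hnC
    obtain ⟨p, hp, hnp⟩ : ∃ p ∈ P, n * p ≠ p * n := by
      by_contra hall
      push Not at hall
      exact hnC ⟨hn.1, mem_centralizer_iff.mpr fun p hp => (hall p hp).symm⟩
    exact fun q hq => conj_inv_of_card_three hP hn.2 hp hnp hq
  have hmul : ∀ a ∈ NP, a ∉ C → ∀ b ∈ NP, b ∉ C → a * b ∈ C := fun a ha ha' b hb hb' =>
    ⟨mul_mem ha.1 hb.1, mem_centralizer_iff.mpr fun p hp => by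
      have e : a * b * p * (a * b)⁻¹ = p := by
        rw [show a * b * p * (a * b)⁻¹ = a * (b * p * b⁻¹) * a⁻¹ by group, hinv b hb hb' p hp,
          hinv a ha ha' p⁻¹ (inv_mem hp), inv_inv]
      exact (mul_inv_eq_iff_eq_mul.mp e).symm⟩
  -- N meets N_H(P) inside C
  have hNC : ∀ n ∈ NP, n ∈ N → n ∈ C := by
    intro n hn hnN
    obtain ⟨e, he, p, hp, rfl⟩ := hNEP n hnN
    have hen : e ∈ normalizer (P : Set G) := by
      have := Subgroup.mul_mem _ hn.2 (Subgroup.inv_mem _ (le_normalizer hp : p ∈ normalizer (P : Set G)))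
      rwa [mul_inv_cancel_right] at this
    refine mul_mem ⟨hEH he, mem_centralizer_iff.mpr fun q hq => ?_⟩
      ⟨hPH hp, mem_centralizer_iff.mpr fun q hq => ?_⟩
    · have h1 : e * q * e⁻¹ * q⁻¹ ∈ E := by
        rw [show e * q * e⁻¹ * q⁻¹ = e * (q * e⁻¹ * q⁻¹) by group]
        exact mul_mem he ((mem_normalizer_iff.mp (hnE (hPH hq)) _).mp (inv_mem he))
      have h2 : e * q * e⁻¹ * q⁻¹ ∈ P := mul_mem ((mem_normalizer_iff.mp hen q).mp hq) (inv_mem hq)
      have h3 := Subgroup.inf_eq_bot_of_coprime (H := E) (K := P) (by rw [hE, hP]; norm_num)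
      have h4 : e * q * e⁻¹ * q⁻¹ = 1 := by
        rw [← mem_bot, ← h3]; exact ⟨h1, h2⟩
      rw [mul_inv_eq_one, mul_inv_eq_iff_eq_mul] at h4
      exact h4.symm
    · obtain ⟨hcy⟩ : Nonempty (IsCyclic P) := ⟨isCyclic_of_prime_card (p := 3) (hp := ⟨by norm_num⟩) hP⟩
      haveI := hcy
      exact congrArg Subtype.val (mul_comm' (⟨q, hq⟩ : P) ⟨p, hp⟩)
  -- the image of C
  let U : Subgroup (MulAut ↥Spor.M22) := (C.subgroupOf H).map φ₀
  have hUmem : ∀ a : H, (a : G) ∈ NP → φ₀ a ∈ U → (a : G) ∈ C := by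
    rintro a ha ⟨c, hc, hca⟩
    have h1 : ((c⁻¹ * a : H) : G) ∈ N := (hφker _).mp (by rw [map_mul, map_inv, hca, inv_mul_cancel])
    have h2 : ((c⁻¹ * a : H) : G) ∈ C := hNC _ (mul_mem (inv_mem (hCNP hc)) ha) h1
    have := mul_mem (show (c : G) ∈ C from hc) h2
    simpa using this
  have hEker : ∀ e : H, (e : G) ∈ E → φ₀ e = 1 := fun e he => (hφker e).mpr (hEN he)
  have hφNP : ∀ a : MulAut ↥Spor.M22, ∃ n : H, (n : G) ∈ NP ∧ φ₀ n = a := by
    intro a
    obtain ⟨h, rfl⟩ := hφsurj a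
    obtain ⟨e, he, n, hn, e'⟩ := hfrat h h.2
    refine ⟨⟨n, hn.1⟩, hn, ?_⟩
    have : h = ⟨e, hEH he⟩ * ⟨n, hn.1⟩ := Subtype.ext e'
    rw [this, map_mul, hEker ⟨e, hEH he⟩ he, one_mul]
  have hUi : U.index = 2 := by
    refine Subgroup.index_eq_two_iff.mpr ⟨φ₀ ⟨w, hw.1⟩, fun b => ?_⟩
    obtain ⟨n, hn, rfl⟩ := hφNP b
    by_cases hnC : (n : G) ∈ C
    · exact Or.inr ⟨⟨n, hnC, rfl⟩, fun h => hwC (by
        have h' := hUmem (n * ⟨w, hw.1⟩) (mul_mem hn hw) (by rw [map_mul]; exact h)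
        have := mul_mem (inv_mem hnC) h'
        simpa using this)⟩
    · exact Or.inl ⟨⟨n * ⟨w, hw.1⟩, hmul n hn hnC w hw hwC, map_mul _ _ _⟩, fun h => hnC (hUmem n hn h)⟩
  have hUI : U = (MulAut.conj (G := ↥Spor.M22)).range :=
    (eq_of_le_of_card_ge (perfect_le_of_index_two hperf hUi) (le_of_eq (by
      have h1 := Subgroup.card_mul_index U
      have h2 := Subgroup.card_mul_index (MulAut.conj (G := ↥Spor.M22)).range
      rw [hUi] at h1; rw [hout] at h2
      omega))).symm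
  let Inn0 := (MulAut.conj (G := ↥Spor.M22)).range
  let H0' : Subgroup H := Inn0.comap φ₀
  let e0 : ↥Spor.M22 ≃* Inn0 := MonoidHom.ofInjective hinj
  let ψ' : H0' →* MTwoTwo := e0.symm.toMonoidHom.comp ((φ₀.comp H0'.subtype).codRestrict Inn0 fun h => h.2)
  let e1 : H0' ≃* ↥(H0'.map H.subtype) := H0'.equivMapOfInjective H.subtype H.subtype_injective
  have hCH0 : ∀ c : H, (c : G) ∈ C → c ∈ H0' := fun c hc => by
    show φ₀ c ∈ (MulAut.conj (G := ↥Spor.M22)).range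
    rw [← hUI]; exact ⟨c, hc, rfl⟩
  refine ⟨{
    oz := oz
    zE := hzEC.1
    zP := fun p hp => mem_centralizer_iff.mp hzEC.2 p hp
    hP := hP
    hE := hE
    extE := ?_
    fpf := hfpf
    cent := fun h hh hc => hcent ⟨hh, mem_centralizer_iff.mpr fun e he => hc e he⟩
    Ez := hEH
    normE := hnE
    N := N
    EN := hEN
    PN := hPN
    hN := by rw [hN, hE]
    H0 := H0'.map H.subtype
    H0le := map_subtype_le _
    H0two := ?_
    NH0 := ?_
    C_H0 := fun c hc => ⟨⟨c, hc.1⟩, hCH0 _ hc, rfl⟩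
    ψ := ψ'.comp e1.symm.toMonoidHom
    ψker := ?_
    ψC := ?_
    decomp := ?_
    outer := ?_
    Pcomm := hcomm }⟩
  · obtain ⟨w', hw'⟩ := CfsgLib.ExtraTwo.ofExtraspecial hext
    refine ⟨hzEC.1, ?_⟩
    have hzc : (⟨z, hzEC.1⟩ : E) ∈ center E := Subgroup.mem_center_iff.mpr fun g =>
      Subtype.ext (hzH g (hEH g.2))
    rcases (hw'.center_iff _).mp hzc with e | e
    · exfalso
      have : z = 1 := congrArg Subtype.val e
      rw [this, orderOf_one] at oz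
      norm_num at oz
    · exact e ▸ hw'
  · intro h hh hn k hk hk'
    refine ⟨⟨h, hh⟩ * ⟨k, hk⟩, ?_, rfl⟩
    show φ₀ _ ∈ Inn0
    rw [map_mul, Subgroup.mul_mem_iff_of_index_two hout]
    have a1 : φ₀ ⟨h, hh⟩ ∉ Inn0 := fun x => hn ⟨_, x, rfl⟩
    have a2 : φ₀ ⟨k, hk⟩ ∉ Inn0 := fun x => hk' ⟨_, x, rfl⟩
    exact iff_of_false a1 a2
  · exact fun n hn => ⟨⟨n, hNH hn⟩, (show φ₀ _ ∈ Inn0 by rw [(hφker _).mpr hn]; exact one_mem _), rfl⟩
  · intro h
    obtain ⟨h', rfl⟩ := e1.surjective h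
    show ψ' (e1.symm (e1 h')) = 1 ↔ _
    rw [MulEquiv.symm_apply_apply]
    show e0.symm _ = 1 ↔ _
    rw [EmbeddingLike.map_eq_one_iff, Subtype.ext_iff]
    exact hφker h'
  · intro m
    have hm : (MulAut.conj m) ∈ U := hUI ▸ ⟨m, rfl⟩
    obtain ⟨c, hc, hcm⟩ := hm
    refine ⟨e1 ⟨c, hCH0 c hc⟩, hc.2, ?_⟩
    show ψ' (e1.symm (e1 _)) = m
    rw [MulEquiv.symm_apply_apply]
    show e0.symm _ = m
    rw [MulEquiv.symm_apply_eq]
    exact Subtype.ext hcm
  · rintro _ ⟨h, hh, rfl⟩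
    obtain ⟨e, he, n, hn, e'⟩ := hfrat h h.2
    refine ⟨e, he, n, ?_, e'⟩
    have hh' : h = ⟨e, hEH he⟩ * ⟨n, hn.1⟩ := Subtype.ext e'
    have : φ₀ ⟨n, hn.1⟩ ∈ U := by
      rw [hUI]
      have hh2 : φ₀ h ∈ Inn0 := hh
      rwa [hh', map_mul, hEker ⟨e, hEH he⟩ he, one_mul] at hh2
    exact hUmem ⟨n, hn.1⟩ hn this
  · intro h hh hout'
    obtain ⟨e, he, n, hn, e'⟩ := hfrat h hh
    refine ⟨e, he, n, hn.1, e', hinv n hn fun hc => hout' ⟨⟨h, hh⟩, ?_, rfl⟩⟩
    show φ₀ _ ∈ Inn0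
    rw [show (⟨h, hh⟩ : H) = ⟨e, hEH he⟩ * ⟨n, hn.1⟩ from Subtype.ext e', map_mul, hEker ⟨e, hEH he⟩ he, one_mul]
    exact hCH0 _ hc

end CfsgLib.JankoFour
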