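/-
An element of order five conjugate to its square has no faithful action commuting with a fixed-point-free element of
order three on an elementary abelian group of order at most 64.
-/
import Mathlib

set_option autoImplicit false

namespace CfsgLib.JankoFour

variable {M : Type*} [CommGroup M]

theorem multZModTwo_cases : ∀ x : Multiplicative (ZMod 2), x = 1 ∨ x = Multiplicative.ofAdd 1 := by decide

/-- The homomorphism from the group of order two to an element of square one. -/
def twoHom (h2 : ∀ m : M, m * m = 1) (m : M) : Multiplicative (ZMod 2) →* M where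
  toFun a := if a = 1 then 1 else m
  map_one' := if_pos rfl
  map_mul' := by
    have h : ∀ a : Multiplicative (ZMod 2), a = 1 ∨ a = Multiplicative.ofAdd 1 := by decide
    intro a b
    rcases h a with rfl | rfl <;> rcases h b with rfl | rfl
    · simp
    · simp
    · simp
    · rw [show (Multiplicative.ofAdd (1 : ZMod 2) * Multiplicative.ofAdd 1) = 1 from by decide, if_pos rfl,
        if_neg (by decide), h2]

theorem twoHom_one (h2 : ∀ m : M, m * m = 1) (m : M) : twoHom h2 m 1 = 1 := map_one _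

theorem twoHom_gen (h2 : ∀ m : M, m * m = 1) (m : M) : twoHom h2 m (Multiplicative.ofAdd 1) = m := by
  show (if Multiplicative.ofAdd (1 : ZMod 2) = 1 then (1 : M) else m) = m
  rw [if_neg (by decide)]

theorem map_twoHom (h2 : ∀ m : M, m * m = 1) (e : MulAut M) (m : M) (a : Multiplicative (ZMod 2)) :
    e (twoHom h2 m a) = twoHom h2 (e m) a := by
  show e (if a = 1 then 1 else m) = if a = 1 then 1 else e m
  split_ifs <;> simp

theorem five_trivial [Finite M] (h2 : ∀ m : M, m * m = 1) (hM : Nat.card M ≤ 64) (p g f : MulAut M)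
    (hpf : ∀ m, p m = m → m = 1) (hpg : p * g = g * p) (hpf' : p * f = f * p) (hg : g ^ 5 = 1) (hf : f ^ 8 = 1)
    (hfg : f * g * f⁻¹ = g ^ 2) : g = 1 := by
  classical
  haveI : Fact (Nat.Prime 5) := ⟨by norm_num⟩
  haveI : Fact (Nat.Prime 2) := ⟨by norm_num⟩
  by_contra hg1
  have g5 : ∀ m, g (g (g (g (g m)))) = m := fun m => by
    have := DFunLike.congr_fun hg m
    simpa [pow_succ, MulAut.mul_apply] using this
  have fg : ∀ m, f (g m) = g (g (f m)) := fun m => by
    have := DFunLike.congr_fun (mul_inv_eq_iff_eq_mul.mp hfg) m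
    simpa [sq, MulAut.mul_apply] using this
  have pg : ∀ m, p (g m) = g (p m) := fun m => DFunLike.congr_fun hpg m
  have pf : ∀ m, p (f m) = f (p m) := fun m => DFunLike.congr_fun hpf' m
  let N : M →* M :=
    { toFun := fun m => m * g m * g (g m) * g (g (g m)) * g (g (g (g m)))
      map_one' := by simp
      map_mul' := fun a b => by simp only [map_mul]; ac_rfl }
  have Ng : ∀ m, N (g m) = N m := fun m => by
    show g m * g (g m) * g (g (g m)) * g (g (g (g m))) * g (g (g (g (g m)))) = _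
    rw [g5]
    show _ = m * g m * g (g m) * g (g (g m)) * g (g (g (g m)))
    ac_rfl
  set K : Subgroup M := N.ker
  have hKg : ∀ m ∈ K, g m ∈ K := fun m hm => by rw [MonoidHom.mem_ker, Ng]; exact hm
  have hKp : ∀ m ∈ K, p m ∈ K := fun m hm => by
    rw [MonoidHom.mem_ker]
    have h : N (p m) = p (N m) := by
      show p m * g (p m) * g (g (p m)) * g (g (g (p m))) * g (g (g (g (p m)))) = _
      show _ = p (m * g m * g (g m) * g (g (g m)) * g (g (g (g m))))
      simp only [map_mul, pg]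
    rw [h, MonoidHom.mem_ker.mp hm, map_one]
  have hKf : ∀ m ∈ K, f m ∈ K := fun m hm => by
    rw [MonoidHom.mem_ker]
    have h : N (f m) = f (N m) := by
      show f m * g (f m) * g (g (f m)) * g (g (g (f m))) * g (g (g (g (f m)))) = _
      show _ = f (m * g m * g (g m) * g (g (g m)) * g (g (g (g m))))
      have e6 : ∀ x, g (g (g (g (g (g x))))) = g x := fun x => g5 (g x)
      have e8 : ∀ x, g (g (g (g (g (g (g (g x))))))) = g (g (g x)) := fun x => g5 (g (g (g x)))
      simp only [map_mul, fg, e6, e8]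
      ac_rfl
    rw [h, MonoidHom.mem_ker.mp hm, map_one]
  have hfix : ∀ m ∈ K, g m = m → m = 1 := fun m hm h => by
    have hm' : m * g m * g (g m) * g (g (g m)) * g (g (g (g m))) = 1 := MonoidHom.mem_ker.mp hm
    simp only [h] at hm'
    calc m = (m * m) * (m * m) * m := by simp [h2]
      _ = 1 := by rw [← hm']; ac_rfl
  have hIsP : ∀ L : Subgroup M, IsPGroup 2 L := fun L x => ⟨1, Subtype.ext (by
    rw [pow_one, Subgroup.coe_pow, sq]; exact h2 _)⟩
  -- g-invariant subgroups of K
  have inv5 : ∀ L : Subgroup M, L ≤ K → (∀ m ∈ L, g m ∈ L) → Nat.card L ≡ 1 [MOD 5] := by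
    intro L hLK hL
    let q : Equiv.Perm L :=
      { toFun := fun m => ⟨g m, hL m m.2⟩
        invFun := fun m => ⟨g (g (g (g m))), hL _ (hL _ (hL _ (hL _ m.2)))⟩
        left_inv := fun m => Subtype.ext (g5 m)
        right_inv := fun m => Subtype.ext (g5 m) }
    have hq : q ^ (5 ^ 1) = 1 := by
      rw [pow_one]
      simp only [pow_succ, pow_zero, one_mul]
      exact Equiv.ext fun m => Subtype.ext (g5 m)
    have hpgp : IsPGroup 5 (Subgroup.zpowers q) := fun x => ⟨1, Subtype.ext (by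
      obtain ⟨k, hk⟩ := Subgroup.mem_zpowers_iff.mp x.2
      rw [Subgroup.coe_pow, ← hk, ← zpow_natCast, ← zpow_mul, mul_comm, zpow_mul, zpow_natCast, hq, one_zpow,
        Subgroup.coe_one])⟩
    have h := hpgp.card_modEq_card_fixedPoints L
    have hone : Nat.card (MulAction.fixedPoints (Subgroup.zpowers q) L) = 1 := by
      rw [Nat.card_eq_one_iff_unique]
      refine ⟨⟨fun a b => ?_⟩, ⟨⟨1, fun x => ?_⟩⟩⟩
      · have key : ∀ a : L, a ∈ MulAction.fixedPoints (Subgroup.zpowers q) L → a = 1 := fun a ha =>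
          Subtype.ext (hfix a (hLK a.2) (congrArg Subtype.val (ha ⟨q, Subgroup.mem_zpowers q⟩)))
        exact Subtype.ext ((key _ a.2).trans (key _ b.2).symm)
      · have hle : Subgroup.zpowers q ≤ MulAction.stabilizer (Equiv.Perm L) (1 : L) := by
          rw [Subgroup.zpowers_le]
          exact Subtype.ext (map_one g)
        exact hle x.2
    rwa [hone] at h
  -- size
  have hcard : ∀ L : Subgroup M, L ≤ K → (∀ m ∈ L, g m ∈ L) → L ≠ ⊥ → Nat.card L = 16 := by
    intro L hLK hL hne
    obtain ⟨j, hj⟩ := (IsPGroup.iff_card).mp (hIsP L)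
    have h5 := inv5 L hLK hL
    have hle : Nat.card L ≤ 64 := (Subgroup.card_le_card_group L).trans hM
    have h1 : Nat.card L ≠ 1 := fun h => hne (Subgroup.card_eq_one.mp h)
    rw [hj] at h5 hle h1 ⊢
    have : j ≤ 6 := (Nat.pow_le_pow_iff_right (by norm_num)).mp (show 2 ^ j ≤ 2 ^ 6 by simpa using hle)
    unfold Nat.ModEq at h5; clear hle hj hL hLK hne; interval_cases j <;> first | rfl | exact absurd (pow_zero 2) h1 | (exfalso; norm_num at h5) | (exfalso; norm_num at h1)
  have hK1 : K ≠ ⊥ := by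
    intro hK
    refine hg1 (MulEquiv.ext fun m => ?_)
    have : m * g m ∈ K := by
      rw [MonoidHom.mem_ker, map_mul, Ng]; exact h2 _
    rw [hK, Subgroup.mem_bot] at this
    show g m = m
    rw [eq_inv_of_mul_eq_one_right this, inv_eq_of_mul_eq_one_right (h2 m)]
  have hK16 := hcard K le_rfl hKg hK1
  -- an element fixed by f
  obtain ⟨v, hvK, hv1, hfv⟩ : ∃ v ∈ K, v ≠ 1 ∧ f v = v := by
    have f8 : ∀ m, f (f (f (f (f (f (f (f m))))))) = m := fun m => by
      have := DFunLike.congr_fun hf m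
      simpa [pow_succ, MulAut.mul_apply] using this
    let q : Equiv.Perm K :=
      { toFun := fun m => ⟨f m, hKf m m.2⟩
        invFun := fun m => ⟨f (f (f (f (f (f (f m)))))), hKf _ (hKf _ (hKf _ (hKf _ (hKf _ (hKf _ (hKf _ m.2))))))⟩
        left_inv := fun m => Subtype.ext (f8 m)
        right_inv := fun m => Subtype.ext (f8 m) }
    have hq : q ^ (2 ^ 3) = 1 := by
      rw [show (2 : ℕ) ^ 3 = 8 by norm_num]
      simp only [pow_succ, pow_zero, one_mul]
      exact Equiv.ext fun m => Subtype.ext (f8 m)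
    have hpgp : IsPGroup 2 (Subgroup.zpowers q) := fun x => ⟨3, Subtype.ext (by
      obtain ⟨k, hk⟩ := Subgroup.mem_zpowers_iff.mp x.2
      rw [Subgroup.coe_pow, ← hk, ← zpow_natCast, ← zpow_mul, mul_comm, zpow_mul, zpow_natCast, hq, one_zpow,
        Subgroup.coe_one])⟩
    have h1 : (1 : K) ∈ MulAction.fixedPoints (Subgroup.zpowers q) K := fun x => by
      have hle : Subgroup.zpowers q ≤ MulAction.stabilizer (Equiv.Perm K) (1 : K) := by
        rw [Subgroup.zpowers_le]
        exact Subtype.ext (map_one f)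
      exact hle x.2
    obtain ⟨b, hb, hb1⟩ := hpgp.exists_fixed_point_of_prime_dvd_card_of_fixed_point K
      (show 2 ∣ Nat.card K by rw [hK16]; norm_num) h1
    exact ⟨b, b.2, fun h => hb1 (Subtype.ext h.symm), congrArg Subtype.val (hb ⟨q, Subgroup.mem_zpowers q⟩)⟩
  set v1 := g v with hv1d
  set v2 := g v1 with hv2d
  set v3 := g v2 with hv3d
  set v4 := g v3 with hv4d
  have hv5 : g v4 = v := by simp only [hv4d, hv3d, hv2d, hv1d, g5]
  have hsum : v = v1 * v2 * v3 * v4 := by
    have h : v * v1 * v2 * v3 * v4 = 1 := MonoidHom.mem_ker.mp hvK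
    rw [mul_assoc, mul_assoc, mul_assoc] at h
    rw [eq_inv_of_mul_eq_one_left h, inv_eq_of_mul_eq_one_right (h2 _)]
    ac_rfl
  let Φ := ((twoHom h2 v1).coprod (twoHom h2 v2)).coprod ((twoHom h2 v3).coprod (twoHom h2 v4))
  have hΦ : ∀ a b c d, Φ ((a, b), (c, d)) = twoHom h2 v1 a * twoHom h2 v2 b * (twoHom h2 v3 c * twoHom h2 v4 d) :=
    fun a b c d => rfl
  have h1K : v1 ∈ K := hKg _ hvK
  have h2K : v2 ∈ K := hKg _ h1K
  have h3K : v3 ∈ K := hKg _ h2K
  have h4K : v4 ∈ K := hKg _ h3K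
  have hth : ∀ (w : M), w ∈ K → ∀ a, twoHom h2 w a ∈ K := fun w hw a => by
    show (if a = 1 then 1 else w) ∈ K
    split_ifs
    exacts [one_mem _, hw]
  have hΦK : Φ.range ≤ K := by
    rintro _ ⟨⟨⟨a, b⟩, c, d⟩, rfl⟩
    rw [hΦ]
    exact mul_mem (mul_mem (hth _ h1K a) (hth _ h2K b)) (mul_mem (hth _ h3K c) (hth _ h4K d))
  have hgen : ∀ i, i ∈ ({v1, v2, v3, v4} : Set M) → i ∈ Φ.range := by
    intro i hi
    rcases hi with rfl | rfl | rfl | rfl
    · exact ⟨((Multiplicative.ofAdd 1, 1), (1, 1)), by simp [hΦ, twoHom_gen, twoHom_one]⟩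
    · exact ⟨((1, Multiplicative.ofAdd 1), (1, 1)), by simp [hΦ, twoHom_gen, twoHom_one]⟩
    · exact ⟨((1, 1), (Multiplicative.ofAdd 1, 1)), by simp [hΦ, twoHom_gen, twoHom_one]⟩
    · exact ⟨((1, 1), (1, Multiplicative.ofAdd 1)), by simp [hΦ, twoHom_gen, twoHom_one]⟩
  have hrv : v ∈ Φ.range := by
    rw [hsum]
    exact mul_mem (mul_mem (mul_mem (hgen _ (by simp)) (hgen _ (by simp))) (hgen _ (by simp))) (hgen _ (by simp))
  have hrg : ∀ m ∈ Φ.range, g m ∈ Φ.range := by
    rintro _ ⟨⟨⟨a, b⟩, c, d⟩, rfl⟩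
    have hm : ∀ (w : M), g w ∈ Φ.range → ∀ a, g (twoHom h2 w a) ∈ Φ.range := fun w hw a => by
      rw [map_twoHom]
      show (if a = 1 then 1 else g w) ∈ Φ.range
      split_ifs
      exacts [one_mem _, hw]
    rw [hΦ, map_mul, map_mul, map_mul]
    exact mul_mem (mul_mem (hm _ (hgen _ (by simp [← hv2d])) a) (hm _ (hgen _ (by simp [← hv3d])) b))
      (mul_mem (hm _ (hgen _ (by simp [← hv4d])) c) (hm _ (hv5 ▸ hrv) d))
  have hr16 : Nat.card Φ.range = 16 := hcard _ hΦK hrg fun h => hv1 (by rw [h, Subgroup.mem_bot] at hrv; exact hrv)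
  have hinj : Function.Injective Φ := by
    have hb : Function.Bijective Φ.rangeRestrict :=
      (Nat.bijective_iff_surjective_and_card _).mpr ⟨Φ.rangeRestrict_surjective, by
        rw [hr16, Nat.card_prod, Nat.card_prod]; simp⟩
    exact MonoidHom.rangeRestrict_injective_iff.mp hb.1
  have hrK : Φ.range = K := Subgroup.eq_of_le_of_card_ge hΦK (by rw [hr16, hK16])
  obtain ⟨⟨⟨a, b⟩, c, d⟩, habcd⟩ : p v ∈ Φ.range := hrK ▸ hKp v hvK
  have hf1 : f v1 = v2 := by rw [hv1d, fg, hfv]
  have hf2 : f v2 = v4 := by rw [hv2d, fg, hf1]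
  have hf3 : f v3 = v1 := by
    rw [hv3d, fg, hf2, hv5]
  have hf4 : f v4 = v3 := by rw [hv4d, fg, hf3]
  have hfix' : Φ ((c, a), (d, b)) = Φ ((a, b), (c, d)) := by
    have : f (Φ ((a, b), (c, d))) = Φ ((a, b), (c, d)) := by rw [habcd, ← pf, hfv]
    conv_rhs => rw [← this]
    rw [hΦ, hΦ, map_mul, map_mul, map_mul, map_twoHom, map_twoHom, map_twoHom, map_twoHom, hf1, hf2, hf3, hf4]
    ac_rfl
  have heq := hinj hfix'
  simp only [Prod.mk.injEq] at heq
  obtain ⟨⟨hca, hab⟩, hdc, hbd⟩ := heq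
  rw [← hab, hdc, hca] at habcd
  rcases multZModTwo_cases a with rfl | rfl
  · rw [hΦ] at habcd
    simp only [twoHom_one, one_mul] at habcd
    exact hv1 (hpf v (by
      have h := habcd
      have : v = 1 := p.injective (by rw [← h, map_one])
      rw [this, map_one]))
  · rw [hΦ] at habcd
    simp only [twoHom_gen] at habcd
    refine hv1 (hpf v ?_)
    rw [← habcd]
    conv_rhs => rw [hsum]
    ac_rfl

end CfsgLib.JankoFour
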