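/-
Fixed subgroups modulo the centre in the extraspecial group of a group of Janko-four type.
-/
import Cfsg.Agent.Lib.JankoFour.Ctx
import Cfsg.Agent.Lib.JankoFour.Five
import Cfsg.Agent.Lib.Elementary

set_option autoImplicit false

namespace CfsgLib.JankoFour

open Cfsg Subgroup

universe u

variable {G : Type u} [Group G] {z : G} {P E : Subgroup G}

namespace Ctx

theorem zz (c : Ctx z P E) : z * z = 1 := by
  rw [← sq, ← c.oz]; exact pow_orderOf_eq_one z

theorem mem_Z (c : Ctx z P E) {t : G} : t ∈ zpowers z ↔ t = 1 ∨ t = z := by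
  constructor
  · intro ht
    obtain ⟨i, rfl⟩ := mem_zpowers_iff.mp ht
    rcases Int.emod_two_eq_zero_or_one i with h | h
    · exact Or.inl (by rw [zpow_eq_zpow_emod' i (show z ^ 2 = 1 by rw [sq]; exact c.zz)]; simp [h])
    · exact Or.inr (by rw [zpow_eq_zpow_emod' i (show z ^ 2 = 1 by rw [sq]; exact c.zz)]; simp [h])
  · rintro (rfl | rfl)
    exacts [one_mem _, mem_zpowers _]

theorem z_ne_one (c : Ctx z P E) : z ≠ 1 := fun h => by
  have := c.oz; rw [h, orderOf_one] at this; norm_num at this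

theorem Z_sq (c : Ctx z P E) {t : G} (ht : t ∈ zpowers z) : t * t = 1 := by
  rcases c.mem_Z.mp ht with rfl | rfl
  · exact one_mul 1
  · exact c.zz

theorem Z_comm (c : Ctx z P E) {h t : G} (hh : h ∈ centralizer ({z} : Set G)) (ht : t ∈ zpowers z) :
    h * t = t * h := by
  rcases c.mem_Z.mp ht with rfl | rfl
  · simp
  · exact mem_centralizer_singleton_iff.mp hh

theorem Z_le (c : Ctx z P E) : zpowers z ≤ E := zpowers_le.mpr c.zE

theorem P_le (c : Ctx z P E) : P ≤ centralizer ({z} : Set G) := fun p hp =>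
  mem_centralizer_singleton_iff.mpr (c.zP p hp)

theorem P_cube (c : Ctx z P E) {p : G} (hp : p ∈ P) : p * p * p = 1 := by
  haveI : Finite P := Nat.finite_of_card_ne_zero (by rw [c.hP]; norm_num)
  have h := pow_card_eq_one' (x := (⟨p, hp⟩ : P))
  rw [c.hP] at h
  have := congrArg Subtype.val h
  simpa [pow_succ] using this

theorem conj_E (c : Ctx z P E) {h e : G} (hh : h ∈ centralizer ({z} : Set G)) (he : e ∈ E) : h * e * h⁻¹ ∈ E :=
  (mem_normalizer_iff.mp (c.normE hh) e).mp he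

/-- The elements of E fixed modulo the centre by a set. -/
def fixGrp (c : Ctx z P E) (S : Set G) (hS : S ⊆ centralizer ({z} : Set G)) : Subgroup G where
  carrier := {e | e ∈ E ∧ ∀ x ∈ S, x * e * x⁻¹ * e⁻¹ ∈ zpowers z}
  one_mem' := ⟨one_mem _, fun x _ => by simp⟩
  mul_mem' := by
    rintro a b ⟨ha, ha'⟩ ⟨hb, hb'⟩
    refine ⟨mul_mem ha hb, fun x hx => ?_⟩
    have h : a * (x * b * x⁻¹ * b⁻¹) * a⁻¹ = x * b * x⁻¹ * b⁻¹ := by
      rw [c.Z_comm (c.Ez ha) (hb' x hx), mul_inv_cancel_right]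
    rw [show x * (a * b) * x⁻¹ * (a * b)⁻¹ = x * a * x⁻¹ * a⁻¹ * (a * (x * b * x⁻¹ * b⁻¹) * a⁻¹) by group, h]
    exact mul_mem (ha' x hx) (hb' x hx)
  inv_mem' := by
    rintro a ⟨ha, ha'⟩
    refine ⟨inv_mem ha, fun x hx => ?_⟩
    have h : a⁻¹ * (x * a * x⁻¹ * a⁻¹)⁻¹ * a = (x * a * x⁻¹ * a⁻¹)⁻¹ := by
      rw [c.Z_comm (c.Ez (inv_mem ha)) (inv_mem (ha' x hx)), inv_mul_cancel_right]
    rw [show x * a⁻¹ * x⁻¹ * a⁻¹⁻¹ = a⁻¹ * (x * a * x⁻¹ * a⁻¹)⁻¹ * a by group, h]
    exact inv_mem (ha' x hx)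

theorem mem_fixGrp (c : Ctx z P E) {S : Set G} {hS : S ⊆ centralizer ({z} : Set G)} {e : G} :
    e ∈ c.fixGrp S hS ↔ e ∈ E ∧ ∀ x ∈ S, x * e * x⁻¹ * e⁻¹ ∈ zpowers z := Iff.rfl

theorem fixGrp_le (c : Ctx z P E) (S : Set G) (hS : S ⊆ centralizer ({z} : Set G)) : c.fixGrp S hS ≤ E :=
  fun _ h => h.1

theorem Z_le_fixGrp (c : Ctx z P E) (S : Set G) (hS : S ⊆ centralizer ({z} : Set G)) :
    zpowers z ≤ c.fixGrp S hS := fun t ht => ⟨c.Z_le ht, fun x hx => by
      rw [c.Z_comm (hS hx) ht, mul_inv_cancel_right, mul_inv_cancel]; exact one_mem _⟩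

theorem fixed_conj (c : Ctx z P E) {g e : G} (hg : g ∈ centralizer ({z} : Set G)) {S : Set G}
    {hS : S ⊆ centralizer ({z} : Set G)} (hn : ∀ x ∈ S, g⁻¹ * x * g ∈ S)
    (he : e ∈ c.fixGrp S hS) : g * e * g⁻¹ ∈ c.fixGrp S hS := by
  refine ⟨c.conj_E hg he.1, fun x hx => ?_⟩
  have := he.2 _ (hn x hx)
  rw [show x * (g * e * g⁻¹) * x⁻¹ * (g * e * g⁻¹)⁻¹ =
    g * ((g⁻¹ * x * g) * e * (g⁻¹ * x * g)⁻¹ * e⁻¹) * g⁻¹ by group, c.Z_comm hg this, mul_inv_cancel_right]
  exact this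

/-- A generator of P. -/
theorem exists_gen (c : Ctx z P E) : ∃ p ∈ P, p ≠ 1 ∧ P = zpowers p := by
  haveI : Finite P := Nat.finite_of_card_ne_zero (by rw [c.hP]; norm_num)
  obtain ⟨p, hp⟩ : ∃ p : P, p ≠ 1 := by
    haveI : Nontrivial P := Finite.one_lt_card_iff_nontrivial.mp (by rw [c.hP]; norm_num)
    exact exists_ne 1
  refine ⟨p, p.2, fun h => hp (Subtype.ext h), (eq_of_le_of_card_ge (zpowers_le.mpr p.2) ?_).symm⟩
  rw [Nat.card_zpowers, c.hP, orderOf_eq_prime (p := 3) (hp := ⟨by norm_num⟩) (by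
    rw [pow_succ, sq]; exact c.P_cube p.2) (fun h => hp (Subtype.ext h))]

theorem comm_gen (c : Ctx z P E) {p h : G} (hgen : P = zpowers p) (hc : h * p = p * h) :
    h ∈ centralizer (P : Set G) := by
  rw [mem_centralizer_iff]
  intro q hq
  rw [hgen, SetLike.mem_coe, mem_zpowers_iff] at hq
  obtain ⟨i, rfl⟩ := hq
  exact ((show Commute p h from hc.symm).zpow_left i).eq

/-- An element fixed by P modulo the centre is central. -/
theorem fixed_mem_Z (c : Ctx z P E) {p e : G} (hp : p ∈ P) (hgen : P = zpowers p) (he : e ∈ E)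
    (h : p * e * p⁻¹ * e⁻¹ ∈ zpowers z) : e ∈ zpowers z := by
  set t := p * e * p⁻¹ * e⁻¹ with ht
  have hpt : p * t = t * p := c.Z_comm (c.P_le hp) h
  have hpe : p * e = t * e * p := by rw [ht]; group
  have h3 : e = t * t * t * e := by
    calc e = (p * p * p) * e * (p * p * p)⁻¹ := by rw [c.P_cube hp]; group
      _ = p * (p * (p * e)) * (p * p * p)⁻¹ := by group
      _ = t * t * t * e * (p * p * p) * (p * p * p)⁻¹ := by
        rw [hpe, show p * (p * (t * e * p)) = p * (p * t) * (e * p) by group, hpt,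
          show p * (t * p) * (e * p) = (p * t) * (p * e) * p by group, hpt, hpe,
          show t * p * (t * e * p) * p = t * (p * t) * (e * p * p) by group, hpt,
          show t * (t * p) * (e * p * p) = t * t * (p * e) * (p * p) by group, hpe]
        group
      _ = t * t * t * e := by group
  have ht1 : t = 1 := by
    have := right_eq_mul.mp h3
    rwa [c.Z_sq h, one_mul] at this
  rw [ht1, one_mul] at hpe
  refine c.fpf e he fun q hq => ?_
  exact mem_centralizer_iff.mp (c.comm_gen hgen hpe.symm) q hq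

variable [Finite G]

/-- Modulo the centre, every element of a P-invariant subgroup is a commutator with P. -/
theorem delta_surj (c : Ctx z P E) {W : Subgroup G} (hWE : W ≤ E) (hZW : zpowers z ≤ W) {p : G} (hp : p ∈ P)
    (hgen : P = zpowers p) (hW : ∀ e ∈ W, p * e * p⁻¹ ∈ W) :
    ∀ e ∈ W, ∃ a ∈ W, (a⁻¹ * (p * a * p⁻¹))⁻¹ * e ∈ zpowers z := by
  let Q := W ⧸ (zpowers z).subgroupOf W
  let F : Q → Q := Quotient.lift
    (fun a : W => (QuotientGroup.mk (⟨(a : G)⁻¹ * (p * a * p⁻¹), mul_mem (inv_mem a.2) (hW a a.2)⟩ : W) : Q))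
    fun a b (h : QuotientGroup.leftRel _ a b) => by
      have ht : (a : G)⁻¹ * b ∈ zpowers z := (QuotientGroup.leftRel_apply.mp h :)
      set t := (a : G)⁻¹ * b
      have hb : (b : G) = a * t := by simp [t]
      refine congrArg QuotientGroup.mk (Subtype.ext ?_)
      show (a : G)⁻¹ * (p * a * p⁻¹) = (b : G)⁻¹ * (p * b * p⁻¹)
      have h1 : t * p⁻¹ = p⁻¹ * t := (c.Z_comm (inv_mem (c.P_le hp)) ht).symm
      have h2 : (a : G)⁻¹ * (p * a * p⁻¹) * t = t * ((a : G)⁻¹ * (p * a * p⁻¹)) :=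
        c.Z_comm (mul_mem (inv_mem (c.Ez (hWE a.2))) (c.Ez (hWE (hW a a.2)))) ht
      rw [hb, show ((a : G) * t)⁻¹ * (p * ((a : G) * t) * p⁻¹) =
        t⁻¹ * ((a : G)⁻¹ * (p * a * (t * p⁻¹))) by group, h1,
        show t⁻¹ * ((a : G)⁻¹ * (p * a * (p⁻¹ * t))) = t⁻¹ * (((a : G)⁻¹ * (p * a * p⁻¹)) * t) by group, h2,
        inv_mul_cancel_left]
  have hF : Function.Injective F := by
    rintro ⟨a⟩ ⟨b⟩ hab
    have h := (QuotientGroup.eq.mp hab : ((⟨(a : G)⁻¹ * (p * a * p⁻¹), _⟩ : W))⁻¹ * ⟨(b : G)⁻¹ * (p * b * p⁻¹), _⟩ ∈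
      (zpowers z).subgroupOf W)
    rw [mem_subgroupOf] at h
    simp only [Subgroup.coe_mul, Subgroup.coe_inv] at h
    set t := ((a : G)⁻¹ * (p * a * p⁻¹))⁻¹ * ((b : G)⁻¹ * (p * b * p⁻¹)) with htdef
    -- b a⁻¹ is fixed modulo the centre
    have hcomm : ∀ x : G, x ∈ E → x * t = t * x := fun x hx => c.Z_comm (c.Ez hx) h
    have hfix : (b : G) * (a : G)⁻¹ ∈ zpowers z := by
      refine c.fixed_mem_Z hp hgen (mul_mem (hWE b.2) (inv_mem (hWE a.2))) ?_
      have e1 : p * ((b : G) * (a : G)⁻¹) * p⁻¹ * ((b : G) * (a : G)⁻¹)⁻¹ =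
          (b : G) * (((a : G)⁻¹ * (p * a * p⁻¹)) * t * ((a : G)⁻¹ * (p * a * p⁻¹))⁻¹) * (b : G)⁻¹ := by
        rw [htdef]; group
      rw [e1, hcomm _ (mul_mem (inv_mem (hWE a.2)) (hWE (hW a a.2))), mul_inv_cancel_right, hcomm _ (hWE b.2),
        mul_inv_cancel_right]
      exact h
    apply QuotientGroup.eq.mpr
    rw [mem_subgroupOf]
    show (a : G)⁻¹ * b ∈ zpowers z
    have e2 : (a : G)⁻¹ * ((b : G) * (a : G)⁻¹) * a = (b : G) * (a : G)⁻¹ := by
      rw [c.Z_comm (inv_mem (c.Ez (hWE a.2))) hfix, inv_mul_cancel_right]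
    have e3 : (a : G)⁻¹ * b = (a : G)⁻¹ * ((b : G) * (a : G)⁻¹) * a := by group
    rw [e3, e2]; exact hfix
  intro e he
  obtain ⟨q, hq⟩ := Finite.injective_iff_surjective.mp hF (QuotientGroup.mk (⟨e, he⟩ : W))
  obtain ⟨a⟩ := q
  refine ⟨a, a.2, ?_⟩
  have h : ((⟨(a : G)⁻¹ * (p * a * p⁻¹), _⟩ : W))⁻¹ * ⟨e, he⟩ ∈ (zpowers z).subgroupOf W := QuotientGroup.eq.mp hq
  rw [mem_subgroupOf] at h
  exact h

/-- A P-invariant homomorphism killing the centre is trivial. -/
theorem hom_trivial (c : Ctx z P E) {W : Subgroup G} (hWE : W ≤ E) (hZW : zpowers z ≤ W) {p : G} (hp : p ∈ P)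
    (hgen : P = zpowers p) (hW : ∀ e ∈ W, p * e * p⁻¹ ∈ W) (h : G → G)
    (hmul : ∀ a ∈ W, ∀ b ∈ W, h (a * b) = h a * h b) (hinv : ∀ a ∈ W, h (p * a * p⁻¹) = h a) (hz : h z = 1) :
    ∀ e ∈ W, h e = 1 := by
  intro e he
  obtain ⟨a, ha, ht⟩ := c.delta_surj hWE hZW hp hgen hW e he
  set t := (a⁻¹ * (p * a * p⁻¹))⁻¹ * e
  have h1 : h 1 = 1 := by
    have := hmul 1 (one_mem _) 1 (one_mem _)
    rw [mul_one] at this
    exact left_eq_mul.mp this
  have hht : h t = 1 := by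
    rcases c.mem_Z.mp ht with e' | e' <;> rw [e'] <;> assumption
  have hha : h a⁻¹ * h a = 1 := by rw [← hmul _ (inv_mem ha) _ ha, inv_mul_cancel, h1]
  rw [show e = a⁻¹ * (p * a * p⁻¹) * t from (mul_inv_cancel_left _ _).symm,
    hmul _ (mul_mem (inv_mem ha) (hW a ha)) _ (hZW ht), hmul _ (inv_mem ha) _ (hW a ha), hinv a ha, hha, hht, one_mul]

/-- An element centralizing P which acts trivially modulo the centre centralizes. -/
theorem comm_of_trivial (c : Ctx z P E) {W : Subgroup G} (hWE : W ≤ E) (hZW : zpowers z ≤ W) {p : G} (hp : p ∈ P)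
    (hgen : P = zpowers p) (hW : ∀ e ∈ W, p * e * p⁻¹ ∈ W) {x : G} (hx : x ∈ centralizer ({z} : Set G))
    (hxp : x * p = p * x) (ht : ∀ e ∈ W, x * e * x⁻¹ * e⁻¹ ∈ zpowers z) : ∀ e ∈ W, x * e = e * x := by
  intro e he
  have := c.hom_trivial hWE hZW hp hgen hW (fun e => x * e * x⁻¹ * e⁻¹) (fun a ha b hb => ?_) (fun a ha => ?_)
    (by rw [c.Z_comm hx (mem_zpowers z), mul_inv_cancel_right, mul_inv_cancel]) e he
  · exact mul_inv_eq_iff_eq_mul.mp (mul_inv_eq_one.mp this)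
  · show x * (a * b) * x⁻¹ * (a * b)⁻¹ = _
    rw [show x * (a * b) * x⁻¹ * (a * b)⁻¹ = x * a * x⁻¹ * a⁻¹ * (a * (x * b * x⁻¹ * b⁻¹) * a⁻¹) by group,
      c.Z_comm (c.Ez (hWE ha)) (ht b hb), mul_inv_cancel_right]
  · show x * (p * a * p⁻¹) * x⁻¹ * (p * a * p⁻¹)⁻¹ = x * a * x⁻¹ * a⁻¹
    have hxp' : p⁻¹ * x = x * p⁻¹ := by
      rw [inv_mul_eq_iff_eq_mul, ← mul_assoc, ← hxp, mul_inv_cancel_right]
    calc x * (p * a * p⁻¹) * x⁻¹ * (p * a * p⁻¹)⁻¹ = (x * p) * a * (x * p)⁻¹ * (p * a * p⁻¹)⁻¹ * 1 := by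
          rw [mul_one, show (x * p)⁻¹ = p⁻¹ * x⁻¹ from mul_inv_rev x p]; group
      _ = p * (x * a * x⁻¹ * a⁻¹) * p⁻¹ := by rw [hxp]; group
      _ = x * a * x⁻¹ * a⁻¹ := by rw [c.Z_comm (c.P_le hp) (ht a ha), mul_inv_cancel_right]

/-- The duality between a subgroup of E and its centralizer. -/
theorem cent_card (c : Ctx z P E) {F : Subgroup G} (hFE : F ≤ E) (hzF : z ∈ F) :
    Nat.card F * Nat.card ↥(E ⊓ centralizer (F : Set G)) = 2 ^ 14 := by
  obtain ⟨hz, hext⟩ := c.extE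
  have h := hext.card_mul_card_centralizer (A := F.subgroupOf E) (mem_subgroupOf.mpr hzF)
  rw [Nat.card_congr (subgroupOfEquivOfLe hFE).toEquiv, c.hE] at h
  have e : (centralizer ((F.subgroupOf E : Subgroup E) : Set E)) = (E ⊓ centralizer (F : Set G)).subgroupOf E := by
    ext x
    simp only [mem_centralizer_iff, mem_subgroupOf, mem_inf, SetLike.coe_mem, true_and, SetLike.mem_coe]
    exact ⟨fun hx f hf => congrArg Subtype.val (hx ⟨f, hFE hf⟩ hf), fun hx f hf => Subtype.ext (hx f hf)⟩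
  rw [e, Nat.card_congr (subgroupOfEquivOfLe inf_le_left).toEquiv] at h
  rw [h]; norm_num

theorem abelian_le (c : Ctx z P E) {B : Subgroup G} (hBE : B ≤ E) (hzB : z ∈ B)
    (hab : ∀ a ∈ B, ∀ b ∈ B, a * b = b * a) : Nat.card B ≤ 2 ^ 7 := by
  have h := c.cent_card hBE hzB
  have hle : B ≤ E ⊓ centralizer (B : Set G) := fun b hb =>
    ⟨hBE hb, mem_centralizer_iff.mpr fun a ha => hab a ha b hb⟩
  have := Subgroup.card_le_of_le hle
  exact Nat.mul_self_le_mul_self_iff.mp ((Nat.mul_le_mul_left _ this).trans (le_of_eq (by rw [h]; norm_num)))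

theorem card_two_pow (c : Ctx z P E) {W : Subgroup G} (hWE : W ≤ E) : ∃ m ≤ 13, Nat.card W = 2 ^ m :=
  (Nat.dvd_prime_pow Nat.prime_two).mp (c.hE ▸ card_dvd_of_le hWE)

theorem card_Z (c : Ctx z P E) : Nat.card (zpowers z) = 2 := by rw [Nat.card_zpowers, c.oz]

/-- Orbits of a nonabelian group of order 27 outside the centre have length divisible by nine. -/
theorem card_mod_nine (c : Ctx z P E) {R : Subgroup G} (hR : R ≤ centralizer ({z} : Set G) ⊓ centralizer (P : Set G))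
    (hPR : P ≤ R) (hR27 : Nat.card R = 27) (hnab : ∃ a ∈ R, ∃ b ∈ R, a * b ≠ b * a)
    {W : Subgroup G} (hWE : W ≤ E) (hZW : zpowers z ≤ W) (hW : ∀ r ∈ R, ∀ e ∈ W, r * e * r⁻¹ ∈ W) :
    9 ∣ Nat.card W - 2 := by
  classical
  obtain ⟨p, hp, hp1, hgen⟩ := c.exists_gen
  haveI : Fact (Nat.Prime 3) := ⟨by norm_num⟩
  have hRp : IsPGroup 3 R := IsPGroup.of_card (n := 3) (by rw [hR27]; norm_num)
  have hcen : (center R).map R.subtype = P := by
    refine (eq_of_le_of_card_ge (show P ≤ (center R).map R.subtype from fun q hq =>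
      mem_map.mpr ⟨⟨q, hPR hq⟩, Subgroup.mem_center_iff.mpr fun r => Subtype.ext
      (mem_centralizer_iff.mp (hR r.2).2 q hq).symm, rfl⟩) ?_).symm
    rw [card_map_of_injective R.subtype_injective, c.hP]
    obtain ⟨k, hk⟩ := (IsPGroup.iff_card).mp (hRp.to_subgroup (center R))
    have hk3 : k ≤ 3 := (Nat.pow_dvd_pow_iff_le_right (show 1 < 3 by norm_num)).mp
      (show 3 ^ k ∣ 3 ^ 3 by rw [← hk]; simpa [hR27] using card_subgroup_dvd_card (center R))
    have hncyc : ¬ IsCyclic (R ⧸ center R) := fun hcy => by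
      obtain ⟨a, ha, b, hb, hab⟩ := hnab
      exact hab (congrArg Subtype.val (commutative_of_cyclic_center_quotient (QuotientGroup.mk' (center R))
        (by rw [QuotientGroup.ker_mk']) ⟨a, ha⟩ ⟨b, hb⟩))
    have hidx := Subgroup.card_mul_index (center R)
    rw [hk, hR27] at hidx
    rw [hk]
    interval_cases k
    · norm_num
    · norm_num
    · exfalso
      refine hncyc (isCyclic_of_prime_card (p := 3) ?_)
      rw [← Subgroup.index_eq_card]
      norm_num at hidx ⊢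
      omega
    · exfalso
      refine hncyc ?_
      haveI : Subsingleton (R ⧸ center R) := (Nat.card_eq_one_iff_unique.mp (by
        rw [← Subgroup.index_eq_card]; norm_num at hidx ⊢; omega)).1
      exact isCyclic_of_subsingleton
  let X := {e : G // e ∈ W ∧ e ∉ zpowers z}
  letI : MulAction R X :=
    { smul := fun r e => ⟨r * e.1 * (r : G)⁻¹, hW r r.2 _ e.2.1, fun h => e.2.2 (by
        have h2 : (r : G)⁻¹ * ((r : G) * e.1 * (r : G)⁻¹) * r = e.1 := by group
        rw [← h2, c.Z_comm (inv_mem (hR r.2).1) h, inv_mul_cancel_right]; exact h)⟩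
      one_smul := fun e => Subtype.ext (by show (1 : G) * e.1 * (1 : G)⁻¹ = e.1; group)
      mul_smul := fun r s e => Subtype.ext (by
        show ((r : G) * s) * e.1 * ((r : G) * s)⁻¹ = r * (s * e.1 * (s : G)⁻¹) * (r : G)⁻¹
        group) }
  have horb : ∀ x : X, 9 ∣ Nat.card (MulAction.orbit R x) := by
    intro x
    set S := MulAction.stabilizer R x
    have hpS : (⟨p, hPR hp⟩ : R) ∉ S := fun h => x.2.2 (c.fixed_mem_Z hp hgen (hWE x.2.1) (by
      have h' : p * x.1 * p⁻¹ = x.1 := congrArg Subtype.val (MulAction.mem_stabilizer_iff.mp h)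
      rw [h', mul_inv_cancel]; exact one_mem _))
    obtain ⟨k, hk⟩ := (IsPGroup.iff_card).mp (hRp.to_subgroup S)
    have hk3 : k ≤ 3 := (Nat.pow_dvd_pow_iff_le_right (show 1 < 3 by norm_num)).mp
      (show 3 ^ k ∣ 3 ^ 3 by rw [← hk]; simpa [hR27] using card_subgroup_dvd_card S)
    have hidx := Subgroup.card_mul_index S
    rw [hk, hR27] at hidx
    have hk1 : k ≤ 1 := by
      by_contra hk1
      have hidx3 : S.index = 1 ∨ S.index = 3 := by
        interval_cases k <;> simp only [pow_succ, pow_zero, one_mul] at hidx <;> omega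
      rcases hidx3 with h1 | h3
      · exact hpS (by rw [Subgroup.index_eq_one.mp h1]; exact mem_top _)
      · haveI : S.Normal := Subgroup.normal_of_index_eq_minFac_card (by rw [h3, hR27]; norm_num)
        haveI : Nontrivial S := Finite.one_lt_card_iff_nontrivial.mp (by
          rw [hk]; exact Nat.one_lt_pow (by omega) (by norm_num))
        haveI := hRp.isNilpotent
        have hne : S ⊓ center R ≠ ⊥ := CfsgLib.inf_center_ne_bot_of_nilpotent (N := S)
          ((Subgroup.nontrivial_iff_ne_bot _).mp inferInstance)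
        haveI : Nontrivial ↥(S ⊓ center R) := (Subgroup.nontrivial_iff_ne_bot _).mpr hne
        obtain ⟨⟨s, hs⟩, hsc⟩ := exists_ne (1 : ↥(S ⊓ center R))
        have hsP : (s : G) ∈ P := hcen ▸ ⟨s, hs.2, rfl⟩
        have hs1 : (s : G) ≠ 1 := fun h => hsc (Subtype.ext (Subtype.ext h))
        have hgen' : zpowers (s : G) = P := by
          refine eq_of_le_of_card_ge (zpowers_le.mpr hsP) ?_
          rw [Nat.card_zpowers, c.hP, orderOf_eq_prime (p := 3) (hp := ⟨by norm_num⟩) (by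
            rw [pow_succ, sq]; exact c.P_cube hsP) hs1]
        obtain ⟨i, hi⟩ := mem_zpowers_iff.mp (hgen'.symm ▸ hp : p ∈ zpowers (s : G))
        exact hpS (by
          rw [show (⟨p, hPR hp⟩ : R) = s ^ i from Subtype.ext (by rw [Subgroup.coe_zpow]; exact hi.symm)]
          exact S.zpow_mem hs.1 i)
    rw [Nat.card_congr (MulAction.orbitEquivQuotientStabilizer R x), ← Subgroup.index_eq_card]
    change 9 ∣ S.index
    interval_cases k
    · exact ⟨3, by norm_num at hidx; omega⟩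
    · exact ⟨1, by norm_num at hidx; omega⟩
  have hX : Nat.card X = Nat.card W - 2 := by
    have e : Nat.card X = Nat.card ↥((W : Set G) \ (zpowers z : Set G)) := rfl
    rw [e, Nat.card_coe_set_eq, Set.ncard_sdiff hZW]
    show Nat.card W - Nat.card (zpowers z) = _
    rw [c.card_Z]
  haveI : Fintype (MulAction.orbitRel.Quotient R X) := Fintype.ofFinite _
  rw [← hX, Nat.card_congr (MulAction.selfEquivSigmaOrbits R X), Nat.card_sigma]
  exact Finset.dvd_sum fun _ _ => horb _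

end Ctx

end CfsgLib.JankoFour
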