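/-
Preimages in the centralizer of P of subgroups of M22.
-/
import Cfsg.Agent.Lib.JankoFour.Fix

set_option autoImplicit false

namespace CfsgLib.JankoFour

open Cfsg Subgroup

universe u

variable {G : Type u} [Group G] [Finite G] {z : G} {P E : Subgroup G}

namespace Ctx

/-- The centralizer of P in H. -/
def cen (_c : Ctx z P E) : Subgroup G := centralizer ({z} : Set G) ⊓ centralizer (P : Set G)

theorem cen_comm (c : Ctx z P E) {x q : G} (hx : x ∈ c.cen) (hq : q ∈ P) : x * q = q * x :=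
  (mem_centralizer_iff.mp hx.2 q hq).symm

theorem P_le_cen (c : Ctx z P E) : P ≤ c.cen := fun p hp => ⟨c.P_le hp, mem_centralizer_iff.mpr fun q hq => by
  haveI : IsCyclic P := isCyclic_of_prime_card (p := 3) (hp := ⟨by norm_num⟩) c.hP
  exact congrArg Subtype.val (mul_comm' (⟨q, hq⟩ : P) ⟨p, hp⟩)⟩

theorem Z_le_cen (c : Ctx z P E) : zpowers z ≤ c.cen := zpowers_le.mpr
  ⟨c.Ez c.zE, mem_centralizer_iff.mpr fun p hp => c.zP p hp⟩

theorem E_inf_cen (c : Ctx z P E) {e : G} (he : e ∈ E) (hc : e ∈ c.cen) : e ∈ zpowers z :=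
  c.fpf e he fun _ hp => mem_centralizer_iff.mp hc.2 _ hp

theorem N_decomp (c : Ctx z P E) {n : G} (hn : n ∈ c.N) : ∃ e ∈ E, ∃ p ∈ P, n = e * p := by
  have hle : E ⊔ P ≤ c.N := sup_le c.EN c.PN
  have hcard : Nat.card c.N ≤ Nat.card ↥(E ⊔ P) := by
    refine Nat.le_of_dvd Nat.card_pos ?_
    rw [c.hN]
    exact Nat.Coprime.mul_dvd_of_dvd_of_dvd (by norm_num) (c.hP ▸ card_dvd_of_le le_sup_right)
      (c.hE ▸ card_dvd_of_le le_sup_left)
  rw [← eq_of_le_of_card_ge hle hcard, ← SetLike.mem_coe,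
    Subgroup.coe_mul_of_right_le_normalizer_left E P (c.P_le.trans c.normE)] at hn
  obtain ⟨e, he, p, hp, rfl⟩ := hn
  exact ⟨e, he, p, hp, rfl⟩

theorem cen_N (c : Ctx z P E) {x : G} (hx : x ∈ c.cen) (hn : x ∈ c.N) :
    ∃ t ∈ zpowers z, ∃ p ∈ P, x = t * p := by
  obtain ⟨e, he, p, hp, rfl⟩ := c.N_decomp hn
  refine ⟨e, c.E_inf_cen he ?_, p, hp, rfl⟩
  have := c.cen.mul_mem hx (c.cen.inv_mem (c.P_le_cen hp))
  rwa [mul_inv_cancel_right] at this

theorem cen_N_central (c : Ctx z P E) {x y : G} (hx : x ∈ c.cen) (hn : x ∈ c.N) (hy : y ∈ c.cen) :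
    y * x = x * y := by
  obtain ⟨t, ht, p, hp, rfl⟩ := c.cen_N hx hn
  calc y * (t * p) = (y * t) * p := (mul_assoc _ _ _).symm
    _ = t * (y * p) := by rw [c.Z_comm hy.1 ht, mul_assoc]
    _ = t * p * y := by rw [c.cen_comm hy hp, mul_assoc]

/-- The value of the map onto M22. -/
noncomputable def val (c : Ctx z P E) (x : G) : MTwoTwo :=
  haveI := Classical.propDecidable (x ∈ c.H0)
  if h : x ∈ c.H0 then c.ψ ⟨x, h⟩ else 1

theorem val_eq (c : Ctx z P E) {x : G} (h : x ∈ c.H0) : c.val x = c.ψ ⟨x, h⟩ := by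
  unfold val; rw [dif_pos h]

theorem val_mul (c : Ctx z P E) {x y : G} (hx : x ∈ c.H0) (hy : y ∈ c.H0) :
    c.val (x * y) = c.val x * c.val y := by
  rw [c.val_eq hx, c.val_eq hy, c.val_eq (mul_mem hx hy), ← map_mul]; rfl

theorem val_inv (c : Ctx z P E) {x : G} (hx : x ∈ c.H0) : c.val x⁻¹ = (c.val x)⁻¹ := by
  rw [c.val_eq hx, c.val_eq (inv_mem hx), ← map_inv]; rfl

theorem val_pow (c : Ctx z P E) {x : G} (hx : x ∈ c.H0) (n : ℕ) : c.val (x ^ n) = c.val x ^ n := by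
  rw [c.val_eq hx, c.val_eq (pow_mem hx n), ← map_pow]; rfl

theorem val_eq_one (c : Ctx z P E) {x : G} (hx : x ∈ c.H0) : c.val x = 1 ↔ x ∈ c.N := by
  rw [c.val_eq hx, c.ψker]

theorem val_E (c : Ctx z P E) {e : G} (he : e ∈ E) : c.val e = 1 :=
  (c.val_eq_one (c.NH0 (c.EN he))).mpr (c.EN he)

theorem cen_le_H0 (c : Ctx z P E) : c.cen ≤ c.H0 := c.C_H0

theorem exists_val (c : Ctx z P E) (m : MTwoTwo) : ∃ x ∈ c.cen, c.val x = m := by
  obtain ⟨x, hx, hm⟩ := c.ψC m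
  exact ⟨x, ⟨c.H0le x.2, hx⟩, by rw [c.val_eq x.2]; exact hm⟩

theorem val_eq_val (c : Ctx z P E) {x y : G} (hx : x ∈ c.H0) (hy : y ∈ c.H0) (h : c.val x = c.val y) :
    y⁻¹ * x ∈ c.N := by
  rw [← c.val_eq_one (mul_mem (inv_mem hy) hx), c.val_mul (inv_mem hy) hx, c.val_inv hy, h, inv_mul_cancel]

/-- The elements of the centralizer of P above B with square in the centre. -/
def two (c : Ctx z P E) (B : Subgroup MTwoTwo) : Set G := {x | x ∈ c.cen ∧ c.val x ∈ B ∧ x * x ∈ zpowers z}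

theorem two_subset (c : Ctx z P E) (B : Subgroup MTwoTwo) : c.two B ⊆ centralizer ({z} : Set G) :=
  fun _ h => h.1.1

/-- The elements of E fixed modulo the centre by the 2-part above B. -/
noncomputable def fixB (c : Ctx z P E) (B : Subgroup MTwoTwo) : Subgroup G := c.fixGrp (c.two B) (c.two_subset B)

theorem fixB_le (c : Ctx z P E) (B : Subgroup MTwoTwo) : c.fixB B ≤ E := c.fixGrp_le _ _

theorem Z_le_fixB (c : Ctx z P E) (B : Subgroup MTwoTwo) : zpowers z ≤ c.fixB B := c.Z_le_fixGrp _ _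

theorem pow_three_two (c : Ctx z P E) {B : Subgroup MTwoTwo} (hB : ∀ b ∈ B, b * b = 1) {x : G} (hx : x ∈ c.cen)
    (hv : c.val x ∈ B) : x ^ 3 ∈ c.two B ∧ c.val (x ^ 3) = c.val x := by
  have hv3 : c.val (x ^ 3) = c.val x := by
    rw [c.val_pow (c.cen_le_H0 hx), pow_succ, sq, hB _ hv, one_mul]
  refine ⟨⟨pow_mem hx 3, by rw [hv3]; exact hv, ?_⟩, hv3⟩
  have hn : x * x ∈ c.N := by
    rw [← c.val_eq_one (mul_mem (c.cen_le_H0 hx) (c.cen_le_H0 hx)), c.val_mul (c.cen_le_H0 hx) (c.cen_le_H0 hx),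
      hB _ hv]
  obtain ⟨t, ht, p, hp, he⟩ := c.cen_N (mul_mem hx hx) hn
  have hc : Commute t p := (c.Z_comm (c.P_le hp) ht).symm
  have e : x ^ 3 * x ^ 3 = t ^ 3 * p ^ 3 := by
    rw [← hc.mul_pow, ← he, ← pow_add, ← sq, ← pow_mul]
  have p3 : p ^ 3 = 1 := by rw [pow_succ, sq]; exact c.P_cube hp
  rw [e, p3, mul_one]
  exact pow_mem ht 3

theorem two_ker (c : Ctx z P E) {B : Subgroup MTwoTwo} {x : G} (hx : x ∈ c.two B) (hv : c.val x = 1) :
    x ∈ zpowers z := by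
  obtain ⟨t, ht, p, hp, rfl⟩ := c.cen_N hx.1 ((c.val_eq_one (c.cen_le_H0 hx.1)).mp hv)
  have h : p * p ∈ zpowers z := by
    have h1 : t * p * (t * p) = t * t * (p * p) := by
      rw [show t * p * (t * p) = t * (p * t) * p by group, c.Z_comm (c.P_le hp) ht]; group
    have := hx.2.2
    rwa [h1, c.Z_sq ht, one_mul] at this
  have hp1 : p = 1 := by
    rcases c.mem_Z.mp h with e | e
    · have := c.P_cube hp
      rwa [e, one_mul] at this
    · exfalso
      have h3 := c.P_cube hp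
      rw [e] at h3
      have hpz : p = z := by
        calc p = z⁻¹ * (z * p) := by group
          _ = z⁻¹ := by rw [h3, mul_one]
          _ = z := inv_eq_of_mul_eq_one_left c.zz
      rw [hpz, c.zz] at e
      exact c.z_ne_one e.symm
  rw [hp1, mul_one]
  exact ht

theorem two_conj (c : Ctx z P E) {B : Subgroup MTwoTwo} {n x : G} (hn : n ∈ c.cen)
    (hN : c.val n ∈ normalizer (B : Set MTwoTwo)) (hx : x ∈ c.two B) : n * x * n⁻¹ ∈ c.two B := by
  refine ⟨mul_mem (mul_mem hn hx.1) (inv_mem hn), ?_, ?_⟩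
  · rw [c.val_mul (c.cen_le_H0 (mul_mem hn hx.1)) (c.cen_le_H0 (inv_mem hn)), c.val_mul (c.cen_le_H0 hn)
      (c.cen_le_H0 hx.1), c.val_inv (c.cen_le_H0 hn)]
    exact (mem_normalizer_iff.mp hN _).mp hx.2.1
  · rw [show n * x * n⁻¹ * (n * x * n⁻¹) = n * (x * x) * n⁻¹ by group, c.Z_comm hn.1 hx.2.2, mul_inv_cancel_right]
    exact hx.2.2

theorem fixB_conj (c : Ctx z P E) {B : Subgroup MTwoTwo} {n e : G} (hn : n ∈ c.cen)
    (hN : c.val n ∈ normalizer (B : Set MTwoTwo)) (he : e ∈ c.fixB B) : n * e * n⁻¹ ∈ c.fixB B := by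
  refine c.fixed_conj hn.1 (fun x hx => ?_) he
  have := c.two_conj (inv_mem hn) (by rw [c.val_inv (c.cen_le_H0 hn)]; exact inv_mem hN) hx
  rwa [inv_inv] at this

theorem fixB_P (c : Ctx z P E) {B : Subgroup MTwoTwo} {p e : G} (hp : p ∈ P) (he : e ∈ c.fixB B) :
    p * e * p⁻¹ ∈ c.fixB B :=
  c.fixB_conj (c.P_le_cen hp) (by rw [(c.val_eq_one (c.cen_le_H0 (c.P_le_cen hp))).mpr (c.PN hp)]; exact one_mem _) he

/-- A sixteen-element B cannot fix all of E modulo the centre. -/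
theorem fixB_ne (c : Ctx z P E) {B : Subgroup MTwoTwo} (hB : ∀ b ∈ B, b * b = 1) {b : MTwoTwo} (hb : b ∈ B)
    (hb1 : b ≠ 1) : ∃ e ∈ E, e ∉ c.fixB B := by
  by_contra hall
  push Not at hall
  obtain ⟨x0, hx0, hv0⟩ := c.exists_val b
  obtain ⟨hx, hv⟩ := c.pow_three_two hB hx0 (hv0 ▸ hb)
  obtain ⟨p, hp, -, hgen⟩ := c.exists_gen
  have h := c.comm_of_trivial le_rfl c.Z_le hp hgen (fun e he => c.conj_E (c.P_le hp) he) hx.1.1
    (c.cen_comm hx.1 hp) (fun e he => (hall e he).2 _ hx)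
  have hxE := c.cent _ hx.1.1 fun e he => (h e he).symm
  exact hb1 (by rw [← hv0, ← hv]; exact c.val_E hxE)

theorem comm_mem_Z (c : Ctx z P E) {a b : G} (ha : a ∈ E) (hb : b ∈ E) : a * b * a⁻¹ * b⁻¹ ∈ zpowers z := by
  obtain ⟨hz, hext⟩ := c.extE
  rcases hext.comm_cases ⟨a, ha⟩ ⟨b, hb⟩ with e | e
  · rw [show a * b * a⁻¹ * b⁻¹ = 1 from congrArg Subtype.val e]; exact one_mem _
  · rw [show a * b * a⁻¹ * b⁻¹ = z from congrArg Subtype.val e]; exact mem_zpowers z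

theorem sq_mem_Z (c : Ctx z P E) {a : G} (ha : a ∈ E) : a * a ∈ zpowers z := by
  obtain ⟨hz, hext⟩ := c.extE
  rcases hext.sq ⟨a, ha⟩ with e | e
  · rw [show a * a = 1 from congrArg Subtype.val e]; exact one_mem _
  · rw [show a * a = z from congrArg Subtype.val e]; exact mem_zpowers z

/-- The centralizer in E of a subgroup normalized by an element is normalized by it. -/
theorem cent_conj (c : Ctx z P E) {F : Subgroup G} {n e : G} (hn : n ∈ centralizer ({z} : Set G))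
    (hF : ∀ f ∈ F, n⁻¹ * f * n ∈ F) (he : e ∈ E ⊓ centralizer (F : Set G)) :
    n * e * n⁻¹ ∈ E ⊓ centralizer (F : Set G) :=
  ⟨c.conj_E hn he.1, mem_centralizer_iff.mpr fun f hf => by
    rw [show f * (n * e * n⁻¹) = n * ((n⁻¹ * f * n) * e) * n⁻¹ by group, mem_centralizer_iff.mp he.2 _ (hF f hf)]
    group⟩

theorem fixB_conj_inv (c : Ctx z P E) {B : Subgroup MTwoTwo} {n e : G} (hn : n ∈ c.cen)
    (hN : c.val n ∈ normalizer (B : Set MTwoTwo)) (he : e ∈ c.fixB B) : n⁻¹ * e * n ∈ c.fixB B := by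
  have := c.fixB_conj (inv_mem hn) (by rw [c.val_inv (c.cen_le_H0 hn)]; exact inv_mem hN) he
  rwa [inv_inv] at this

end Ctx

end CfsgLib.JankoFour
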