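/-
A duad group fixes fewer than 2^7 elements of E modulo the centre.
-/
import Cfsg.Agent.Lib.JankoFour.Pre

set_option autoImplicit false

namespace CfsgLib.JankoFour

open Cfsg Subgroup

universe u

variable {G : Type u} [Group G] [Finite G] {z : G} {P E : Subgroup G}

namespace Ctx

/-- The elements normalizing U and W inside the centralizer of z. -/
def stab2 (_c : Ctx z P E) (U W : Subgroup G) : Subgroup G :=
  centralizer ({z} : Set G) ⊓ normalizer (U : Set G) ⊓ normalizer (W : Set G)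

theorem mem_stab2_of (c : Ctx z P E) {U W : Subgroup G} {n : G} (hn : n ∈ centralizer ({z} : Set G))
    (hU : ∀ e ∈ U, n * e * n⁻¹ ∈ U) (hW : ∀ e ∈ W, n * e * n⁻¹ ∈ W) : n ∈ c.stab2 U W := by
  have key : ∀ V : Subgroup G, (∀ e ∈ V, n * e * n⁻¹ ∈ V) → n ∈ normalizer (V : Set G) := by
    intro V hV
    rw [mem_normalizer_iff]
    refine fun a => ⟨hV a, fun ha => ?_⟩
    let F : V → V := fun a => ⟨n * a * n⁻¹, hV a a.2⟩
    have hF : Function.Injective F := fun a b e => Subtype.ext (by simpa [F] using congrArg Subtype.val e)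
    obtain ⟨b, hb⟩ := Finite.injective_iff_surjective.mp hF ⟨_, ha⟩
    have := congrArg Subtype.val hb
    simp only [F, mul_left_inj, mul_right_inj] at this
    exact this ▸ b.2
  exact ⟨⟨hn, key U hU⟩, key W hW⟩

/-- An element of order five conjugate to its square acts trivially on a small P-invariant section of E. -/
theorem five_section (c : Ctx z P E) {U W : Subgroup G} (hUE : U ≤ E) (hWU : W ≤ U) (hZW : zpowers z ≤ W)
    (hcard : Nat.card U ≤ 64 * Nat.card W) {p g f : G} (hp : p ∈ P) (hgen : P = zpowers p)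
    (hps : p ∈ c.stab2 U W) (hgs : g ∈ c.stab2 U W) (hfs : f ∈ c.stab2 U W) (hgp : g * p = p * g)
    (hfp : f * p = p * f) (hg : g ^ 5 = 1) (hf : f ^ 8 = 1) (hfg : f * g * f⁻¹ = g ^ 2) :
    ∀ u ∈ U, g * u * g⁻¹ * u⁻¹ ∈ W := by
  classical
  let Ws := W.subgroupOf U
  haveI hWn : Ws.Normal := ⟨fun w hw u => by
    rw [mem_subgroupOf] at hw ⊢
    simp only [Subgroup.coe_mul, Subgroup.coe_inv]
    rw [show (u : G) * w * (u : G)⁻¹ = ((u : G) * w * (u : G)⁻¹ * (w : G)⁻¹) * w by group]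
    exact mul_mem (hZW (c.comm_mem_Z (hUE u.2) (hUE w.2))) hw⟩
  have hcomm : ∀ a b : U ⧸ Ws, a * b = b * a := by
    intro a b
    induction a using QuotientGroup.induction_on with | H a => ?_
    induction b using QuotientGroup.induction_on with | H b => ?_
    rw [← QuotientGroup.mk_mul, ← QuotientGroup.mk_mul, QuotientGroup.eq, mem_subgroupOf]
    simp only [Subgroup.coe_mul, Subgroup.coe_inv]
    rw [show ((a : G) * b)⁻¹ * ((b : G) * a) = (b : G)⁻¹ * (a : G)⁻¹ * (b : G)⁻¹⁻¹ * (a : G)⁻¹⁻¹ by group]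
    exact hZW (c.comm_mem_Z (inv_mem (hUE b.2)) (inv_mem (hUE a.2)))
  letI : CommGroup (U ⧸ Ws) := { (inferInstance : Group (U ⧸ Ws)) with mul_comm := hcomm }
  let S := c.stab2 U W
  let cj : S → MulAut U := fun n =>
    { toFun := fun u => ⟨n * u * (n : G)⁻¹, (mem_normalizer_iff.mp n.2.1.2 u).mp u.2⟩
      invFun := fun u => ⟨(n : G)⁻¹ * u * n, (mem_normalizer_iff''.mp n.2.1.2 u).mp u.2⟩
      left_inv := fun u => Subtype.ext (by
        show (n : G)⁻¹ * (n * u * (n : G)⁻¹) * n = u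
        group)
      right_inv := fun u => Subtype.ext (by
        show (n : G) * ((n : G)⁻¹ * u * n) * (n : G)⁻¹ = u
        group)
      map_mul' := fun a b => Subtype.ext (by
        show (n : G) * ((a : G) * b) * (n : G)⁻¹ = n * a * (n : G)⁻¹ * (n * b * (n : G)⁻¹)
        group) }
  have hmap : ∀ n : S, Ws.map (cj n).toMonoidHom = Ws := by
    intro n
    ext u
    constructor
    · rintro ⟨w, hw, rfl⟩
      exact (mem_normalizer_iff.mp n.2.2 w).mp hw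
    · intro hu
      refine ⟨(cj n).symm u, (mem_normalizer_iff''.mp n.2.2 u).mp hu, ?_⟩
      exact (cj n).apply_symm_apply u
  let ρ : S →* MulAut (U ⧸ Ws) :=
    { toFun := fun n => QuotientGroup.congr Ws Ws (cj n) (hmap n)
      map_one' := by
        ext a
        induction a using QuotientGroup.induction_on with | H a => ?_
        show QuotientGroup.mk (cj 1 a) = QuotientGroup.mk a
        congr 1
        exact Subtype.ext (by show (1 : G) * a * (1 : G)⁻¹ = a; group)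
      map_mul' := fun m n => by
        ext a
        induction a using QuotientGroup.induction_on with | H a => ?_
        show QuotientGroup.mk (cj (m * n) a) = QuotientGroup.mk (cj m (cj n a))
        congr 1
        exact Subtype.ext (by
          show ((m : G) * n) * a * ((m : G) * n)⁻¹ = m * (n * a * (n : G)⁻¹) * (m : G)⁻¹
          group) }
  set gs : S := ⟨g, hgs⟩
  set fs : S := ⟨f, hfs⟩
  set ps : S := ⟨p, hps⟩
  have h2 : ∀ m : U ⧸ Ws, m * m = 1 := by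
    intro m
    induction m using QuotientGroup.induction_on with | H a => ?_
    rw [← QuotientGroup.mk_mul, QuotientGroup.eq_one_iff, mem_subgroupOf]
    exact hZW (c.sq_mem_Z (hUE a.2))
  have hM : Nat.card (U ⧸ Ws) ≤ 64 := by
    have h := Subgroup.card_eq_card_quotient_mul_card_subgroup Ws
    rw [Nat.card_congr (subgroupOfEquivOfLe hWU).toEquiv] at h
    rw [h] at hcard
    exact Nat.le_of_mul_le_mul_right hcard Nat.card_pos
  have hWp : ∀ w ∈ W, p * w * p⁻¹ ∈ W := fun w hw => (mem_normalizer_iff.mp hps.2 w).mp hw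
  have hpf : ∀ m, ρ ps m = m → m = 1 := by
    intro m hm
    induction m using QuotientGroup.induction_on with | H u => ?_
    have hw : p * u * p⁻¹ * (u : G)⁻¹ ∈ W := by
      have h := QuotientGroup.eq.mp hm
      rw [mem_subgroupOf] at h
      simp only [Subgroup.coe_mul, Subgroup.coe_inv] at h
      have h' : (p * u * p⁻¹)⁻¹ * (u : G) ∈ W := h
      have h'' := inv_mem h'
      rw [mul_inv_rev, inv_inv] at h''
      -- move u to the right
      have hc : (u : G) * ((u : G)⁻¹ * (p * u * p⁻¹)) * (u : G)⁻¹ ∈ W := by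
        rw [show (u : G) * ((u : G)⁻¹ * (p * u * p⁻¹)) * (u : G)⁻¹ =
          ((u : G) * ((u : G)⁻¹ * (p * u * p⁻¹)) * (u : G)⁻¹ * ((u : G)⁻¹ * (p * u * p⁻¹))⁻¹) *
            ((u : G)⁻¹ * (p * u * p⁻¹)) by group]
        exact mul_mem (hZW (c.comm_mem_Z (hUE u.2) (hUE (hWU h'')))) h''
      rwa [mul_inv_cancel_left] at hc
    set w := p * u * p⁻¹ * (u : G)⁻¹ with hwdef
    obtain ⟨a, ha, ht⟩ := c.delta_surj (hWU.trans hUE) hZW hp hgen hWp w hw
    set t := (a⁻¹ * (p * a * p⁻¹))⁻¹ * w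
    have hpa : p * a * p⁻¹ = a * w * t⁻¹ := by simp only [t]; group
    have hfix : (u : G) * a⁻¹ ∈ zpowers z := by
      refine c.fixed_mem_Z hp hgen (mul_mem (hUE u.2) (inv_mem (hUE (hWU ha)))) ?_
      have e1 : p * ((u : G) * a⁻¹) * p⁻¹ * ((u : G) * a⁻¹)⁻¹ =
          (p * u * p⁻¹ * (u : G)⁻¹) * u * (p * a * p⁻¹)⁻¹ * a * (u : G)⁻¹ := by group
      rw [e1, ← hwdef, hpa,
        show w * (u : G) * (a * w * t⁻¹)⁻¹ * a * (u : G)⁻¹ = (w * u) * t * ((w : G)⁻¹ * (u : G)⁻¹) by group,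
        c.Z_comm (c.Ez (mul_mem (hUE (hWU hw)) (hUE u.2))) ht,
        show t * (w * (u : G)) * (w⁻¹ * (u : G)⁻¹) = t * (w * u * w⁻¹ * (u : G)⁻¹) by group]
      exact mul_mem ht (c.comm_mem_Z (hUE (hWU hw)) (hUE u.2))
    rw [QuotientGroup.eq_one_iff, mem_subgroupOf]
    have : (u : G) = ((u : G) * a⁻¹) * a := by group
    rw [this]
    exact mul_mem (hZW hfix) ha
  have hone := five_trivial h2 hM (ρ ps) (ρ gs) (ρ fs) hpf
    (by rw [← map_mul, ← map_mul, show ps * gs = gs * ps from Subtype.ext hgp.symm])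
    (by rw [← map_mul, ← map_mul, show ps * fs = fs * ps from Subtype.ext hfp.symm])
    (by rw [← map_pow, show gs ^ 5 = 1 from Subtype.ext hg, map_one])
    (by rw [← map_pow, show fs ^ 8 = 1 from Subtype.ext hf, map_one])
    (by rw [← map_inv, ← map_mul, ← map_mul, ← map_pow, show fs * gs * fs⁻¹ = gs ^ 2 from Subtype.ext hfg])
  intro u hu
  have h := DFunLike.congr_fun hone (QuotientGroup.mk ⟨u, hu⟩ : U ⧸ Ws)
  have h' : (⟨u, hu⟩ : U)⁻¹ * cj gs ⟨u, hu⟩ ∈ Ws := QuotientGroup.eq.mp h.symm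
  rw [mem_subgroupOf] at h'
  simp only [Subgroup.coe_mul, Subgroup.coe_inv] at h'
  have h'' : u⁻¹ * (g * u * g⁻¹) ∈ W := h'
  rw [show g * u * g⁻¹ * u⁻¹ = (u * (u⁻¹ * (g * u * g⁻¹)) * u⁻¹ * (u⁻¹ * (g * u * g⁻¹))⁻¹) *
    (u⁻¹ * (g * u * g⁻¹)) by group]
  exact mul_mem (hZW (c.comm_mem_Z (hUE hu) (hUE (hWU h'')))) h''

theorem duad_small (c : Ctx z P E) {B : Subgroup MTwoTwo} (hB2 : ∀ b ∈ B, b * b = 1) (hB : DuadLike B) :
    Nat.card (c.fixB B) < 2 ^ 7 := by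
  by_contra hbig
  push Not at hbig
  obtain ⟨-, g, hg, f, hf, h5, h4, hfg, b, hb, hne⟩ := hB
  obtain ⟨p, hp, -, hgen⟩ := c.exists_gen
  -- lifts
  obtain ⟨g₀, hg₀, hvg⟩ := c.exists_val g
  obtain ⟨f₀, hf₀, hvf⟩ := c.exists_val f
  have hker : ∀ {x : G}, x ∈ c.cen → c.val x = 1 → x ^ 6 = 1 ∧ ∀ y ∈ c.cen, y * x = x * y := by
    intro x hx hv
    have hn := (c.val_eq_one (c.cen_le_H0 hx)).mp hv
    refine ⟨?_, fun y hy => c.cen_N_central hx hn hy⟩
    obtain ⟨t, ht, q, hq, rfl⟩ := c.cen_N hx hn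
    have hc : Commute t q := (c.Z_comm (c.P_le hq) ht).symm
    rw [hc.mul_pow, show t ^ 6 = (t * t) ^ 3 by rw [← sq, ← pow_mul], c.Z_sq ht,
      show q ^ 6 = (q * q * q) ^ 2 by rw [← pow_three', ← pow_mul], c.P_cube hq, one_pow, one_pow, one_mul]
  set g' := g₀ ^ 6 with hg'
  set f' := f₀ ^ 9 with hf'
  have hg'c : g' ∈ c.cen := pow_mem hg₀ 6
  have hf'c : f' ∈ c.cen := pow_mem hf₀ 9
  have hvg' : c.val g' = g := by
    rw [hg', c.val_pow (c.cen_le_H0 hg₀), hvg, pow_succ, h5, one_mul]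
  have hvf' : c.val f' = f := by
    rw [hf', c.val_pow (c.cen_le_H0 hf₀), hvf, show 9 = 4 * 2 + 1 from rfl, pow_succ, pow_mul, h4, one_pow, one_mul]
  have hg5 : g' ^ 5 = 1 := by
    rw [hg', ← pow_mul, mul_comm 6 5, pow_mul]
    exact (hker (pow_mem hg₀ 5) (by rw [c.val_pow (c.cen_le_H0 hg₀), hvg, h5])).1
  have hf8 : f' ^ 8 = 1 := by
    rw [hf', ← pow_mul, show 9 * 8 = (4 * 6) * 3 from rfl, pow_mul, pow_mul,
      (hker (pow_mem hf₀ 4) (by rw [c.val_pow (c.cen_le_H0 hf₀), hvf, h4])).1, one_pow]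
  have hconj : f' * g' * f'⁻¹ = g' ^ 2 := by
    set a := f' * g' * f'⁻¹ with ha
    set r := (g' ^ 2)⁻¹ * a with hr
    have hac : a ∈ c.cen := mul_mem (mul_mem hf'c hg'c) (inv_mem hf'c)
    have hva : c.val a = g ^ 2 := by
      rw [ha, c.val_mul (c.cen_le_H0 (mul_mem hf'c hg'c)) (c.cen_le_H0 (inv_mem hf'c)), c.val_mul (c.cen_le_H0 hf'c)
        (c.cen_le_H0 hg'c), c.val_inv (c.cen_le_H0 hf'c), hvg', hvf', hfg]
    have hrc : r ∈ c.cen := mul_mem (inv_mem (pow_mem hg'c 2)) hac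
    have hvr : c.val r = 1 := by
      rw [hr, c.val_mul (c.cen_le_H0 (inv_mem (pow_mem hg'c 2))) (c.cen_le_H0 hac),
        c.val_inv (c.cen_le_H0 (pow_mem hg'c 2)), c.val_pow (c.cen_le_H0 hg'c), hvg', hva, inv_mul_cancel]
    obtain ⟨h6, hcomm⟩ := hker hrc hvr
    have har : a = g' ^ 2 * r := by rw [hr, mul_inv_cancel_left]
    have ha5 : a ^ 5 = 1 := by rw [ha, conj_pow, hg5, mul_one, mul_inv_cancel]
    have hr5 : r ^ 5 = 1 := by
      rw [har, (show Commute (g' ^ 2) r from hcomm _ (pow_mem hg'c 2)).mul_pow, ← pow_mul, mul_comm 2 5, pow_mul,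
        hg5, one_pow, one_mul] at ha5
      exact ha5
    have hr1 : r = 1 := by rw [pow_succ, hr5, one_mul] at h6; exact h6
    rw [har, hr1, mul_one]
  have hgN : c.val g' ∈ normalizer (B : Set MTwoTwo) := hvg'.symm ▸ hg
  have hfN : c.val f' ∈ normalizer (B : Set MTwoTwo) := hvf'.symm ▸ hf
  set F := c.fixB B with hF
  set Y := E ⊓ centralizer (F : Set G) with hY
  have hFE : F ≤ E := c.fixB_le B
  have hzF : z ∈ F := c.Z_le_fixB B (mem_zpowers z)
  have hZY : zpowers z ≤ Y := zpowers_le.mpr ⟨c.zE, mem_centralizer_iff.mpr fun e he =>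
    mem_centralizer_singleton_iff.mp (c.Ez (hFE he))⟩
  have hYcard : Nat.card Y ≤ 2 ^ 7 := by
    have h := c.cent_card hFE hzF
    rw [← hY] at h
    nlinarith [Nat.mul_le_mul_right (Nat.card Y) hbig]
  have hconjY : ∀ n ∈ c.cen, c.val n ∈ normalizer (B : Set MTwoTwo) → ∀ e ∈ Y, n * e * n⁻¹ ∈ Y :=
    fun n hn hN e he => c.cent_conj hn.1 (fun f hf => c.fixB_conj_inv hn hN hf) he
  have hpN : c.val p ∈ normalizer (B : Set MTwoTwo) := by
    rw [(c.val_eq_one (c.cen_le_H0 (c.P_le_cen hp))).mpr (c.PN hp)]; exact one_mem _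
  have hs : ∀ n ∈ c.cen, c.val n ∈ normalizer (B : Set MTwoTwo) →
      n ∈ c.stab2 Y (zpowers z) ∧ n ∈ c.stab2 E F := fun n hn hN =>
    ⟨c.mem_stab2_of hn.1 (hconjY n hn hN) (fun t ht => by
        rw [c.Z_comm hn.1 ht, mul_inv_cancel_right]; exact ht),
      c.mem_stab2_of hn.1 (fun e he => c.conj_E hn.1 he) (fun e he => c.fixB_conj hn hN he)⟩
  have hp' := hs p (c.P_le_cen hp) hpN
  have hg'' := hs g' hg'c hgN
  have hf'' := hs f' hf'c hfN
  have hgp := c.cen_comm hg'c hp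
  have hfp := c.cen_comm hf'c hp
  -- g' centralizes Y
  have hY1 := c.five_section inf_le_left hZY le_rfl (by rw [c.card_Z]; omega) hp hgen hp'.1 hg''.1 hf''.1 hgp hfp
    hg5 hf8 hconj
  have hYfix : ∀ y ∈ Y, g' * y = y * g' := c.comm_of_trivial inf_le_left hZY hp hgen
    (fun e he => hconjY p (c.P_le_cen hp) hpN e he) hg'c.1 hgp hY1
  -- g' centralizes E modulo F
  have hE1 := c.five_section le_rfl hFE (c.Z_le_fixB B) (by rw [c.hE]; omega) hp hgen hp'.2 hg''.2 hf''.2 hgp hfp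
    hg5 hf8 hconj
  obtain ⟨x₀, hx₀, hvx₀⟩ := c.exists_val b
  obtain ⟨hx, hvx⟩ := c.pow_three_two hB2 hx₀ (hvx₀ ▸ hb)
  set x := x₀ ^ 3
  rw [hvx₀] at hvx
  set x' := g' * x * g'⁻¹ with hx'
  have hx'2 : x' ∈ c.two B := c.two_conj hg'c hgN hx
  have hinY : ∀ e ∈ E, x * e * x⁻¹ * e⁻¹ ∈ Y := by
    intro e he
    refine ⟨E.mul_mem (c.conj_E hx.1.1 he) (E.inv_mem he), mem_centralizer_iff.mpr fun f hf => ?_⟩
    -- commutator with f
    set s := x⁻¹ * f * x * f⁻¹ with hs'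
    have hs : s ∈ zpowers z := by
      have h1 := inv_mem ((hf : f ∈ c.fixB B).2 x hx)
      have h2 : x⁻¹ * (x * f * x⁻¹ * f⁻¹)⁻¹ * x = (x * f * x⁻¹ * f⁻¹)⁻¹ := by
        rw [c.Z_comm (inv_mem hx.1.1) h1, inv_mul_cancel_right]
      rw [← h2] at h1
      rwa [show x⁻¹ * (x * f * x⁻¹ * f⁻¹)⁻¹ * x = s by rw [hs']; group] at h1
    have hfe : f * e * f⁻¹ * e⁻¹ ∈ zpowers z := c.comm_mem_Z (hFE hf) he
    have hse : e * s = s * e := c.Z_comm (c.Ez he) hs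
    have hsf : f * s = s * f := c.Z_comm (c.Ez (hFE hf)) hs
    have key : f * (x * e * x⁻¹) * f⁻¹ * (x * e * x⁻¹)⁻¹ = f * e * f⁻¹ * e⁻¹ := by
      have h1 : x⁻¹ * f * x = s * f := by rw [hs']; group
      have h3 : s * f * e * (s * f)⁻¹ = f * e * f⁻¹ := by
        rw [show s * f * e * (s * f)⁻¹ = s * (f * e * f⁻¹) * s⁻¹ by group,
          ← c.Z_comm (c.Ez (mul_mem (mul_mem (hFE hf) he) (inv_mem (hFE hf)))) hs, mul_inv_cancel_right]
      calc f * (x * e * x⁻¹) * f⁻¹ * (x * e * x⁻¹)⁻¹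
          = x * ((x⁻¹ * f * x) * e * (x⁻¹ * f * x)⁻¹ * e⁻¹) * x⁻¹ := by group
        _ = f * e * f⁻¹ * e⁻¹ := by rw [h1, h3, c.Z_comm hx.1.1 hfe, mul_inv_cancel_right]
    have e1 : f * (x * e * x⁻¹ * e⁻¹) * f⁻¹ * (x * e * x⁻¹ * e⁻¹)⁻¹ =
        (f * (x * e * x⁻¹) * f⁻¹ * (x * e * x⁻¹)⁻¹) *
          ((x * e * x⁻¹) * ((f * e⁻¹ * f⁻¹ * e⁻¹⁻¹)) * (x * e * x⁻¹)⁻¹) := by group
    have e2 : f * e⁻¹ * f⁻¹ * e⁻¹⁻¹ = e⁻¹ * (f * e * f⁻¹ * e⁻¹)⁻¹ * e := by group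
    rw [key, e2, c.Z_comm (c.Ez (inv_mem he)) (inv_mem hfe), inv_mul_cancel_right,
      c.Z_comm (c.Ez (c.conj_E hx.1.1 he)) (inv_mem hfe), mul_inv_cancel_right, mul_inv_cancel] at e1
    exact mul_inv_eq_iff_eq_mul.mp (mul_inv_eq_one.mp e1)
  set y := x⁻¹ * x' with hy
  have hyc : y ∈ c.cen := mul_mem (inv_mem hx.1) hx'2.1
  have hyfix : ∀ e ∈ E, y * e * y⁻¹ * e⁻¹ ∈ zpowers z := by
    intro e he
    set f₁ := g' * e * g'⁻¹ * e⁻¹ with hf₁
    have hfF : f₁ ∈ F := hE1 e he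
    set s := x' * f₁ * x'⁻¹ * f₁⁻¹ with hs'
    have hs : s ∈ zpowers z := (hfF : f₁ ∈ c.fixB B).2 x' hx'2
    have hk : g' * (x * e * x⁻¹ * e⁻¹) * g'⁻¹ = x * e * x⁻¹ * e⁻¹ := by
      rw [hYfix _ (hinY e he), mul_inv_cancel_right]
    set k := x * e * x⁻¹ * e⁻¹ with hk'
    have hkY : k ∈ Y := hinY e he
    have hkf : f₁ * k = k * f₁ := mem_centralizer_iff.mp hkY.2 f₁ hfF
    have e1 : g' * k * g'⁻¹ = x' * (f₁ * e) * x'⁻¹ * (f₁ * e)⁻¹ := by rw [hk', hx', hf₁]; group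
    have e2 : x' * e * x'⁻¹ = s⁻¹ * k * e := by
      have h3 : x' * e * x'⁻¹ = (x' * f₁ * x'⁻¹)⁻¹ * ((x' * (f₁ * e) * x'⁻¹ * (f₁ * e)⁻¹) * (f₁ * e)) := by group
      rw [h3, ← e1, hk, show x' * f₁ * x'⁻¹ = s * f₁ by rw [hs']; group,
        show k * (f₁ * e) = (k * f₁) * e by group, ← hkf,
        show (s * f₁)⁻¹ * (f₁ * k * e) = f₁⁻¹ * s⁻¹ * f₁ * (k * e) by group,
        c.Z_comm (c.Ez (inv_mem (hFE hfF))) (inv_mem hs), inv_mul_cancel_right]
      group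
    have e3 : y * e * y⁻¹ * e⁻¹ = x⁻¹ * (x' * e * x'⁻¹) * x * e⁻¹ := by rw [hy]; group
    rw [e3, e2, hk', show x⁻¹ * (s⁻¹ * (x * e * x⁻¹ * e⁻¹) * e) * x * e⁻¹ = (x⁻¹ * s⁻¹ * x) * 1 by group,
      c.Z_comm (inv_mem hx.1.1) (inv_mem hs), inv_mul_cancel_right, mul_one]
    exact inv_mem hs
  have hyE := c.cent y hyc.1 fun e he => (c.comm_of_trivial le_rfl c.Z_le hp hgen
    (fun e he => c.conj_E (c.P_le hp) he) hyc.1 (c.cen_comm hyc hp) hyfix e he).symm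
  have h1 := c.val_E hyE
  rw [hy, c.val_mul (c.cen_le_H0 (inv_mem hx.1)) (c.cen_le_H0 hx'2.1), c.val_inv (c.cen_le_H0 hx.1), hx',
    c.val_mul (c.cen_le_H0 (mul_mem hg'c hx.1)) (c.cen_le_H0 (inv_mem hg'c)),
    c.val_mul (c.cen_le_H0 hg'c) (c.cen_le_H0 hx.1), c.val_inv (c.cen_le_H0 hg'c), hvg', hvx,
    inv_mul_eq_one] at h1
  exact hne (mul_inv_eq_iff_eq_mul.mp h1.symm)

end Ctx

end CfsgLib.JankoFour
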