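/-
The elementary abelian group of order 2^11 above a hexad group.
-/
import Cfsg.Agent.Lib.JankoFour.Duad

set_option autoImplicit false

namespace CfsgLib.JankoFour

open Cfsg Subgroup

universe u

variable {G : Type u} [Group G] [Finite G] {z : G} {P E : Subgroup G}

namespace Ctx

/-- In an elementary group of order at least eight there are three independent elements. -/
theorem exists_three {K : Type*} [Group K] [Finite K] {A : Subgroup K} (h16 : Nat.card A = 16) :
    ∃ a ∈ A, ∃ b ∈ A, ∃ d ∈ A, a ≠ 1 ∧ b ≠ 1 ∧ d ≠ 1 ∧ a ≠ b ∧ d ≠ a ∧ d ≠ b ∧ d ≠ a * b := by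
  classical
  have pick : ∀ T : Finset K, T.card ≤ 4 → ∃ a ∈ A, a ∉ T := fun T hT => by
    by_contra hall
    push Not at hall
    have : (A : Set K).ncard ≤ (T : Set K).ncard := Set.ncard_le_ncard hall T.finite_toSet
    rw [← Nat.card_coe_set_eq, Set.ncard_coe_finset] at this
    change Nat.card A ≤ _ at this
    omega
  obtain ⟨a, ha, ha1⟩ := pick {1} (by simp)
  obtain ⟨b, hb, hb1⟩ := pick {1, a} (Finset.card_le_two.trans (by norm_num))
  obtain ⟨d, hd, hd1⟩ := pick {1, a, b, a * b} Finset.card_le_four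
  simp only [Finset.mem_insert, Finset.mem_singleton, not_or] at ha1 hb1 hd1
  exact ⟨a, ha, b, hb, d, hd, ha1, hb1.1, hd1.1, fun h => hb1.2 h.symm, hd1.2.1, hd1.2.2.1, hd1.2.2.2⟩

/-- The elements above an elementary abelian group with square in the centre form a subgroup. -/
def twoGrp (c : Ctx z P E) (A : Subgroup MTwoTwo) (hA : IsElementaryAbelian 2 A) : Subgroup G where
  carrier := c.two A
  one_mem' := ⟨one_mem _, by rw [(c.val_eq_one (one_mem _)).mpr (one_mem _)]; exact one_mem _,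
    by rw [mul_one]; exact one_mem _⟩
  mul_mem' := by
    rintro x y hx hy
    have hxy : x * y ∈ c.cen := mul_mem hx.1 hy.1
    have hv : c.val (x * y) ∈ A := by
      rw [c.val_mul (c.cen_le_H0 hx.1) (c.cen_le_H0 hy.1)]; exact mul_mem hx.2.1 hy.2.1
    set k := y⁻¹ * x⁻¹ * y * x with hk
    have hkc : k ∈ c.cen := mul_mem (mul_mem (mul_mem (inv_mem hy.1) (inv_mem hx.1)) hy.1) hx.1
    have hkN : k ∈ c.N := by
      rw [← c.val_eq_one (c.cen_le_H0 hkc), c.val_mul (c.cen_le_H0 (mul_mem (mul_mem (inv_mem hy.1) (inv_mem hx.1)) hy.1))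
        (c.cen_le_H0 hx.1), c.val_mul (c.cen_le_H0 (mul_mem (inv_mem hy.1) (inv_mem hx.1))) (c.cen_le_H0 hy.1),
        c.val_mul (c.cen_le_H0 (inv_mem hy.1)) (c.cen_le_H0 (inv_mem hx.1)), c.val_inv (c.cen_le_H0 hy.1),
        c.val_inv (c.cen_le_H0 hx.1)]
      haveI := hA.1
      have h := setLike_mul_comm (inv_mem hy.2.1) (inv_mem hx.2.1)
      rw [h, inv_mul_cancel_right, inv_mul_cancel]
    have hyx : y * x = x * y * k := by rw [hk]; group
    have hkcom : ∀ w ∈ c.cen, w * k = k * w := fun w hw => c.cen_N_central hkc hkN hw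
    have hk2 : k * k = 1 := by
      have hs : y * y * x = x * (y * y) := (c.Z_comm hx.1.1 hy.2.2).symm
      have h2 : y * y * x = x * y * y * (k * k) := by
        calc y * y * x = y * (y * x) := mul_assoc _ _ _
          _ = y * (x * y * k) := by rw [hyx]
          _ = (y * x) * y * k := by group
          _ = x * y * k * y * k := by rw [hyx]
          _ = x * y * (k * y) * k := by group
          _ = x * y * y * (k * k) := by rw [← hkcom y hy.1]; group
      rw [hs, ← mul_assoc] at h2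
      exact left_eq_mul.mp h2
    have hkv : c.val k = 1 := (c.val_eq_one (c.cen_le_H0 hkc)).mpr hkN
    have hkZ : k ∈ zpowers z :=
      c.two_ker (B := A) (x := k) ⟨hkc, hkv.symm ▸ one_mem _, hk2.symm ▸ one_mem _⟩ hkv
    refine ⟨hxy, hv, ?_⟩
    have e : x * y * (x * y) = x * x * (y * y) * k := by
      calc x * y * (x * y) = x * (y * x) * y := by group
        _ = x * x * y * (k * y) := by rw [hyx]; group
        _ = x * x * (y * y) * k := by rw [← hkcom y hy.1]; group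
    rw [e]
    exact mul_mem (mul_mem hx.2.2 hy.2.2) hkZ
  inv_mem' := by
    rintro x hx
    refine ⟨inv_mem hx.1, by rw [c.val_inv (c.cen_le_H0 hx.1)]; exact inv_mem hx.2.1, ?_⟩
    rw [← mul_inv_rev]; exact inv_mem hx.2.2

theorem mem_twoGrp (c : Ctx z P E) {A : Subgroup MTwoTwo} {hA : IsElementaryAbelian 2 A} {x : G} :
    x ∈ c.twoGrp A hA ↔ x ∈ c.two A := Iff.rfl

theorem twoGrp_sq (c : Ctx z P E) {A : Subgroup MTwoTwo} (h : HexLike A) :
    ∀ x ∈ c.twoGrp A h.1, x * x = 1 := by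
  obtain ⟨hel, h16, -, htr⟩ := h
  have hB : ∀ b ∈ A, b * b = 1 := fun b hb => by rw [← sq]; exact hel.2 b hb
  have hsame : ∀ x ∈ c.two A, ∀ y ∈ c.two A, c.val x ≠ 1 → c.val y ≠ 1 → x * x = y * y := by
    intro x hx y hy hx1 hy1
    obtain ⟨n, hn, hnxy⟩ := htr _ hx.2.1 _ hy.2.1 hx1 hy1
    obtain ⟨n', hn', hvn⟩ := c.exists_val n
    have hw : n' * x * n'⁻¹ ∈ c.two A := c.two_conj hn' (hvn ▸ hn) hx
    set k := y⁻¹ * (n' * x * n'⁻¹) with hk
    have hk' : k ∈ c.twoGrp A hel := mul_mem (inv_mem (show y ∈ c.twoGrp A hel from hy)) hw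
    have hkv : c.val k = 1 := by
      rw [hk, c.val_mul (c.cen_le_H0 (inv_mem hy.1)) (c.cen_le_H0 hw.1), c.val_inv (c.cen_le_H0 hy.1),
        c.val_mul (c.cen_le_H0 (mul_mem hn' hx.1)) (c.cen_le_H0 (inv_mem hn')), c.val_mul (c.cen_le_H0 hn')
        (c.cen_le_H0 hx.1), c.val_inv (c.cen_le_H0 hn'), hvn, hnxy, inv_mul_cancel]
    have hkZ := c.two_ker hk' hkv
    have e : n' * x * n'⁻¹ = y * k := by rw [hk, mul_inv_cancel_left]
    have e2 : n' * x * n'⁻¹ * (n' * x * n'⁻¹) = x * x := by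
      rw [show n' * x * n'⁻¹ * (n' * x * n'⁻¹) = n' * (x * x) * n'⁻¹ by group, c.Z_comm hn'.1 hx.2.2,
        mul_inv_cancel_right]
    rw [← e2, e, show y * k * (y * k) = y * (k * y) * k by group, ← c.Z_comm hy.1.1 hkZ,
      show y * (y * k) * k = y * y * (k * k) by group, c.Z_sq hkZ, mul_one]
  intro x hx
  by_cases hx1 : c.val x = 1
  · exact c.Z_sq (c.two_ker hx hx1)
  by_contra hne
  have hz' : x * x = z := (c.mem_Z.mp hx.2.2).resolve_left hne
  have hall : ∀ y ∈ c.twoGrp A hel, c.val y ≠ 1 → y * y = z := fun y hy hy1 =>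
    (hsame y hy x hx hy1 hx1).trans hz'
  obtain ⟨a, ha, b, hb, d, hd, a1, b1, d1, hab, hda, hdb, hdab⟩ := exists_three h16
  have lift : ∀ m ∈ A, ∃ y ∈ c.twoGrp A hel, c.val y = m := fun m hm => by
    obtain ⟨y, hy, hv⟩ := c.exists_val m
    obtain ⟨h1, h2⟩ := c.pow_three_two hB hy (hv ▸ hm)
    exact ⟨y ^ 3, h1, h2.trans hv⟩
  obtain ⟨u, hu, hvu⟩ := lift a ha
  obtain ⟨v, hv, hvv⟩ := lift b hb
  obtain ⟨w, hw, hvw⟩ := lift d hd
  -- distinct elements anticommute
  have anti : ∀ r ∈ c.twoGrp A hel, ∀ s ∈ c.twoGrp A hel, c.val r ≠ 1 → c.val s ≠ 1 → c.val r ≠ c.val s →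
      s * r = r * s * z := by
    intro r hr s hs r1 s1 hrs
    have hrs1 : c.val (r * s) ≠ 1 := by
      rw [c.val_mul (c.cen_le_H0 hr.1) (c.cen_le_H0 hs.1)]
      intro e
      exact hrs ((eq_inv_of_mul_eq_one_left e).trans (inv_eq_of_mul_eq_one_right (hB _ hs.2.1)))
    have e := hall _ (mul_mem hr hs) hrs1
    have er := hall r hr r1
    have es := hall s hs s1
    calc s * r = r⁻¹ * (r * s * (r * s)) * s⁻¹ := by group
      _ = r * (r * r)⁻¹ * z * (s * s)⁻¹ * s := by rw [e]; group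
      _ = r * z⁻¹ * s := by rw [er, es]; group
      _ = r * s * z := by
        rw [inv_eq_of_mul_eq_one_left c.zz, mul_assoc, ← c.Z_comm hs.1.1 (mem_zpowers z), mul_assoc]
  have hvw' : c.val (v * w) = b * d := by rw [c.val_mul (c.cen_le_H0 hv.1) (c.cen_le_H0 hw.1), hvv, hvw]
  have h1 := anti u hu v hv (hvu ▸ a1) (hvv ▸ b1) (by rw [hvu, hvv]; exact hab)
  have h2 := anti u hu w hw (hvu ▸ a1) (hvw ▸ d1) (by rw [hvu, hvw]; exact hda.symm)
  have h3 := anti u hu (v * w) (mul_mem hv hw) (hvu ▸ a1)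
    (by rw [hvw']; intro e; exact hdb ((eq_inv_of_mul_eq_one_right e).trans (inv_eq_of_mul_eq_one_right (hB b hb))))
    (by
      rw [hvw', hvu]
      intro e
      refine hdab ?_
      haveI := hel.1
      rw [e, setLike_mul_comm (mul_mem hb hd) hb, ← mul_assoc, hB b hb, one_mul])
  have h4 : v * w * u = u * (v * w) := by
    calc v * w * u = v * (u * w * z) := by rw [mul_assoc, h2]
      _ = (v * u) * w * z := by group
      _ = u * v * (z * w) * z := by rw [h1]; group
      _ = u * v * w * (z * z) := by rw [← c.Z_comm hw.1.1 (mem_zpowers z)]; group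
      _ = u * (v * w) := by rw [c.zz]; group
  rw [h4] at h3
  exact c.z_ne_one (left_eq_mul.mp h3)

theorem twoGrp_card (c : Ctx z P E) {A : Subgroup MTwoTwo} (h : HexLike A) : Nat.card (c.twoGrp A h.1) = 32 := by
  have hB : ∀ b ∈ A, b * b = 1 := fun b hb => by rw [← sq]; exact h.1.2 b hb
  let f : c.twoGrp A h.1 →* A :=
    { toFun := fun x => ⟨c.val x, x.2.2.1⟩
      map_one' := Subtype.ext (by
        show c.val (1 : G) = 1
        exact (c.val_eq_one (one_mem _)).mpr (one_mem _))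
      map_mul' := fun x y => Subtype.ext (c.val_mul (c.cen_le_H0 x.2.1) (c.cen_le_H0 y.2.1)) }
  have hsurj : Function.Surjective f := fun a => by
    obtain ⟨y, hy, hv⟩ := c.exists_val a
    obtain ⟨h1, h2⟩ := c.pow_three_two hB hy (hv ▸ a.2)
    exact ⟨⟨y ^ 3, h1⟩, Subtype.ext (h2.trans hv)⟩
  have hker : (f.ker.map (c.twoGrp A h.1).subtype) = zpowers z := by
    refine le_antisymm ?_ ?_
    · rintro _ ⟨x, hx, rfl⟩
      exact c.two_ker x.2 (congrArg Subtype.val (MonoidHom.mem_ker.mp hx))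
    · intro t ht
      have hv : c.val t = 1 := c.val_E (c.Z_le ht)
      exact ⟨⟨t, c.Z_le_cen ht, hv.symm ▸ one_mem _, by rw [c.Z_sq ht]; exact one_mem _⟩,
        MonoidHom.mem_ker.mpr (Subtype.ext hv), rfl⟩
  have hcard := Subgroup.card_mul_index f.ker
  rw [Subgroup.index_ker, MonoidHom.range_eq_top.mpr hsurj, card_top,
    ← card_map_of_injective (c.twoGrp A h.1).subtype_injective, hker, c.card_Z] at hcard
  have h16 := h.2.1
  omega

/-- An abelian Sylow subgroup meets the centre and the derived group trivially. -/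
theorem sylow_central_commutator {X : Type*} [Group X] [Finite X] {p : ℕ} [Fact p.Prime] (R : Sylow p X)
    (hR : ∀ a ∈ (R : Subgroup X), ∀ b ∈ (R : Subgroup X), a * b = b * a) {x : X} (hxR : x ∈ (R : Subgroup X))
    (hxc : x ∈ center X) (hx : x ∈ _root_.commutator X) : x = 1 := by
  letI : CommGroup (R : Subgroup X) :=
    { (inferInstance : Group (R : Subgroup X)) with mul_comm := fun a b => Subtype.ext (hR a a.2 b b.2) }
  let τ : X →* (R : Subgroup X) := MonoidHom.transfer (MonoidHom.id (R : Subgroup X))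
  have hker : τ x = 1 := Abelianization.commutator_subset_ker τ hx
  have hpow : x ^ (R : Subgroup X).index = 1 := by
    have h := MonoidHom.transfer_eq_pow (MonoidHom.id (R : Subgroup X)) x (fun k g₀ hk => by
      rw [show g₀⁻¹ * x ^ k * g₀ = g₀⁻¹ * (x ^ k * g₀) from mul_assoc _ _ _,
        (Subgroup.mem_center_iff.mp (pow_mem hxc k) g₀).symm, inv_mul_cancel_left])
    change τ x = _ at h
    rw [hker] at h
    exact (congrArg Subtype.val h).symm
  obtain ⟨k, hk⟩ := R.isPGroup' ⟨x, hxR⟩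
  have hk' : x ^ p ^ k = 1 := congrArg Subtype.val hk
  have hndvd : ¬ p ∣ (R : Subgroup X).index := R.not_dvd_index
  have hco : Nat.Coprime (R : Subgroup X).index (p ^ k) :=
    Nat.Coprime.pow_right _ (Nat.Coprime.symm ((Nat.Prime.coprime_iff_not_dvd Fact.out).mpr hndvd))
  have := pow_gcd_eq_one.mpr ⟨hpow, hk'⟩
  rwa [hco.gcd_eq_one, pow_one] at this

/-- A nonabelian group of order 27 above the normalizer of a hexad group. -/
theorem exists_R (c : Ctx z P E) {A : Subgroup MTwoTwo} (h : HexLike A) :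
    ∃ R : Subgroup G, R ≤ c.cen ∧ P ≤ R ∧ Nat.card R = 27 ∧ (∃ a ∈ R, ∃ b ∈ R, a * b ≠ b * a) ∧
      ∀ r ∈ R, c.val r ∈ normalizer (A : Set MTwoTwo) := by
  classical
  haveI : Fact (Nat.Prime 3) := ⟨by norm_num⟩
  set NA := normalizer (A : Set MTwoTwo)
  let f : c.cen →* MTwoTwo :=
    { toFun := fun x => c.val x
      map_one' := (c.val_eq_one (one_mem _)).mpr (one_mem _)
      map_mul' := fun x y => c.val_mul (c.cen_le_H0 x.2) (c.cen_le_H0 y.2) }
  have hsurj : Function.Surjective f := fun m => by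
    obtain ⟨x, hx, hv⟩ := c.exists_val m
    exact ⟨⟨x, hx⟩, hv⟩
  have hkerP : P.subgroupOf c.cen ≤ f.ker := fun x hx =>
    MonoidHom.mem_ker.mpr ((c.val_eq_one (c.cen_le_H0 x.2)).mpr (c.PN (mem_subgroupOf.mp hx)))
  have hkerdvd : 3 ∣ Nat.card f.ker := by
    have := card_dvd_of_le hkerP
    rwa [Nat.card_congr (subgroupOfEquivOfLe c.P_le_cen).toEquiv, c.hP] at this
  have hkersix : Nat.card f.ker ∣ 6 := by
    have hle : f.ker.map c.cen.subtype ≤ zpowers z ⊔ P := by
      rintro _ ⟨x, hx, rfl⟩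
      obtain ⟨t, ht, q, hq, e⟩ := c.cen_N x.2 ((c.val_eq_one (c.cen_le_H0 x.2)).mp hx)
      rw [coe_subtype, e]
      exact mul_mem (mem_sup_left ht) (mem_sup_right hq)
    have h1 := card_dvd_of_le hle
    rw [card_map_of_injective c.cen.subtype_injective] at h1
    have hn : P ≤ normalizer (zpowers z : Set G) := fun q hq => by
      rw [mem_normalizer_iff]
      intro t
      constructor
      · intro ht; rw [c.Z_comm (c.P_le hq) ht, mul_inv_cancel_right]; exact ht
      · intro ht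
        have h2 : q⁻¹ * (q * t * q⁻¹) * q = t := by group
        rw [← h2, c.Z_comm (inv_mem (c.P_le hq)) ht, inv_mul_cancel_right]; exact ht
    have h2 : Nat.card ↥(zpowers z ⊔ P) = 6 := by
      refine Nat.dvd_antisymm ?_ ?_
      · let F : zpowers z × P →* G :=
          { toFun := fun x => x.1 * x.2
            map_one' := by simp
            map_mul' := fun x y => by
              show (x.1 * y.1 : G) * (x.2 * y.2) = x.1 * x.2 * (y.1 * y.2)
              rw [show (x.1 : G) * x.2 * (y.1 * y.2) = x.1 * (x.2 * y.1) * y.2 by group,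
                c.Z_comm (c.P_le x.2.2) y.1.2]
              group }
        have hr : F.range = zpowers z ⊔ P := by
          refine le_antisymm ?_ (sup_le (fun t ht => ⟨(⟨t, ht⟩, 1), by simp [F]⟩) (fun q hq => ⟨(1, ⟨q, hq⟩), by simp [F]⟩))
          rintro _ ⟨x, rfl⟩
          exact mul_mem (mem_sup_left x.1.2) (mem_sup_right x.2.2)
        rw [← hr]
        have := Subgroup.card_range_dvd F
        rwa [Nat.card_prod, c.card_Z, c.hP] at this
      · exact Nat.Coprime.mul_dvd_of_dvd_of_dvd (show Nat.Coprime 2 3 by norm_num)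
          (c.card_Z ▸ card_dvd_of_le le_sup_left) (c.hP ▸ card_dvd_of_le le_sup_right)
    rwa [h2] at h1
  have hcardC : Nat.card c.cen = Nat.card f.ker * 443520 := by
    rw [← Subgroup.card_mul_index f.ker, Subgroup.index_ker, MonoidHom.range_eq_top.mpr hsurj, card_top]
    rw [show Nat.card MTwoTwo = 443520 from CfsgGolay.card_sporM22]
  let M := NA.comap f
  have hMdvd : 3 ^ 3 ∣ Nat.card M := by
    let g : M →* NA := (f.comp M.subtype).codRestrict NA fun x => x.2
    have hg : Function.Surjective g := fun m => by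
      obtain ⟨x, hx⟩ := hsurj m
      exact ⟨⟨x, show f x ∈ NA from hx.symm ▸ m.2⟩, Subtype.ext hx⟩
    have e : g.ker.map M.subtype = f.ker := by
      ext x
      constructor
      · rintro ⟨y, hy, rfl⟩
        exact congrArg Subtype.val (MonoidHom.mem_ker.mp hy)
      · intro hx
        exact ⟨⟨x, show f x ∈ NA by rw [MonoidHom.mem_ker.mp hx]; exact one_mem _⟩,
          MonoidHom.mem_ker.mpr (Subtype.ext hx), rfl⟩
    rw [← Subgroup.card_mul_index g.ker, Subgroup.index_ker, MonoidHom.range_eq_top.mpr hg, card_top,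
      ← card_map_of_injective M.subtype_injective, e]
    rw [show (3 : ℕ) ^ 3 = 3 * 9 by norm_num]
    exact Nat.mul_dvd_mul hkerdvd h.2.2.1
  obtain ⟨R0, hR0, hPR0⟩ : ∃ R0 : Subgroup M, Nat.card R0 = 3 ^ 3 ∧ (P.subgroupOf c.cen).subgroupOf M ≤ R0 := by
    have hPM : P.subgroupOf c.cen ≤ M := hkerP.trans (ker_le_comap f NA)
    refine Sylow.exists_subgroup_card_pow_prime_le 3 hMdvd _ (n := 1) ?_ (by norm_num)
    rw [Nat.card_congr (subgroupOfEquivOfLe hPM).toEquiv, Nat.card_congr (subgroupOfEquivOfLe c.P_le_cen).toEquiv,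
      c.hP, pow_one]
  let R1 : Subgroup c.cen := R0.map M.subtype
  have hR1 : Nat.card R1 = 3 ^ 3 := by rw [card_map_of_injective M.subtype_injective, hR0]
  have hfac : (Nat.card c.cen).factorization 3 = 3 := by
    obtain ⟨k, hk⟩ := hkersix
    obtain ⟨j, hj⟩ := hkerdvd
    have hj2 : j = 1 ∨ j = 2 := by
      rw [hj] at hk
      have : j * k = 2 := by nlinarith
      exact (Nat.dvd_prime Nat.prime_two).mp ⟨k, this.symm⟩
    have e : Nat.card c.cen = 3 ^ 3 * (j * 49280) := by rw [hcardC, hj]; ring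
    rw [e, Nat.factorization_mul (by norm_num) (by rcases hj2 with rfl | rfl <;> norm_num), Finsupp.add_apply,
      Nat.Prime.factorization_pow (by norm_num), Finsupp.single_eq_same,
      Nat.factorization_eq_zero_of_not_dvd (by rcases hj2 with rfl | rfl <;> norm_num)]
  refine ⟨R1.map c.cen.subtype, map_subtype_le _, ?_, ?_, ?_, ?_⟩
  · intro q hq
    have hPM : P.subgroupOf c.cen ≤ M := hkerP.trans (ker_le_comap f NA)
    exact ⟨⟨q, c.P_le_cen hq⟩, ⟨⟨⟨q, c.P_le_cen hq⟩, hPM hq⟩, hPR0 hq, rfl⟩, rfl⟩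
  · rw [card_map_of_injective c.cen.subtype_injective, hR1]; norm_num
  · by_contra hab
    push Not at hab
    obtain ⟨p, hp, hp1, -⟩ := c.exists_gen
    have hcomm : (⟨p, c.P_le_cen hp⟩ : c.cen) ∈ _root_.commutator c.cen := by
      have h1 := c.Pcomm hp
      rw [show (centralizer ({z} : Set G) ⊓ centralizer (P : Set G)) = c.cen from rfl] at h1
      rw [← range_subtype c.cen, MonoidHom.range_eq_map, ← map_commutator] at h1
      obtain ⟨y, hy, e⟩ := h1
      rw [show (⟨p, c.P_le_cen hp⟩ : c.cen) = y from Subtype.ext e.symm]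
      exact hy
    refine hp1 (congrArg Subtype.val (sylow_central_commutator (Sylow.ofCard R1 (by rw [hR1, hfac]))
      (fun a ha b hb => Subtype.ext (hab _ ⟨a, ha, rfl⟩ _ ⟨b, hb, rfl⟩)) ?_ ?_ hcomm))
    · have hPM : P.subgroupOf c.cen ≤ M := hkerP.trans (ker_le_comap f NA)
      exact ⟨⟨⟨p, c.P_le_cen hp⟩, hPM hp⟩, hPR0 hp, rfl⟩
    · exact Subgroup.mem_center_iff.mpr fun w => Subtype.ext (c.cen_comm w.2 hp)
  · rintro _ ⟨_, ⟨x, -, rfl⟩, rfl⟩
    exact x.2

/-- A group of two-elements fixes something outside the centre modulo the centre. -/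
theorem exists_fixed (c : Ctx z P E) {Q Y : Subgroup G} (hQH : Q ≤ centralizer ({z} : Set G)) (hQ : IsPGroup 2 Q)
    (hYE : Y ≤ E) (hZY : zpowers z ≤ Y) (hYQ : ∀ x ∈ Q, ∀ e ∈ Y, x * e * x⁻¹ ∈ Y) (hY : 4 ∣ Nat.card Y) :
    ∃ e ∈ Y, e ∉ zpowers z ∧ ∀ x ∈ Q, x * e * x⁻¹ * e⁻¹ ∈ zpowers z := by
  classical
  haveI : Fact (Nat.Prime 2) := ⟨by norm_num⟩
  let Zs := (zpowers z).subgroupOf Y
  haveI : Zs.Normal := ⟨fun w hw u => by
    rw [mem_subgroupOf] at hw ⊢
    simp only [Subgroup.coe_mul, Subgroup.coe_inv]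
    rw [c.Z_comm (c.Ez (hYE u.2)) hw, mul_inv_cancel_right]
    exact hw⟩
  letI : MulAction Q (Y ⧸ Zs) :=
    { smul := fun x => Quotient.map' (fun e : Y => (⟨x * e * (x : G)⁻¹, hYQ x x.2 e e.2⟩ : Y)) fun a b hab => by
        have h : (a : G)⁻¹ * b ∈ zpowers z := (QuotientGroup.leftRel_apply.mp hab :)
        refine QuotientGroup.leftRel_apply.mpr ?_
        rw [mem_subgroupOf]
        show ((x : G) * a * (x : G)⁻¹)⁻¹ * ((x : G) * b * (x : G)⁻¹) ∈ zpowers z
        rw [show ((x : G) * a * (x : G)⁻¹)⁻¹ * (x * b * (x : G)⁻¹) = x * ((a : G)⁻¹ * b) * (x : G)⁻¹ by group,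
          c.Z_comm (hQH x.2) h, mul_inv_cancel_right]
        exact h
      one_smul := fun q => Quotient.inductionOn' q fun e => congrArg Quotient.mk'' (Subtype.ext (by
        show (1 : G) * e * (1 : G)⁻¹ = e; group))
      mul_smul := fun x y q => Quotient.inductionOn' q fun e => congrArg Quotient.mk'' (Subtype.ext (by
        show ((x : G) * y) * e * ((x : G) * y)⁻¹ = x * (y * e * (y : G)⁻¹) * (x : G)⁻¹; group)) }
  have hdvd : 2 ∣ Nat.card (Y ⧸ Zs) := by
    have h := Subgroup.card_eq_card_quotient_mul_card_subgroup Zs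
    rw [Nat.card_congr (subgroupOfEquivOfLe hZY).toEquiv, c.card_Z] at h
    omega
  have h1 : ((1 : Y) : Y ⧸ Zs) ∈ MulAction.fixedPoints Q (Y ⧸ Zs) := fun x =>
    congrArg Quotient.mk'' (Subtype.ext (by show (x : G) * 1 * (x : G)⁻¹ = 1; group))
  obtain ⟨b, hb, hb1⟩ := hQ.exists_fixed_point_of_prime_dvd_card_of_fixed_point (Y ⧸ Zs) hdvd h1
  induction b using QuotientGroup.induction_on with | H e => ?_
  refine ⟨e, e.2, fun he => hb1 ?_, fun x hx => ?_⟩
  · exact ((QuotientGroup.eq_one_iff e).mpr (mem_subgroupOf.mpr he)).symm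
  · have h := QuotientGroup.eq.mp (hb ⟨x, hx⟩).symm
    rw [mem_subgroupOf] at h
    have h' : (e : G)⁻¹ * (x * e * x⁻¹) ∈ zpowers z := h
    have h2 : (e : G) * ((e : G)⁻¹ * (x * e * x⁻¹)) * (e : G)⁻¹ = (e : G)⁻¹ * (x * e * x⁻¹) := by
      rw [c.Z_comm (c.Ez (hYE e.2)) h', mul_inv_cancel_right]
    rw [mul_inv_cancel_left] at h2
    rw [h2]; exact h'

/-- The fixed group of a hexad group. -/
theorem hex_fix (c : Ctx z P E) {A : Subgroup MTwoTwo} (h : HexLike A) :
    Nat.card (c.fixB A) = 2 ^ 7 ∧ E ⊓ centralizer (c.fixB A : Set G) = c.fixB A ∧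
      (∀ e ∈ c.fixB A, e * e = 1) ∧ (∀ e ∈ c.fixB A, ∀ x ∈ c.twoGrp A h.1, x * e = e * x) := by
  classical
  obtain ⟨R, hR, hPR, hR27, hnab, hRN⟩ := c.exists_R h
  obtain ⟨p, hp, -, hgen⟩ := c.exists_gen
  have hB : ∀ b ∈ A, b * b = 1 := fun b hb => by rw [← sq]; exact h.1.2 b hb
  set Q := c.twoGrp A h.1
  set F := c.fixB A with hF
  have hQH : Q ≤ centralizer ({z} : Set G) := fun x hx => hx.1.1
  have hQ2 : IsPGroup 2 Q := fun x => ⟨1, Subtype.ext (by
    rw [pow_one, coe_pow, sq]; exact c.twoGrp_sq h x x.2)⟩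
  have hRF : ∀ r ∈ R, ∀ e ∈ F, r * e * r⁻¹ ∈ F := fun r hr e he => c.fixB_conj (hR hr) (hRN r hr) he
  have size : ∀ W : Subgroup G, W ≤ E → zpowers z ≤ W → (∀ r ∈ R, ∀ e ∈ W, r * e * r⁻¹ ∈ W) →
      Nat.card W = 2 ∨ Nat.card W = 2 ^ 7 ∨ Nat.card W = 2 ^ 13 := by
    intro W hWE hZW hW
    have h9 := c.card_mod_nine hR hPR hR27 hnab hWE hZW hW
    obtain ⟨m, hm, hmc⟩ := c.card_two_pow hWE
    have h2 : 2 ≤ Nat.card W := c.card_Z ▸ card_le_of_le hZW
    rw [hmc] at h9 h2 ⊢
    interval_cases m <;> first | (norm_num; done) | (exfalso; norm_num at h9; done) | (exfalso; norm_num at h2; done)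
  have hne13 : Nat.card F ≠ 2 ^ 13 := by
    intro hc
    have hFE : F = E := eq_of_le_of_card_ge (c.fixB_le A) (by rw [hc, c.hE])
    obtain ⟨a, ha1⟩ := (Subgroup.ne_bot_iff_exists_ne_one.mp (show A ≠ ⊥ by
      intro e; have := h.2.1; rw [e, card_bot] at this; omega))
    obtain ⟨e, he, hne⟩ := c.fixB_ne hB a.2 (fun e => ha1 (Subtype.ext e))
    exact hne (hFE.symm ▸ he : e ∈ F)
  have hne1 : Nat.card F ≠ 2 := by
    intro hc
    have hFZ : zpowers z = F := eq_of_le_of_card_ge (c.Z_le_fixB A) (by rw [hc, c.card_Z])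
    obtain ⟨e, he, heZ, hfix⟩ := c.exists_fixed hQH hQ2 le_rfl c.Z_le (fun x hx e he => c.conj_E (hQH hx) he)
      (by rw [c.hE]; norm_num)
    exact heZ (hFZ.symm ▸ (⟨he, fun x hx => hfix x hx⟩ : e ∈ F))
  have hF7 : Nat.card F = 2 ^ 7 := by
    rcases size F (c.fixB_le A) (c.Z_le_fixB A) hRF with e | e | e
    exacts [absurd e hne1, e, absurd e hne13]
  set Y := E ⊓ centralizer (F : Set G) with hY
  have hYcard : Nat.card Y = 2 ^ 7 := by
    have := c.cent_card (c.fixB_le A) (c.Z_le_fixB A (mem_zpowers z))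
    rw [← hF, hF7, ← hY] at this
    exact Nat.eq_of_mul_eq_mul_left (show 0 < 2 ^ 7 by norm_num) (this.trans (by norm_num))
  have hZY : zpowers z ≤ Y := zpowers_le.mpr ⟨c.zE, mem_centralizer_iff.mpr fun e he =>
    mem_centralizer_singleton_iff.mp (c.Ez (c.fixB_le A he))⟩
  have hRY : ∀ r ∈ R, ∀ e ∈ Y, r * e * r⁻¹ ∈ Y := fun r hr e he =>
    c.cent_conj (hR hr).1 (fun f hf => c.fixB_conj_inv (hR hr) (hRN r hr) hf) he
  have hYQ : ∀ x ∈ Q, ∀ e ∈ Y, x * e * x⁻¹ ∈ Y := fun x hx e he =>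
    c.cent_conj hx.1.1 (fun f hf => c.fixB_conj_inv hx.1 (le_normalizer hx.2.1) hf) he
  have hFY : Y = F := by
    rcases size (F ⊓ Y) (inf_le_left.trans (c.fixB_le A)) (le_inf (c.Z_le_fixB A) hZY)
      (fun r hr e he => ⟨hRF r hr e he.1, hRY r hr e he.2⟩) with e | e | e
    · exfalso
      obtain ⟨y, hy, hyZ, hfix⟩ := c.exists_fixed hQH hQ2 inf_le_left hZY hYQ (by rw [hYcard]; norm_num)
      have hyF : y ∈ F := ⟨hy.1, fun x hx => hfix x hx⟩
      have hZ : zpowers z = F ⊓ Y := eq_of_le_of_card_ge (le_inf (c.Z_le_fixB A) hZY) (by rw [e, c.card_Z])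
      exact hyZ (hZ.symm ▸ (⟨hyF, hy⟩ : y ∈ F ⊓ Y))
    · have e1 : F ⊓ Y = F := eq_of_le_of_card_ge inf_le_left (by rw [e, hF7])
      exact (eq_of_le_of_card_ge (inf_eq_left.mp e1) (by rw [hF7, hYcard])).symm
    · have := card_le_of_le (inf_le_left : F ⊓ Y ≤ F)
      rw [e, hF7] at this
      norm_num at this
  refine ⟨hF7, hFY, ?_, ?_⟩
  · intro e he
    have hcom : ∀ a ∈ F, ∀ b ∈ F, a * b = b * a := fun a ha b hb =>
      mem_centralizer_iff.mp (hFY.symm ▸ hb : b ∈ Y).2 a ha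
    refine c.hom_trivial (c.fixB_le A) (c.Z_le_fixB A) hp hgen (fun e he => c.fixB_P hp he) (fun e => e * e)
      (fun a ha b hb => ?_) (fun a ha => ?_) (c.zz) e he
    · show a * b * (a * b) = a * a * (b * b)
      rw [show a * b * (a * b) = a * (b * a) * b by group, ← hcom a ha b hb]; group
    · show p * a * p⁻¹ * (p * a * p⁻¹) = a * a
      rw [show p * a * p⁻¹ * (p * a * p⁻¹) = p * (a * a) * p⁻¹ by group,
        c.Z_comm (c.P_le hp) (c.sq_mem_Z (c.fixB_le A ha)), mul_inv_cancel_right]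
  · intro e he x hx
    exact c.comm_of_trivial (c.fixB_le A) (c.Z_le_fixB A) hp hgen (fun e he => c.fixB_P hp he) hx.1.1
      (c.cen_comm hx.1 hp) (fun e he => he.2 x hx) e he

end Ctx

end CfsgLib.JankoFour
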