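/-
The unique elementary abelian subgroup of order 2^11 in a Sylow 2-subgroup.
-/
import Cfsg.Agent.Lib.JankoFour.Hex

set_option autoImplicit false

namespace CfsgLib.JankoFour

open Cfsg Subgroup

universe u

variable {G : Type u} [Group G] [Finite G] {z : G} {P E : Subgroup G}

namespace Ctx

theorem isPGroup_E (c : Ctx z P E) : IsPGroup 2 E := IsPGroup.of_card (n := 13) c.hE

/-- A 2-element of N lies in E. -/
theorem N_two (c : Ctx z P E) {n : G} (hn : n ∈ c.N) (k : ℕ) (h : n ^ 2 ^ k = 1) : n ∈ E := by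
  let EN := E.subgroupOf c.N
  haveI : EN.Normal := ⟨fun w hw u => by
    rw [mem_subgroupOf] at hw ⊢
    exact c.conj_E (c.H0le (c.NH0 u.2)) hw⟩
  have hidx : EN.index = 3 := by
    have h1 := Subgroup.card_mul_index EN
    rw [Nat.card_congr (subgroupOfEquivOfLe c.EN).toEquiv, c.hE, c.hN] at h1
    omega
  have h1 : ((⟨n, hn⟩ : c.N) : c.N ⧸ EN) ^ 2 ^ k = 1 := by
    rw [← QuotientGroup.mk_pow, show (⟨n, hn⟩ : c.N) ^ 2 ^ k = 1 from Subtype.ext h]; rfl
  have h3 : ((⟨n, hn⟩ : c.N) : c.N ⧸ EN) ^ 3 = 1 := by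
    rw [← hidx, Subgroup.index_eq_card]; exact pow_card_eq_one'
  have hg := pow_gcd_eq_one.mpr ⟨h1, h3⟩
  rw [Nat.Coprime.gcd_eq_one (Nat.Coprime.pow_left _ (by norm_num)), pow_one, QuotientGroup.eq_one_iff] at hg
  exact hg

/-- A Sylow 2-subgroup of H is a Sylow 2-subgroup of G. -/
theorem exists_sylow (c : Ctx z P E) : ∃ T : Sylow 2 G, (T : Subgroup G) ≤ centralizer ({z} : Set G) ∧
    E ≤ (T : Subgroup G) := by
  classical
  haveI : Fact (Nat.Prime 2) := ⟨Nat.prime_two⟩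
  set H := centralizer ({z} : Set G) with hH
  have hEp : IsPGroup 2 (E.subgroupOf H) := c.isPGroup_E.comap_of_injective H.subtype H.subtype_injective
  obtain ⟨S, hES⟩ := hEp.exists_le_sylow
  set T0 := (S : Subgroup H).map H.subtype with hT0
  have hT0p : IsPGroup 2 T0 := S.isPGroup'.map _
  obtain ⟨T, hT⟩ := hT0p.exists_le_sylow
  have hET0 : E ≤ T0 := fun e he => ⟨⟨e, c.Ez he⟩, hES he, rfl⟩
  have hTH : (T : Subgroup G) ⊓ H = T0 := by
    refine le_antisymm ?_ (le_inf hT (map_subtype_le _))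
    have h := S.is_maximal' (Q := ((T : Subgroup G) ⊓ H).subgroupOf H)
      ((T.isPGroup'.to_le inf_le_left).comap_of_injective H.subtype H.subtype_injective)
      (fun x hx => ⟨hT ⟨x, hx, rfl⟩, x.2⟩)
    intro x hx
    have hx' : (⟨x, hx.2⟩ : H) ∈ ((T : Subgroup G) ⊓ H).subgroupOf H := hx
    rw [h] at hx'
    exact ⟨⟨x, hx.2⟩, hx', rfl⟩
  haveI := T.isPGroup'.isNilpotent
  refine ⟨T, ?_, hET0.trans hT⟩
  by_contra hle
  have hlt : T0.subgroupOf (T : Subgroup G) < ⊤ := by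
    rw [lt_top_iff_ne_top]
    intro e
    exact hle fun x hx => (hTH.symm ▸ (mem_subgroupOf.mp (e ▸ mem_top (⟨x, hx⟩ : (T : Subgroup G)))) :
      x ∈ (T : Subgroup G) ⊓ H).2
  obtain ⟨⟨x, hxT⟩, hxn, hx0⟩ := SetLike.exists_of_lt (Group.normalizerCondition_of_isNilpotent _ hlt)
  have hxc : x * z * x⁻¹ ∈ zpowers z := by
    have hz0 : z ∈ T0 := hET0 c.zE
    have hconj : x * z * x⁻¹ ∈ T0 :=
      mem_subgroupOf.mp ((mem_normalizer_iff.mp hxn ⟨z, hT hz0⟩).mp (mem_subgroupOf.mpr hz0))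
    have hconjH : x * z * x⁻¹ ∈ H := map_subtype_le _ hconj
    have hcomm : ∀ e ∈ E, e * (x * z * x⁻¹) = (x * z * x⁻¹) * e := by
      intro e he
      have he' : x⁻¹ * e * x ∈ T0 := by
        have := (mem_normalizer_iff''.mp hxn ⟨e, hT (hET0 he)⟩).mp (mem_subgroupOf.mpr (hET0 he))
        exact mem_subgroupOf.mp this
      have h2 : (x⁻¹ * e * x) * z = z * (x⁻¹ * e * x) :=
        mem_centralizer_singleton_iff.mp (map_subtype_le _ he')
      calc e * (x * z * x⁻¹) = x * ((x⁻¹ * e * x) * z) * x⁻¹ := by group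
        _ = x * z * x⁻¹ * e := by rw [h2]; group
    have hE := c.cent _ hconjH hcomm
    obtain ⟨hz, hext⟩ := c.extE
    have hcen : (⟨x * z * x⁻¹, hE⟩ : E) ∈ center E :=
      Subgroup.mem_center_iff.mpr fun g => Subtype.ext (hcomm g g.2)
    rcases (hext.center_iff _).mp hcen with e | e
    · rw [show x * z * x⁻¹ = 1 from congrArg Subtype.val e]; exact one_mem _
    · rw [show x * z * x⁻¹ = z from congrArg Subtype.val e]; exact mem_zpowers z
  rcases c.mem_Z.mp hxc with e | e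
  · exact c.z_ne_one (conj_eq_one_iff.mp e)
  · have hxH : x ∈ H := mem_centralizer_singleton_iff.mpr (mul_inv_eq_iff_eq_mul.mp e)
    exact hx0 (mem_subgroupOf.mpr (hTH ▸ ⟨hxT, hxH⟩))

theorem H0_conj (c : Ctx z P E) {h k : G} (hh : h ∈ centralizer ({z} : Set G)) (hk : k ∈ c.H0) :
    h * k * h⁻¹ ∈ c.H0 := by
  by_cases h0 : h ∈ c.H0
  · exact mul_mem (mul_mem h0 hk) (inv_mem h0)
  · have hhk : h * k ∉ c.H0 := fun e => h0 (by
      have := mul_mem e (inv_mem hk); rwa [mul_inv_cancel_right] at this)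
    have hinv : h⁻¹ ∉ c.H0 := fun e => h0 (by simpa using inv_mem e)
    exact c.H0two _ (mul_mem hh (c.H0le hk)) hhk _ (inv_mem hh) hinv

/-- The image in M22 of a Sylow 2-subgroup is a Sylow 2-subgroup. -/
theorem image_sylow (c : Ctx z P E) (T : Sylow 2 G) (hT : (T : Subgroup G) ≤ centralizer ({z} : Set G)) :
    ∃ S : Sylow 2 MTwoTwo, (S : Subgroup MTwoTwo) = ((T : Subgroup G).subgroupOf c.H0).map c.ψ := by
  classical
  haveI : Fact (Nat.Prime 2) := ⟨Nat.prime_two⟩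
  set H := centralizer ({z} : Set G) with hH
  have hψ : Function.Surjective c.ψ := fun m => by
    obtain ⟨x, -, hx⟩ := c.ψC m; exact ⟨x, hx⟩
  have hp : IsPGroup 2 ((T : Subgroup G).subgroupOf c.H0) :=
    T.isPGroup'.comap_of_injective c.H0.subtype c.H0.subtype_injective
  obtain ⟨S0, hS0⟩ := hp.exists_le_sylow
  have heq : (S0 : Subgroup c.H0) = (T : Subgroup G).subgroupOf c.H0 := by
    refine (eq_of_le_of_card_ge hS0 ?_).symm
    let TH : Sylow 2 H := T.subtype hT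
    have hS1 : IsPGroup 2 (((S0 : Subgroup c.H0).map c.H0.subtype).subgroupOf H) :=
      (S0.isPGroup'.map _).comap_of_injective H.subtype H.subtype_injective
    obtain ⟨T', hT'⟩ := hS1.exists_le_sylow
    obtain ⟨g, hg⟩ := MulAction.exists_smul_eq H TH T'
    have key : ∀ s : (S0 : Subgroup c.H0), ((g : G)⁻¹ * ((s : c.H0) : G) * g) ∈ (T : Subgroup G) ∧
        ((g : G)⁻¹ * ((s : c.H0) : G) * g) ∈ c.H0 := by
      intro s
      refine ⟨?_, by simpa using c.H0_conj (inv_mem g.2) (s : c.H0).2⟩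
      have h1 : (⟨((s : c.H0) : G), c.H0le (s : c.H0).2⟩ : H) ∈ (T' : Subgroup H) :=
        hT' (mem_subgroupOf.mpr ⟨s, s.2, rfl⟩)
      rw [← hg, Sylow.coe_subgroup_smul, Subgroup.pointwise_smul_def] at h1
      obtain ⟨t, ht, e⟩ := h1
      have e' : (g : G) * (t : G) * (g : G)⁻¹ = ((s : c.H0) : G) := congrArg Subtype.val e
      rw [← e', show (g : G)⁻¹ * ((g : G) * t * (g : G)⁻¹) * g = t by group]
      exact ht
    let F : ↥(S0 : Subgroup c.H0) → ↥((T : Subgroup G).subgroupOf c.H0) := fun s =>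
      ⟨⟨_, (key s).2⟩, (key s).1⟩
    refine Nat.card_le_card_of_injective F fun a b e => Subtype.ext (Subtype.ext ?_)
    have e' := congrArg (fun x : (T : Subgroup G).subgroupOf c.H0 => ((x : c.H0) : G)) e
    simpa [F] using e'
  exact ⟨S0.mapSurjective hψ, by rw [Sylow.coe_mapSurjective, heq]⟩

/-- An element of N_H0(T) above A in T lies in the product of A's 2-part and E. -/
theorem twoGrp_le (c : Ctx z P E) {A : Subgroup MTwoTwo} (h : HexLike A) (T : Sylow 2 G)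
    (hET : E ≤ (T : Subgroup G)) (hA : A ≤ ((T : Subgroup G).subgroupOf c.H0).map c.ψ) :
    c.twoGrp A h.1 ≤ (T : Subgroup G) := by
  intro x hx
  obtain ⟨t, ht, hte⟩ := hA hx.2.1
  rw [← c.val_eq t.2] at hte
  obtain ⟨e, he, p, hp, hn⟩ := c.N_decomp (c.val_eq_val (c.cen_le_H0 hx.1) t.2 hte.symm)
  have ht' : x * p⁻¹ ∈ (T : Subgroup G) := by
    have : x * p⁻¹ = (t : G) * e := by
      rw [show x = (t : G) * ((t : G)⁻¹ * x) by group, hn]; group
    rw [this]; exact mul_mem ht (hET he)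
  obtain ⟨k, hk⟩ := T.isPGroup' ⟨_, ht'⟩
  have hk' : (x * p⁻¹) ^ 2 ^ k = 1 := congrArg Subtype.val hk
  have hc : Commute x p⁻¹ := (c.cen_comm hx.1 (inv_mem hp))
  have hx2 : x * x = 1 := c.twoGrp_sq h x hx
  have h2 : p⁻¹ ^ 2 ^ (k + 1) = 1 := by
    have : (x * p⁻¹) ^ 2 ^ (k + 1) = 1 := by rw [pow_succ, pow_mul, hk', one_pow]
    rwa [hc.mul_pow, show x ^ 2 ^ (k + 1) = 1 by rw [pow_succ', pow_mul, sq, hx2, one_pow], one_mul] at this
  have h3 : p⁻¹ ^ 3 = 1 := by rw [pow_succ, sq]; exact c.P_cube (inv_mem hp)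
  have := pow_gcd_eq_one.mpr ⟨h2, h3⟩
  rw [Nat.Coprime.gcd_eq_one (Nat.Coprime.pow_left _ (by norm_num)), pow_one] at this
  rwa [this, mul_one] at ht'

/-- The fixed subgroup and the 2-part above a hexad group give an elementary abelian group of order 2^11. -/
theorem exists_V (c : Ctx z P E) {A : Subgroup MTwoTwo} (h : HexLike A) :
    ∃ V : Subgroup G, IsElementaryAbelian 2 V ∧ Nat.card V = 2 ^ 11 ∧ c.fixB A ≤ V ∧ c.twoGrp A h.1 ≤ V ∧
      V ≤ c.fixB A ⊔ c.twoGrp A h.1 := by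
  obtain ⟨hF7, -, hFsq, hFQ⟩ := c.hex_fix h
  set F := c.fixB A
  set Q := c.twoGrp A h.1
  have hQn : Q ≤ normalizer (F : Set G) := by
    intro x hx
    rw [mem_normalizer_iff]
    intro e
    constructor
    · intro he; rw [hFQ e he x hx, mul_inv_cancel_right]; exact he
    · intro he
      have h2 : x⁻¹ * (x * e * x⁻¹) * x = e := by group
      rw [← h2, hFQ _ he x⁻¹ (inv_mem hx), inv_mul_cancel_right]
      exact he
  have hmem : ∀ v ∈ F ⊔ Q, ∃ e ∈ F, ∃ x ∈ Q, v = e * x := by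
    intro v hv
    rw [← SetLike.mem_coe, Subgroup.coe_mul_of_right_le_normalizer_left F Q hQn] at hv
    obtain ⟨e, he, x, hx, rfl⟩ := hv
    exact ⟨e, he, x, hx, rfl⟩
  have hsq : ∀ v ∈ F ⊔ Q, v * v = 1 := by
    intro v hv
    obtain ⟨e, he, x, hx, rfl⟩ := hmem v hv
    rw [show e * x * (e * x) = e * (x * e) * x by group, hFQ e he x hx,
      show e * (e * x) * x = (e * e) * (x * x) by group, hFsq e he, c.twoGrp_sq h x hx, one_mul]
  have hcard : Nat.card ↥(F ⊔ Q) = 2 ^ 11 := by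
    have hle : F ⊔ Q ≤ c.H0 := sup_le (fun e he => c.NH0 (c.EN (c.fixB_le A he))) fun x hx => c.cen_le_H0 hx.1
    let f : ↥(F ⊔ Q) →* MTwoTwo := c.ψ.comp (Subgroup.inclusion hle)
    have hfv : ∀ v, f v = c.val v := fun v => (c.val_eq (hle v.2)).symm
    have hker : f.ker.map (F ⊔ Q).subtype = F := by
      refine le_antisymm ?_ fun e he => ⟨⟨e, mem_sup_left he⟩, MonoidHom.mem_ker.mpr (by
        rw [hfv]; exact c.val_E (c.fixB_le A he)), rfl⟩
      rintro _ ⟨v, hv, rfl⟩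
      obtain ⟨e, he, x, hx, hvx⟩ := hmem v v.2
      have h1 : c.val x = 1 := by
        have h0 : c.val v = 1 := by rw [← hfv]; exact hv
        rwa [hvx, c.val_mul (c.NH0 (c.EN (c.fixB_le A he))) (c.cen_le_H0 hx.1), c.val_E (c.fixB_le A he),
          one_mul] at h0
      rw [coe_subtype, hvx]
      exact mul_mem he (c.Z_le_fixB A (c.two_ker hx h1))
    have hrange : f.range = A := by
      refine le_antisymm ?_ fun a ha => ?_
      · rintro _ ⟨v, rfl⟩
        obtain ⟨e, he, x, hx, hvx⟩ := hmem v v.2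
        rw [hfv, hvx, c.val_mul (c.NH0 (c.EN (c.fixB_le A he))) (c.cen_le_H0 hx.1), c.val_E (c.fixB_le A he), one_mul]
        exact hx.2.1
      · obtain ⟨y, hy, hv⟩ := c.exists_val a
        obtain ⟨h1, h2⟩ := c.pow_three_two (fun b hb => by rw [← sq]; exact h.1.2 b hb) hy (hv ▸ ha)
        exact ⟨⟨y ^ 3, mem_sup_right h1⟩, (hfv _).trans (h2.trans hv)⟩
    have hc := Subgroup.card_mul_index f.ker
    have hcA : Nat.card A = 16 := h.2.1
    rw [Subgroup.index_ker, hrange, ← card_map_of_injective (F ⊔ Q).subtype_injective, hker, hF7, hcA] at hc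
    omega
  refine ⟨F ⊔ Q, ⟨⟨⟨fun a b => Subtype.ext ?_⟩⟩, fun a ha => by rw [sq]; exact hsq a ha⟩, hcard, le_sup_left,
    le_sup_right, le_rfl⟩
  have ha := hsq _ a.2
  have hb := hsq _ b.2
  have hab := hsq _ (mul_mem a.2 b.2)
  simp only [Subgroup.coe_mul]
  calc (a : G) * b = (a * b)⁻¹ := eq_inv_of_mul_eq_one_left hab
    _ = (b : G)⁻¹ * (a : G)⁻¹ := mul_inv_rev _ _
    _ = b * a := by rw [inv_eq_of_mul_eq_one_left ha, inv_eq_of_mul_eq_one_left hb]

theorem unique_two_eleven (c : Ctx z P E) (T : Sylow 2 G) (hT : (T : Subgroup G) ≤ centralizer ({z} : Set G))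
    (hET : E ≤ (T : Subgroup G)) :
    ∃! V : Subgroup G, V ≤ (T : Subgroup G) ∧ IsElementaryAbelian 2 V ∧ Nat.card V = 2 ^ 11 := by
  classical
  obtain ⟨S, hS⟩ := c.image_sylow T hT
  obtain ⟨A, hAS, hA, hclass⟩ := m22_data S
  rw [hS] at hAS
  obtain ⟨hF7, hFc, hFsq, hFQ⟩ := c.hex_fix hA
  obtain ⟨V, hVel, hVcard, hFV, hQV, hVle⟩ := c.exists_V hA
  have hQT := c.twoGrp_le hA T hET hAS
  refine ⟨V, ⟨hVle.trans (sup_le ((c.fixB_le A).trans hET) hQT), hVel, hVcard⟩, ?_⟩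
  rintro V' ⟨hV'T, hV'el, hV'card⟩
  haveI := hV'el.1
  have hV'H : ∀ v ∈ V', v ∈ centralizer ({z} : Set G) := fun v hv => hT (hV'T hv)
  have hcm : ∀ a ∈ V', ∀ b ∈ V', a * b = b * a := fun a ha b hb => setLike_mul_comm ha hb
  have hsq : ∀ a ∈ V', a * a = 1 := fun a ha => by rw [← sq]; exact hV'el.2 a ha
  set V0 := V' ⊓ c.H0 with hV0
  let f : ↥V0 →* MTwoTwo := c.ψ.comp (Subgroup.inclusion inf_le_right)
  have hfv : ∀ v, f v = c.val v := fun v => (c.val_eq v.2.2).symm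
  set B := f.range with hB
  have hB2 : ∀ b ∈ B, b * b = 1 := by
    rintro _ ⟨v, rfl⟩
    rw [← map_mul, show v * v = 1 from Subtype.ext (hsq _ v.2.1), map_one]
  have hker : f.ker.map V0.subtype = V' ⊓ E := by
    refine le_antisymm ?_ fun e he => ⟨⟨e, he.1, c.NH0 (c.EN he.2)⟩, MonoidHom.mem_ker.mpr (by
      rw [hfv]; exact c.val_E he.2), rfl⟩
    rintro _ ⟨v, hv, rfl⟩
    refine ⟨v.2.1, c.N_two ((c.val_eq_one v.2.2).mp ((hfv v).symm.trans hv)) 1 ?_⟩
    rw [pow_one, sq]; exact hsq _ v.2.1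
  have hV0card : Nat.card V0 = Nat.card ↥(V' ⊓ E) * Nat.card B := by
    rw [← Subgroup.card_mul_index f.ker, Subgroup.index_ker, ← card_map_of_injective V0.subtype_injective, hker]
  have hBel : IsElementaryAbelian 2 B := by
    refine ⟨⟨⟨fun a b => Subtype.ext ?_⟩⟩, fun b hb => by rw [sq]; exact hB2 b hb⟩
    obtain ⟨u, hu⟩ := a.2
    obtain ⟨v, hv⟩ := b.2
    simp only [Subgroup.coe_mul, ← hu, ← hv, ← map_mul]
    rw [show u * v = v * u from Subtype.ext (hcm _ u.2.1 _ v.2.1)]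
  have hBS : B ≤ (S : Subgroup MTwoTwo) := by
    rintro _ ⟨v, rfl⟩
    rw [hS]
    exact ⟨⟨v, v.2.2⟩, hV'T v.2.1, rfl⟩
  have hB16 : Nat.card B ≤ 16 := by
    by_contra hgt
    rcases hclass B hBS hBel (by omega) with e | e
    · have := hA.2.1; rw [← e] at this; omega
    · have := e.1; omega
  set W := (V' ⊓ E) ⊔ zpowers z with hW
  have hWE : W ≤ E := sup_le inf_le_right c.Z_le
  have hWab : ∀ a ∈ W, ∀ b ∈ W, a * b = b * a := by
    have hn : zpowers z ≤ normalizer ((V' ⊓ E : Subgroup G) : Set G) := by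
      intro t ht
      rw [mem_normalizer_iff]
      intro e
      constructor
      · intro he; rw [← c.Z_comm (hV'H e he.1) ht, mul_inv_cancel_right]; exact he
      · intro he
        have h2 : e = t⁻¹ * (t * e * t⁻¹) * t := by group
        rw [h2, ← c.Z_comm (hV'H _ he.1) (inv_mem ht), inv_mul_cancel_right]; exact he
    have hm : ∀ a ∈ W, ∃ e ∈ V' ⊓ E, ∃ t ∈ zpowers z, a = e * t := by
      intro a ha
      rw [hW, ← SetLike.mem_coe, Subgroup.coe_mul_of_right_le_normalizer_left _ _ hn] at ha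
      obtain ⟨e, he, t, ht, rfl⟩ := ha
      exact ⟨e, he, t, ht, rfl⟩
    intro a ha b hb
    obtain ⟨e, he, t, ht, rfl⟩ := hm a ha
    obtain ⟨e', he', t', ht', rfl⟩ := hm b hb
    have h1 : t * e' = e' * t := (c.Z_comm (hV'H e' he'.1) ht).symm
    have h2 : t' * e = e * t' := (c.Z_comm (hV'H e he.1) ht').symm
    have h3 : t * t' = t' * t := c.Z_comm (c.Ez (c.Z_le ht)) ht'
    calc e * t * (e' * t') = e * (t * e') * t' := by group
      _ = e * e' * (t * t') := by rw [h1]; group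
      _ = e' * (e * t') * t := by rw [hcm e he.1 e' he'.1, h3]; group
      _ = e' * t' * (e * t) := by rw [← h2]; group
  have hW7 : Nat.card W ≤ 2 ^ 7 := c.abelian_le hWE (mem_sup_right (mem_zpowers z)) hWab
  have hWcard : Nat.card ↥(V' ⊓ E) ≤ Nat.card W := card_le_of_le le_sup_left
  -- W lies in the fixed group of any image
  have hWfix : W ≤ c.fixB B := by
    refine sup_le ?_ (c.Z_le_fixB B)
    rintro e ⟨heV, heE⟩
    refine ⟨heE, fun x hx => ?_⟩
    obtain ⟨v, hv⟩ := hx.2.1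
    rw [hfv] at hv
    -- x and v differ by an element of N, hence of E
    obtain ⟨e₁, he₁, y, hy, hvy⟩ := c.decomp v v.2.2
    have hy' : y ∈ c.cen := hy
    have hyv : c.val y = c.val x := by
      rw [← hv, hvy, c.val_mul (c.NH0 (c.EN he₁)) (c.cen_le_H0 hy'), c.val_E he₁, one_mul]
    obtain ⟨t, ht, q, hq, hk⟩ := c.cen_N (mul_mem (inv_mem hy') hx.1)
      (c.val_eq_val (c.cen_le_H0 hx.1) (c.cen_le_H0 hy') hyv.symm)
    have hxeq : x = e₁⁻¹ * v * (t * q) := by rw [← hk, hvy]; group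
    -- x² ∈ Z forces q = 1
    have hq1 : q = 1 := by
      have hv2 : (v : G) * v = 1 := hsq _ v.2.1
      have hy4 : y * y * (y * y) = 1 := by
        have hye : y = e₁⁻¹ * v := by rw [hvy]; group
        have hyy : y * y ∈ E := by
          rw [hye, show e₁⁻¹ * (v : G) * (e₁⁻¹ * v) = e₁⁻¹ * ((v : G) * e₁⁻¹ * (v : G)⁻¹) * ((v : G) * v) by group,
            hv2, mul_one]
          exact mul_mem (inv_mem he₁) (c.conj_E (hV'H _ v.2.1) (inv_mem he₁))
        exact c.Z_sq (c.E_inf_cen hyy (mul_mem hy' hy'))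
      have hx' : x = y * (t * q) := by rw [← hk]; group
      have hc1 : Commute y (t * q) := c.cen_N_central (mul_mem (c.Z_le_cen ht) (c.P_le_cen hq))
        (mul_mem (c.EN (c.Z_le ht)) (c.PN hq)) hy'
      have hx4 : x * x * (x * x) = 1 := c.Z_sq hx.2.2
      have hx4' : x ^ 4 = y ^ 4 * (t * q) ^ 4 := by rw [hx', hc1.mul_pow]
      rw [show x ^ 4 = x * x * (x * x) by simp only [pow_succ, pow_zero, one_mul, mul_assoc], hx4, show y ^ 4 = y * y * (y * y) by simp only [pow_succ, pow_zero, one_mul, mul_assoc], hy4, one_mul,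
        (show Commute t q from (c.Z_comm (c.P_le hq) ht).symm).mul_pow,
        show t ^ 4 = t * t * (t * t) by simp only [pow_succ, pow_zero, one_mul, mul_assoc], c.Z_sq ht, one_mul, one_mul,
        show q ^ 4 = q * q * q * q by simp only [pow_succ, pow_zero, one_mul], c.P_cube hq, one_mul] at hx4'
      exact hx4'.symm
    rw [hq1, mul_one] at hxeq
    have hve : (v : G) * e * (v : G)⁻¹ = e := by rw [hcm _ v.2.1 _ heV, mul_inv_cancel_right]
    have hte : t * e * t⁻¹ = e := by rw [← c.Z_comm (c.Ez heE) ht, mul_inv_cancel_right]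
    rw [hxeq, show e₁⁻¹ * (v : G) * t * e * (e₁⁻¹ * (v : G) * t)⁻¹ * e⁻¹ =
      e₁⁻¹ * ((v : G) * (t * e * t⁻¹) * (v : G)⁻¹) * e₁ * e⁻¹ by group, hte, hve]
    have := c.comm_mem_Z (inv_mem he₁) heE
    rwa [inv_inv] at this
  have hduad : Nat.card B = 16 → B ≠ A → Nat.card (c.fixB B) < 2 ^ 7 := fun h16 hne =>
    c.duad_small hB2 ((hclass B hBS hBel h16.ge).resolve_left hne)
  by_cases hout : V' ≤ c.H0
  · -- V' inside H0
    have e : V0 = V' := inf_eq_left.mpr hout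
    rw [e, hV'card] at hV0card
    have hB16' : Nat.card B = 16 ∧ Nat.card ↥(V' ⊓ E) = 2 ^ 7 := by
      have h1 : Nat.card ↥(V' ⊓ E) ≤ 2 ^ 7 := hWcard.trans hW7
      refine ⟨le_antisymm hB16 ?_, le_antisymm h1 ?_⟩
      · by_contra hlt; nlinarith
      · by_contra hlt; nlinarith
    have hBA : B = A := by
      by_contra hne
      have := hduad hB16'.1 hne
      have := card_le_of_le hWfix
      omega
    have hWF : V' ⊓ E = c.fixB A := eq_of_le_of_card_ge (hBA ▸ le_sup_left.trans hWfix) (by rw [hF7, hB16'.2])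
    refine eq_of_le_of_card_ge ?_ (by rw [hV'card, hVcard])
    intro v hv
    obtain ⟨e₁, he₁, y, hy, hvy⟩ := c.decomp v (hout hv)
    have hy' : y ∈ c.cen := hy
    have hye : y = e₁⁻¹ * v := by rw [hvy]; group
    have hyy : y * y ∈ E := by
      rw [hye, show e₁⁻¹ * v * (e₁⁻¹ * v) = e₁⁻¹ * (v * e₁⁻¹ * v⁻¹) * (v * v) by group, hsq v hv, mul_one]
      exact mul_mem (inv_mem he₁) (c.conj_E (hV'H _ hv) (inv_mem he₁))
    have hyv : c.val y = c.val v := by
      rw [hvy, c.val_mul (c.NH0 (c.EN he₁)) (c.cen_le_H0 hy'), c.val_E he₁, one_mul]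
    have hyQ : y ∈ c.twoGrp A hA.1 := ⟨hy', by
      rw [hyv, ← hBA]; exact ⟨⟨v, hv, hout hv⟩, hfv _⟩, c.E_inf_cen hyy (mul_mem hy' hy')⟩
    have he₁F : e₁ ∈ c.fixB A := by
      rw [← hFc]
      refine ⟨he₁, mem_centralizer_iff.mpr fun e he => ?_⟩
      have hev : e ∈ V' := ((hWF.symm ▸ he) : e ∈ V' ⊓ E).1
      have h1 : e * (e₁ * y) = e₁ * y * e := by rw [← hvy]; exact hcm e hev v hv
      have h2 : y * e = e * y := hFQ e he y hyQ
      rw [mul_assoc e₁, h2, ← mul_assoc, ← mul_assoc] at h1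
      exact mul_right_cancel h1
    rw [hvy]
    exact mul_mem (hFV he₁F) (hQV hyQ)
  · -- an element outside H0 leads to a contradiction
    exfalso
    obtain ⟨f', hf'V, hf'0⟩ := SetLike.not_le_iff_exists.mp hout
    have hV0half : Nat.card V0 * 2 = 2 ^ 11 := by
      have hi : (V0.subgroupOf V').index = 2 := by
        refine Subgroup.index_eq_two_iff.mpr ⟨⟨f', hf'V⟩, fun b => ?_⟩
        by_cases hb : (b : G) ∈ c.H0
        · refine Or.inr ⟨mem_subgroupOf.mpr ⟨b.2, hb⟩, fun hbf => hf'0 ?_⟩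
          have := mul_mem (inv_mem hb) (mem_subgroupOf.mp hbf).2
          simpa using this
        · exact Or.inl ⟨mem_subgroupOf.mpr ⟨mul_mem b.2 hf'V, c.H0two _ (hV'H _ b.2) hb _ (hV'H _ hf'V) hf'0⟩,
            fun h => hb (mem_subgroupOf.mp h).2⟩
      have := Subgroup.card_mul_index (V0.subgroupOf V')
      rwa [hi, Nat.card_congr (subgroupOfEquivOfLe inf_le_left).toEquiv, hV'card] at this
    obtain ⟨p, hp, -, hgen⟩ := c.exists_gen
    obtain ⟨e₂, he₂, n, hn, hfn, hninv⟩ := c.outer f' (hV'H _ hf'V) hf'0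
    -- the part fixed by f'
    let Φ := c.fixB B ⊓ c.fixGrp {f'} (Set.singleton_subset_iff.mpr (hV'H _ hf'V))
    have hWΦ : W ≤ Φ := le_inf hWfix (sup_le (fun e he => ⟨he.2, fun x hx => by
      rw [Set.mem_singleton_iff.mp hx, hcm _ hf'V _ he.1, mul_inv_cancel_right, mul_inv_cancel]
      exact one_mem _⟩) (c.Z_le_fixGrp _ _))
    have hΦdisj : ∀ e ∈ Φ, p * e * p⁻¹ ∈ Φ → e ∈ zpowers z := by
      intro e he hpe
      -- modulo the centre f' acts as n
      have key : ∀ u ∈ Φ, n * u * n⁻¹ * u⁻¹ ∈ zpowers z := by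
        intro u hu
        have h1 := hu.2.2 f' rfl
        have huE : u ∈ E := c.fixB_le B hu.1
        have e1 : f' * u * f'⁻¹ * u⁻¹ =
            (e₂ * (n * u * n⁻¹) * e₂⁻¹ * (n * u * n⁻¹)⁻¹) * (n * u * n⁻¹ * u⁻¹) := by rw [hfn]; group
        rw [e1] at h1
        have h2 := c.comm_mem_Z he₂ (c.conj_E hn huE)
        have := mul_mem (inv_mem h2) h1
        rwa [inv_mul_cancel_left] at this
      have hk1 := key e he
      have hk2 := key _ hpe
      have hpn : n * p = p⁻¹ * n := by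
        rw [← hninv p hp]; group
      have heE : e ∈ E := c.fixB_le B he.1
      -- n p e p⁻¹ n⁻¹ ≡ p⁻¹ e p
      set s := n * e * n⁻¹ * e⁻¹ with hs
      have e3 : n * (p * e * p⁻¹) * n⁻¹ = p⁻¹ * (s * e) * p := by
        rw [show n * (p * e * p⁻¹) * n⁻¹ = (n * p) * e * (n * p)⁻¹ by group, hpn, hs]; group
      have e4 : p⁻¹ * (s * e) * p = s * (p⁻¹ * e * p) := by
        rw [show p⁻¹ * (s * e) * p = (p⁻¹ * s) * e * p by group, c.Z_comm (inv_mem (c.P_le hp)) hk1]; group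
      rw [e3, e4, mul_assoc s] at hk2
      have hm : p⁻¹ * e * p * (p * e * p⁻¹)⁻¹ ∈ zpowers z := by
        have := mul_mem (inv_mem hk1) hk2
        rwa [inv_mul_cancel_left] at this
      refine c.fixed_mem_Z hp hgen heE ?_
      -- with p³ = 1 this says that p fixes e
      have p3 : p * p * p = 1 := c.P_cube hp
      have hp2 : p * p = p⁻¹ := eq_inv_of_mul_eq_one_left p3
      have e5 : p * (p⁻¹ * e * p * (p * e * p⁻¹)⁻¹) * p⁻¹ = e * (p⁻¹ * e * p)⁻¹ := by
        rw [show p * (p⁻¹ * e * p * (p * e * p⁻¹)⁻¹) * p⁻¹ = e * ((p * p) * e⁻¹ * (p * p)⁻¹) by group, hp2]; group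
      rw [c.Z_comm (c.P_le hp) hm, mul_inv_cancel_right] at e5
      rw [e5] at hm
      have h6 : p * (e * (p⁻¹ * e * p)⁻¹) * p⁻¹ = p * e * p⁻¹ * e⁻¹ := by group
      rw [← h6, c.Z_comm (c.P_le hp) hm, mul_inv_cancel_right]
      exact hm
    have hΦcard : Nat.card Φ * Nat.card Φ ≤ Nat.card (c.fixB B) * 2 := by
      let Zs := (zpowers z).subgroupOf Φ
      have hΦE : Φ ≤ E := inf_le_left.trans (c.fixB_le B)
      let g : Φ × (Φ ⧸ Zs) → c.fixB B := fun x =>
        ⟨x.1 * (p * (x.2.out : Φ) * p⁻¹), mul_mem x.1.2.1 (c.fixB_P hp x.2.out.2.1)⟩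
      have hg : Function.Injective g := by
        rintro ⟨a, q⟩ ⟨a', q'⟩ hxy
        have e : (a : G) * (p * (q.out : Φ) * p⁻¹) = a' * (p * (q'.out : Φ) * p⁻¹) := congrArg Subtype.val hxy
        set u : G := (q'.out : Φ) * ((q.out : Φ) : G)⁻¹ with hu
        have hu1 : p * u * p⁻¹ = (a' : G)⁻¹ * a := by
          have h1 : p * (q'.out : Φ) * p⁻¹ = (a' : G)⁻¹ * ((a : G) * (p * (q.out : Φ) * p⁻¹)) := by rw [e]; group
          rw [hu, show p * ((q'.out : Φ) * ((q.out : Φ) : G)⁻¹) * p⁻¹ =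
            (p * (q'.out : Φ) * p⁻¹) * (p * (q.out : Φ) * p⁻¹)⁻¹ by group, h1]
          group
        have huΦ : u ∈ Φ := mul_mem q'.out.2 (inv_mem q.out.2)
        have huZ : u ∈ zpowers z := hΦdisj u huΦ (hu1.symm ▸ mul_mem (inv_mem a'.2) a.2)
        have hq : q = q' := by
          rw [← q.out_eq, ← q'.out_eq]
          refine Quotient.sound' (QuotientGroup.leftRel_apply.mpr ?_)
          rw [mem_subgroupOf]
          show ((q.out : Φ) : G)⁻¹ * (q'.out : Φ) ∈ zpowers z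
          have e2 : ((q.out : Φ) : G)⁻¹ * (q'.out : Φ) = ((q.out : Φ) : G)⁻¹ * u * (q.out : Φ) := by
            rw [hu]; group
          rw [e2, c.Z_comm (inv_mem (c.Ez (hΦE q.out.2))) huZ, inv_mul_cancel_right]
          exact huZ
        subst hq
        exact Prod.ext (Subtype.ext (mul_right_cancel e)) rfl
      have h1 := Nat.card_le_card_of_injective g hg
      rw [Nat.card_prod] at h1
      have h2 := Subgroup.card_eq_card_quotient_mul_card_subgroup Zs
      rw [Nat.card_congr (subgroupOfEquivOfLe (le_inf (c.Z_le_fixB B) (c.Z_le_fixGrp _ _))).toEquiv, c.card_Z] at h2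
      calc Nat.card Φ * Nat.card Φ = Nat.card Φ * Nat.card (Φ ⧸ Zs) * 2 := by rw [mul_assoc, ← h2]
        _ ≤ _ := Nat.mul_le_mul_right 2 h1
    have hWΦc := card_le_of_le hWΦ
    have hV0' : Nat.card ↥(V' ⊓ E) * Nat.card B = 2 ^ 10 := by omega
    obtain ⟨m, -, hm⟩ := c.card_two_pow (inf_le_right : V' ⊓ E ≤ E)
    have hm7 : m ≤ 7 := (Nat.pow_le_pow_iff_right (by norm_num)).mp (hm ▸ hWcard.trans hW7)
    have hm6 : 6 ≤ m := by
      by_contra hlt
      have : 2 ^ m ≤ 2 ^ 5 := Nat.pow_le_pow_right (by norm_num) (by omega)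
      rw [hm] at hV0'
      nlinarith
    have hB2' : B ≠ ⊥ := by
      intro e
      rw [e, card_bot, hm] at hV0'
      have : 2 ^ m ≤ 2 ^ 7 := Nat.pow_le_pow_right (by norm_num) hm7
      omega
    interval_cases m
    · -- sixteen
      have h16 : Nat.card B = 16 := by
        rw [hm] at hV0'
        exact Nat.eq_of_mul_eq_mul_left (show 0 < 2 ^ 6 by norm_num) (hV0'.trans (by norm_num))
      have hΦ6 : 2 ^ 6 ≤ Nat.card Φ := hm ▸ hWcard.trans hWΦc
      have hfix : Nat.card (c.fixB B) < 2 ^ 8 := by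
        by_cases hne : B = A
        · rw [hne, hF7]; norm_num
        · exact (hduad h16 hne).trans (by norm_num)
      have := Nat.mul_le_mul hΦ6 hΦ6
      omega
    · have hΦ7 : 2 ^ 7 ≤ Nat.card Φ := hm ▸ hWcard.trans hWΦc
      have hbig : 2 ^ 13 ≤ Nat.card (c.fixB B) := by
        have := Nat.mul_le_mul hΦ7 hΦ7
        omega
      have hall : c.fixB B = E := eq_of_le_of_card_ge (c.fixB_le B) (by rw [c.hE]; exact hbig)
      obtain ⟨b, hb1⟩ := Subgroup.ne_bot_iff_exists_ne_one.mp hB2'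
      obtain ⟨e, he, hne⟩ := c.fixB_ne hB2 b.2 (fun e => hb1 (Subtype.ext e))
      exact hne (hall.symm ▸ he)

end Ctx

end CfsgLib.JankoFour
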