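/-
Commutators with E and the symmetry of the action of an involution.
-/
import Cfsg.Agent.Lib.JankoFour.TwoEleven

set_option autoImplicit false

namespace CfsgLib.JankoFour

open Cfsg Subgroup
open scoped commutatorElement

universe u

variable {G : Type u} [Group G] [Finite G] {z : G} {P E : Subgroup G}

namespace Ctx

theorem comm_E (c : Ctx z P E) {a b : G} (ha : a ∈ E) (hb : b ∈ E) : ⁅a, b⁆ ∈ zpowers z := c.comm_mem_Z ha hb

theorem mem_ZH (c : Ctx z P E) {t : G} (ht : t ∈ zpowers z) : t ∈ centralizer ({z} : Set G) := c.Ez (c.Z_le ht)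

theorem Z_conj (c : Ctx z P E) {h t : G} (hh : h ∈ centralizer ({z} : Set G)) (ht : t ∈ zpowers z) :
    h * t * h⁻¹ = t := by
  rw [c.Z_comm hh ht, mul_inv_cancel_right]

theorem Z_inv (c : Ctx z P E) {t : G} (ht : t ∈ zpowers z) : t⁻¹ = t := inv_eq_of_mul_eq_one_left (c.Z_sq ht)

theorem comm_mul_left (c : Ctx z P E) {a b f : G} (ha : a ∈ E) (hb : b ∈ E) (hf : f ∈ E) :
    ⁅a * b, f⁆ = ⁅a, f⁆ * ⁅b, f⁆ := by
  rw [commutatorElement_mul_left_eq_conj_mul, c.Z_conj (c.Ez ha) (c.comm_E hb hf),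
    c.Z_comm (c.mem_ZH (c.comm_E hb hf)) (c.comm_E ha hf)]

theorem comm_mul_right (c : Ctx z P E) {a b f : G} (ha : a ∈ E) (hb : b ∈ E) (hf : f ∈ E) :
    ⁅f, a * b⁆ = ⁅f, a⁆ * ⁅f, b⁆ := by
  rw [commutatorElement_mul_right_eq_mul_conj, mul_assoc _ a, mul_assoc ⁅f, a⁆,
    c.Z_conj (c.Ez ha) (c.comm_E hf hb)]

theorem comm_swap (c : Ctx z P E) {a b : G} (ha : a ∈ E) (hb : b ∈ E) : ⁅a, b⁆ = ⁅b, a⁆ := by
  rw [← commutatorElement_inv, c.Z_inv (c.comm_E hb ha)]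

theorem comm_inv_left (c : Ctx z P E) {a f : G} (ha : a ∈ E) (hf : f ∈ E) : ⁅a⁻¹, f⁆ = ⁅a, f⁆ := by
  rw [commutatorElement_inv_left, c.Z_comm (c.Ez (inv_mem ha)) (c.comm_E hf ha), inv_mul_cancel_right,
    c.comm_swap hf ha]

theorem delta_E (c : Ctx z P E) {x e : G} (hx : x ∈ centralizer ({z} : Set G)) (he : e ∈ E) : ⁅x, e⁆ ∈ E :=
  mul_mem (c.conj_E hx he) (inv_mem he)

theorem conj_comm (c : Ctx z P E) {h a b : G} (hh : h ∈ centralizer ({z} : Set G)) (ha : a ∈ E) (hb : b ∈ E) :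
    ⁅h * a * h⁻¹, h * b * h⁻¹⁆ = ⁅a, b⁆ := by
  conv_rhs => rw [← c.Z_conj hh (c.comm_E ha hb)]
  simp only [commutatorElement_def]
  group

theorem delta_mul (c : Ctx z P E) {x a b : G} (hx : x ∈ centralizer ({z} : Set G)) (ha : a ∈ E) (hb : b ∈ E) :
    (⁅x, a⁆ * ⁅x, b⁆)⁻¹ * ⁅x, a * b⁆ ∈ zpowers z := by
  rw [commutatorElement_mul_right_eq_mul_conj, show (⁅x, a⁆ * ⁅x, b⁆)⁻¹ * (⁅x, a⁆ * a * ⁅x, b⁆ * a⁻¹) =
    ⁅⁅x, b⁆⁻¹, a⁆ by simp only [commutatorElement_def]; group]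
  exact c.comm_E (inv_mem (c.delta_E hx hb)) ha

theorem comm_Z_left (c : Ctx z P E) {t f : G} (ht : t ∈ zpowers z) (hf : f ∈ E) : ⁅t, f⁆ = 1 :=
  commutatorElement_eq_one_iff_mul_comm.mpr (c.Z_comm (c.Ez hf) ht).symm

/-- An element with square in the centre acts symmetrically. -/
theorem delta_sym (c : Ctx z P E) {x e f : G} (hx : x ∈ centralizer ({z} : Set G)) (hx2 : x * x ∈ zpowers z)
    (he : e ∈ E) (hf : f ∈ E) : ⁅⁅x, e⁆, f⁆ = ⁅e, ⁅x, f⁆⁆ := by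
  have hxe : ⁅x, e⁆ = x * e * x⁻¹ * e⁻¹ := commutatorElement_def _ _
  have hxf : x * f * x⁻¹ = ⁅x, f⁆ * f := by rw [commutatorElement_def, inv_mul_cancel_right]
  have hxfE := c.delta_E hx hf
  -- conjugation by x⁻¹ agrees with conjugation by x
  have hinv : x⁻¹ * f * x = x * f * x⁻¹ := by
    have h2 : x * x * f * (x * x)⁻¹ = f := by rw [← c.Z_comm (c.Ez hf) hx2, mul_inv_cancel_right]
    calc x⁻¹ * f * x = x⁻¹ * (x * x * f * (x * x)⁻¹) * x := by rw [h2]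
      _ = x * f * x⁻¹ := by group
  have h1 : ⁅x * e * x⁻¹, f⁆ = ⁅e, x * f * x⁻¹⁆ := by
    rw [← hinv]
    have := c.conj_comm hx he (by rw [hinv]; exact c.conj_E hx hf : x⁻¹ * f * x ∈ E)
    rw [← this, show x * (x⁻¹ * f * x) * x⁻¹ = f by group]
  rw [hxe, c.comm_mul_left (c.conj_E hx he) (inv_mem he) hf, h1, hxf, c.comm_mul_right hxfE hf he,
    c.comm_inv_left he hf, mul_assoc, c.Z_sq (c.comm_E he hf), mul_one]

theorem delta_P (c : Ctx z P E) {x e p : G} (hxp : x * p = p * x) :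
    ⁅x, p * e * p⁻¹⁆ = p * ⁅x, e⁆ * p⁻¹ := by
  have hxp' : x * p⁻¹ = p⁻¹ * x := ((show Commute x p from hxp).inv_right).eq
  simp only [commutatorElement_def]
  calc x * (p * e * p⁻¹) * x⁻¹ * (p * e * p⁻¹)⁻¹
      = (x * p) * e * (x * p)⁻¹ * (p * e * p⁻¹)⁻¹ := by group
    _ = (p * x) * e * (p * x)⁻¹ * (p * e * p⁻¹)⁻¹ := by rw [hxp]
    _ = p * (x * e * x⁻¹ * e⁻¹) * p⁻¹ := by group

/-- Every element is orthogonal to its own image. -/
theorem delta_diag (c : Ctx z P E) {x : G} (hx : x ∈ c.cen) (hx2 : x * x ∈ zpowers z) :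
    ∀ e ∈ E, ⁅⁅x, e⁆, e⁆ = 1 := by
  intro e he
  obtain ⟨p, hp, -, hgen⟩ := c.exists_gen
  refine c.hom_trivial le_rfl c.Z_le hp hgen (fun e he => c.conj_E (c.P_le hp) he) (fun e => ⁅⁅x, e⁆, e⁆)
    (fun a ha b hb => ?_) (fun a ha => ?_) ?_ e he
  · show ⁅⁅x, a * b⁆, a * b⁆ = ⁅⁅x, a⁆, a⁆ * ⁅⁅x, b⁆, b⁆
    have hab := mul_mem ha hb
    have hd : ⁅x, a * b⁆ = (⁅x, a⁆ * ⁅x, b⁆) * ((⁅x, a⁆ * ⁅x, b⁆)⁻¹ * ⁅x, a * b⁆) := (mul_inv_cancel_left _ _).symm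
    have dA := c.delta_E hx.1 ha
    have dB := c.delta_E hx.1 hb
    rw [hd, c.comm_mul_left (mul_mem dA dB) (c.Z_le (c.delta_mul hx.1 ha hb)) hab,
      c.comm_Z_left (c.delta_mul hx.1 ha hb) hab, mul_one, c.comm_mul_left dA dB hab, c.comm_mul_right ha hb dA,
      c.comm_mul_right ha hb dB, c.delta_sym hx.1 hx2 hb ha, c.comm_swap hb (c.delta_E hx.1 ha)]
    rw [show ⁅⁅x, a⁆, a⁆ * ⁅⁅x, a⁆, b⁆ * (⁅⁅x, a⁆, b⁆ * ⁅⁅x, b⁆, b⁆) =
      ⁅⁅x, a⁆, a⁆ * (⁅⁅x, a⁆, b⁆ * ⁅⁅x, a⁆, b⁆) * ⁅⁅x, b⁆, b⁆ by group, c.Z_sq (c.comm_E dA hb), mul_one]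
  · show ⁅⁅x, p * a * p⁻¹⁆, p * a * p⁻¹⁆ = ⁅⁅x, a⁆, a⁆
    rw [c.delta_P (c.cen_comm hx hp), c.conj_comm (c.P_le hp) (c.delta_E hx.1 ha) ha]
  · show ⁅⁅x, z⁆, z⁆ = 1
    rw [commutatorElement_eq_one_iff_mul_comm.mpr (mem_centralizer_singleton_iff.mp hx.1)]
    simp [commutatorElement_def]

/-- The kernel of the action of an element modulo the centre. -/
def ker1 (c : Ctx z P E) {x : G} (hx : x ∈ centralizer ({z} : Set G)) : Subgroup G :=
  c.fixGrp {x} (Set.singleton_subset_iff.mpr hx)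

theorem mem_ker1 (c : Ctx z P E) {x e : G} {hx : x ∈ centralizer ({z} : Set G)} :
    e ∈ c.ker1 hx ↔ e ∈ E ∧ ⁅x, e⁆ ∈ zpowers z := by
  rw [ker1, mem_fixGrp]
  simp [commutatorElement_def]

theorem ker1_le (c : Ctx z P E) {x : G} (hx : x ∈ centralizer ({z} : Set G)) : c.ker1 hx ≤ E := c.fixGrp_le _ _

theorem Z_le_ker1 (c : Ctx z P E) {x : G} (hx : x ∈ centralizer ({z} : Set G)) : zpowers z ≤ c.ker1 hx :=
  c.Z_le_fixGrp _ _

/-- The image of an element with square in the centre. -/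
theorem image_eq (c : Ctx z P E) {x : G} (hx : x ∈ centralizer ({z} : Set G)) (hx2 : x * x ∈ zpowers z) :
    (∀ f ∈ E, ⁅x, f⁆ ∈ E ⊓ centralizer (c.ker1 hx : Set G)) ∧
      ∀ m ∈ E ⊓ centralizer (c.ker1 hx : Set G), ∃ f ∈ E, ⁅x, f⁆⁻¹ * m ∈ zpowers z := by
  classical
  set K := c.ker1 hx
  set S := E ⊓ centralizer (K : Set G) with hS
  have hmem : ∀ f ∈ E, ⁅x, f⁆ ∈ S := fun f hf => ⟨c.delta_E hx hf, mem_centralizer_iff.mpr fun e he => by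
    obtain ⟨heE, het⟩ := c.mem_ker1.mp he
    have h := c.delta_sym hx hx2 hf heE
    rw [commutatorElement_eq_one_iff_mul_comm.mpr (c.Z_comm (c.Ez hf) het)] at h
    exact (commutatorElement_eq_one_iff_mul_comm.mp h).symm⟩
  refine ⟨hmem, ?_⟩
  let Zs := (zpowers z).subgroupOf E
  haveI : Zs.Normal := ⟨fun w hw u => by
    rw [mem_subgroupOf] at hw ⊢
    simp only [Subgroup.coe_mul, Subgroup.coe_inv]
    rw [c.Z_conj (c.Ez u.2) hw]; exact hw⟩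
  let φ : E →* E ⧸ Zs :=
    { toFun := fun f => QuotientGroup.mk (⟨⁅x, (f : G)⁆, c.delta_E hx f.2⟩ : E)
      map_one' := (QuotientGroup.eq_one_iff _).mpr (by
        rw [mem_subgroupOf]; simp [commutatorElement_def])
      map_mul' := fun a b => by
        rw [← QuotientGroup.mk_mul, QuotientGroup.eq, mem_subgroupOf]
        simp only [Subgroup.coe_mul, Subgroup.coe_inv]
        have h := inv_mem (c.delta_mul hx a.2 b.2)
        rw [mul_inv_rev, inv_inv] at h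
        exact h }
  have hker : φ.ker = K.subgroupOf E := by
    ext f
    rw [MonoidHom.mem_ker, mem_subgroupOf]
    refine Iff.trans (QuotientGroup.eq_one_iff _) ?_
    rw [mem_subgroupOf, c.mem_ker1]
    exact ⟨fun h => ⟨f.2, h⟩, fun h => h.2⟩
  let T : Subgroup (E ⧸ Zs) := (S.subgroupOf E).map (QuotientGroup.mk' Zs)
  have hle : φ.range ≤ T := by
    rintro _ ⟨f, rfl⟩
    exact ⟨⟨_, c.delta_E hx f.2⟩, mem_subgroupOf.mpr (hmem f f.2), rfl⟩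
  have hZS : zpowers z ≤ S := fun t ht => ⟨c.Z_le ht, mem_centralizer_iff.mpr fun e he =>
    c.Z_comm (c.Ez (c.ker1_le hx he)) ht⟩
  have hT : Nat.card T * 2 = Nat.card S := by
    let g : S.subgroupOf E →* E ⧸ Zs := (QuotientGroup.mk' Zs).comp (S.subgroupOf E).subtype
    have hgr : g.range = T := by rw [MonoidHom.range_comp, range_subtype]
    have hgk : g.ker.map (S.subgroupOf E).subtype = Zs := by
      refine le_antisymm ?_ fun t ht => ⟨⟨t, mem_subgroupOf.mpr (hZS (mem_subgroupOf.mp ht))⟩,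
        MonoidHom.mem_ker.mpr ((QuotientGroup.eq_one_iff t).mpr ht), rfl⟩
      rintro _ ⟨t, ht, rfl⟩
      exact (QuotientGroup.eq_one_iff _).mp (MonoidHom.mem_ker.mp ht)
    have h1 := Subgroup.card_mul_index g.ker
    rw [Subgroup.index_ker, hgr, ← card_map_of_injective (S.subgroupOf E).subtype_injective, hgk,
      Nat.card_congr (subgroupOfEquivOfLe (c.Z_le)).toEquiv, c.card_Z,
      Nat.card_congr (subgroupOfEquivOfLe (inf_le_left : S ≤ E)).toEquiv] at h1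
    rw [hS]; omega
  have hcK := c.cent_card (c.ker1_le hx) (c.Z_le_ker1 hx (mem_zpowers z))
  rw [← hS] at hcK
  have h2 := Subgroup.card_mul_index φ.ker
  rw [Subgroup.index_ker, hker, Nat.card_congr (subgroupOfEquivOfLe (c.ker1_le hx)).toEquiv, c.hE] at h2
  have heq : φ.range = T := by
    refine eq_of_le_of_card_ge hle ?_
    rw [← hT] at hcK
    have h3 : Nat.card K * (Nat.card T * 2) = Nat.card K * (Nat.card φ.range * 2) := by
      rw [hcK, ← mul_assoc, h2]; norm_num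
    have := Nat.eq_of_mul_eq_mul_left Nat.card_pos h3
    omega
  intro m hm
  have hmT : QuotientGroup.mk' Zs ⟨m, hm.1⟩ ∈ T := ⟨⟨m, hm.1⟩, mem_subgroupOf.mpr hm, rfl⟩
  rw [← heq] at hmT
  obtain ⟨f, hf⟩ := hmT
  refine ⟨f, f.2, ?_⟩
  have h := QuotientGroup.eq.mp hf
  rw [mem_subgroupOf] at h
  exact h

/-- An element fixed by P modulo a P-invariant subgroup lies in it. -/
theorem sec_fpf (c : Ctx z P E) {W : Subgroup G} (hWE : W ≤ E) (hZW : zpowers z ≤ W) {p : G} (hp : p ∈ P)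
    (hgen : P = zpowers p) (hW : ∀ e ∈ W, p * e * p⁻¹ ∈ W) {u : G} (hu : u ∈ E) (h : ⁅p, u⁆ ∈ W) : u ∈ W := by
  obtain ⟨a, ha, ht⟩ := c.delta_surj hWE hZW hp hgen hW _ h
  set t := (a⁻¹ * (p * a * p⁻¹))⁻¹ * ⁅p, u⁆
  have hwt : ⁅p, u⁆ = a⁻¹ * (p * a * p⁻¹) * t := (mul_inv_cancel_left _ _).symm
  have hpa : ⁅p, a⁆ ∈ E := c.delta_E (c.P_le hp) (hWE ha)
  -- modulo the centre the two commutators agree
  have h1 : a⁻¹ * (p * a * p⁻¹) = ⁅a⁻¹, ⁅p, a⁆⁆ * ⁅p, a⁆ := by simp only [commutatorElement_def]; group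
  have hk : ⁅p, u⁆ * ⁅p, a⁆⁻¹ ∈ zpowers z := by
    rw [hwt, h1, show ⁅a⁻¹, ⁅p, a⁆⁆ * ⁅p, a⁆ * t * ⁅p, a⁆⁻¹ = ⁅a⁻¹, ⁅p, a⁆⁆ * (⁅p, a⁆ * t * ⁅p, a⁆⁻¹) by group,
      c.Z_conj (c.Ez hpa) ht]
    exact mul_mem (c.comm_E (inv_mem (hWE ha)) hpa) ht
  have hfix : u * a⁻¹ ∈ zpowers z := by
    refine c.fixed_mem_Z hp hgen (mul_mem hu (inv_mem (hWE ha))) ?_
    show ⁅p, u * a⁻¹⁆ ∈ zpowers z
    rw [commutatorElement_mul_right_eq_mul_conj, commutatorElement_inv_right,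
      show ⁅p, u⁆ * u * (a⁻¹ * ⁅a, p⁆ * a) * u⁻¹ = ⁅p, u⁆ * ((u * a⁻¹) * ⁅p, a⁆⁻¹ * (u * a⁻¹)⁻¹) by
        rw [← commutatorElement_inv p a]; group,
      show (u * a⁻¹) * ⁅p, a⁆⁻¹ * (u * a⁻¹)⁻¹ = ⁅u * a⁻¹, ⁅p, a⁆⁻¹⁆ * ⁅p, a⁆⁻¹ by
        rw [commutatorElement_def (u * a⁻¹)]; group,
      ← mul_assoc, c.Z_comm (c.Ez (c.delta_E (c.P_le hp) hu)) (c.comm_E (mul_mem hu (inv_mem (hWE ha))) (inv_mem hpa)),
      mul_assoc]
    exact mul_mem (c.comm_E (mul_mem hu (inv_mem (hWE ha))) (inv_mem hpa)) hk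
  have : u = (u * a⁻¹) * a := by group
  rw [this]
  exact mul_mem (hZW hfix) ha

/-- A P-invariant subgroup of E above the centre has order twice a power of four. -/
theorem three_dvd (c : Ctx z P E) {W : Subgroup G} (hWE : W ≤ E) (hZW : zpowers z ≤ W)
    (hW : ∀ p ∈ P, ∀ e ∈ W, p * e * p⁻¹ ∈ W) : Nat.card W % 3 = 2 := by
  classical
  haveI : Fact (Nat.Prime 3) := ⟨Nat.prime_three⟩
  letI : MulAction P W :=
    { smul := fun p e => ⟨p * e * (p : G)⁻¹, hW p p.2 e e.2⟩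
      one_smul := fun e => Subtype.ext (by show (1 : G) * e * (1 : G)⁻¹ = e; group)
      mul_smul := fun a b e => Subtype.ext (by
        show ((a : G) * b) * e * ((a : G) * b)⁻¹ = a * (b * e * (b : G)⁻¹) * (a : G)⁻¹; group) }
  have hP3 : IsPGroup 3 P := IsPGroup.of_card (n := 1) (by rw [c.hP, pow_one])
  have h := hP3.card_modEq_card_fixedPoints W
  have e : MulAction.fixedPoints P W = {e : W | (e : G) ∈ zpowers z} := by
    ext e
    rw [MulAction.mem_fixedPoints, Set.mem_ofPred_eq]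
    refine ⟨fun he => c.fpf e (hWE e.2) fun p hp => ?_, fun he p => Subtype.ext ?_⟩
    · exact mul_inv_eq_iff_eq_mul.mp (congrArg Subtype.val (he ⟨p, hp⟩))
    · show (p : G) * e * (p : G)⁻¹ = e
      exact c.Z_conj (c.P_le p.2) he
  rw [e] at h
  have h2 : Nat.card ↥{e : W | (e : G) ∈ zpowers z} = 2 := by
    rw [← c.card_Z]
    exact Nat.card_congr ⟨fun x => ⟨x.1.1, x.2⟩, fun x => ⟨⟨x.1, hZW x.2⟩, x.2⟩, fun x => rfl, fun x => rfl⟩
  rw [h2] at h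
  exact h

/-- A P-invariant subgroup of order at least four has order at least eight. -/
theorem card_cases (c : Ctx z P E) {W : Subgroup G} (hWE : W ≤ E) (hZW : zpowers z ≤ W)
    (hW : ∀ p ∈ P, ∀ e ∈ W, p * e * p⁻¹ ∈ W) : ∃ m ≤ 6, Nat.card W = 2 ^ (2 * m + 1) := by
  obtain ⟨n, hn, he⟩ := c.card_two_pow hWE
  have h := c.three_dvd hWE hZW hW
  rw [he] at h
  interval_cases n <;> first | (exfalso; norm_num at h; done) | skip
  · exact ⟨0, by norm_num, he⟩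
  · exact ⟨1, by norm_num, he⟩
  · exact ⟨2, by norm_num, he⟩
  · exact ⟨3, by norm_num, he⟩
  · exact ⟨4, by norm_num, he⟩
  · exact ⟨5, by norm_num, he⟩
  · exact ⟨6, by norm_num, he⟩

end Ctx

end CfsgLib.JankoFour
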