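/-
The centralizer of P in H over M22, and its Sylow 3-subgroups.
-/
import Cfsg.Agent.Lib.JankoFour.Sym
import Cfsg.Agent.Lib.JankoFour.M22Three

set_option autoImplicit false

namespace CfsgLib.JankoFour

open Cfsg Subgroup
open scoped commutatorElement

universe u

variable {G : Type u} [Group G] [Finite G] {z : G} {P E : Subgroup G}

namespace Ctx

/-- The map of the centralizer of P onto M22. -/
noncomputable def valHom (c : Ctx z P E) : c.cen →* MTwoTwo where
  toFun x := c.val x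
  map_one' := (c.val_eq_one (one_mem _)).mpr (one_mem _)
  map_mul' x y := c.val_mul (c.cen_le_H0 x.2) (c.cen_le_H0 y.2)

theorem valHom_apply (c : Ctx z P E) (x : c.cen) : c.valHom x = c.val x := rfl

theorem valHom_surj (c : Ctx z P E) : Function.Surjective c.valHom := fun m => by
  obtain ⟨x, hx, hv⟩ := c.exists_val m
  exact ⟨⟨x, hx⟩, hv⟩

theorem card_valKer (c : Ctx z P E) : Nat.card c.valHom.ker = 6 := by
  let F : zpowers z × P → c.valHom.ker := fun x =>
    ⟨⟨(x.1 : G) * x.2, mul_mem (c.Z_le_cen x.1.2) (c.P_le_cen x.2.2)⟩, MonoidHom.mem_ker.mpr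
      ((c.val_eq_one (c.cen_le_H0 (mul_mem (c.Z_le_cen x.1.2) (c.P_le_cen x.2.2)))).mpr
        (mul_mem (c.EN (c.Z_le x.1.2)) (c.PN x.2.2)))⟩
  have hinj : Function.Injective F := by
    rintro ⟨t, q⟩ ⟨t', q'⟩ e
    have e' : (t : G) * q = t' * q' := congrArg Subtype.val (congrArg Subtype.val e)
    have hk : ((t' : G))⁻¹ * t = q' * (q : G)⁻¹ := by
      calc ((t' : G))⁻¹ * t = (t' : G)⁻¹ * (t * q) * (q : G)⁻¹ := by group
        _ = _ := by rw [e']; group
    have h1 : (t' : G)⁻¹ * t ∈ E := c.Z_le (mul_mem (inv_mem t'.2) t.2)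
    have h2 : (t' : G)⁻¹ * t ∈ P := hk ▸ mul_mem q'.2 (inv_mem q.2)
    have h3 := Subgroup.inf_eq_bot_of_coprime (H := E) (K := P) (by rw [c.hE, c.hP]; norm_num)
    have h4 : (t' : G)⁻¹ * t = 1 := by rw [← mem_bot, ← h3]; exact ⟨h1, h2⟩
    have h5 : (t : G) = t' := (inv_mul_eq_one.mp h4).symm
    rw [h5] at e'
    exact Prod.ext (Subtype.ext h5) (Subtype.ext (mul_left_cancel e'))
  have hsurj : Function.Surjective F := by
    rintro ⟨⟨x, hx⟩, hk⟩
    obtain ⟨t, ht, q, hq, rfl⟩ := c.cen_N hx ((c.val_eq_one (c.cen_le_H0 hx)).mp (MonoidHom.mem_ker.mp hk))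
    exact ⟨(⟨t, ht⟩, ⟨q, hq⟩), rfl⟩
  rw [← Nat.card_congr (Equiv.ofBijective F ⟨hinj, hsurj⟩), Nat.card_prod, c.card_Z, c.hP]

theorem card_cen (c : Ctx z P E) : Nat.card c.cen = 6 * 443520 := by
  rw [← Subgroup.card_mul_index c.valHom.ker, Subgroup.index_ker,
    MonoidHom.range_eq_top.mpr c.valHom_surj, card_top, c.card_valKer,
    show Nat.card MTwoTwo = 443520 from CfsgGolay.card_sporM22]

theorem fac_cen (c : Ctx z P E) : (Nat.card c.cen).factorization 3 = 3 := by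
  rw [c.card_cen, show 6 * 443520 = 3 ^ 3 * 98560 from rfl, Nat.factorization_mul (by norm_num) (by norm_num),
    Finsupp.add_apply, Nat.Prime.factorization_pow (by norm_num), Finsupp.single_eq_same,
    Nat.factorization_eq_zero_of_not_dvd (by norm_num)]

/-- An element of cen of order dividing nine above the identity lies in P. -/
theorem mem_P_of (c : Ctx z P E) {x : G} (hx : x ∈ c.cen) (hv : c.val x = 1) (h9 : x ^ 9 = 1) : x ∈ P := by
  obtain ⟨t, ht, q, hq, rfl⟩ := c.cen_N hx ((c.val_eq_one (c.cen_le_H0 hx)).mp hv)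
  have hc : Commute t q := (c.Z_comm (c.P_le hq) ht).symm
  have q3 : q ^ 3 = 1 := by rw [pow_succ, sq]; exact c.P_cube hq
  rw [hc.mul_pow, show 9 = 3 * 3 from rfl, pow_mul q, q3, one_pow, mul_one,
    show 3 * 3 = 2 * 4 + 1 from rfl, pow_succ, pow_mul, show t ^ 2 = 1 by rw [sq]; exact c.Z_sq ht, one_pow,
    one_mul] at h9
  rw [h9, one_mul]; exact hq

/-- The Sylow 3-subgroup of the centralizer of P above a Sylow 3-subgroup of M22. -/
theorem cen_nine (c : Ctx z P E) {R : Subgroup MTwoTwo} (hR : Nat.card R = 9) :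
    ∃ S : Subgroup G, S ≤ c.cen ∧ P ≤ S ∧ Nat.card S = 27 ∧ (∃ a ∈ S, ∃ b ∈ S, a * b ≠ b * a) ∧
      (∀ x ∈ S, c.val x ∈ R) ∧ (∀ m ∈ R, ∃ x ∈ S, c.val x = m) ∧
      ∀ x ∈ c.cen, c.val x ∈ R → x ^ 9 = 1 → x ∈ S := by
  classical
  haveI : Fact (Nat.Prime 3) := ⟨Nat.prime_three⟩
  let M1 := R.comap c.valHom
  have hPM : P.subgroupOf c.cen ≤ M1 := fun x hx => by
    show c.val x ∈ R
    rw [(c.val_eq_one (c.cen_le_H0 x.2)).mpr (c.PN (mem_subgroupOf.mp hx))]; exact one_mem _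
  let g : M1 →* R := (c.valHom.comp M1.subtype).codRestrict R fun x => x.2
  have hg : Function.Surjective g := fun m => by
    obtain ⟨x, hx⟩ := c.valHom_surj m
    exact ⟨⟨x, show c.valHom x ∈ R from hx.symm ▸ m.2⟩, Subtype.ext hx⟩
  have hM1 : Nat.card M1 = 54 := by
    have e : g.ker.map M1.subtype = c.valHom.ker := by
      ext x
      constructor
      · rintro ⟨y, hy, rfl⟩; exact congrArg Subtype.val (MonoidHom.mem_ker.mp hy)
      · intro hx
        exact ⟨⟨x, show c.valHom x ∈ R by rw [MonoidHom.mem_ker.mp hx]; exact one_mem _⟩,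
          MonoidHom.mem_ker.mpr (Subtype.ext hx), rfl⟩
    rw [← Subgroup.card_mul_index g.ker, Subgroup.index_ker, MonoidHom.range_eq_top.mpr hg, card_top,
      ← card_map_of_injective M1.subtype_injective, e, c.card_valKer, hR]
  obtain ⟨S0, hS0, hPS0⟩ : ∃ S0 : Subgroup M1, Nat.card S0 = 3 ^ 3 ∧ (P.subgroupOf c.cen).subgroupOf M1 ≤ S0 := by
    refine Sylow.exists_subgroup_card_pow_prime_le 3 (by rw [hM1]; norm_num) _ (n := 1) ?_ (by norm_num)
    rw [Nat.card_congr (subgroupOfEquivOfLe hPM).toEquiv, Nat.card_congr (subgroupOfEquivOfLe c.P_le_cen).toEquiv,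
      c.hP, pow_one]
  haveI hn : S0.Normal := Subgroup.normal_of_index_eq_two (by
    have := Subgroup.card_mul_index S0
    rw [hS0, hM1] at this
    omega)
  let R1 : Subgroup c.cen := S0.map M1.subtype
  have hR1 : Nat.card R1 = 3 ^ 3 := by rw [card_map_of_injective M1.subtype_injective, hS0]
  have hall : ∀ x ∈ c.cen, c.val x ∈ R → x ^ 9 = 1 → x ∈ R1.map c.cen.subtype := by
    intro x hx hv h9
    let y : M1 := ⟨⟨x, hx⟩, hv⟩
    have h1 : ((y : M1) : M1 ⧸ S0) ^ 9 = 1 := by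
      rw [← QuotientGroup.mk_pow, show y ^ 9 = 1 from Subtype.ext (Subtype.ext h9)]; rfl
    have h2 : ((y : M1) : M1 ⧸ S0) ^ 2 = 1 := by
      have hidx : S0.index = 2 := by
        have := Subgroup.card_mul_index S0
        rw [hS0, hM1] at this
        omega
      rw [← hidx, Subgroup.index_eq_card]; exact pow_card_eq_one'
    have hg' := pow_gcd_eq_one.mpr ⟨h1, h2⟩
    rw [show Nat.gcd 9 2 = 1 from rfl, pow_one, QuotientGroup.eq_one_iff] at hg'
    exact ⟨⟨x, hx⟩, ⟨y, hg', rfl⟩, rfl⟩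
  refine ⟨R1.map c.cen.subtype, map_subtype_le _, fun q hq => ?_, ?_, ?_, ?_, ?_, hall⟩
  · exact ⟨⟨q, c.P_le_cen hq⟩, ⟨⟨⟨q, c.P_le_cen hq⟩, hPM hq⟩, hPS0 hq, rfl⟩, rfl⟩
  · rw [card_map_of_injective c.cen.subtype_injective, hR1]; norm_num
  · by_contra hab
    push Not at hab
    obtain ⟨p, hp, hp1, -⟩ := c.exists_gen
    have hcomm : (⟨p, c.P_le_cen hp⟩ : c.cen) ∈ _root_.commutator c.cen := by
      have h1 := c.Pcomm hp
      rw [show (centralizer ({z} : Set G) ⊓ centralizer (P : Set G)) = c.cen from rfl] at h1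
      rw [← range_subtype c.cen, MonoidHom.range_eq_map, ← map_commutator] at h1
      obtain ⟨y, hy, e⟩ := h1
      rw [show (⟨p, c.P_le_cen hp⟩ : c.cen) = y from Subtype.ext e.symm]
      exact hy
    refine hp1 (congrArg Subtype.val (sylow_central_commutator (Sylow.ofCard R1 (by rw [hR1, c.fac_cen]))
      (fun a ha b hb => Subtype.ext (hab _ ⟨a, ha, rfl⟩ _ ⟨b, hb, rfl⟩)) ?_ ?_ hcomm))
    · exact ⟨⟨⟨p, c.P_le_cen hp⟩, hPM hp⟩, hPS0 hp, rfl⟩
    · exact Subgroup.mem_center_iff.mpr fun w => Subtype.ext (c.cen_comm w.2 hp)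
  · rintro _ ⟨_, ⟨x, -, rfl⟩, rfl⟩
    exact x.2
  · intro m hm
    obtain ⟨⟨x, hx⟩, hv⟩ := c.valHom_surj m
    change c.val x = m at hv
    have m3 : m ^ 3 = 1 := (nine_facts hR).2.1 m hm
    have hv3 : c.val (x ^ 10) = m := by
      rw [c.val_pow (c.cen_le_H0 hx), hv, show 10 = 3 * 3 + 1 from rfl, pow_succ, pow_mul, m3, one_pow, one_mul]
    refine ⟨x ^ 10, hall _ (pow_mem hx 10) (hv3.symm ▸ hm) ?_, hv3⟩
    have h6 : (x ^ 3) ^ 6 = 1 := by
      obtain ⟨t, ht, q, hq, e⟩ := c.cen_N (pow_mem hx 3) ((c.val_eq_one (c.cen_le_H0 (pow_mem hx 3))).mp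
        (by rw [c.val_pow (c.cen_le_H0 hx), hv, m3]))
      rw [e, (show Commute t q from (c.Z_comm (c.P_le hq) ht).symm).mul_pow,
        show t ^ 6 = (t * t) ^ 3 by rw [← sq, ← pow_mul], c.Z_sq ht,
        show q ^ 6 = (q * q * q) ^ 2 by rw [← pow_three', ← pow_mul], c.P_cube hq, one_pow, one_pow, one_mul]
    rw [← pow_mul, show 10 * 9 = 3 * 6 * 5 from rfl, pow_mul, pow_mul, h6, one_pow]

/-- Commutators inside such a Sylow subgroup. -/
theorem nine_comm_mem (c : Ctx z P E) {R : Subgroup MTwoTwo} (hR : Nat.card R = 9) {a b : G} (ha : a ∈ c.cen)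
    (hb : b ∈ c.cen) (hva : c.val a ∈ R) (hvb : c.val b ∈ R) (h : ⁅a, b⁆ ^ 9 = 1) : ⁅a, b⁆ ∈ P := by
  have hm : ⁅a, b⁆ ∈ c.cen := mul_mem (mul_mem (mul_mem ha hb) (inv_mem ha)) (inv_mem hb)
  have e : c.val ⁅a, b⁆ = 1 := by
    show c.valHom ⁅(⟨a, ha⟩ : c.cen), ⟨b, hb⟩⁆ = 1
    rw [map_commutatorElement, commutatorElement_eq_one_iff_mul_comm]
    exact (nine_facts hR).1 _ hva _ hvb
  exact c.mem_P_of hm e h

/-- Elements of cen of order dividing nine above elements of cube one have cube one. -/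
theorem cen_cube (c : Ctx z P E) {x : G} (hx : x ∈ c.cen) (hx9 : x ^ 9 = 1) (hv : c.val x ^ 3 = 1) :
    x ^ 3 = 1 := by
  classical
  by_cases hv1 : c.val x = 1
  · rw [pow_succ, sq]; exact c.P_cube (c.mem_P_of hx hv1 hx9)
  obtain ⟨R, hR, hxR⟩ := exists_nine hv
  obtain ⟨hcomm, hcube, htr, -, -⟩ := nine_facts hR
  obtain ⟨S, hScen, hPS, hS27, -, hval, hlift, hall⟩ := c.cen_nine hR
  have h9 : ∀ y ∈ S, y ^ 27 = 1 := fun y hy => by
    have := pow_card_eq_one' (x := (⟨y, hy⟩ : S))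
    rw [hS27] at this
    exact congrArg Subtype.val this
  have hcubeP : ∀ y ∈ S, y ^ 3 ∈ P := fun y hy => by
    have hv' : c.val (y ^ 3) = 1 := by rw [c.val_pow (c.cen_le_H0 (hScen hy)), hcube _ (hval y hy)]
    exact c.mem_P_of (pow_mem (hScen hy) 3) hv' (by rw [← pow_mul]; exact h9 y hy)
  -- some element outside P has cube one
  obtain ⟨w, hw, hwv, hw3⟩ : ∃ w ∈ S, c.val w ≠ 1 ∧ w ^ 3 = 1 := by
    by_contra hall'
    push Not at hall'
    haveI : Nontrivial R := Finite.one_lt_card_iff_nontrivial.mp (by rw [hR]; norm_num)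
    obtain ⟨m0, hm0⟩ := exists_ne (1 : R)
    obtain ⟨a, ha, hva⟩ := hlift m0 m0.2
    have ha1 : c.val a ≠ 1 := fun e => hm0 (Subtype.ext (hva.symm.trans e))
    obtain ⟨b, hb, hbv⟩ : ∃ b ∈ S, ∀ k : ℕ, c.val b ≠ c.val a ^ k := by
      by_contra hall2
      push Not at hall2
      have hle : R ≤ zpowers (c.val a) := fun m hm => by
        obtain ⟨b, hb, rfl⟩ := hlift m hm
        obtain ⟨k, hk⟩ := hall2 b hb
        rw [hk]; exact pow_mem (mem_zpowers _) k
      have := card_le_of_le hle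
      rw [hR, Nat.card_zpowers, orderOf_eq_prime (hp := ⟨Nat.prime_three⟩) (hcube _ (hval a ha)) ha1] at this
      omega
    have hgenP : zpowers (a ^ 3) = P := by
      refine eq_of_le_of_card_ge (zpowers_le.mpr (hcubeP a ha)) ?_
      rw [Nat.card_zpowers, c.hP, orderOf_eq_prime (hp := ⟨Nat.prime_three⟩)
        (by rw [pow_succ, sq]; exact c.P_cube (hcubeP a ha)) (hall' a ha ha1)]
    obtain ⟨k, hk⟩ : ∃ k : ℕ, (a ^ 3) ^ k = b ^ 3 :=
      mem_powers_iff_mem_zpowers.mpr (hgenP.symm ▸ hcubeP b hb)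
    set w := (a ^ k)⁻¹ * b with hwdef
    have hak : a ^ k ∈ S := pow_mem ha k
    have hwS : w ∈ S := mul_mem (inv_mem hak) hb
    set d := ⁅b, (a ^ k)⁻¹⁆ with hd
    have hdP : d ∈ P := c.nine_comm_mem hR (hScen hb) (hScen (inv_mem hak)) (hval b hb) (hval _ (inv_mem hak))
      (by
        have hk9 : ∀ y ∈ S, c.val y = 1 → y ^ 9 = 1 := fun y hy hv' => by
          obtain ⟨t, ht, q, hq, e⟩ := c.cen_N (hScen hy) ((c.val_eq_one (c.cen_le_H0 (hScen hy))).mp hv')
          have h27 := h9 y hy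
          have hc : Commute t q := (c.Z_comm (c.P_le hq) ht).symm
          have q3 : q ^ 3 = 1 := by rw [pow_succ, sq]; exact c.P_cube hq
          rw [e, hc.mul_pow, show 27 = 3 * 9 from rfl, pow_mul q, q3, one_pow, mul_one,
            show 3 * 9 = 2 * 13 + 1 from rfl, pow_succ, pow_mul, show t ^ 2 = 1 by rw [sq]; exact c.Z_sq ht,
            one_pow, one_mul] at h27
          rw [e, h27, one_mul, show 9 = 3 * 3 from rfl, pow_mul, q3, one_pow]
        refine hk9 _ (mul_mem (mul_mem (mul_mem hb (inv_mem hak)) (inv_mem hb)) (inv_mem (inv_mem hak))) ?_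
        show c.valHom ⁅(⟨b, hScen hb⟩ : c.cen), ⟨(a ^ k)⁻¹, hScen (inv_mem hak)⟩⁆ = 1
        rw [map_commutatorElement, commutatorElement_eq_one_iff_mul_comm]
        exact hcomm _ (hval b hb) _ (hval _ (inv_mem hak)))
    refine hall' w hwS ?_ ?_
    · intro e
      rw [hwdef, c.val_mul (c.cen_le_H0 (hScen (inv_mem hak))) (c.cen_le_H0 (hScen hb)),
        c.val_inv (c.cen_le_H0 (hScen hak)), c.val_pow (c.cen_le_H0 (hScen ha)), inv_mul_eq_one] at e
      exact hbv k e.symm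
    · -- (x y)³ = x³ y³ d³
      have hbx : b * (a ^ k)⁻¹ = d * (a ^ k)⁻¹ * b := by rw [hd, commutatorElement_def]; group
      have hcen : ∀ y ∈ S, y * d = d * y := fun y hy => c.cen_comm (hScen hy) hdP
      set x := (a ^ k)⁻¹
      have hxS : x ∈ S := inv_mem hak
      have e2 : x * b * (x * b) = d * (x * x) * (b * b) := by
        rw [show x * b * (x * b) = x * (b * x) * b by group, hbx, show x * (d * x * b) * b = (x * d) * x * (b * b) by
          group, hcen x hxS]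
        group
      have e3 : x * b * (x * b) * (x * b) = d * d * d * (x * x * x) * (b * b * b) := by
        have hb2 : b * b * x = d * d * x * (b * b) := by
          rw [mul_assoc b b x, hbx, show b * (d * x * b) = (b * d) * x * b by group, hcen b hb,
            show d * b * x * b = d * (b * x) * b by group, hbx]
          group
        rw [e2, show d * (x * x) * (b * b) * (x * b) = d * (x * x) * (b * b * x) * b by group, hb2,
          show d * (x * x) * (d * d * x * (b * b)) * b = d * ((x * x) * (d * d)) * (x * (b * b * b)) by group,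
          (((show Commute x d from hcen x hxS).mul_left (hcen x hxS)).mul_right
            ((show Commute x d from hcen x hxS).mul_left (hcen x hxS))).eq]
        group
      rw [pow_succ, sq, show w = x * b from rfl, e3, c.P_cube hdP, one_mul]
      have hx3 : x * x * x = (b ^ 3)⁻¹ := by
        rw [← hk, ← pow_mul, mul_comm 3 k, pow_mul, ← inv_pow, pow_succ, sq]
      rw [hx3, show b * b * b = b ^ 3 by rw [pow_succ, sq], inv_mul_cancel]
  -- transport
  obtain ⟨n, hn, hnw⟩ := htr _ (hval w hw) _ hxR hwv hv1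
  obtain ⟨n', hn', hvn⟩ := c.exists_val n
  set w' := n' * w * n'⁻¹
  have hw'c : w' ∈ c.cen := mul_mem (mul_mem hn' (hScen hw)) (inv_mem hn')
  have hw'3 : w' ^ 3 = 1 := by rw [conj_pow, hw3, mul_one, mul_inv_cancel]
  have hw'v : c.val w' = c.val x := by
    rw [c.val_mul (c.cen_le_H0 (mul_mem hn' (hScen hw))) (c.cen_le_H0 (inv_mem hn')), c.val_mul (c.cen_le_H0 hn')
      (c.cen_le_H0 (hScen hw)), c.val_inv (c.cen_le_H0 hn'), hvn, hnw]
  have hxS : x ∈ S := hall x hx hxR hx9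
  have hw'S : w' ∈ S := hall w' hw'c (hw'v ▸ hxR) (by rw [show 9 = 3 * 3 from rfl, pow_mul, hw'3, one_pow])
  have hqS : w'⁻¹ * x ∈ S := mul_mem (inv_mem hw'S) hxS
  have hqv : c.val (w'⁻¹ * x) = 1 := by
    rw [c.val_mul (c.cen_le_H0 (inv_mem hw'c)) (c.cen_le_H0 hx), c.val_inv (c.cen_le_H0 hw'c), hw'v, inv_mul_cancel]
  obtain ⟨t, ht, q, hq, e⟩ := c.cen_N (hScen hqS) ((c.val_eq_one (c.cen_le_H0 (hScen hqS))).mp hqv)
  have htS : t ∈ S := by
    have : t = (w'⁻¹ * x) * q⁻¹ := by rw [e]; group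
    rw [this]; exact mul_mem hqS (inv_mem (hPS hq))
  have ht1 : t = 1 := by
    have h27 := h9 t htS
    rwa [show 27 = 2 * 13 + 1 from rfl, pow_succ, pow_mul, show t ^ 2 = 1 by rw [sq]; exact c.Z_sq ht, one_pow,
      one_mul] at h27
  have hx' : x = w' * q := by rw [show x = w' * (w'⁻¹ * x) by group, e, ht1, one_mul]
  rw [hx', (show Commute w' q from c.cen_comm hw'c hq).mul_pow, hw'3, one_mul, pow_succ, sq, c.P_cube hq]

end Ctx

end CfsgLib.JankoFour
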