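/-
The decomposition of E modulo the centre under two commuting elements of order three.
-/
import Cfsg.Agent.Lib.JankoFour.Cen

set_option autoImplicit false

namespace CfsgLib.JankoFour

open Cfsg Subgroup
open scoped commutatorElement

universe u

section Abstract

variable {M : Type u} [CommGroup M]

/-- The elements fixed by an automorphism. -/
def fixA (t : MulAut M) : Subgroup M where
  carrier := {m | t m = m}
  one_mem' := map_one t
  mul_mem' := fun {a b} (ha : t a = a) (hb : t b = b) => by show t (a * b) = a * b; rw [map_mul, ha, hb]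
  inv_mem' := fun {a} (ha : t a = a) => by show t a⁻¹ = a⁻¹; rw [map_inv, ha]

theorem mem_fixA {t : MulAut M} {m : M} : m ∈ fixA t ↔ t m = m := Iff.rfl

/-- The sum of the orbit of an automorphism of order three. -/
def proj (t : MulAut M) (m : M) : M := m * t m * t (t m)

theorem three_apply {t : MulAut M} (t3 : t ^ 3 = 1) (m : M) : t (t (t m)) = m := by
  have := DFunLike.congr_fun t3 m
  simpa [pow_succ, MulAut.mul_apply] using this

theorem proj_fixed {t : MulAut M} (t3 : t ^ 3 = 1) (m : M) : proj t m ∈ fixA t := by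
  show t (m * t m * t (t m)) = m * t m * t (t m)
  rw [map_mul, map_mul, three_apply t3, mul_comm (t m * t (t m)) m, mul_assoc]

theorem comm_apply {a b : MulAut M} (hab : a * b = b * a) (m : M) : a (b m) = b (a m) := by
  rw [← MulAut.mul_apply, hab, MulAut.mul_apply]

theorem orbit_prod {b : MulAut M} (b3 : b ^ 3 = 1) (hfpf : ∀ m, b m = m → m = 1) (m : M) :
    m * b m * b (b m) = 1 := hfpf _ (proj_fixed b3 m)

theorem proj_all {a b : MulAut M} (h2 : ∀ m : M, m * m = 1) (b3 : b ^ 3 = 1)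
    (hfpf : ∀ m, b m = m → m = 1) (hab : a * b = b * a) (m : M) :
    proj a m * proj (a * b) m * proj (a * (b * b)) m = m := by
  have e1 : (a * b) ((a * b) m) = a (a (b (b m))) := by
    simp only [MulAut.mul_apply]; rw [comm_apply hab (b m)]
  have e2 : (a * (b * b)) ((a * (b * b)) m) = a (a (b m)) := by
    simp only [MulAut.mul_apply]
    rw [← comm_apply hab (b (b m)), ← comm_apply hab (b (b (b m))), three_apply b3]
  simp only [proj]
  rw [e1, e2, MulAut.mul_apply, MulAut.mul_apply, MulAut.mul_apply]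
  calc m * a m * a (a m) * (m * a (b m) * a (a (b (b m)))) * (m * a (b (b m)) * a (a (b m)))
      = (m * m * m) * (a m * a (b m) * a (b (b m))) * (a (a m) * a (a (b m)) * a (a (b (b m)))) := by
        simp only [mul_assoc, mul_comm, mul_left_comm]
    _ = m * a (m * b m * b (b m)) * a (a (m * b m * b (b m))) := by simp only [map_mul, h2 m, one_mul]
    _ = m := by rw [orbit_prod b3 hfpf]; simp

theorem fix_meet {a b : MulAut M} (hfpf : ∀ m, b m = m → m = 1) {d : M} (h1 : a d = d) (h2 : (a * b) d = d) :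
    d = 1 := by
  rw [MulAut.mul_apply] at h2
  exact hfpf d (a.injective (h2.trans h1.symm))

/-- A subgroup invariant under both is the product of its fixed parts. -/
theorem split_card [Finite M] {a b : MulAut M} (h2 : ∀ m : M, m * m = 1) (a3 : a ^ 3 = 1) (b3 : b ^ 3 = 1)
    (hfpf : ∀ m, b m = m → m = 1) (hab : a * b = b * a) {U : Subgroup M} (ha : ∀ m ∈ U, a m ∈ U)
    (hb : ∀ m ∈ U, b m ∈ U) :
    Nat.card ↥(U ⊓ fixA a) * Nat.card ↥(U ⊓ fixA (a * b)) * Nat.card ↥(U ⊓ fixA (a * (b * b))) = Nat.card U := by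
  have hc : Commute a b := hab
  have t1 : (a * b) ^ 3 = 1 := by rw [hc.mul_pow, a3, b3, one_mul]
  have t2 : (a * (b * b)) ^ 3 = 1 := by
    rw [(hc.mul_right hc).mul_pow, a3, (Commute.refl b).mul_pow, b3, one_mul, one_mul]
  have i1 : ∀ m ∈ U, (a * b) m ∈ U := fun m hm => ha _ (hb m hm)
  have i2 : ∀ m ∈ U, (a * (b * b)) m ∈ U := fun m hm => ha _ (hb _ (hb m hm))
  have hproj : ∀ {t : MulAut M}, (∀ m ∈ U, t m ∈ U) → ∀ m ∈ U, proj t m ∈ U := fun ht m hm =>
    mul_mem (mul_mem hm (ht m hm)) (ht _ (ht m hm))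
  let F : ↥(U ⊓ fixA a) × ↥(U ⊓ fixA (a * b)) × ↥(U ⊓ fixA (a * (b * b))) → U := fun x =>
    ⟨(x.1 : M) * x.2.1 * x.2.2, mul_mem (mul_mem x.1.2.1 x.2.1.2.1) x.2.2.2.1⟩
  have hF : Function.Bijective F := by
    refine ⟨?_, fun m => ⟨(⟨proj a m, hproj ha m m.2, proj_fixed a3 _⟩, ⟨proj (a * b) m, hproj i1 m m.2,
      proj_fixed t1 _⟩, ⟨proj (a * (b * b)) m, hproj i2 m m.2, proj_fixed t2 _⟩),
      Subtype.ext (proj_all h2 b3 hfpf hab m)⟩⟩
    -- uniqueness of the components
    have key : ∀ x y w : M, a x = x → (a * b) y = y → (a * (b * b)) w = w → proj a (x * y * w) = x := by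
      intro x y w hx hy hw
      have fy : proj a y = 1 := by
        refine fix_meet hfpf (proj_fixed a3 y) ?_
        have e : ∀ u, (a * b) (a u) = a ((a * b) u) := fun u => by
          simp only [MulAut.mul_apply]; rw [← comm_apply hab u]
        simp only [proj, map_mul, e, hy]
      have fw : proj a w = 1 := by
        refine fix_meet (b := b * b) (fun m hm => hfpf m ?_) (proj_fixed a3 w) ?_
        · calc b m = b ((b * b) m) := by rw [hm]
            _ = m := three_apply b3 m
        · have e : ∀ u, (a * (b * b)) (a u) = a ((a * (b * b)) u) := fun u => by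
            simp only [MulAut.mul_apply]
            rw [← comm_apply hab u, ← comm_apply hab (b u)]
          simp only [proj, map_mul, e, hw]
      have fx : proj a x = x := by simp only [proj, hx, h2 x, one_mul]
      have hm : proj a (x * y * w) = proj a x * proj a y * proj a w := by
        simp only [proj, map_mul]
        simp only [mul_assoc, mul_comm, mul_left_comm]
      rw [hm, fx, fy, fw, mul_one, mul_one]
    rintro ⟨⟨x, hxU, hx⟩, ⟨y, hyU, hy⟩, ⟨w, hwU, hw⟩⟩ ⟨⟨x', hx'U, hx'⟩, ⟨y', hy'U, hy'⟩, ⟨w', hw'U, hw'⟩⟩ e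
    have e' : x * y * w = x' * y' * w' := congrArg Subtype.val e
    have ex : x = x' := by rw [← key x y w hx hy hw, e', key x' y' w' hx' hy' hw']
    subst ex
    have e2 : y * w = y' * w' := by
      rw [mul_assoc, mul_assoc] at e'
      exact mul_left_cancel e'
    have ey : y = y' := by
      have h3 : y⁻¹ * y' = w * w'⁻¹ := by
        rw [inv_mul_eq_iff_eq_mul, ← mul_assoc, e2, mul_inv_cancel_right]
      have h4 : y⁻¹ * y' = 1 := by
        refine fix_meet (a := a * b) (b := b) hfpf ?_ ?_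
        · exact (fixA (a * b)).mul_mem ((fixA (a * b)).inv_mem hy) hy'
        · rw [h3, mul_assoc]
          exact (fixA (a * (b * b))).mul_mem hw ((fixA (a * (b * b))).inv_mem hw')
      exact inv_mul_eq_one.mp h4
    subst ey
    obtain rfl : w = w' := mul_left_cancel e2
    rfl
  rw [← Nat.card_congr (Equiv.ofBijective F hF), Nat.card_prod, Nat.card_prod, mul_assoc]

/-- A conjugating automorphism identifies the fixed parts. -/
theorem fix_conj {s t t' : MulAut M} (h : s * t = t' * s) {U : Subgroup M} [Finite M]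
    (hs : ∀ m ∈ U, s m ∈ U) : Nat.card ↥(U ⊓ fixA t) ≤ Nat.card ↥(U ⊓ fixA t') := by
  refine Nat.card_le_card_of_injective (fun m => (⟨s m, hs m m.2.1, ?_⟩ : ↥(U ⊓ fixA t'))) fun m n e =>
    Subtype.ext (s.injective (congrArg Subtype.val e))
  show t' (s m) = s m
  rw [← MulAut.mul_apply, ← h, MulAut.mul_apply, show t m = m from m.2.2]

end Abstract

variable {G : Type u} [Group G] [Finite G] {z : G} {P E : Subgroup G}

/-- Conjugation on a normalized subgroup. -/
def conjAut (H E : Subgroup G) (h : H ≤ normalizer (E : Set G)) : H →* MulAut E where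
  toFun n :=
    { toFun := fun u => ⟨n * u * (n : G)⁻¹, (mem_normalizer_iff.mp (h n.2) u).mp u.2⟩
      invFun := fun u => ⟨(n : G)⁻¹ * u * n, (mem_normalizer_iff''.mp (h n.2) u).mp u.2⟩
      left_inv := fun u => Subtype.ext (by show (n : G)⁻¹ * (n * u * (n : G)⁻¹) * n = u; group)
      right_inv := fun u => Subtype.ext (by show (n : G) * ((n : G)⁻¹ * u * n) * (n : G)⁻¹ = u; group)
      map_mul' := fun a b => Subtype.ext (by
        show (n : G) * ((a : G) * b) * (n : G)⁻¹ = n * a * (n : G)⁻¹ * (n * b * (n : G)⁻¹); group) }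
  map_one' := by
    ext u
    show (1 : G) * u * (1 : G)⁻¹ = u; group
  map_mul' m n := by
    ext u
    show ((m : G) * n) * u * ((m : G) * n)⁻¹ = m * (n * u * (n : G)⁻¹) * (m : G)⁻¹; group

/-- The action on the central quotient. -/
noncomputable def quotAut (H E : Subgroup G) (h : H ≤ normalizer (E : Set G)) : H →* MulAut (E ⧸ center E) where
  toFun n := QuotientGroup.congr (center E) (center E) (conjAut H E h n)
    (Subgroup.characteristic_iff_map_eq.mp inferInstance (conjAut H E h n))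
  map_one' := by
    ext a
    induction a using QuotientGroup.induction_on with | H a => ?_
    show QuotientGroup.mk (conjAut H E h 1 a) = QuotientGroup.mk a
    rw [map_one]; rfl
  map_mul' m n := by
    ext a
    induction a using QuotientGroup.induction_on with | H a => ?_
    show QuotientGroup.mk (conjAut H E h (m * n) a) = QuotientGroup.mk (conjAut H E h m (conjAut H E h n a))
    rw [map_mul]; rfl

namespace Ctx

theorem center_E (c : Ctx z P E) {e : E} : e ∈ center E ↔ (e : G) ∈ zpowers z := by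
  obtain ⟨hz, hext⟩ := c.extE
  rw [hext.center_iff, c.mem_Z]
  exact or_congr ⟨congrArg Subtype.val, fun h => Subtype.ext h⟩ ⟨congrArg Subtype.val, fun h => Subtype.ext h⟩

theorem quot_comm (c : Ctx z P E) (a b : E ⧸ center E) : a * b = b * a := by
  induction a using QuotientGroup.induction_on with | H a => ?_
  induction b using QuotientGroup.induction_on with | H b => ?_
  rw [← QuotientGroup.mk_mul, ← QuotientGroup.mk_mul, QuotientGroup.eq, c.center_E]
  simp only [Subgroup.coe_mul, Subgroup.coe_inv]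
  rw [show ((a : G) * b)⁻¹ * ((b : G) * a) = ⁅(b : G)⁻¹, (a : G)⁻¹⁆ by simp only [commutatorElement_def]; group]
  exact c.comm_E (inv_mem b.2) (inv_mem a.2)

theorem quot_sq (c : Ctx z P E) (m : E ⧸ center E) : m * m = 1 := by
  induction m using QuotientGroup.induction_on with | H a => ?_
  rw [← QuotientGroup.mk_mul, QuotientGroup.eq_one_iff, c.center_E]
  exact c.sq_mem_Z a.2

theorem quot_fix (c : Ctx z P E) (n : centralizer ({z} : Set G)) (e : E) :
    quotAut _ E c.normE n (QuotientGroup.mk e) = QuotientGroup.mk e ↔ ⁅(n : G), (e : G)⁆ ∈ zpowers z := by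
  show QuotientGroup.mk (conjAut _ E c.normE n e) = QuotientGroup.mk e ↔ _
  rw [QuotientGroup.eq, c.center_E]
  simp only [Subgroup.coe_mul, Subgroup.coe_inv]
  show ((n : G) * e * (n : G)⁻¹)⁻¹ * (e : G) ∈ zpowers z ↔ _
  have heq : ⁅(n : G), (e : G)⁆ = ((n : G) * e * (n : G)⁻¹) * (e : G)⁻¹ := rfl
  rw [heq]
  set v := (n : G) * e * (n : G)⁻¹
  have hv : v ∈ centralizer ({z} : Set G) := c.Ez (c.conj_E n.2 e.2)
  constructor
  · intro h
    have h1 := inv_mem h
    rw [mul_inv_rev, inv_inv] at h1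
    rw [show v * (e : G)⁻¹ = v * ((e : G)⁻¹ * v) * v⁻¹ by group, c.Z_conj hv h1]
    exact h1
  · intro h
    rw [show v⁻¹ * (e : G) = v⁻¹ * (v * (e : G)⁻¹)⁻¹ * v⁻¹⁻¹ by group, c.Z_conj (inv_mem hv) (inv_mem h)]
    exact inv_mem h

/-- The image of a subgroup of E in the central quotient. -/
noncomputable def img (_c : Ctx z P E) (U : Subgroup G) : Subgroup (E ⧸ center E) :=
  (U.subgroupOf E).map (QuotientGroup.mk' (center E))

theorem mem_img (c : Ctx z P E) {U : Subgroup G} (hUE : U ≤ E) (hZU : zpowers z ≤ U) (e : E) :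
    QuotientGroup.mk e ∈ c.img U ↔ (e : G) ∈ U := by
  refine ⟨?_, fun h => ⟨e, mem_subgroupOf.mpr h, rfl⟩⟩
  rintro ⟨f, hf, hfe⟩
  have h := QuotientGroup.eq.mp hfe
  rw [c.center_E] at h
  simp only [Subgroup.coe_mul, Subgroup.coe_inv] at h
  have := mul_mem (mem_subgroupOf.mp hf) (hZU h)
  rwa [mul_inv_cancel_left] at this

theorem card_img (c : Ctx z P E) {U : Subgroup G} (hUE : U ≤ E) (hZU : zpowers z ≤ U) :
    Nat.card (c.img U) * 2 = Nat.card U := by
  let g : U.subgroupOf E →* E ⧸ center E := (QuotientGroup.mk' (center E)).comp (U.subgroupOf E).subtype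
  have hgr : g.range = c.img U := by rw [MonoidHom.range_comp, range_subtype]; rfl
  have hgk : g.ker.map (U.subgroupOf E).subtype = center E := by
    refine le_antisymm ?_ fun t ht => ⟨⟨t, mem_subgroupOf.mpr (hZU (c.center_E.mp ht))⟩,
      MonoidHom.mem_ker.mpr ((QuotientGroup.eq_one_iff t).mpr ht), rfl⟩
    rintro _ ⟨t, ht, rfl⟩
    exact (QuotientGroup.eq_one_iff _).mp (MonoidHom.mem_ker.mp ht)
  have h1 := Subgroup.card_mul_index g.ker
  rw [Subgroup.index_ker, hgr, ← card_map_of_injective (U.subgroupOf E).subtype_injective, hgk,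
    Nat.card_congr (subgroupOfEquivOfLe hUE).toEquiv] at h1
  have h2 : Nat.card (center E) = 2 := by
    rw [← c.card_Z]
    exact Nat.card_congr ⟨fun x => ⟨x.1.1, c.center_E.mp x.2⟩, fun x => ⟨⟨x.1, c.Z_le x.2⟩, c.center_E.mpr x.2⟩,
      fun x => rfl, fun x => rfl⟩
  rw [h2] at h1
  omega

/-- A frame: an element of order three and one moving it by a generator of P. -/
structure Frame (c : Ctx z P E) (r s p : G) : Prop where
  hr : r ∈ c.cen
  hs : s ∈ c.cen
  hp : p ∈ P
  hgen : P = zpowers p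
  r3 : r ^ 3 = 1
  hsr : s * r * s⁻¹ = r * p

theorem Frame.p3 {c : Ctx z P E} {r s p : G} (F : c.Frame r s p) : p ^ 3 = 1 := by
  rw [pow_succ, sq]; exact c.P_cube F.hp

theorem Frame.t_mem {c : Ctx z P E} {r s p : G} (F : c.Frame r s p) (i : ℕ) : r * p ^ i ∈ c.cen :=
  mul_mem F.hr (c.P_le_cen (pow_mem F.hp i))

theorem Frame.t3 {c : Ctx z P E} {r s p : G} (F : c.Frame r s p) (i : ℕ) : (r * p ^ i) ^ 3 = 1 := by
  rw [(show Commute r (p ^ i) from c.cen_comm F.hr (pow_mem F.hp i)).mul_pow, F.r3, ← pow_mul, mul_comm, pow_mul,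
    F.p3, one_pow, one_mul]

/-- Three parts of an invariant subgroup. -/
theorem Frame.split {c : Ctx z P E} {r s p : G} (F : c.Frame r s p) {U : Subgroup G} (hUE : U ≤ E)
    (hZU : zpowers z ≤ U) (hr : ∀ e ∈ U, r * e * r⁻¹ ∈ U) (hp : ∀ e ∈ U, p * e * p⁻¹ ∈ U) :
    Nat.card ↥(U ⊓ c.ker1 (F.t_mem 0).1) * Nat.card ↥(U ⊓ c.ker1 (F.t_mem 1).1) *
      Nat.card ↥(U ⊓ c.ker1 (F.t_mem 2).1) = Nat.card U * 4 ∧
    ((∀ e ∈ U, s * e * s⁻¹ ∈ U) → ∀ i < 3, ∀ j < 3,
      Nat.card ↥(U ⊓ c.ker1 (F.t_mem i).1) = Nat.card ↥(U ⊓ c.ker1 (F.t_mem j).1)) := by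
  letI : CommGroup (E ⧸ center E) :=
    { (inferInstance : Group (E ⧸ center E)) with mul_comm := c.quot_comm }
  let ρ := quotAut (centralizer ({z} : Set G)) E c.normE
  set rH : centralizer ({z} : Set G) := ⟨r, F.hr.1⟩
  set pH : centralizer ({z} : Set G) := ⟨p, c.P_le F.hp⟩
  set sH : centralizer ({z} : Set G) := ⟨s, F.hs.1⟩
  set a := ρ rH
  set b := ρ pH
  have a3 : a ^ 3 = 1 := by rw [← map_pow, show rH ^ 3 = 1 from Subtype.ext F.r3, map_one]
  have b3 : b ^ 3 = 1 := by rw [← map_pow, show pH ^ 3 = 1 from Subtype.ext F.p3, map_one]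
  have hab : a * b = b * a := by
    rw [← map_mul, ← map_mul, show rH * pH = pH * rH from Subtype.ext (c.cen_comm F.hr F.hp)]
  have hfpf : ∀ m, b m = m → m = 1 := by
    intro m hm
    induction m using QuotientGroup.induction_on with | H e => ?_
    rw [QuotientGroup.eq_one_iff, c.center_E]
    exact c.fixed_mem_Z F.hp F.hgen e.2 ((c.quot_fix pH e).mp hm)
  have himg : ∀ (n : centralizer ({z} : Set G)), (∀ e ∈ U, (n : G) * e * (n : G)⁻¹ ∈ U) →
      ∀ m ∈ c.img U, ρ n m ∈ c.img U := by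
    rintro n hn _ ⟨e, he, rfl⟩
    exact ⟨conjAut _ E c.normE n e, mem_subgroupOf.mpr (hn e (mem_subgroupOf.mp he)), rfl⟩
  have hpow : ∀ i, (ρ (⟨r * p ^ i, (F.t_mem i).1⟩ : centralizer ({z} : Set G))) = a * b ^ i := fun i => by
    rw [← map_pow, ← map_mul]; rfl
  have hfixeq : ∀ i, c.img (U ⊓ c.ker1 (F.t_mem i).1) = c.img U ⊓ fixA (a * b ^ i) := by
    intro i
    ext m
    induction m using QuotientGroup.induction_on with | H e => ?_
    rw [c.mem_img (inf_le_left.trans hUE) (le_inf hZU (c.Z_le_ker1 _)), mem_inf, mem_inf, c.mem_img hUE hZU,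
      mem_fixA, ← hpow, c.quot_fix, c.mem_ker1]
    exact ⟨fun h => ⟨h.1, h.2.2⟩, fun h => ⟨h.1, e.2, h.2⟩⟩
  have hcard : ∀ i, Nat.card ↥(U ⊓ c.ker1 (F.t_mem i).1) = Nat.card ↥(c.img U ⊓ fixA (a * b ^ i)) * 2 := fun i => by
    rw [← hfixeq, c.card_img (inf_le_left.trans hUE) (le_inf hZU (c.Z_le_ker1 _))]
  refine ⟨?_, fun hs => ?_⟩
  · have h := split_card c.quot_sq a3 b3 hfpf hab (U := c.img U) (himg rH hr) (himg pH hp)
    rw [hcard 0, hcard 1, hcard 2, pow_zero, mul_one, pow_one, sq, ← c.card_img hUE hZU, ← h]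
    ring
  · have hsa : ρ sH * a = a * b * ρ sH := by
      rw [← map_mul, ← map_mul, ← map_mul]
      refine congrArg ρ (Subtype.ext ?_)
      show s * r = r * p * s
      rw [← F.hsr, inv_mul_cancel_right]
    have hsb : ρ sH * b = b * ρ sH := by
      rw [← map_mul, ← map_mul, show sH * pH = pH * sH from Subtype.ext (c.cen_comm F.hs F.hp)]
    have hcyc : ∀ i, Nat.card ↥(U ⊓ c.ker1 (F.t_mem i).1) ≤ Nat.card ↥(U ⊓ c.ker1 (F.t_mem (i + 1)).1) := by
      intro i
      rw [hcard, hcard]
      refine Nat.mul_le_mul_right _ (fix_conj (s := ρ sH) ?_ (himg sH hs))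
      rw [← mul_assoc, hsa, mul_assoc (a * b), ((show Commute (ρ sH) b from hsb).pow_right i).eq, pow_succ']
      simp only [mul_assoc]
    have h3 : Nat.card ↥(U ⊓ c.ker1 (F.t_mem 3).1) = Nat.card ↥(U ⊓ c.ker1 (F.t_mem 0).1) := by
      rw [hcard, hcard, b3, pow_zero]
    have h01 := hcyc 0
    have h12 := hcyc 1
    have h23 := hcyc 2
    simp only [zero_add, Nat.reduceAdd] at h01 h12 h23
    intro i hi j hj
    interval_cases i <;> interval_cases j <;> omega

end Ctx

end CfsgLib.JankoFour
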