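/-
An involution of the elementary group above a hexad group has kernel of order 2^9 on E modulo the centre.
-/
import Cfsg.Agent.Lib.JankoFour.Split

set_option autoImplicit false
set_option maxHeartbeats 1000000

namespace CfsgLib.JankoFour

open Cfsg Subgroup
open scoped commutatorElement

universe u

variable {G : Type u} [Group G] [Finite G] {z : G} {P E : Subgroup G}

/-- The number of true values. -/
def bsum (a b d : Bool) : ℕ := a.toNat + b.toNat + d.toNat

theorem pattern_card (a b d : Bool) :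
    ((if a = true then 8 else 32) * (if b = true then 8 else 32) * (if d = true then 8 else 32)) * 4 ^ bsum a b d =
      2 ^ 15 := by
  revert a b d; decide

theorem pattern_col {a b d : Bool} (h3 : a = true → b = true → ¬ d = true) (ha : ¬ b = true → ¬ d = true → ¬ a = true)
    (hb : ¬ a = true → ¬ d = true → ¬ b = true) (hd : ¬ a = true → ¬ b = true → ¬ d = true) :
    a.toNat + b.toNat + d.toNat = 0 ∨ a.toNat + b.toNat + d.toNat = 2 := by
  revert h3 ha hb hd
  cases a <;> cases b <;> cases d <;> simp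

theorem pattern_rule {a0 a1 a2 b0 b1 b2 d0 d1 d2 : Bool}
    (c0 : a0.toNat + b0.toNat + d0.toNat = 0 ∨ a0.toNat + b0.toNat + d0.toNat = 2)
    (c1 : a1.toNat + b1.toNat + d1.toNat = 0 ∨ a1.toNat + b1.toNat + d1.toNat = 2)
    (c2 : a2.toNat + b2.toNat + d2.toNat = 0 ∨ a2.toNat + b2.toNat + d2.toNat = 2)
    (hab : bsum a0 a1 a2 = bsum b0 b1 b2) (had : bsum a0 a1 a2 = bsum d0 d1 d2) :
    bsum a0 a1 a2 = 0 ∨ bsum a0 a1 a2 = 2 := by
  unfold bsum at *; omega

namespace Ctx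

/-- Lifts of the elements of a hexad group. -/
theorem twoGrp_lift (c : Ctx z P E) {A : Subgroup MTwoTwo} (hA : IsElementaryAbelian 2 A) {a : MTwoTwo}
    (ha : a ∈ A) : ∃ x ∈ c.twoGrp A hA, c.val x = a := by
  obtain ⟨y, hy, hv⟩ := c.exists_val a
  obtain ⟨h1, h2⟩ := c.pow_three_two (fun b hb => by rw [← sq]; exact hA.2 b hb) hy (hv ▸ ha)
  exact ⟨y ^ 3, h1, h2.trans hv⟩

theorem twoGrp_val_eq (c : Ctx z P E) {A : Subgroup MTwoTwo} {hA : IsElementaryAbelian 2 A} {x y : G}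
    (hx : x ∈ c.twoGrp A hA) (hy : y ∈ c.twoGrp A hA) (h : c.val x = c.val y) : y⁻¹ * x ∈ zpowers z := by
  refine c.two_ker (mul_mem (inv_mem hy) hx) ?_
  rw [c.val_mul (c.cen_le_H0 (inv_mem hy.1)) (c.cen_le_H0 hx.1), c.val_inv (c.cen_le_H0 hy.1), h, inv_mul_cancel]

/-- An element of cen commuting modulo N with an element above A commutes with it modulo the centre. -/
theorem twoGrp_comm (c : Ctx z P E) {A : Subgroup MTwoTwo} {hA : IsElementaryAbelian 2 A} {x n : G}
    (hx : x ∈ c.twoGrp A hA) (hn : n ∈ c.cen) (hN : c.val n ∈ normalizer (A : Set MTwoTwo))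
    (h : c.val n * c.val x = c.val x * c.val n) : ⁅x, n⁆ ∈ zpowers z := by
  have h1 : n * x * n⁻¹ ∈ c.twoGrp A hA := c.two_conj hn hN hx
  have h2 := c.twoGrp_val_eq hx h1 (by
    rw [c.val_mul (c.cen_le_H0 (mul_mem hn hx.1)) (c.cen_le_H0 (inv_mem hn)), c.val_mul (c.cen_le_H0 hn)
      (c.cen_le_H0 hx.1), c.val_inv (c.cen_le_H0 hn), h, mul_inv_cancel_right])
  have h3 := c.Z_conj (mul_mem (mul_mem hn.1 hx.1.1) (inv_mem hn.1)) h2
  rw [show n * x * n⁻¹ * ((n * x * n⁻¹)⁻¹ * x) * (n * x * n⁻¹)⁻¹ = ⁅x, n⁆ by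
    simp only [commutatorElement_def]; group] at h3
  rw [h3]; exact h2

theorem delta_conj (c : Ctx z P E) {x t e : G} (hx : x ∈ centralizer ({z} : Set G))
    (ht : t ∈ centralizer ({z} : Set G)) (he : e ∈ E) (h : ⁅x, t⁆ ∈ zpowers z) :
    ⁅x, t * e * t⁻¹⁆ = t * ⁅x, e⁆ * t⁻¹ := by
  have hxt : x * t = ⁅x, t⁆ * (t * x) := by simp only [commutatorElement_def]; group
  have hv : t * (x * e * x⁻¹) * t⁻¹ ∈ centralizer ({z} : Set G) := c.Ez (c.conj_E ht (c.conj_E hx he))
  have h1 : x * (t * e * t⁻¹) * x⁻¹ = t * (x * e * x⁻¹) * t⁻¹ := by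
    rw [show x * (t * e * t⁻¹) * x⁻¹ = (x * t) * e * (x * t)⁻¹ by group, hxt,
      show ⁅x, t⁆ * (t * x) * e * (⁅x, t⁆ * (t * x))⁻¹ = ⁅x, t⁆ * (t * (x * e * x⁻¹) * t⁻¹) * ⁅x, t⁆⁻¹ by group,
      ← c.Z_comm hv h, mul_inv_cancel_right]
  rw [commutatorElement_def x (t * e * t⁻¹), h1]
  simp only [commutatorElement_def]
  group

theorem fixB_conj' (c : Ctx z P E) {A : Subgroup MTwoTwo} {n : G} (hn : n ∈ c.cen)
    (hN : c.val n ∈ normalizer (A : Set MTwoTwo)) : ∀ e ∈ c.fixB A, n * e * n⁻¹ ∈ c.fixB A :=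
  fun _ he => c.fixB_conj hn hN he

theorem val_P (c : Ctx z P E) {q : G} (hq : q ∈ P) : c.val q = 1 :=
  (c.val_eq_one (c.cen_le_H0 (c.P_le_cen hq))).mpr (c.PN hq)

/-- A frame normalizing a hexad group. -/
theorem exists_frame (c : Ctx z P E) {A : Subgroup MTwoTwo} (hA : HexData A) :
    ∃ r s p, c.Frame r s p ∧ c.val r ∈ normalizer (A : Set MTwoTwo) ∧ c.val s ∈ normalizer (A : Set MTwoTwo) ∧
      c.val r ≠ 1 ∧
      ∃ a ∈ A, ∃ b ∈ A, a ≠ 1 ∧ b ≠ 1 ∧ a ≠ b ∧ c.val r * a = a * c.val r ∧ c.val r * b = b * c.val r := by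
  classical
  obtain ⟨-, -, r', hr', s', hs', r3, s3, hrs, r1, hsk, a, ha, b, hb, a1, b1, hab, hra, hrb⟩ := hA
  set R := pairGrp r' s' r3 s3 hrs with hRdef
  have hrR : r' ∈ R := ⟨1, by norm_num, 0, by norm_num, by simp⟩
  have hsR : s' ∈ R := ⟨0, by norm_num, 1, by norm_num, by simp⟩
  have hR : Nat.card R = 9 := by
    refine le_antisymm ?_ (Nat.le_of_dvd Nat.card_pos (nine_dvd r' s' r3 s3 hrs hsk hrR hsR r1))
    let F : Fin 3 × Fin 3 → R := fun x => ⟨r' ^ (x.1 : ℕ) * s' ^ (x.2 : ℕ), x.1, x.1.2, x.2, x.2.2, rfl⟩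
    have hF : Function.Surjective F := fun ⟨x, i, hi, j, hj, e⟩ => ⟨(⟨i, hi⟩, ⟨j, hj⟩), Subtype.ext e.symm⟩
    have := Nat.card_le_card_of_surjective F hF
    simpa using this
  obtain ⟨S, hScen, hPS, hS27, ⟨u, hu, v, hv, huv⟩, hval, hlift, hall⟩ := c.cen_nine hR
  obtain ⟨r, hr, hvr⟩ := hlift r' hrR
  obtain ⟨s, hs, hvs⟩ := hlift s' hsR
  have h27 : ∀ y ∈ S, y ^ 27 = 1 := fun y hy => by
    have := pow_card_eq_one' (x := (⟨y, hy⟩ : S))
    rw [hS27] at this
    exact congrArg Subtype.val this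
  -- kernel elements of S lie in P
  have hker : ∀ y ∈ S, c.val y = 1 → y ∈ P := by
    intro y hy hy1
    obtain ⟨t, ht, q, hq, rfl⟩ := c.cen_N (hScen hy) ((c.val_eq_one (c.cen_le_H0 (hScen hy))).mp hy1)
    have hc : Commute t q := (c.Z_comm (c.P_le hq) ht).symm
    have h := h27 _ hy
    have q3 : q ^ 3 = 1 := by rw [pow_succ, sq]; exact c.P_cube hq
    rw [hc.mul_pow, show 27 = 3 * 9 from rfl, pow_mul q, q3, one_pow, mul_one, show 3 * 9 = 2 * 13 + 1 from rfl,
      pow_succ, pow_mul, show t ^ 2 = 1 by rw [sq]; exact c.Z_sq ht, one_pow, one_mul] at h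
    rw [h, one_mul]; exact hq
  have hr9 : r ^ 9 = 1 := by
    have hv3 : c.val (r ^ 3) = 1 := by rw [c.val_pow (c.cen_le_H0 (hScen hr)), hvr, r3]
    rw [show 9 = 3 * 3 from rfl, pow_mul, pow_succ, sq]
    exact c.P_cube (hker _ (pow_mem hr 3) hv3)
  have hr3 := c.cen_cube (hScen hr) hr9 (by rw [hvr, r3])
  have hkv : c.val ⁅s, r⁆ = 1 := by
    show c.valHom ⁅(⟨s, hScen hs⟩ : c.cen), ⟨r, hScen hr⟩⁆ = 1
    rw [map_commutatorElement, commutatorElement_eq_one_iff_mul_comm]
    show c.val s * c.val r = c.val r * c.val s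
    rw [hvr, hvs, hrs]
  have hkP : ⁅s, r⁆ ∈ P := hker _ (mul_mem (mul_mem (mul_mem hs hr) (inv_mem hs)) (inv_mem hr)) hkv
  have hk1 : ⁅s, r⁆ ≠ 1 := by
    intro h
    refine huv ?_
    have hcomm : Commute s r := commutatorElement_eq_one_iff_commute.mp h
    have form : ∀ y ∈ S, ∃ i j : ℕ, ∃ q ∈ P, y = r ^ i * s ^ j * q := by
      intro y hy
      obtain ⟨i, -, j, -, e⟩ := hval y hy
      refine ⟨i, j, (r ^ i * s ^ j)⁻¹ * y, hker _ (mul_mem (inv_mem (mul_mem (pow_mem hr i) (pow_mem hs j))) hy) ?_,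
        (mul_inv_cancel_left _ _).symm⟩
      rw [c.val_mul (c.cen_le_H0 (inv_mem (mul_mem (pow_mem (hScen hr) i) (pow_mem (hScen hs) j))))
          (c.cen_le_H0 (hScen hy)), c.val_inv (c.cen_le_H0 (mul_mem (pow_mem (hScen hr) i) (pow_mem (hScen hs) j))),
        c.val_mul (c.cen_le_H0 (pow_mem (hScen hr) i)) (c.cen_le_H0 (pow_mem (hScen hs) j)),
        c.val_pow (c.cen_le_H0 (hScen hr)), c.val_pow (c.cen_le_H0 (hScen hs)), hvr, hvs, ← e, inv_mul_cancel]
    obtain ⟨i, j, q, hq, rfl⟩ := form u hu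
    obtain ⟨i', j', q', hq', rfl⟩ := form v hv
    have c1 : Commute (r ^ i * s ^ j) (r ^ i' * s ^ j') :=
      ((Commute.pow_pow_self r i i').mul_right ((hcomm.symm).pow_pow i j')).mul_left
        ((hcomm.pow_pow j i').mul_right (Commute.pow_pow_self s j j'))
    have cq : ∀ w ∈ c.cen, ∀ q ∈ P, Commute w q := fun w hw q hq => c.cen_comm hw hq
    have hx1 : r ^ i * s ^ j ∈ c.cen := mul_mem (pow_mem (hScen hr) i) (pow_mem (hScen hs) j)
    have hx2 : r ^ i' * s ^ j' ∈ c.cen := mul_mem (pow_mem (hScen hr) i') (pow_mem (hScen hs) j')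
    exact ((c1.mul_right (cq _ hx1 _ hq')).mul_left
      ((cq _ hx2 _ hq).symm.mul_right ((cq _ (c.P_le_cen hq') _ hq).symm))).eq
  refine ⟨r, s, ⁅s, r⁆, ⟨hScen hr, hScen hs, hkP, ?_, hr3, ?_⟩, hvr.symm ▸ hr', hvs.symm ▸ hs', hvr.symm ▸ r1, a, ha,
    b, hb, a1, b1, hab, by rw [hvr, hra], by rw [hvr, hrb]⟩
  · refine (eq_of_le_of_card_ge (zpowers_le.mpr hkP) ?_).symm
    rw [Nat.card_zpowers, c.hP, orderOf_eq_prime (hp := ⟨Nat.prime_three⟩)
      (by rw [pow_succ, sq]; exact c.P_cube hkP) hk1]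
  · rw [c.cen_comm (hScen hr) hkP]; simp only [commutatorElement_def]; group

/-- The kernel of an element above a hexad group has order 2^9. -/
theorem rank_two (c : Ctx z P E) {A : Subgroup MTwoTwo} (hA : HexData A) {x : G} (hx : x ∈ c.twoGrp A hA.1.1)
    (hxZ : x ∉ zpowers z) : Nat.card (c.ker1 hx.1.1) = 2 ^ 9 := by
  classical
  obtain ⟨r, s, p, F, hrN, hsN, hr1, a, ha, b, hb, a1, b1, hab, hra, hrb⟩ := c.exists_frame hA
  obtain ⟨hF7, hFc, hFsq, hFQ⟩ := c.hex_fix hA.1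
  set W := c.fixB A with hWdef
  have hWE := c.fixB_le A
  have hZW := c.Z_le_fixB A
  have hpN : c.val p ∈ normalizer (A : Set MTwoTwo) := by rw [c.val_P F.hp]; exact one_mem _
  let D : ℕ → Subgroup G := fun i => c.ker1 (F.t_mem i).1
  have hDE : ∀ i, D i ≤ E := fun i => c.ker1_le _
  have hD : ∀ i < 3, Nat.card (D i) = 2 ^ 5 := by
    obtain ⟨h1, h2⟩ := F.split le_rfl c.Z_le (fun e he => c.conj_E F.hr.1 he)
      (fun e he => c.conj_E (c.P_le F.hp) he)
    have h2' := h2 fun e he => c.conj_E F.hs.1 he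
    have e : ∀ i, E ⊓ D i = D i := fun i => inf_eq_right.mpr (hDE i)
    intro i hi
    obtain ⟨m, hm, hme⟩ := c.card_two_pow (hDE i)
    rw [← h2' i hi 0 (by norm_num), ← h2' i hi 1 (by norm_num), ← h2' i hi 2 (by norm_num), c.hE] at h1
    simp only [D] at e hme ⊢
    rw [e, hme, ← pow_add, ← pow_add, show 2 ^ 13 * 4 = 2 ^ 15 from rfl] at h1
    have := Nat.pow_right_injective (le_refl 2) h1
    rw [hme, show m = 5 by omega]
  have hWD : ∀ i < 3, Nat.card ↥(W ⊓ D i) = 8 := by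
    obtain ⟨h1, h2⟩ := F.split hWE hZW (c.fixB_conj' F.hr hrN) (c.fixB_conj' (c.P_le_cen F.hp) hpN)
    have h2' := h2 (c.fixB_conj' F.hs hsN)
    intro i hi
    obtain ⟨m, hm, hme⟩ := c.card_two_pow (inf_le_left.trans hWE : W ⊓ D i ≤ E)
    rw [← h2' i hi 0 (by norm_num), ← h2' i hi 1 (by norm_num), ← h2' i hi 2 (by norm_num), hF7] at h1
    simp only [D] at hme ⊢
    rw [hme, ← pow_add, ← pow_add, show 2 ^ 7 * 4 = 2 ^ 9 from rfl] at h1
    have := Nat.pow_right_injective (le_refl 2) h1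
    rw [hme, show m = 3 by omega]; norm_num
  have hsq : ∀ {y : G}, y ∈ c.twoGrp A hA.1.1 → y * y ∈ zpowers z := fun hy => hy.2.2
  have hWker : ∀ {y : G} (hy : y ∈ c.twoGrp A hA.1.1), W ≤ c.ker1 hy.1.1 := fun hy e he =>
    c.mem_ker1.mpr ⟨hWE he, by
      rw [commutatorElement_eq_one_iff_mul_comm.mpr (hFQ e he _ hy)]; exact one_mem _⟩
  have hdW : ∀ {y : G}, y ∈ c.twoGrp A hA.1.1 → ∀ e ∈ E, ⁅y, e⁆ ∈ W := fun hy e he => by
    have h := (c.image_eq hy.1.1 (hsq hy)).1 e he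
    rw [← hFc]
    exact ⟨h.1, mem_centralizer_iff.mpr fun f hf => mem_centralizer_iff.mp h.2 f (hWker hy hf)⟩
  -- a frame element commutes modulo the centre with an element above a centralized one
  have hcomt : ∀ {y : G}, y ∈ c.twoGrp A hA.1.1 → c.val r * c.val y = c.val y * c.val r →
      ∀ i, ⁅y, r * p ^ i⁆ ∈ zpowers z := by
    intro y hy hvy i
    have hvt : c.val (r * p ^ i) = c.val r := by
      rw [c.val_mul (c.cen_le_H0 F.hr) (c.cen_le_H0 (c.P_le_cen (pow_mem F.hp i))), c.val_P (pow_mem F.hp i), mul_one]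
    exact c.twoGrp_comm hy (F.t_mem i) (hvt.symm ▸ hrN) (by rw [hvt, hvy])
  -- the bad indices
  let bad : G → ℕ → Prop := fun y i => ∃ e ∈ D i, ⁅y, e⁆ ∉ zpowers z
  have hKD : ∀ {y : G} (hy : y ∈ c.twoGrp A hA.1.1) (_ : c.val r * c.val y = c.val y * c.val r) (i : ℕ), i < 3 →
      Nat.card ↥(c.ker1 hy.1.1 ⊓ D i) = if bad y i then 8 else 32 := by
    intro y hy hvy i hi
    set K := c.ker1 hy.1.1
    by_cases hb : bad y i
    · rw [if_pos hb]
      have hle : W ⊓ D i ≤ K ⊓ D i := inf_le_inf_right _ (hWker hy)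
      have hlt : Nat.card ↥(K ⊓ D i) < 32 := by
        by_contra hge
        push Not at hge
        obtain ⟨e, he, hne⟩ := hb
        have : K ⊓ D i = D i := eq_of_le_of_card_ge inf_le_right (by rw [hD i hi]; exact hge)
        have he' : e ∈ K ⊓ D i := this.symm ▸ he
        exact hne (c.mem_ker1.mp he'.1).2
      obtain ⟨m, -, hm⟩ := c.card_cases (inf_le_right.trans (hDE i) : K ⊓ D i ≤ E)
        (le_inf (c.Z_le_ker1 _) (c.Z_le_ker1 _)) (fun q hq e he => by
          refine ⟨c.mem_ker1.mpr ⟨c.conj_E (c.P_le hq) (hDE i he.2), ?_⟩,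
            c.mem_ker1.mpr ⟨c.conj_E (c.P_le hq) (hDE i he.2), ?_⟩⟩
          · rw [c.delta_P (c.cen_comm hy.1 hq), c.Z_conj (c.P_le hq) (c.mem_ker1.mp he.1).2]
            exact (c.mem_ker1.mp he.1).2
          · rw [c.delta_P (c.cen_comm (F.t_mem i) hq), c.Z_conj (c.P_le hq) (c.mem_ker1.mp he.2).2]
            exact (c.mem_ker1.mp he.2).2)
      have hge := card_le_of_le hle
      rw [hWD i hi, hm] at hge
      rw [hm] at hlt ⊢
      have h1 : 3 ≤ 2 * m + 1 := (Nat.pow_le_pow_iff_right (le_refl 2)).mp (show 2 ^ 3 ≤ 2 ^ (2 * m + 1) from hge)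
      have h2 : 2 * m + 1 < 5 := (Nat.pow_lt_pow_iff_right (le_refl 2)).mp (show 2 ^ (2 * m + 1) < 2 ^ 5 from hlt)
      rw [show 2 * m + 1 = 3 by omega]; norm_num
    · rw [if_neg hb]
      simp only [bad] at hb
      push Not at hb
      have : K ⊓ D i = D i := inf_eq_right.mpr fun e he => c.mem_ker1.mpr ⟨hDE i he, hb e he⟩
      rw [this, hD i hi]; norm_num
  have hform : ∀ {y : G} (hy : y ∈ c.twoGrp A hA.1.1) (_ : c.val r * c.val y = c.val y * c.val r),
      Nat.card (c.ker1 hy.1.1) * 4 = (if bad y 0 then 8 else 32) * (if bad y 1 then 8 else 32) *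
        (if bad y 2 then 8 else 32) := by
    intro y hy hvy
    rw [← hKD hy hvy 0 (by norm_num), ← hKD hy hvy 1 (by norm_num), ← hKD hy hvy 2 (by norm_num)]
    refine ((F.split (c.ker1_le _) (c.Z_le_ker1 _) (fun e he => ?_) (fun e he => ?_)).1).symm
    · have h := c.mem_ker1.mp he
      refine c.mem_ker1.mpr ⟨c.conj_E F.hr.1 h.1, ?_⟩
      have hc := hcomt hy hvy 0
      rw [pow_zero, mul_one] at hc
      rw [c.delta_conj hy.1.1 F.hr.1 h.1 hc, c.Z_conj F.hr.1 h.2]; exact h.2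
    · have h := c.mem_ker1.mp he
      refine c.mem_ker1.mpr ⟨c.conj_E (c.P_le F.hp) h.1, ?_⟩
      rw [c.delta_P (c.cen_comm hy.1 F.hp), c.Z_conj (c.P_le F.hp) h.2]; exact h.2
  -- all elements have kernels of one size
  have hsame : ∀ {y x : G} (hy : y ∈ c.twoGrp A hA.1.1) (hx : x ∈ c.twoGrp A hA.1.1), y ∉ zpowers z →
      x ∉ zpowers z → Nat.card (c.ker1 hy.1.1) ≤ Nat.card (c.ker1 hx.1.1) := by
    intro y x hy hx hyZ hxZ
    have hvy : c.val y ≠ 1 := fun e => hyZ (c.two_ker hy e)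
    have hvx : c.val x ≠ 1 := fun e => hxZ (c.two_ker hx e)
    obtain ⟨n, hn, hnxy⟩ := hA.1.2.2.2 _ hy.2.1 _ hx.2.1 hvy hvx
    obtain ⟨n', hn', hvn⟩ := c.exists_val n
    have hyn : n' * y * n'⁻¹ ∈ c.twoGrp A hA.1.1 := c.two_conj hn' (hvn ▸ hn) hy
    have hz1 : x⁻¹ * (n' * y * n'⁻¹) ∈ zpowers z := c.twoGrp_val_eq hyn hx (by
      rw [c.val_mul (c.cen_le_H0 (mul_mem hn' hy.1)) (c.cen_le_H0 (inv_mem hn')), c.val_mul (c.cen_le_H0 hn')
        (c.cen_le_H0 hy.1), c.val_inv (c.cen_le_H0 hn'), hvn, hnxy])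
    refine Nat.card_le_card_of_injective (fun e => (⟨n' * e * n'⁻¹, ?_⟩ : c.ker1 hx.1.1)) fun e f h =>
      Subtype.ext (by simpa using congrArg Subtype.val h)
    obtain ⟨heE, het⟩ := c.mem_ker1.mp e.2
    refine c.mem_ker1.mpr ⟨c.conj_E hn'.1 heE, ?_⟩
    set ζ := x⁻¹ * (n' * y * n'⁻¹) with hζ
    have hxy : x = n' * y * n'⁻¹ * ζ⁻¹ := by rw [hζ]; group
    have h1 : ζ⁻¹ * (n' * e * n'⁻¹) * ζ⁻¹⁻¹ = n' * e * n'⁻¹ := by
      rw [← c.Z_comm (c.Ez (c.conj_E hn'.1 heE)) (inv_mem hz1), mul_inv_cancel_right]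
    have h2 : ⁅x, n' * e * n'⁻¹⁆ = n' * ⁅y, (e : G)⁆ * n'⁻¹ := by
      rw [hxy, commutatorElement_def, show n' * y * n'⁻¹ * ζ⁻¹ * (n' * e * n'⁻¹) * (n' * y * n'⁻¹ * ζ⁻¹)⁻¹ =
        n' * y * n'⁻¹ * (ζ⁻¹ * (n' * e * n'⁻¹) * ζ⁻¹⁻¹) * (n' * y * n'⁻¹)⁻¹ by group, h1]
      simp only [commutatorElement_def]
      group
    rw [h2, c.Z_conj hn'.1 het]; exact het
  have hsymm : ∀ {y w : G} (hy : y ∈ c.twoGrp A hA.1.1) (hw : w ∈ c.twoGrp A hA.1.1) (i : ℕ), i < 3 →
      c.val r * c.val y = c.val y * c.val r → c.val r * c.val w = c.val w * c.val r →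
      bad y i → bad w i → ¬ bad (y * w) i := by
    intro y w hy hw i hi hvy hvw hby hbw
    rintro ⟨e, heD, hne⟩
    have heE := hDE i heD
    have hwy : ⁅y * w, e⁆ = ⁅w, e⁆ * ⁅y, e⁆ := by
      rw [commutatorElement_mul_left_eq_conj_mul, hFQ _ (hdW hw e heE) y hy, mul_inv_cancel_right]
    have heW : e ∉ W := fun h => hne (by
      rw [commutatorElement_eq_one_iff_mul_comm.mpr (hFQ e h _ (mul_mem hy hw))]; exact one_mem _)
    set f := p * e * p⁻¹ with hfdef
    have hfD : f ∈ D i := c.mem_ker1.mpr ⟨c.conj_E (c.P_le F.hp) heE, by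
      rw [c.delta_P (c.cen_comm (F.t_mem i) F.hp), c.Z_conj (c.P_le F.hp) (c.mem_ker1.mp heD).2]
      exact (c.mem_ker1.mp heD).2⟩
    -- an element of W fixed by the i-th frame element and orthogonal to e and f is central
    have key : ∀ m ∈ W, ⁅r * p ^ i, m⁆ ∈ zpowers z → ⁅m, e⁆ = 1 → ⁅m, f⁆ = 1 → m ∈ zpowers z := by
      intro m hm hmt hme hmf
      have hDm : D i ≤ centralizer ({m} : Set G) := by
        set K := D i ⊓ centralizer ({m} : Set G) with hK
        suffices K = D i from inf_eq_left.mp this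
        have hsub : W ⊓ D i ≤ K := fun v hv => ⟨hv.2, mem_centralizer_singleton_iff.mpr
          (mem_centralizer_iff.mp (hFc.symm ▸ hm : m ∈ E ⊓ centralizer (W : Set G)).2 v hv.1)⟩
        have heK : e ∈ K := ⟨heD, mem_centralizer_singleton_iff.mpr
          (commutatorElement_eq_one_iff_mul_comm.mp hme).symm⟩
        have hfK : f ∈ K := ⟨hfD, mem_centralizer_singleton_iff.mpr
          (commutatorElement_eq_one_iff_mul_comm.mp hmf).symm⟩
        refine eq_of_le_of_card_ge inf_le_left ?_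
        rw [hD i hi]
        by_contra hlt
        push Not at hlt
        obtain ⟨k, -, hk⟩ := c.card_two_pow (inf_le_left.trans (hDE i) : K ≤ E)
        have h8 := card_le_of_le hsub
        rw [hWD i hi, hk] at h8
        rw [hk] at hlt
        have k3 : 3 ≤ k := (Nat.pow_le_pow_iff_right (le_refl 2)).mp (show 2 ^ 3 ≤ 2 ^ k from h8)
        have k5 : k < 5 := (Nat.pow_lt_pow_iff_right (le_refl 2)).mp hlt
        have hk4 : k = 4 := by
          by_contra
          have : k = 3 := by omega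
          have heq := eq_of_le_of_card_ge hsub (by rw [hk, this, hWD i hi]; norm_num)
          exact heW (heq.symm ▸ heK : e ∈ W ⊓ D i).1
        -- f lies in the coset of e
        let WDs := (W ⊓ D i).subgroupOf K
        have hidx : WDs.index = 2 := by
          have := Subgroup.card_mul_index WDs
          rw [Nat.card_congr (subgroupOfEquivOfLe hsub).toEquiv, hWD i hi, hk, hk4] at this
          omega
        have hfe : (⟨f, hfK⟩ : K) * (⟨e, heK⟩ : K)⁻¹ ∈ WDs := by
          rw [Subgroup.mul_mem_iff_of_index_two hidx, inv_mem_iff, mem_subgroupOf, mem_subgroupOf]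
          refine iff_of_false (fun h => heW ?_) fun h => heW h.1
          have h' : p⁻¹ * f * p ∈ W := by
            have := c.fixB_conj' (inv_mem (c.P_le_cen F.hp)) (by
              rw [c.val_P (inv_mem F.hp)]; exact one_mem _) f h.1
            rwa [inv_inv] at this
          rw [hfdef, show p⁻¹ * (p * e * p⁻¹) * p = e by group] at h'
          exact h'
        have hfe' : f * e⁻¹ ∈ W := (mem_subgroupOf.mp hfe).1
        exact heW (c.sec_fpf hWE hZW F.hp F.hgen (c.fixB_conj' (c.P_le_cen F.hp) hpN) heE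
          (by rw [commutatorElement_def]; exact hfe'))
      -- and with the other two parts
      have hall : ∀ j < 3, ∀ g ∈ D j, ⁅m, g⁆ = 1 := by
        intro j hj g hg
        by_cases hji : j = i
        · subst hji
          exact commutatorElement_eq_one_iff_mul_comm.mpr (mem_centralizer_singleton_iff.mp (hDm hg)).symm
        set d := (i + 3 - j) % 3 with hd
        set q := p ^ d
        have hq : q ∈ P := pow_mem F.hp d
        have hgq : P = zpowers q := by
          refine (eq_of_le_of_card_ge (zpowers_le.mpr hq) ?_).symm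
          have q3 : q ^ 3 = 1 := by rw [pow_succ, sq]; exact c.P_cube hq
          have hq1 : q ≠ 1 := by
            intro h
            have hp1 : p ≠ 1 := fun e => by
              have := F.hgen ▸ c.hP
              rw [Nat.card_zpowers, e, orderOf_one] at this; norm_num at this
            have hd0 : d = 1 ∨ d = 2 := by omega
            rcases hd0 with e' | e'
            · exact hp1 (by simpa [q, e'] using h)
            · refine hp1 ?_
              have h' : p ^ 2 = 1 := by simpa [q, e'] using h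
              have := F.p3
              rw [pow_succ, h', one_mul] at this
              exact this
          rw [Nat.card_zpowers, c.hP, orderOf_eq_prime (hp := ⟨Nat.prime_three⟩) q3 hq1]
        have hti : r * p ^ i = r * p ^ j * q := by
          rw [mul_assoc r, ← pow_add, pow_eq_pow_mod i F.p3, pow_eq_pow_mod (j + d) F.p3]
          congr 2; omega
        refine c.hom_trivial (hDE j) (c.Z_le_ker1 _) hq hgq (fun e he => c.mem_ker1.mpr
          ⟨c.conj_E (c.P_le hq) (hDE j he), by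
            rw [c.delta_P (c.cen_comm (F.t_mem j) hq), c.Z_conj (c.P_le hq) (c.mem_ker1.mp he).2]
            exact (c.mem_ker1.mp he).2⟩) (fun g => ⁅m, g⁆) (fun a ha b hb => ?_) (fun a ha => ?_) ?_ g hg
        · exact c.comm_mul_right (hDE j ha) (hDE j hb) (hWE hm)
        · show ⁅m, q * a * q⁻¹⁆ = ⁅m, a⁆
          have haE := hDE j ha
          have h1 : ⁅m, (r * p ^ i) * a * (r * p ^ i)⁻¹⁆ = ⁅m, a⁆ := by
            have e1 := c.conj_comm (F.t_mem i).1 (hWE hm) haE
            have e2 : (r * p ^ i) * m * (r * p ^ i)⁻¹ = ⁅r * p ^ i, m⁆ * m := by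
              rw [commutatorElement_def, inv_mul_cancel_right]
            rw [e2, c.comm_mul_left (c.Z_le hmt) (hWE hm) (c.conj_E (F.t_mem i).1 haE),
              c.comm_Z_left hmt (c.conj_E (F.t_mem i).1 haE), one_mul] at e1
            exact e1
          have hqa := c.conj_E (c.P_le hq) haE
          have h2 : ⁅r * p ^ j, q * a * q⁻¹⁆ ∈ zpowers z := by
            rw [c.delta_P (c.cen_comm (F.t_mem j) hq), c.Z_conj (c.P_le hq) (c.mem_ker1.mp ha).2]
            exact (c.mem_ker1.mp ha).2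
          rw [hti, show r * p ^ j * q * a * (r * p ^ j * q)⁻¹ = ⁅r * p ^ j, q * a * q⁻¹⁆ * (q * a * q⁻¹) by
              simp only [commutatorElement_def]; group,
            c.comm_mul_right (c.Z_le h2) hqa (hWE hm), c.comm_swap (hWE hm) (c.Z_le h2),
            c.comm_Z_left h2 (hWE hm), one_mul] at h1
          exact h1
        · show ⁅m, z⁆ = 1
          rw [c.comm_swap (hWE hm) c.zE, c.comm_Z_left (mem_zpowers z) (hWE hm)]
      -- so it is centralized by all of E
      have hEm : E ≤ centralizer ({m} : Set G) := by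
        have hsup : D 0 ⊔ D 1 ⊔ D 2 = E := by
          set U := D 0 ⊔ D 1 ⊔ D 2 with hU
          have hUE : U ≤ E := sup_le (sup_le (hDE 0) (hDE 1)) (hDE 2)
          have hinv : ∀ n ∈ c.cen, (∀ j, ∀ g ∈ D j, n * g * n⁻¹ ∈ D j) → ∀ g ∈ U, n * g * n⁻¹ ∈ U := by
            intro n _ hn g hg
            have hle : U.map (MulAut.conj n).toMonoidHom ≤ U := by
              rw [hU, Subgroup.map_sup, Subgroup.map_sup]
              refine sup_le (sup_le ?_ ?_) ?_ <;> rintro _ ⟨v, hv, rfl⟩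
              exacts [mem_sup_left (mem_sup_left (hn _ v hv)), mem_sup_left (mem_sup_right (hn _ v hv)),
                mem_sup_right (hn _ v hv)]
            exact hle ⟨g, hg, rfl⟩
          have hDn : ∀ n ∈ c.cen, (∀ j, ⁅r * p ^ j, n⁆ ∈ zpowers z) → ∀ j, ∀ g ∈ D j, n * g * n⁻¹ ∈ D j := by
            intro n hn hcj j g hg
            refine c.mem_ker1.mpr ⟨c.conj_E hn.1 (hDE j hg), ?_⟩
            rw [c.delta_conj (F.t_mem j).1 hn.1 (hDE j hg) (hcj j), c.Z_conj hn.1 (c.mem_ker1.mp hg).2]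
            exact (c.mem_ker1.mp hg).2
          have hrc : ∀ j, ⁅r * p ^ j, r⁆ ∈ zpowers z := fun j => by
            rw [commutatorElement_eq_one_iff_mul_comm.mpr
              (((Commute.refl r).mul_left (c.cen_comm F.hr (pow_mem F.hp j) : Commute r (p ^ j)).symm).eq)]
            exact one_mem _
          have hpc : ∀ j, ⁅r * p ^ j, p⁆ ∈ zpowers z := fun j => by
            rw [commutatorElement_eq_one_iff_mul_comm.mpr (c.cen_comm (F.t_mem j) F.hp)]
            exact one_mem _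
          have hsp := (F.split hUE ((c.Z_le_ker1 _).trans (le_sup_left.trans le_sup_left))
            (hinv r F.hr (hDn r F.hr hrc)) (hinv p (c.P_le_cen F.hp) (hDn p (c.P_le_cen F.hp) hpc))).1
          have e : ∀ j < 3, U ⊓ D j = D j := fun j hj => by
            refine inf_eq_right.mpr ?_
            interval_cases j
            exacts [le_sup_left.trans le_sup_left, le_sup_right.trans le_sup_left, le_sup_right]
          simp only [D] at e hD
          rw [e 0 (by norm_num), e 1 (by norm_num), e 2 (by norm_num), hD 0 (by norm_num), hD 1 (by norm_num),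
            hD 2 (by norm_num)] at hsp
          exact eq_of_le_of_card_ge hUE (by rw [c.hE]; omega)
        rw [← hsup]
        refine sup_le (sup_le ?_ ?_) ?_ <;> intro g hg <;> refine mem_centralizer_singleton_iff.mpr
          (commutatorElement_eq_one_iff_mul_comm.mp ?_).symm
        exacts [hall 0 (by norm_num) g hg, hall 1 (by norm_num) g hg, hall 2 (by norm_num) g hg]
      obtain ⟨hz, hext⟩ := c.extE
      have hcen : (⟨m, hWE hm⟩ : E) ∈ center E := Subgroup.mem_center_iff.mpr fun g =>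
        Subtype.ext (mem_centralizer_singleton_iff.mp (hEm g.2))
      exact c.center_E.mp hcen
    have hfix : ∀ {v : G}, v ∈ c.twoGrp A hA.1.1 → c.val r * c.val v = c.val v * c.val r →
        ⁅r * p ^ i, ⁅v, e⁆⁆ ∈ zpowers z := by
      intro v hv hvv
      have hte := (c.mem_ker1.mp heD).2
      set ζ := ⁅r * p ^ i, e⁆ with hζ
      have h1 : (r * p ^ i) * e * (r * p ^ i)⁻¹ = ζ * e := by rw [hζ, commutatorElement_def, inv_mul_cancel_right]
      have h2 : ⁅v, ζ * e⁆ = ⁅v, e⁆ := by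
        have hc : v * ζ = ζ * v := c.Z_comm hv.1.1 hte
        rw [commutatorElement_def, commutatorElement_def, show v * (ζ * e) * v⁻¹ * (ζ * e)⁻¹ =
          (v * ζ) * e * v⁻¹ * e⁻¹ * ζ⁻¹ by group, hc,
          show ζ * v * e * v⁻¹ * e⁻¹ * ζ⁻¹ = ζ * (v * e * v⁻¹ * e⁻¹) * ζ⁻¹ by group,
          ← c.Z_comm (c.Ez (mul_mem (c.conj_E hv.1.1 heE) (inv_mem heE))) hte, mul_inv_cancel_right]
      have h3 := c.delta_conj hv.1.1 (F.t_mem i).1 heE (hcomt hv hvv i)
      rw [h1, h2] at h3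
      rw [commutatorElement_def (r * p ^ i), ← h3, mul_inv_cancel]
      exact one_mem _
    have hone : ∀ {v : G}, v ∈ c.twoGrp A hA.1.1 → c.val r * c.val v = c.val v * c.val r → bad v i →
        ⁅⁅v, e⁆, f⁆ = z := by
      intro v hv hvv hbv
      refine (c.mem_Z.mp (c.comm_E (c.delta_E hv.1.1 heE) (hDE i hfD))).resolve_left fun h1 => ?_
      have hmZ : ⁅v, e⁆ ∈ zpowers z :=
        key _ (hdW hv e heE) (hfix hv hvv) (c.delta_diag hv.1 (hsq hv) e heE) h1
      have hKc := hKD hv hvv i hi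
      rw [if_pos hbv] at hKc
      have hle : W ⊓ D i ≤ c.ker1 hv.1.1 ⊓ D i := inf_le_inf_right _ (hWker hv)
      have heq := eq_of_le_of_card_ge hle (by rw [hKc, hWD i hi])
      exact heW (heq.symm ▸ (⟨c.mem_ker1.mpr ⟨heE, hmZ⟩, heD⟩ : e ∈ c.ker1 hv.1.1 ⊓ D i) : e ∈ W ⊓ D i).1
    have hvyw : c.val r * c.val (y * w) = c.val (y * w) * c.val r := by
      rw [c.val_mul (c.cen_le_H0 hy.1) (c.cen_le_H0 hw.1), ← mul_assoc, hvy, mul_assoc, hvw, mul_assoc]
    refine hne (key _ (hdW (mul_mem hy hw) e heE) (hfix (mul_mem hy hw) hvyw)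
      (c.delta_diag (mul_mem hy hw).1 (hsq (mul_mem hy hw)) e heE) ?_)
    rw [hwy, c.comm_mul_left (c.delta_E hw.1.1 heE) (c.delta_E hy.1.1 heE) (hDE i hfD), hone hw hvw hbw,
      hone hy hvy hby, c.zz]
  -- the two centralized elements and their product
  obtain ⟨y, hy, hvy⟩ := c.twoGrp_lift hA.1.1 ha
  obtain ⟨w, hw, hvw⟩ := c.twoGrp_lift hA.1.1 hb
  have hyw := mul_mem hy hw
  have hvyw : c.val (y * w) = a * b := by rw [c.val_mul (c.cen_le_H0 hy.1) (c.cen_le_H0 hw.1), hvy, hvw]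
  have cy : c.val r * c.val y = c.val y * c.val r := by rw [hvy, hra]
  have cw : c.val r * c.val w = c.val w * c.val r := by rw [hvw, hrb]
  have cyw : c.val r * c.val (y * w) = c.val (y * w) * c.val r := by
    rw [hvyw, ← mul_assoc, hra, mul_assoc, hrb, mul_assoc]
  have nZ : ∀ {v : G}, c.val v ≠ 1 → v ∉ zpowers z := fun hv h => hv (c.val_E (c.Z_le h))
  have hyZ := nZ (v := y) (hvy.symm ▸ a1)
  have hwZ := nZ (v := w) (hvw.symm ▸ b1)
  have hywZ : y * w ∉ zpowers z := by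
    refine nZ ?_
    rw [hvyw]
    intro e
    exact hab ((eq_inv_of_mul_eq_one_left e).trans (inv_eq_of_mul_eq_one_left (by rw [← sq]; exact hA.1.1.2 b hb)))
  have heq : ∀ {v : G} (hv : v ∈ c.twoGrp A hA.1.1), v ∉ zpowers z →
      Nat.card (c.ker1 hv.1.1) = Nat.card (c.ker1 hx.1.1) :=
    fun hv hvZ => le_antisymm (hsame hv hx hvZ hxZ) (hsame hx hv hxZ hvZ)
  have hlt : Nat.card (c.ker1 hx.1.1) < 2 ^ 13 := by
    by_contra hge
    push Not at hge
    have hK : c.ker1 hx.1.1 = E := eq_of_le_of_card_ge (c.ker1_le _) (by rw [c.hE]; exact hge)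
    have htriv : ∀ e ∈ E, ⁅x, e⁆ ∈ zpowers z := fun e he => (c.mem_ker1.mp (hK.symm ▸ he : e ∈ c.ker1 hx.1.1)).2
    have hxc := c.comm_of_trivial le_rfl c.Z_le F.hp F.hgen (fun e he => c.conj_E (c.P_le F.hp) he) hx.1.1
      (c.cen_comm hx.1 F.hp) htriv
    exact hxZ (c.two_ker hx (c.val_E (c.cent _ hx.1.1 fun e he => (hxc e he).symm)))
  have f1 := hform hy cy
  have f2 := hform hw cw
  have f3 := hform hyw cyw
  rw [heq hy hyZ] at f1
  rw [heq hw hwZ] at f2
  rw [heq hyw hywZ] at f3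
  -- a product of elements trivial on one part is trivial there
  have z0 : ∀ {u v : G}, u ∈ c.twoGrp A hA.1.1 → v ∈ c.twoGrp A hA.1.1 → ∀ i, ¬ bad u i → ¬ bad v i →
      ¬ bad (u * v) i := by
    intro u v hu hv i hby hbw
    rintro ⟨e, heD, hne⟩
    simp only [bad] at hby hbw
    push Not at hby hbw
    refine hne ?_
    rw [commutatorElement_mul_left_eq_conj_mul, c.Z_conj hu.1.1 (hbw e heD)]
    exact mul_mem (hbw e heD) (hby e heD)
  have hysq : y * (y * w) = w := by rw [← mul_assoc, c.twoGrp_sq hA.1 y hy, one_mul]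
  have hwsq : y * w * w = y := by rw [mul_assoc, c.twoGrp_sq hA.1 w hw, mul_one]
  have col : ∀ i < 3, (decide (bad y i)).toNat + (decide (bad w i)).toNat + (decide (bad (y * w) i)).toNat = 0 ∨
      (decide (bad y i)).toNat + (decide (bad w i)).toNat + (decide (bad (y * w) i)).toNat = 2 := fun i hi => by
    refine pattern_col ?_ ?_ ?_ ?_ <;> simp only [decide_eq_true_eq]
    · exact hsymm hy hw i hi cy cw
    · intro h1 h2; have := z0 hyw hw i h2 h1; rwa [hwsq] at this
    · intro h1 h2; have := z0 hy hyw i h1 h2; rwa [hysq] at this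
    · exact z0 hy hw i
  have e1 := pattern_card (decide (bad y 0)) (decide (bad y 1)) (decide (bad y 2))
  have e2 := pattern_card (decide (bad w 0)) (decide (bad w 1)) (decide (bad w 2))
  have e3 := pattern_card (decide (bad (y * w) 0)) (decide (bad (y * w) 1)) (decide (bad (y * w) 2))
  simp only [decide_eq_true_eq] at e1 e2 e3
  rw [← f1] at e1; rw [← f2] at e2; rw [← f3] at e3
  have q4 : ∀ k l : ℕ, 4 ^ k = 4 ^ l → k = l := fun k l h => Nat.pow_right_injective (by norm_num) h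
  have hpos : 0 < Nat.card (c.ker1 hx.1.1) * 4 := Nat.mul_pos Nat.card_pos (by norm_num)
  rcases pattern_rule (col 0 (by norm_num)) (col 1 (by norm_num)) (col 2 (by norm_num))
    (q4 _ _ (Nat.eq_of_mul_eq_mul_left hpos (e1.trans e2.symm)))
    (q4 _ _ (Nat.eq_of_mul_eq_mul_left hpos (e1.trans e3.symm))) with h | h
  · rw [h] at e1; omega
  · rw [h] at e1; omega

end Ctx

end CfsgLib.JankoFour
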