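/-
Kernels of the involutions above a hexad group, and the fixed points of outer elements.
-/
import Cfsg.Agent.Lib.JankoFour.Rank

set_option autoImplicit false

namespace CfsgLib.JankoFour

open Cfsg Subgroup
open scoped commutatorElement

universe u

variable {G : Type u} [Group G] [Finite G] {z : G} {P E : Subgroup G}

namespace Ctx

theorem ker1_P (c : Ctx z P E) {x : G} (hx : x ∈ c.cen) {q : G} (hq : q ∈ P) :
    ∀ e ∈ c.ker1 hx.1, q * e * q⁻¹ ∈ c.ker1 hx.1 := fun e he => by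
  have h := c.mem_ker1.mp he
  refine c.mem_ker1.mpr ⟨c.conj_E (c.P_le hq) h.1, ?_⟩
  rw [c.delta_P (c.cen_comm hx hq), c.Z_conj (c.P_le hq) h.2]; exact h.2

/-- An element of cen acting trivially modulo the centre on a P-invariant subgroup centralizes it. -/
theorem ker1_comm (c : Ctx z P E) {x : G} (hx : x ∈ c.cen) : ∀ e ∈ c.ker1 hx.1, x * e = e * x := by
  obtain ⟨p, hp, -, hgen⟩ := c.exists_gen
  exact c.comm_of_trivial (c.ker1_le _) (c.Z_le_ker1 _) hp hgen (c.ker1_P hx hp) hx.1 (c.cen_comm hx hp)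
    fun e he => (c.mem_ker1.mp he).2

/-- The facts on an involution above a hexad group. -/
theorem kernel_facts (c : Ctx z P E) {A : Subgroup MTwoTwo} (hA : HexData A) {x : G}
    (hx : x ∈ c.twoGrp A hA.1.1) (hxZ : x ∉ zpowers z) :
    Nat.card ↥(E ⊓ centralizer (c.ker1 hx.1.1 : Set G)) = 32 ∧
    E ⊓ centralizer (c.ker1 hx.1.1 : Set G) ≤ c.fixB A ∧ c.fixB A ≤ c.ker1 hx.1.1 ∧
    ∃ a ∈ c.ker1 hx.1.1, ∃ b ∈ c.ker1 hx.1.1, a * b ≠ b * a := by
  obtain ⟨hF7, hFc, hFsq, hFQ⟩ := c.hex_fix hA.1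
  have h9 := c.rank_two hA hx hxZ
  have hzK : z ∈ c.ker1 hx.1.1 := c.Z_le_ker1 _ (mem_zpowers z)
  have hsub : c.fixB A ≤ c.ker1 hx.1.1 := fun e he => c.mem_ker1.mpr ⟨c.fixB_le A he, by
    rw [commutatorElement_eq_one_iff_mul_comm.mpr (hFQ e he x hx)]; exact one_mem _⟩
  refine ⟨?_, fun m hm => ?_, hsub, ?_⟩
  · have h := c.cent_card (c.ker1_le _) hzK
    rw [h9] at h
    omega
  · rw [← hFc]
    exact ⟨hm.1, mem_centralizer_iff.mpr fun f hf => mem_centralizer_iff.mp hm.2 f (hsub hf)⟩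
  · by_contra hab
    push Not at hab
    have := c.abelian_le (c.ker1_le _) hzK hab
    rw [h9] at this
    norm_num at this

/-- An outer element fixes modulo the centre no element outside it together with its conjugate under P. -/
theorem outer_disj (c : Ctx z P E) {f' : G} (hf' : f' ∈ centralizer ({z} : Set G)) (hout : f' ∉ c.H0) {p : G}
    (hp : p ∈ P) (hgen : P = zpowers p) {e : G} (he : e ∈ E) (h1 : ⁅f', e⁆ ∈ zpowers z)
    (h2 : ⁅f', p * e * p⁻¹⁆ ∈ zpowers z) : e ∈ zpowers z := by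
  obtain ⟨e₂, he₂, n, hn, hfn, hninv⟩ := c.outer f' hf' hout
  have key : ∀ u ∈ E, ⁅f', u⁆ ∈ zpowers z → n * u * n⁻¹ * u⁻¹ ∈ zpowers z := by
    intro u hu h1
    rw [commutatorElement_def, show f' * u * f'⁻¹ * u⁻¹ =
      (e₂ * (n * u * n⁻¹) * e₂⁻¹ * (n * u * n⁻¹)⁻¹) * (n * u * n⁻¹ * u⁻¹) by rw [hfn]; group] at h1
    have := mul_mem (inv_mem (c.comm_mem_Z he₂ (c.conj_E hn hu))) h1
    rwa [inv_mul_cancel_left] at this
  have hk1 := key e he h1
  have hk2 := key _ (c.conj_E (c.P_le hp) he) h2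
  have hpn : n * p = p⁻¹ * n := by rw [← hninv p hp]; group
  set s := n * e * n⁻¹ * e⁻¹ with hs
  have e3 : n * (p * e * p⁻¹) * n⁻¹ = p⁻¹ * (s * e) * p := by
    rw [show n * (p * e * p⁻¹) * n⁻¹ = (n * p) * e * (n * p)⁻¹ by group, hpn, hs]; group
  have e4 : p⁻¹ * (s * e) * p = s * (p⁻¹ * e * p) := by
    rw [show p⁻¹ * (s * e) * p = (p⁻¹ * s) * e * p by group, c.Z_comm (inv_mem (c.P_le hp)) hk1]; group
  rw [e3, e4, mul_assoc s] at hk2
  have hm : p⁻¹ * e * p * (p * e * p⁻¹)⁻¹ ∈ zpowers z := by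
    have := mul_mem (inv_mem hk1) hk2
    rwa [inv_mul_cancel_left] at this
  refine c.fixed_mem_Z hp hgen he ?_
  have p3 : p * p * p = 1 := c.P_cube hp
  have hp2 : p * p = p⁻¹ := eq_inv_of_mul_eq_one_left p3
  have e5 : p * (p⁻¹ * e * p * (p * e * p⁻¹)⁻¹) * p⁻¹ = e * (p⁻¹ * e * p)⁻¹ := by
    rw [show p * (p⁻¹ * e * p * (p * e * p⁻¹)⁻¹) * p⁻¹ = e * ((p * p) * e⁻¹ * (p * p)⁻¹) by group, hp2]; group
  rw [c.Z_conj (c.P_le hp) hm] at e5
  rw [e5] at hm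
  have h6 : p * (e * (p⁻¹ * e * p)⁻¹) * p⁻¹ = p * e * p⁻¹ * e⁻¹ := by group
  rw [← h6, c.Z_conj (c.P_le hp) hm]
  exact hm

/-- An outer element fixes modulo the centre at most the square root of twice the order of an invariant subgroup. -/
theorem outer_fix (c : Ctx z P E) {f' : G} (hf' : f' ∈ centralizer ({z} : Set G)) (hout : f' ∉ c.H0)
    {U : Subgroup G} (hUE : U ≤ E) (hZU : zpowers z ≤ U) (hU : ∀ q ∈ P, ∀ e ∈ U, q * e * q⁻¹ ∈ U)
    {Φ : Subgroup G} (hΦU : Φ ≤ U) (hZΦ : zpowers z ≤ Φ) (hfix : ∀ e ∈ Φ, ⁅f', e⁆ ∈ zpowers z) :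
    Nat.card Φ * Nat.card Φ ≤ Nat.card U * 2 := by
  classical
  obtain ⟨p, hp, -, hgen⟩ := c.exists_gen
  have hΦE : Φ ≤ E := hΦU.trans hUE
  have hdisj : ∀ e ∈ Φ, p * e * p⁻¹ ∈ Φ → e ∈ zpowers z := fun e he hpe =>
    c.outer_disj hf' hout hp hgen (hΦE he) (hfix e he) (hfix _ hpe)
  let Zs := (zpowers z).subgroupOf Φ
  let g : Φ × (Φ ⧸ Zs) → U := fun x =>
    ⟨x.1 * (p * (x.2.out : Φ) * p⁻¹), mul_mem (hΦU x.1.2) (hU p hp _ (hΦU x.2.out.2))⟩
  have hg : Function.Injective g := by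
    rintro ⟨a, q⟩ ⟨a', q'⟩ hxy
    have e : (a : G) * (p * (q.out : Φ) * p⁻¹) = a' * (p * (q'.out : Φ) * p⁻¹) := congrArg Subtype.val hxy
    set u : G := (q'.out : Φ) * ((q.out : Φ) : G)⁻¹ with hu
    have hu1 : p * u * p⁻¹ = (a' : G)⁻¹ * a := by
      have h1 : p * (q'.out : Φ) * p⁻¹ = (a' : G)⁻¹ * ((a : G) * (p * (q.out : Φ) * p⁻¹)) := by rw [e]; group
      rw [hu, show p * ((q'.out : Φ) * ((q.out : Φ) : G)⁻¹) * p⁻¹ =
        (p * (q'.out : Φ) * p⁻¹) * (p * (q.out : Φ) * p⁻¹)⁻¹ by group, h1]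
      group
    have huΦ : u ∈ Φ := mul_mem q'.out.2 (inv_mem q.out.2)
    have huZ : u ∈ zpowers z := hdisj u huΦ (hu1.symm ▸ mul_mem (inv_mem a'.2) a.2)
    have hq : q = q' := by
      rw [← q.out_eq, ← q'.out_eq]
      refine Quotient.sound' (QuotientGroup.leftRel_apply.mpr ?_)
      rw [mem_subgroupOf]
      show ((q.out : Φ) : G)⁻¹ * (q'.out : Φ) ∈ zpowers z
      have e2 : ((q.out : Φ) : G)⁻¹ * (q'.out : Φ) = ((q.out : Φ) : G)⁻¹ * u * (q.out : Φ) := by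
        rw [hu]; group
      rw [e2, c.Z_comm (inv_mem (c.Ez (hΦE q.out.2))) huZ, inv_mul_cancel_right]
      exact huZ
    subst hq
    exact Prod.ext (Subtype.ext (mul_right_cancel e)) rfl
  have h1 := Nat.card_le_card_of_injective g hg
  rw [Nat.card_prod] at h1
  have h2 := Subgroup.card_eq_card_quotient_mul_card_subgroup Zs
  rw [Nat.card_congr (subgroupOfEquivOfLe hZΦ).toEquiv, c.card_Z] at h2
  calc Nat.card Φ * Nat.card Φ = Nat.card Φ * Nat.card (Φ ⧸ Zs) * 2 := by rw [mul_assoc, ← h2]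
    _ ≤ _ := Nat.mul_le_mul_right 2 h1

end Ctx

end CfsgLib.JankoFour
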