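/-
A duad group fixes nothing of E modulo the centre outside the fixed group of the hexad group of its Sylow subgroup.
-/
import Cfsg.Agent.Lib.JankoFour.OuterFix

set_option autoImplicit false

namespace CfsgLib.JankoFour

open Cfsg Subgroup
open scoped commutatorElement

universe u

variable {G : Type u} [Group G] [Finite G] {z : G} {P E : Subgroup G}

namespace Ctx

/-- Lifts of an element of order five and one squaring it by conjugation. -/
theorem five_lifts (c : Ctx z P E) {g f : MTwoTwo} (h5 : g ^ 5 = 1) (h4 : f ^ 4 = 1) (hfg : f * g * f⁻¹ = g ^ 2) :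
    ∃ g' ∈ c.cen, ∃ f' ∈ c.cen, c.val g' = g ∧ c.val f' = f ∧ g' ^ 5 = 1 ∧ f' ^ 8 = 1 ∧
      f' * g' * f'⁻¹ = g' ^ 2 := by
  -- lifts
  obtain ⟨g₀, hg₀, hvg⟩ := c.exists_val g
  obtain ⟨f₀, hf₀, hvf⟩ := c.exists_val f
  have hker : ∀ {x : G}, x ∈ c.cen → c.val x = 1 → x ^ 6 = 1 ∧ ∀ y ∈ c.cen, y * x = x * y := by
    intro x hx hv
    have hn := (c.val_eq_one (c.cen_le_H0 hx)).mp hv
    refine ⟨?_, fun y hy => c.cen_N_central hx hn hy⟩
    obtain ⟨t, ht, q, hq, rfl⟩ := c.cen_N hx hn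
    have hc : Commute t q := (c.Z_comm (c.P_le hq) ht).symm
    rw [hc.mul_pow, show t ^ 6 = (t * t) ^ 3 by rw [← sq, ← pow_mul], c.Z_sq ht,
      show q ^ 6 = (q * q * q) ^ 2 by rw [← pow_three', ← pow_mul], c.P_cube hq, one_pow, one_pow, one_mul]
  set g' := g₀ ^ 6 with hg'
  set f' := f₀ ^ 9 with hf'
  have hg'c : g' ∈ c.cen := pow_mem hg₀ 6
  have hf'c : f' ∈ c.cen := pow_mem hf₀ 9
  have hvg' : c.val g' = g := by
    rw [hg', c.val_pow (c.cen_le_H0 hg₀), hvg, pow_succ, h5, one_mul]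
  have hvf' : c.val f' = f := by
    rw [hf', c.val_pow (c.cen_le_H0 hf₀), hvf, show 9 = 4 * 2 + 1 from rfl, pow_succ, pow_mul, h4, one_pow, one_mul]
  have hg5 : g' ^ 5 = 1 := by
    rw [hg', ← pow_mul, mul_comm 6 5, pow_mul]
    exact (hker (pow_mem hg₀ 5) (by rw [c.val_pow (c.cen_le_H0 hg₀), hvg, h5])).1
  have hf8 : f' ^ 8 = 1 := by
    rw [hf', ← pow_mul, show 9 * 8 = (4 * 6) * 3 from rfl, pow_mul, pow_mul,
      (hker (pow_mem hf₀ 4) (by rw [c.val_pow (c.cen_le_H0 hf₀), hvf, h4])).1, one_pow]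
  have hconj : f' * g' * f'⁻¹ = g' ^ 2 := by
    set a := f' * g' * f'⁻¹ with ha
    set r := (g' ^ 2)⁻¹ * a with hr
    have hac : a ∈ c.cen := mul_mem (mul_mem hf'c hg'c) (inv_mem hf'c)
    have hva : c.val a = g ^ 2 := by
      rw [ha, c.val_mul (c.cen_le_H0 (mul_mem hf'c hg'c)) (c.cen_le_H0 (inv_mem hf'c)), c.val_mul (c.cen_le_H0 hf'c)
        (c.cen_le_H0 hg'c), c.val_inv (c.cen_le_H0 hf'c), hvg', hvf', hfg]
    have hrc : r ∈ c.cen := mul_mem (inv_mem (pow_mem hg'c 2)) hac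
    have hvr : c.val r = 1 := by
      rw [hr, c.val_mul (c.cen_le_H0 (inv_mem (pow_mem hg'c 2))) (c.cen_le_H0 hac),
        c.val_inv (c.cen_le_H0 (pow_mem hg'c 2)), c.val_pow (c.cen_le_H0 hg'c), hvg', hva, inv_mul_cancel]
    obtain ⟨h6, hcomm⟩ := hker hrc hvr
    have har : a = g' ^ 2 * r := by rw [hr, mul_inv_cancel_left]
    have ha5 : a ^ 5 = 1 := by rw [ha, conj_pow, hg5, mul_one, mul_inv_cancel]
    have hr5 : r ^ 5 = 1 := by
      rw [har, (show Commute (g' ^ 2) r from hcomm _ (pow_mem hg'c 2)).mul_pow, ← pow_mul, mul_comm 2 5, pow_mul,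
        hg5, one_pow, one_mul] at ha5
      exact ha5
    have hr1 : r = 1 := by rw [pow_succ, hr5, one_mul] at h6; exact h6
    rw [har, hr1, mul_one]
  exact ⟨g', hg'c, f', hf'c, hvg', hvf', hg5, hf8, hconj⟩

/-- An element of order five stabilizing a chain centralizes it. -/
theorem five_chain (c : Ctx z P E) {U : Subgroup G} (hUE : U ≤ E) {g : G} (hg : g ∈ centralizer ({z} : Set G))
    (hg5 : g ^ 5 = 1) (hU : ∀ u ∈ U, g * u = u * g) {y : G} (hy : y ∈ E) (h : ⁅g, y⁆ ∈ U) : g * y = y * g := by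
  set k := ⁅g, y⁆ with hk
  have hgy : g * y * g⁻¹ = k * y := by rw [hk, commutatorElement_def, inv_mul_cancel_right]
  have hn : ∀ n : ℕ, g ^ n * y * (g ^ n)⁻¹ = k ^ n * y := by
    intro n
    induction n with
    | zero => simp
    | succ n ih =>
      have hgk : g * k ^ n * g⁻¹ = k ^ n := by rw [hU _ (pow_mem h n), mul_inv_cancel_right]
      rw [pow_succ', show g * g ^ n * y * (g * g ^ n)⁻¹ = g * (g ^ n * y * (g ^ n)⁻¹) * g⁻¹ by group, ih,
        show g * (k ^ n * y) * g⁻¹ = (g * k ^ n * g⁻¹) * (g * y * g⁻¹) by group, hgk, hgy, ← mul_assoc, ← pow_succ]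
  have h5 := hn 5
  rw [hg5, one_mul, inv_one, mul_one] at h5
  have k5 : k ^ 5 = 1 := right_eq_mul.mp h5
  have k4 : k ^ 4 = 1 := by
    rw [show 4 = 2 * 2 from rfl, pow_mul, sq, sq]
    exact c.Z_sq (c.sq_mem_Z (hUE h))
  have k1 : k = 1 := by rw [pow_succ, k4, one_mul] at k5; exact k5
  exact commutatorElement_eq_one_iff_mul_comm.mp k1

/-- A duad group of a Sylow subgroup fixes, modulo the centre, only elements fixed by the hexad group. -/
theorem duad_in (c : Ctx z P E) {S A B : Subgroup MTwoTwo} (hS : IsPGroup 2 S) (hA : IsElementaryAbelian 2 A)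
    (hB : IsElementaryAbelian 2 B) (hAS : A ≤ S) (hBS : B ≤ S) (hD : DuadLike B) : c.fixB B ≤ c.fixB A := by
  classical
  have hB2 : ∀ b ∈ B, b * b = 1 := fun b hb => by rw [← sq]; exact hB.2 b hb
  obtain ⟨p, hp, -, hgen⟩ := c.exists_gen
  -- a 2-group above S
  haveI : Fact (Nat.Prime 2) := ⟨Nat.prime_two⟩
  set M1 := S.comap c.valHom
  obtain ⟨T2⟩ : Nonempty (Sylow 2 M1) := inferInstance
  have hnorm : (T2 : Subgroup M1).Normal := by
    rw [← Subgroup.normalizer_eq_top_iff]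
    let P1 := (P.subgroupOf c.cen).subgroupOf M1
    have hPM : P.subgroupOf c.cen ≤ M1 := fun x hx => by
      show c.val x ∈ S
      rw [c.val_P (mem_subgroupOf.mp hx)]; exact one_mem _
    have hP1 : P1 ≤ normalizer ((T2 : Subgroup M1) : Set M1) := fun q hq => by
      rw [mem_normalizer_iff]
      intro x
      have : q * x * q⁻¹ = x := by
        rw [show q * x = x * q from Subtype.ext (Subtype.ext (c.cen_comm (x : c.cen).2
          (mem_subgroupOf.mp (mem_subgroupOf.mp hq))).symm), mul_inv_cancel_right]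
      rw [this]
    obtain ⟨k, hk⟩ := IsPGroup.iff_card.mp hS
    have hM1 : Nat.card M1 = 6 * 2 ^ k := by
      let g : M1 →* S := (c.valHom.comp M1.subtype).codRestrict S fun x => x.2
      have hg : Function.Surjective g := fun m => by
        obtain ⟨x, hx⟩ := c.valHom_surj m
        exact ⟨⟨x, show c.valHom x ∈ S from hx.symm ▸ m.2⟩, Subtype.ext hx⟩
      have e : g.ker.map M1.subtype = c.valHom.ker := by
        ext x
        constructor
        · rintro ⟨y, hy, rfl⟩; exact congrArg Subtype.val (MonoidHom.mem_ker.mp hy)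
        · intro hx
          exact ⟨⟨x, show c.valHom x ∈ S by rw [MonoidHom.mem_ker.mp hx]; exact one_mem _⟩,
            MonoidHom.mem_ker.mpr (Subtype.ext hx), rfl⟩
      rw [← Subgroup.card_mul_index g.ker, Subgroup.index_ker, MonoidHom.range_eq_top.mpr hg, card_top,
        ← card_map_of_injective M1.subtype_injective, e, c.card_valKer, hk]
    refine eq_top_of_le_card _ ?_
    have h2 : Nat.card (T2 : Subgroup M1) = 2 ^ (k + 1) := by
      rw [Sylow.card_eq_multiplicity, hM1, show 6 * 2 ^ k = 2 ^ (k + 1) * 3 by ring,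
        Nat.factorization_mul (by positivity) (by norm_num), Finsupp.add_apply,
        Nat.Prime.factorization_pow Nat.prime_two, Finsupp.single_eq_same,
        Nat.factorization_eq_zero_of_not_dvd (by norm_num), add_zero]
    have hdvd : 2 ^ (k + 1) * 3 ∣ Nat.card ↥(normalizer ((T2 : Subgroup M1) : Set M1)) := by
      refine Nat.Coprime.mul_dvd_of_dvd_of_dvd ?_ (h2 ▸ card_dvd_of_le le_normalizer) ?_
      · exact Nat.Coprime.pow_left _ (by norm_num)
      · have := card_dvd_of_le hP1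
        rwa [Nat.card_congr (subgroupOfEquivOfLe hPM).toEquiv, Nat.card_congr (subgroupOfEquivOfLe c.P_le_cen).toEquiv,
          c.hP] at this
    rw [hM1, show 6 * 2 ^ k = 2 ^ (k + 1) * 3 by ring]
    exact Nat.le_of_dvd Nat.card_pos hdvd
  set Q2 := ((T2 : Subgroup M1).map M1.subtype).map c.cen.subtype
  have hQ2 : IsPGroup 2 Q2 := (T2.isPGroup'.map _).map _
  have hQH : Q2 ≤ centralizer ({z} : Set G) := (map_subtype_le _).trans inf_le_left
  have hin : ∀ (B' : Subgroup MTwoTwo), B' ≤ S → ∀ x ∈ c.two B', x ∈ Q2 := by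
    intro B' hB' x hx
    let y : M1 := ⟨⟨x, hx.1⟩, hB' hx.2.1⟩
    have hy : y ^ 4 = 1 := Subtype.ext (Subtype.ext (show x ^ 4 = 1 by
      rw [show 4 = 2 * 2 from rfl, pow_mul, sq, sq]; exact c.Z_sq hx.2.2))
    have hp2 : IsPGroup 2 (zpowers y) := by
      obtain ⟨j, -, hj⟩ := (Nat.dvd_prime_pow Nat.prime_two).mp
        (show orderOf y ∣ 2 ^ 2 from orderOf_dvd_of_pow_eq_one hy)
      exact IsPGroup.of_card (n := j) (by rw [Nat.card_zpowers, hj])
    obtain ⟨T', hT'⟩ := hp2.exists_le_sylow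
    haveI := hnorm
    obtain ⟨m, hm⟩ := MulAction.exists_smul_eq M1 T2 T'
    rw [Sylow.smul_eq_of_normal] at hm
    exact ⟨⟨x, hx.1⟩, ⟨y, hm.symm ▸ hT' (mem_zpowers y), rfl⟩, rfl⟩
  obtain ⟨e, he, heZ, hfix⟩ := c.exists_fixed hQH hQ2 le_rfl c.Z_le (fun x hx e he => c.conj_E (hQH hx) he)
    (by rw [c.hE]; norm_num)
  set U := c.fixB B
  set I := c.fixB A ⊓ U with hI
  have heI : e ∈ I := ⟨⟨he, fun x hx => hfix x (hin A hAS x hx)⟩, ⟨he, fun x hx => hfix x (hin B hBS x hx)⟩⟩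
  have hUP : ∀ q ∈ P, ∀ u ∈ U, q * u * q⁻¹ ∈ U := fun q hq u hu => c.fixB_P hq hu
  obtain ⟨m, -, hm⟩ := c.card_cases (inf_le_right.trans (c.fixB_le B)) (le_inf (c.Z_le_fixB A) (c.Z_le_fixB B))
    fun q hq u hu => ⟨c.fixB_P hq hu.1, hUP q hq u hu.2⟩
  have hI8 : 8 ≤ Nat.card I := by
    rw [hm]
    rcases Nat.eq_zero_or_pos m with rfl | hm1
    · exfalso
      have : zpowers z = I := eq_of_le_of_card_ge (le_inf (c.Z_le_fixB A) (c.Z_le_fixB B)) (by
        rw [hm, c.card_Z]; norm_num)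
      exact heZ (this.symm ▸ heI)
    · exact le_trans (by norm_num) (Nat.pow_le_pow_right (by norm_num) (show 3 ≤ 2 * m + 1 by omega))
  suffices hU8 : Nat.card U ≤ 8 by
    rw [show U = I from (eq_of_le_of_card_ge inf_le_right (hU8.trans hI8)).symm]; exact inf_le_left
  by_contra hgt
  push Not at hgt
  have hUE : U ≤ E := c.fixB_le B
  have hZU : zpowers z ≤ U := c.Z_le_fixB B
  obtain ⟨n, -, hn⟩ := c.card_cases hUE hZU hUP
  have hU5 : Nat.card U = 32 := by
    have h7 := c.duad_small hB2 hD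
    rw [show c.fixB B = U from rfl, hn] at h7
    rw [hn] at hgt ⊢
    have h1 : 3 < 2 * n + 1 := (Nat.pow_lt_pow_iff_right (le_refl 2)).mp (show 2 ^ 3 < 2 ^ (2 * n + 1) from hgt)
    have h2 : 2 * n + 1 < 7 := (Nat.pow_lt_pow_iff_right (le_refl 2)).mp h7
    rw [show n = 2 by omega]; norm_num
  obtain ⟨-, g, hg, f, hf, h5, h4, hfg, b, hb, hne⟩ := hD
  obtain ⟨g', hg'c, f', hf'c, hvg', hvf', hg5, hf8, hconj⟩ := c.five_lifts h5 h4 hfg
  have hgN : c.val g' ∈ normalizer (B : Set MTwoTwo) := hvg'.symm ▸ hg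
  have hfN : c.val f' ∈ normalizer (B : Set MTwoTwo) := hvf'.symm ▸ hf
  have hpN : c.val p ∈ normalizer (B : Set MTwoTwo) := by rw [c.val_P hp]; exact one_mem _
  set Y := E ⊓ centralizer (U : Set G) with hY
  set I0 := U ⊓ Y with hI0
  set Y2 := E ⊓ centralizer (I0 : Set G) with hY2
  have hconjY : ∀ n ∈ c.cen, c.val n ∈ normalizer (B : Set MTwoTwo) → ∀ e ∈ Y, n * e * n⁻¹ ∈ Y :=
    fun n hn hN e he => c.cent_conj hn.1 (fun f hf => c.fixB_conj_inv hn hN hf) he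
  have hconjI : ∀ n ∈ c.cen, c.val n ∈ normalizer (B : Set MTwoTwo) → ∀ e ∈ I0, n * e * n⁻¹ ∈ I0 :=
    fun n hn hN e he => ⟨c.fixB_conj hn hN he.1, hconjY n hn hN e he.2⟩
  have hconjY2 : ∀ n ∈ c.cen, c.val n ∈ normalizer (B : Set MTwoTwo) → ∀ e ∈ Y2, n * e * n⁻¹ ∈ Y2 :=
    fun n hn hN e he => c.cent_conj hn.1 (fun f hf => by
      have := hconjI n⁻¹ (inv_mem hn) (by rw [c.val_inv (c.cen_le_H0 hn)]; exact inv_mem hN) f hf
      rwa [inv_inv] at this) he
  have hZY : zpowers z ≤ Y := fun t ht => ⟨c.Z_le ht, mem_centralizer_iff.mpr fun u hu =>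
    c.Z_comm (c.Ez (hUE hu)) ht⟩
  obtain ⟨j, -, hj⟩ := c.card_cases (inf_le_left.trans hUE : I0 ≤ E) (le_inf hZU hZY)
    fun q hq e he => hconjI q (c.P_le_cen hq) (by rw [c.val_P hq]; exact one_mem _) e he
  have hI0lo : 8 ≤ Nat.card I0 := by
    rw [hj]
    rcases Nat.eq_zero_or_pos j with rfl | hj1
    · exfalso
      have h14 := c.cent_card hUE (hZU (mem_zpowers z))
      rw [hU5, ← hY] at h14
      have hQB : IsPGroup 2 (c.twoGrp B hB) := fun x => ⟨2, Subtype.ext (by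
        rw [coe_pow, show 2 ^ 2 = 2 * 2 from rfl, pow_mul, sq, sq]; exact c.Z_sq x.2.2.2)⟩
      obtain ⟨y, hy, hyZ, hyfix⟩ := c.exists_fixed (Q := c.twoGrp B hB) (fun x hx => hx.1.1) hQB
        inf_le_left hZY (fun x hx e he => hconjY x hx.1 (le_normalizer hx.2.1) e he) (by
          rw [show Nat.card Y = 512 by norm_num at h14; omega]; norm_num)
      have : zpowers z = I0 := eq_of_le_of_card_ge (le_inf hZU hZY) (by rw [hj, c.card_Z]; norm_num)
      exact hyZ (this.symm ▸ (⟨⟨hy.1, fun x hx => hyfix x hx⟩, hy⟩ : y ∈ I0))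
    · exact le_trans (by norm_num) (Nat.pow_le_pow_right (by norm_num) (show 3 ≤ 2 * j + 1 by omega))
  have hI0hi : Nat.card I0 ≤ 32 := hU5 ▸ card_le_of_le inf_le_left
  have hY2c := c.cent_card (inf_le_left.trans hUE : I0 ≤ E) (le_inf hZU hZY (mem_zpowers z))
  rw [← hY2] at hY2c
  have hUY2 : U ≤ Y2 := fun u hu => ⟨hUE hu, mem_centralizer_iff.mpr fun i hi =>
    (mem_centralizer_iff.mp hi.2.2 u hu).symm⟩
  have hs : ∀ n ∈ c.cen, c.val n ∈ normalizer (B : Set MTwoTwo) →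
      n ∈ c.stab2 U (zpowers z) ∧ n ∈ c.stab2 Y2 U ∧ n ∈ c.stab2 E Y2 := fun n hn hN =>
    ⟨c.mem_stab2_of hn.1 (fun e he => c.fixB_conj hn hN he) (fun t ht => by rw [c.Z_conj hn.1 ht]; exact ht),
      c.mem_stab2_of hn.1 (hconjY2 n hn hN) (fun e he => c.fixB_conj hn hN he),
      c.mem_stab2_of hn.1 (fun e he => c.conj_E hn.1 he) (hconjY2 n hn hN)⟩
  obtain ⟨p1, p2, p3⟩ := hs p (c.P_le_cen hp) hpN
  obtain ⟨g1, g2, g3⟩ := hs g' hg'c hgN
  obtain ⟨f1, f2, f3⟩ := hs f' hf'c hfN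
  have hgp := c.cen_comm hg'c hp
  have hfp := c.cen_comm hf'c hp
  have s1 := c.five_section hUE hZU le_rfl (by rw [c.card_Z, hU5]; norm_num) hp hgen p1 g1 f1 hgp hfp hg5 hf8 hconj
  have s2 := c.five_section (inf_le_left : Y2 ≤ E) hUY2 hZU (by
    rw [hU5]
    nlinarith [Nat.mul_le_mul_right (Nat.card Y2) hI0lo]) hp hgen p2 g2 f2 hgp hfp hg5 hf8 hconj
  have s3 := c.five_section le_rfl (inf_le_left : Y2 ≤ E) (hZU.trans hUY2) (by
    rw [c.hE]
    nlinarith [Nat.mul_le_mul_right (Nat.card Y2) hI0hi]) hp hgen p3 g3 f3 hgp hfp hg5 hf8 hconj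
  have k1 := c.comm_of_trivial hUE hZU hp hgen (fun e he => hUP p hp e he) hg'c.1 hgp s1
  have k2 : ∀ y ∈ Y2, g' * y = y * g' := fun y hy => c.five_chain hUE hg'c.1 hg5 k1 hy.1 (s2 y hy)
  have k3 : ∀ y ∈ E, g' * y = y * g' := fun y hy => c.five_chain inf_le_left hg'c.1 hg5 k2 hy (s3 y hy)
  have h1 : c.val g' = 1 := c.val_E (c.cent _ hg'c.1 fun y hy => (k3 y hy).symm)
  rw [hvg'] at h1
  exact hne (by rw [h1, one_mul, mul_one])

end Ctx

end CfsgLib.JankoFour
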