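/-
Some conjugate of the central involution other than itself lies in the inner part of its centralizer.
-/
import Cfsg.Agent.Lib.JankoFour.OuterFix
import Cfsg.Agent.Lib.ZStar.Main

set_option autoImplicit false

namespace CfsgLib.JankoFour

open Cfsg Subgroup
open scoped commutatorElement

universe u

variable {G : Type u} [Group G] [Finite G] {z : G} {P E : Subgroup G}

namespace Ctx

/-- The conjugates of z. -/
def IsZ (_c : Ctx z P E) (t : G) : Prop := ∃ g : G, g * z * g⁻¹ = t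

theorem isZ_conj (c : Ctx z P E) {t : G} (ht : c.IsZ t) (h : G) : c.IsZ (h * t * h⁻¹) := by
  obtain ⟨g, rfl⟩ := ht
  exact ⟨h * g, by group⟩

theorem isZ_sq (c : Ctx z P E) {t : G} (ht : c.IsZ t) : t * t = 1 := by
  obtain ⟨g, rfl⟩ := ht
  rw [show g * z * g⁻¹ * (g * z * g⁻¹) = g * (z * z) * g⁻¹ by group, c.zz]; group

theorem out_mul (c : Ctx z P E) {a b : G} (ha : a ∈ centralizer ({z} : Set G)) (ha0 : a ∉ c.H0)
    (hb : b ∈ c.H0) : a * b ∉ c.H0 ∧ b * a ∉ c.H0 :=
  ⟨fun h => ha0 (by have := mul_mem h (inv_mem hb); rwa [mul_inv_cancel_right] at this),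
   fun h => ha0 (by have := mul_mem (inv_mem hb) h; rwa [inv_mul_cancel_left] at this)⟩

theorem z_H0 (c : Ctx z P E) : z ∈ c.H0 := c.NH0 (c.EN c.zE)

theorem zH (c : Ctx z P E) : z ∈ centralizer ({z} : Set G) := mem_centralizer_singleton_iff.mpr rfl

theorem z_not_central (c : Ctx z P E) [IsSimpleGroup G] (hG : ¬ IsMulCommutative G) : z ∉ center G := by
  intro h
  rcases (inferInstance : (center G).Normal).eq_bot_or_eq_top with e | e
  · exact c.z_ne_one (by rw [e] at h; exact h)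
  · exact hG ⟨⟨fun a b => (Subgroup.mem_center_iff.mp (e ▸ mem_top b) a)⟩⟩

/-- The central involution is conjugate to another element of its centralizer. -/
theorem exists_conj (c : Ctx z P E) [IsSimpleGroup G] (hG : ¬ IsMulCommutative G) :
    ∃ t ∈ centralizer ({z} : Set G), c.IsZ t ∧ t ≠ z := by
  by_contra hall
  push Not at hall
  obtain ⟨T, hT, hET⟩ := c.exists_sylow
  have hiso := CfsgLib.ZStar.isolated_of_sylow T c.oz (hET c.zE) fun g hg => hall _ (hT hg) ⟨g, rfl⟩
  have hmem := fun g => CfsgLib.ZStar.commutator_mem c.oz hiso g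
  rcases (inferInstance : (pPrimeCore 2 G).Normal).eq_bot_or_eq_top with e | e
  · refine c.z_not_central hG (Subgroup.mem_center_iff.mpr fun g => ?_)
    have h := hmem g
    rw [e, mem_bot, ← commutatorElement_def, commutatorElement_eq_one_iff_mul_comm] at h
    exact h.symm
  · have h := CfsgLib.card_pPrimeCore_coprime (G := G) 2
    rw [e, card_top] at h
    have h2 : 2 ∣ Nat.card G := c.oz ▸ orderOf_dvd_natCard z
    exact Nat.not_coprime_of_dvd_of_dvd (by norm_num) h2 dvd_rfl h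

/-- A conjugate other than z lies in the inner part of the centralizer. -/
theorem exists_inner (c : Ctx z P E) [IsSimpleGroup G] (hG : ¬ IsMulCommutative G) :
    ∃ t ∈ c.H0, c.IsZ t ∧ t ≠ z := by
  classical
  by_contra hall
  push Not at hall
  obtain ⟨t, htH, htz, hne⟩ := c.exists_conj hG
  have ht0 : t ∉ c.H0 := fun h => hne (hall t h htz)
  obtain ⟨g, hg⟩ := htz
  set H := centralizer ({z} : Set G)
  have hback : ∀ b : G, c.IsZ b → b * t = t * b → b ≠ t →
      g⁻¹ * b * g ∈ H ∧ g⁻¹ * b * g ∉ c.H0 := by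
    intro b hb hbt hbne
    have h1 : g⁻¹ * b * g ∈ H := mem_centralizer_singleton_iff.mpr (by
      rw [show g⁻¹ * b * g * z = g⁻¹ * (b * (g * z * g⁻¹)) * g by group, hg, hbt, ← hg]; group)
    refine ⟨h1, fun h0 => hbne ?_⟩
    have := hall _ h0 (by have := c.isZ_conj hb g⁻¹; rwa [inv_inv] at this)
    rw [← hg, ← this]; group
  set w : G → G := fun e => ⁅e, t⁆ with hw
  have hwE : ∀ e ∈ E, w e ∈ E := fun e he => by
    show e * t * e⁻¹ * t⁻¹ ∈ E
    rw [show e * t * e⁻¹ * t⁻¹ = e * (t * e⁻¹ * t⁻¹) by group]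
    exact mul_mem he (c.conj_E htH (inv_mem he))
  have ht2 : t * t = 1 := c.isZ_sq ⟨g, hg⟩
  have htinv : t⁻¹ = t := inv_eq_of_mul_eq_one_left ht2
  -- conjugation by t inverts w
  have hwt : ∀ e, t * w e * t⁻¹ = (w e)⁻¹ := fun e => by
    show t * (e * t * e⁻¹ * t⁻¹) * t⁻¹ = (e * t * e⁻¹ * t⁻¹)⁻¹
    rw [htinv, show (e * t * e⁻¹ * t)⁻¹ = t⁻¹ * e * t⁻¹ * e⁻¹ by group, htinv,
      show t * (e * t * e⁻¹ * t) * t = t * e * t * e⁻¹ * (t * t) by group, ht2, mul_one]
  -- multiplicativity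
  have hmul : ∀ a ∈ E, ∀ b ∈ E, w (a * b) = ⁅a, w b⁆ * (w b * w a) := fun a _ b _ => by
    simp only [hw, commutatorElement_def]; group
  have hcommw : ∀ a ∈ E, ∀ b ∈ E, ⁅w a, w b⁆ = 1 := by
    intro a ha b hb
    have hta : t * a⁻¹ * t⁻¹ ∈ E := c.conj_E htH (inv_mem ha)
    have htb : t * b⁻¹ * t⁻¹ ∈ E := c.conj_E htH (inv_mem hb)
    have e1 : ∀ x, w x = x * (t * x⁻¹ * t⁻¹) := fun x => by simp only [hw, commutatorElement_def]; group
    rw [e1, e1, c.comm_mul_left ha hta (mul_mem hb htb), c.comm_mul_right hb htb ha, c.comm_mul_right hb htb hta]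
    have e2 : ⁅t * a⁻¹ * t⁻¹, t * b⁻¹ * t⁻¹⁆ = ⁅a, b⁆ := by
      rw [c.conj_comm htH (inv_mem ha) (inv_mem hb), c.comm_inv_left ha (inv_mem hb), c.comm_swap ha (inv_mem hb),
        c.comm_inv_left hb ha, c.comm_swap hb ha]
    have e3 : ⁅t * a⁻¹ * t⁻¹, b⁆ = ⁅a, t * b⁻¹ * t⁻¹⁆ := by
      have h := c.conj_comm htH hta hb
      rw [show t * (t * a⁻¹ * t⁻¹) * t⁻¹ = (t * t) * a⁻¹ * (t * t)⁻¹ by group, ht2, one_mul, inv_one, mul_one,
        c.comm_inv_left ha (c.conj_E htH hb)] at h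
      rw [← h, show t * b⁻¹ * t⁻¹ = (t * b * t⁻¹)⁻¹ by group, c.comm_swap ha (inv_mem (c.conj_E htH hb)),
        c.comm_inv_left (c.conj_E htH hb) ha, c.comm_swap (c.conj_E htH hb) ha]
    rw [e2, e3]
    set A1 := ⁅a, b⁆
    set A2 := ⁅a, t * b⁻¹ * t⁻¹⁆
    have hA1 : A1 ∈ zpowers z := c.comm_E ha hb
    have hA2 : A2 ∈ zpowers z := c.comm_E ha htb
    rw [show A1 * A2 * (A2 * A1) = A1 * (A2 * A2) * A1 by group, c.Z_sq hA2, mul_one, c.Z_sq hA1]
  -- the kernel of the square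
  let q : E →* G :=
    { toFun := fun e => w e * w e
      map_one' := by simp [hw]
      map_mul' := fun a b => by
        have ha := a.2; have hb := b.2
        show w ((a : G) * b) * w ((a : G) * b) = w a * w a * (w b * w b)
        have hc : w a * w b = w b * w a := commutatorElement_eq_one_iff_mul_comm.mp (hcommw _ ha _ hb)
        have hβ : ⁅(a : G), w (b : G)⁆ ∈ zpowers z := c.comm_E ha (hwE _ hb)
        rw [hmul _ ha _ hb]
        set β := ⁅(a : G), w (b : G)⁆
        set m := w (b : G) * w (a : G)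
        rw [show β * m * (β * m) = β * (m * β) * m by group, c.Z_comm (c.Ez (mul_mem (hwE _ hb) (hwE _ ha))) hβ,
          show β * (β * m) * m = (β * β) * (m * m) by group, c.Z_sq hβ, one_mul]
        show w (b : G) * w a * (w b * w a) = _
        rw [show w (b : G) * w a * (w b * w a) = w b * (w a * w b) * w a by group, hc,
          show w (b : G) * (w b * w a) * w a = (w b * w b) * (w a * w a) by group]
        exact c.Z_comm (c.Ez (mul_mem (hwE _ ha) (hwE _ ha))) (c.sq_mem_Z (hwE _ hb)) |>.symm }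
  set E1 := q.ker.map E.subtype with hE1
  have hE1card : 2 ^ 12 ≤ Nat.card E1 := by
    rw [hE1, card_map_of_injective E.subtype_injective]
    have h := Subgroup.card_mul_index q.ker
    rw [Subgroup.index_ker, c.hE] at h
    have h2 : Nat.card q.range ≤ 2 := by
      rw [← c.card_Z]; exact card_le_of_le (by rintro _ ⟨e, rfl⟩; exact c.sq_mem_Z (hwE _ e.2))
    have := Nat.mul_le_mul_left (Nat.card q.ker) h2
    omega
  -- the elements commuting with t
  set C := E ⊓ centralizer ({t} : Set G) with hC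
  have hCcard : Nat.card C ≤ 2 ^ 7 := by
    have h := c.outer_fix htH ht0 le_rfl c.Z_le (fun q hq e he => c.conj_E (c.P_le hq) he) inf_le_left
      (Φ := C) (zpowers_le.mpr ⟨c.zE, mem_centralizer_singleton_iff.mpr (mem_centralizer_singleton_iff.mp htH).symm⟩)
      fun e he => by
        rw [commutatorElement_eq_one_iff_mul_comm.mpr (mem_centralizer_singleton_iff.mp he.2).symm]
        exact one_mem _
    rw [c.hE] at h
    exact Nat.mul_self_le_mul_self_iff.mp (h.trans (by norm_num))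
  have hCn : ∀ {x}, x ∈ E → w x = 1 → x ∈ C := fun hx h =>
    ⟨hx, mem_centralizer_singleton_iff.mpr (commutatorElement_eq_one_iff_mul_comm.mp h)⟩
  -- the pulled back elements are outer
  have hout : ∀ e ∈ E1, e ∉ C → g⁻¹ * w e * g ∈ H ∧ g⁻¹ * w e * g ∉ c.H0 := by
    rintro _ ⟨e, he, rfl⟩ hne'
    have hsq : w e * w e = 1 := MonoidHom.mem_ker.mp he
    have hne1 : w e ≠ 1 := fun h => hne' (hCn e.2 h)
    have hwc : w e * t = t * w e := by
      have := hwt e
      rw [inv_eq_of_mul_eq_one_left hsq, mul_inv_eq_iff_eq_mul] at this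
      exact this.symm
    have hb : c.IsZ (w e * t) := by
      have : w e * t = (e : G) * t * (e : G)⁻¹ := by simp only [hw, commutatorElement_def, inv_mul_cancel_right]
      rw [this]; exact c.isZ_conj ⟨g, hg⟩ e
    obtain ⟨h1, h2⟩ := hback (w e * t) hb (by rw [mul_assoc, ← mul_assoc t, ← hwc]; group)
      (fun h => hne1 (mul_eq_right.mp h))
    have e1 : g⁻¹ * (w e * t) * g = g⁻¹ * w e * g * z := by rw [← hg]; group
    rw [e1] at h1 h2
    refine ⟨?_, fun h => h2 (mul_mem h c.z_H0)⟩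
    have := mul_mem h1 (inv_mem c.zH)
    rwa [mul_inv_cancel_right] at this
  -- three independent elements
  have pick : ∀ S : Finset G, S.card ≤ 3 → ∃ e ∈ E1, e ∉ C ∧ ∀ s ∈ S, s⁻¹ * e ∉ C := by
    intro S hS
    by_contra hall'
    push Not at hall'
    have hcover : (E1 : Set G) ⊆ (C : Set G) ∪ ⋃ s ∈ S, (fun x => s * x) '' (C : Set G) := by
      intro e he
      by_cases hec : e ∈ C
      · exact Or.inl hec
      · obtain ⟨s, hs, hse⟩ := hall' e he hec
        exact Or.inr (Set.mem_biUnion hs ⟨s⁻¹ * e, hse, mul_inv_cancel_left s e⟩)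
    have h1 := Set.ncard_le_ncard hcover (Set.toFinite _)
    have h3 : (⋃ s ∈ S, (fun x => s * x) '' (C : Set G)).ncard ≤ S.card * 2 ^ 7 := by
      refine (Finset.set_ncard_biUnion_le S _).trans ((Finset.sum_le_card_nsmul _ _ (2 ^ 7) fun s _ => ?_).trans ?_)
      · exact (Set.ncard_image_le (Set.toFinite _)).trans ((Nat.card_coe_set_eq _).symm.trans_le hCcard)
      · simp
    have h4 : (E1 : Set G).ncard = Nat.card E1 := (Nat.card_coe_set_eq _).symm
    have h5 : (C : Set G).ncard = Nat.card C := (Nat.card_coe_set_eq _).symm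
    have h6 := Set.ncard_union_le (C : Set G) (⋃ s ∈ S, (fun x => s * x) '' (C : Set G))
    have : S.card * 2 ^ 7 ≤ 3 * 2 ^ 7 := Nat.mul_le_mul_right _ hS
    omega
  obtain ⟨a, ha, haC, -⟩ := pick ∅ (by simp)
  obtain ⟨b, hb, hbC, hbS⟩ := pick {a⁻¹} (by simp)
  obtain ⟨d, hd, hdC, hdS⟩ := pick {a⁻¹, b⁻¹, a⁻¹ * b⁻¹} Finset.card_le_three
  simp only [Finset.mem_insert, Finset.mem_singleton, forall_eq_or_imp, forall_eq, inv_inv, mul_inv_rev] at hbS hdS
  obtain ⟨hd1, hd2, hd3⟩ := hdS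
  have hleE : E1 ≤ E := map_subtype_le _
  -- the pair relation
  have hpair : ∀ x ∈ E1, ∀ y ∈ E1, x ∉ C → y ∉ C → x * y ∉ C → ⁅x, w y⁆ = z := by
    intro x hx y hy hxC hyC hxyC
    refine (c.mem_Z.mp (c.comm_E (hleE hx) (hwE _ (hleE hy)))).resolve_left fun h1 => ?_
    have h := (hout _ (mul_mem hx hy) hxyC).2
    rw [hmul _ (hleE hx) _ (hleE hy), h1, one_mul] at h
    refine h ?_
    rw [show g⁻¹ * (w y * w x) * g = (g⁻¹ * w y * g) * (g⁻¹ * w x * g) by group]
    exact c.H0two _ (hout y hy hyC).1 (hout y hy hyC).2 _ (hout x hx hxC).1 (hout x hx hxC).2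
  have hCz : ∀ {x y : G}, x ∈ E → y ∈ E → x * y ∈ C → y * x ∈ C := by
    intro x y hx hy h
    have hz : ⁅y, x⁆ ∈ C := by
      refine ⟨c.Z_le (c.comm_E hy hx), mem_centralizer_singleton_iff.mpr ?_⟩
      exact (c.Z_comm htH (c.comm_E hy hx)).symm
    have := mul_mem hz h
    rwa [show ⁅y, x⁆ * (x * y) = y * x by rw [commutatorElement_def]; group] at this
  have r1 : ⁅a * d, w b⁆ = z := hpair _ (mul_mem ha hd) _ hb hd1 hbC (fun h => by
    have h2 := hCz (mul_mem (hleE ha) (hleE hd)) (hleE hb) h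
    refine hd3 ?_
    have h3 : ⁅a, b⁆ ∈ C := ⟨c.Z_le (c.comm_E (hleE ha) (hleE hb)), mem_centralizer_singleton_iff.mpr
      (c.Z_comm htH (c.comm_E (hleE ha) (hleE hb))).symm⟩
    rw [show b * a * d = (b * (a * d)) by group]
    exact h2)
  have r2 : ⁅a, w b⁆ = z := hpair _ ha _ hb haC hbC hbS
  have r3 : ⁅d, w b⁆ = z := hpair _ hd _ hb hdC hbC (fun h => hd2 (hCz (hleE hd) (hleE hb) h))
  rw [c.comm_mul_left (hleE ha) (hleE hd) (hwE _ (hleE hb)), r2, r3, c.zz] at r1
  exact c.z_ne_one r1.symm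

end Ctx

end CfsgLib.JankoFour
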