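/-
A conjugate of the central involution other than itself lies in an elementary abelian group of order 2^11.
-/
import Cfsg.Agent.Lib.JankoFour.FusOuter
import Cfsg.Agent.Lib.JankoFour.DuadIn

set_option autoImplicit false

namespace CfsgLib.JankoFour

open Cfsg Subgroup
open scoped commutatorElement

universe u

variable {G : Type u} [Group G] [Finite G] {z : G} {P E : Subgroup G}

namespace Ctx

/-- The elementary abelian group above a hexad group. -/
noncomputable def vGrp (c : Ctx z P E) (A : Subgroup MTwoTwo) (hA : IsElementaryAbelian 2 A) : Subgroup G :=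
  c.fixB A ⊔ c.twoGrp A hA

theorem vGrp_facts (c : Ctx z P E) {A : Subgroup MTwoTwo} (hA : HexLike A) :
    IsElementaryAbelian 2 (c.vGrp A hA.1) ∧ Nat.card (c.vGrp A hA.1) = 2 ^ 11 := by
  obtain ⟨V, hel, hcard, hF, hQ, hle⟩ := c.exists_V hA
  have e : V = c.vGrp A hA.1 := le_antisymm hle (sup_le hF hQ)
  exact ⟨e ▸ hel, e ▸ hcard⟩

/-- An element of cen with square in the centre differs by E from a 2-element with the same image. -/
theorem match_val (c : Ctx z P E) {x v : G} (hx : x ∈ c.cen) (hx2 : x * x ∈ zpowers z) (hv : v ∈ c.H0)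
    (k : ℕ) (hvk : v ^ 2 ^ k = 1) (h : c.val x = c.val v) : v⁻¹ * x ∈ E := by
  obtain ⟨e, he, p, hp, hn⟩ := c.N_decomp (c.val_eq_val (c.cen_le_H0 hx) hv h)
  have hvH := c.H0le hv
  -- a power of v e lies in E
  have hpow : ∀ n : ℕ, ∃ e' ∈ E, (v * e) ^ n = e' * v ^ n := by
    intro n
    induction n with
    | zero => exact ⟨1, one_mem _, by simp⟩
    | succ n ih =>
      obtain ⟨e', he', hn'⟩ := ih
      refine ⟨e' * (v ^ (n + 1) * e * (v ^ (n + 1))⁻¹), mul_mem he' (c.conj_E (pow_mem hvH _) he), ?_⟩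
      rw [pow_succ, hn']
      group
  obtain ⟨e', he', hek⟩ := hpow (2 ^ k)
  rw [hvk, mul_one] at hek
  have hxp : x * p⁻¹ = v * e := by
    rw [show x = v * (v⁻¹ * x) by group, hn]; group
  have hc : Commute x p⁻¹ := c.cen_comm hx (inv_mem hp)
  have h4 : e' ^ 4 = 1 := by
    rw [show 4 = 2 * 2 from rfl, pow_mul, sq, sq]; exact c.Z_sq (c.sq_mem_Z he')
  have h1 : (x * p⁻¹) ^ (2 ^ k * 4) = 1 := by rw [hxp, pow_mul, hek, h4]
  have hx4 : x ^ 4 = 1 := by
    rw [show 4 = 2 * 2 from rfl, pow_mul, sq, sq]; exact c.Z_sq hx2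
  rw [hc.mul_pow, mul_comm (2 ^ k) 4, pow_mul, pow_mul, hx4, one_pow, one_mul, ← pow_mul] at h1
  have h3 : p⁻¹ ^ 3 = 1 := by rw [pow_succ, sq]; exact c.P_cube (inv_mem hp)
  have := pow_gcd_eq_one.mpr ⟨h1, h3⟩
  rw [show 4 * 2 ^ k = 2 ^ (k + 2) by ring,
    Nat.Coprime.gcd_eq_one (Nat.Coprime.pow_left _ (by norm_num)), pow_one] at this
  rw [hn, inv_eq_one.mp this, mul_one]; exact he

/-- The inner part of a subgroup of H has index at most two. -/
theorem half_le (c : Ctx z P E) {K : Subgroup G} (hK : K ≤ centralizer ({z} : Set G)) :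
    Nat.card K ≤ 2 * Nat.card ↥(K ⊓ c.H0) := by
  by_cases h : K ≤ c.H0
  · rw [inf_eq_left.mpr h]; omega
  obtain ⟨f, hfK, hf0⟩ := SetLike.not_le_iff_exists.mp h
  have hi : ((K ⊓ c.H0).subgroupOf K).index = 2 := by
    refine Subgroup.index_eq_two_iff.mpr ⟨⟨f, hfK⟩, fun b => ?_⟩
    by_cases hb : (b : G) ∈ c.H0
    · refine Or.inr ⟨mem_subgroupOf.mpr ⟨b.2, hb⟩, fun hbf => hf0 ?_⟩
      have := mul_mem (inv_mem hb) (mem_subgroupOf.mp hbf).2
      simpa using this
    · exact Or.inl ⟨mem_subgroupOf.mpr ⟨mul_mem b.2 hfK, c.H0two _ (hK b.2) hb _ (hK hfK) hf0⟩,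
        fun h => hb (mem_subgroupOf.mp h).2⟩
  have := Subgroup.card_mul_index ((K ⊓ c.H0).subgroupOf K)
  rw [hi, Nat.card_congr (subgroupOfEquivOfLe inf_le_left).toEquiv] at this
  omega

/-- The image in M22 of a 2-subgroup of the inner part and the order of the group. -/
theorem image_card (c : Ctx z P E) {K : Subgroup G} (hK : K ≤ c.H0) (k : ℕ) (h2 : ∀ x ∈ K, x ^ 2 ^ k = 1) :
    ∃ B : Subgroup MTwoTwo, IsPGroup 2 B ∧ (∀ x ∈ K, c.val x ∈ B) ∧ (∀ b ∈ B, ∃ x ∈ K, c.val x = b) ∧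
      Nat.card K = Nat.card ↥(K ⊓ E) * Nat.card B := by
  let f : K →* MTwoTwo := c.ψ.comp (Subgroup.inclusion hK)
  have hfv : ∀ v, f v = c.val v := fun v => (c.val_eq (hK v.2)).symm
  refine ⟨f.range, ?_, fun x hx => ⟨⟨x, hx⟩, hfv _⟩, ?_, ?_⟩
  · rintro ⟨_, x, rfl⟩
    exact ⟨k, Subtype.ext (by rw [coe_pow, ← map_pow, show x ^ 2 ^ k = 1 from Subtype.ext (h2 x x.2), map_one]; rfl)⟩
  · rintro _ ⟨x, rfl⟩; exact ⟨x, x.2, (hfv x).symm⟩
  · have hker : f.ker.map K.subtype = K ⊓ E := by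
      refine le_antisymm ?_ fun e he => ⟨⟨e, he.1⟩, MonoidHom.mem_ker.mpr (by rw [hfv]; exact c.val_E he.2), rfl⟩
      rintro _ ⟨v, hv, rfl⟩
      exact ⟨v.2, c.N_two ((c.val_eq_one (hK v.2)).mp ((hfv v).symm.trans hv)) k (h2 v v.2)⟩
    rw [← Subgroup.card_mul_index f.ker, Subgroup.index_ker, ← card_map_of_injective K.subtype_injective, hker]

theorem two_card_le {D : Subgroup MTwoTwo} (hD : IsPGroup 2 D) : Nat.card D ≤ 128 := by
  haveI : Fact (Nat.Prime 2) := ⟨Nat.prime_two⟩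
  obtain ⟨S, hS⟩ := hD.exists_le_sylow
  refine (card_le_of_le hS).trans (le_of_eq ?_)
  rw [Sylow.card_eq_multiplicity, factorization_M22.1]; rfl

/-- A conjugate of z in E other than z gives one in an elementary abelian group of order 2^11. -/
theorem in_E (c : Ctx z P E) {e : G} (he : e ∈ E) (hz : c.IsZ e) (hne : e ≠ z) :
    ∃ A : Subgroup MTwoTwo, ∃ hA : HexData A, ∃ a ∈ c.vGrp A hA.1.1, c.IsZ a ∧ a ≠ z := by
  classical
  obtain ⟨g, hg⟩ := hz
  set H := centralizer ({z} : Set G)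
  set a := g⁻¹ * z * g with ha
  have haz : a ≠ z := fun h => hne (by
    rw [← hg]
    calc g * z * g⁻¹ = g * a * g⁻¹ := by rw [h]
      _ = z := by rw [ha]; group)
  have hae : g * a * g⁻¹ = z := by rw [ha]; group
  set C1 := E ⊓ centralizer ({e} : Set G) with hC1
  have hzC1 : z ∈ C1 := ⟨c.zE, mem_centralizer_singleton_iff.mpr (mem_centralizer_singleton_iff.mp (c.Ez he)).symm⟩
  have heC1 : e ∈ C1 := ⟨he, mem_centralizer_singleton_iff.mpr rfl⟩
  have hC1card : 2 ^ 12 ≤ Nat.card C1 := by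
    let φ : E →* G :=
      { toFun := fun x => ⁅(x : G), e⁆
        map_one' := by simp [commutatorElement_def]
        map_mul' := fun x y => c.comm_mul_left x.2 y.2 he }
    have hk : φ.ker.map E.subtype ≤ C1 := by
      rintro _ ⟨x, hx, rfl⟩
      exact ⟨x.2, mem_centralizer_singleton_iff.mpr (commutatorElement_eq_one_iff_mul_comm.mp hx)⟩
    have h1 := Subgroup.card_mul_index φ.ker
    rw [Subgroup.index_ker, c.hE] at h1
    have h2 : Nat.card φ.range ≤ 2 := by
      rw [← c.card_Z]; exact card_le_of_le (by rintro _ ⟨x, rfl⟩; exact c.comm_E x.2 he)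
    have h3 := card_le_of_le hk
    rw [card_map_of_injective E.subtype_injective] at h3
    have := Nat.mul_le_mul_left (Nat.card φ.ker) h2
    omega
  -- the centre of C1
  have hcen4 : ∀ x ∈ C1, (∀ y ∈ C1, y * x = x * y) → x = 1 ∨ x = z ∨ x = e ∨ x = z * e := by
    intro x hx hxc
    set Y := E ⊓ centralizer (C1 : Set G) with hY
    have h14 : Nat.card C1 * Nat.card Y = 2 ^ 14 := c.cent_card (inf_le_left : C1 ≤ E) hzC1
    have hY4 : Nat.card Y ≤ 4 := by
      by_contra h5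
      have h := Nat.mul_le_mul hC1card (show 5 ≤ Nat.card Y by omega)
      norm_num at h h14
      omega
    have h1 : ({1, z, e, z * e} : Finset G) ⊆ (Y : Set G).toFinite.toFinset := by
      have hzY : z ∈ Y := ⟨c.zE, mem_centralizer_iff.mpr fun y hy =>
        (mem_centralizer_singleton_iff.mp (c.Ez hy.1))⟩
      have heY : e ∈ Y := ⟨he, mem_centralizer_iff.mpr fun y hy => mem_centralizer_singleton_iff.mp hy.2⟩
      intro y hy
      simp only [Finset.mem_insert, Finset.mem_singleton] at hy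
      rw [Set.Finite.mem_toFinset]
      rcases hy with rfl | rfl | rfl | rfl
      exacts [one_mem Y, hzY, heY, mul_mem hzY heY]
    have he1 : e ≠ 1 := fun h => by
      rw [h] at hg
      exact c.z_ne_one (by rw [show z = g⁻¹ * (g * z * g⁻¹) * g by group, hg]; group)
    have hcard4 : ({1, z, e, z * e} : Finset G).card = 4 := by
      rw [Finset.card_insert_of_notMem, Finset.card_insert_of_notMem, Finset.card_insert_of_notMem,
        Finset.card_singleton]
      · exact fun h => c.z_ne_one (mul_eq_right.mp (Finset.mem_singleton.mp h).symm)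
      · simp only [Finset.mem_insert, Finset.mem_singleton, not_or]
        exact ⟨hne.symm, fun h => he1 (left_eq_mul.mp h)⟩
      · simp only [Finset.mem_insert, Finset.mem_singleton, not_or]
        exact ⟨c.z_ne_one.symm, he1.symm,
          fun h => hne ((eq_inv_of_mul_eq_one_right h.symm).trans (inv_eq_of_mul_eq_one_left c.zz))⟩
    have heq := Finset.eq_of_subset_of_card_le h1 (by
      rw [hcard4, ← Set.ncard_eq_toFinset_card, ← Nat.card_coe_set_eq]; exact hY4)
    have hxY : x ∈ (Y : Set G).toFinite.toFinset := by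
      rw [Set.Finite.mem_toFinset]; exact ⟨hx.1, mem_centralizer_iff.mpr fun y hy => hxc y hy⟩
    rw [← heq] at hxY
    simpa using hxY
  set φ := (MulAut.conj g⁻¹).toMonoidHom
  set C' := C1.map φ with hC'
  have hmemC : ∀ {x}, x ∈ C1 → g⁻¹ * x * g ∈ C' := fun hx => ⟨_, hx, by simp [φ]⟩
  have hof : ∀ {x}, x ∈ C' → g * x * g⁻¹ ∈ C1 := by
    rintro _ ⟨x, hx, rfl⟩; simpa [φ, mul_assoc] using hx
  have hC'H : C' ≤ H := by
    intro x hx
    have h := mem_centralizer_singleton_iff.mp (hof hx).2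
    rw [← hg] at h
    exact mem_centralizer_singleton_iff.mpr (mul_left_cancel (mul_right_cancel
      (show g * (x * z) * g⁻¹ = g * (z * x) * g⁻¹ by
        rw [show g * (x * z) * g⁻¹ = g * x * g⁻¹ * (g * z * g⁻¹) by group, h]; group)))
  have hcase : ∀ w, g * w * g⁻¹ ∈ zpowers z → w = 1 ∨ w = a := by
    intro w hw
    rcases c.mem_Z.mp hw with h | h
    · exact Or.inl (conj_eq_one_iff.mp h)
    · exact Or.inr (by rw [ha, ← h]; group)
  have hcomm' : ∀ x ∈ C', ∀ y ∈ C', ⁅x, y⁆ = 1 ∨ ⁅x, y⁆ = a := fun x hx y hy => hcase _ (by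
    have := c.comm_E (hof hx).1 (hof hy).1
    rwa [show g * ⁅x, y⁆ * g⁻¹ = ⁅g * x * g⁻¹, g * y * g⁻¹⁆ by simp only [commutatorElement_def]; group])
  have hsq' : ∀ x ∈ C', x * x = 1 ∨ x * x = a := fun x hx => hcase _ (by
    have := c.sq_mem_Z (hof hx).1
    rwa [show g * (x * x) * g⁻¹ = g * x * g⁻¹ * (g * x * g⁻¹) by group])
  have ha2 : a * a = 1 := by rw [ha, show g⁻¹ * z * g * (g⁻¹ * z * g) = g⁻¹ * (z * z) * g by group, c.zz]; group
  have h4' : ∀ x ∈ C', x ^ 2 ^ 2 = 1 := fun x hx => by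
    rw [show 2 ^ 2 = 2 * 2 from rfl, pow_mul, sq, sq]
    rcases hsq' x hx with h | h <;> rw [h]
    exacts [one_mul 1, ha2]
  have haC : a ∈ C' := hmemC hzC1
  have hzC' : z ∈ C' := by
    have := hmemC heC1
    rwa [show g⁻¹ * e * g = z by rw [← hg]; group] at this
  have hC'card : 2 ^ 12 ≤ Nat.card C' := by
    rw [hC', card_map_of_injective (MulAut.conj g⁻¹).injective]; exact hC1card
  have hacom : ∀ x ∈ C', x * a = a * x := fun x hx => by
    have h := c.Z_comm (c.Ez (hof hx).1) (mem_zpowers z)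
    rw [← hae] at h
    exact mul_left_cancel (mul_right_cancel (show g * (x * a) * g⁻¹ = g * (a * x) * g⁻¹ by
      rw [show g * (x * a) * g⁻¹ = g * x * g⁻¹ * (g * a * g⁻¹) by group, h]; group))
  set C0 := C' ⊓ c.H0 with hC0
  have hC0card : Nat.card C' ≤ 2 * Nat.card C0 := c.half_le hC'H
  obtain ⟨B, hBp, hBin, hBsurj, hBcard'⟩ := c.image_card (inf_le_right : C0 ≤ c.H0) 2 fun x hx => h4' x hx.1
  have hBcard : Nat.card C0 = Nat.card ↥(C0 ⊓ E) * Nat.card B := hBcard'
  have haE : a ∈ E := by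
    by_contra haE
    -- the part in E is central in C'
    have hK : ∀ x ∈ C0 ⊓ E, x = 1 ∨ x = z := by
      intro x hx
      have hcen : ∀ y ∈ C', y * x = x * y := fun y hy => by
        rcases hcomm' y hy x hx.1.1 with h | h
        · exact commutatorElement_eq_one_iff_mul_comm.mp h
        · refine absurd ?_ haE
          rw [← h, commutatorElement_def]
          exact mul_mem (c.conj_E (hC'H hy) hx.2) (inv_mem hx.2)
      have h1 := hcen4 (g * x * g⁻¹) (hof hx.1.1) fun y hy => by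
        have hc := hcen _ (hmemC hy)
        calc y * (g * x * g⁻¹) = g * (g⁻¹ * y * g * x) * g⁻¹ := by group
          _ = g * x * g⁻¹ * y := by rw [hc]; group
      rcases h1 with h | h | h | h
      · exact Or.inl (conj_eq_one_iff.mp h)
      · refine absurd hx.2 ?_
        have : x = a := by rw [ha, ← h]; group
        rw [this]; exact haE
      · exact Or.inr (mul_left_cancel (mul_right_cancel (h.trans hg.symm)))
      · refine absurd hx.2 fun hxE => haE ?_
        have e1 : x = a * z := by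
          rw [show x = g⁻¹ * (g * x * g⁻¹) * g by group, h, ← hg, ha]; group
        rw [e1] at hxE
        have := mul_mem hxE c.zE
        rwa [mul_assoc, c.zz, mul_one] at this
    have hsub : ((C0 ⊓ E : Subgroup G) : Set G) ⊆ ({1, z} : Set G) := fun x hx => by
      rcases hK x hx with rfl | rfl <;> simp
    have h2 := Set.ncard_le_ncard hsub (Set.toFinite _)
    rw [← Nat.card_coe_set_eq, SetLike.coe_sort_coe, Set.ncard_pair c.z_ne_one.symm] at h2
    have h3 := Nat.mul_le_mul h2 (two_card_le hBp)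
    omega
  -- now the image is elementary abelian
  have hBab : ∀ x ∈ B, ∀ y ∈ B, x * y = y * x := by
    intro x hx y hy
    obtain ⟨u, hu, rfl⟩ := hBsurj x hx
    obtain ⟨v, hv, rfl⟩ := hBsurj y hy
    rw [← c.val_mul hu.2 hv.2, ← c.val_mul hv.2 hu.2]
    have hk : ⁅u, v⁆ ∈ c.N := by
      rcases hcomm' u hu.1 v hv.1 with h | h <;> rw [h]
      exacts [one_mem _, c.EN haE]
    have e : u * v = ⁅u, v⁆ * (v * u) := by simp only [commutatorElement_def]; group
    rw [e, c.val_mul (c.NH0 hk) (mul_mem hv.2 hu.2), (c.val_eq_one (c.NH0 hk)).mpr hk, one_mul]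
  have hBsq : ∀ x ∈ B, x ^ 2 = 1 := by
    intro x hx
    obtain ⟨u, hu, rfl⟩ := hBsurj x hx
    rw [sq, ← c.val_mul hu.2 hu.2]
    rcases hsq' u hu.1 with h | h <;> rw [h]
    exacts [(c.val_eq_one (one_mem _)).mpr (one_mem _), c.val_E haE]
  have hBel : IsElementaryAbelian 2 B := ⟨⟨⟨fun x y => Subtype.ext (hBab x x.2 y y.2)⟩⟩, hBsq⟩
  have hK7 : Nat.card ↥(C0 ⊓ E) ≤ 2 ^ 7 := by
    refine c.abelian_le inf_le_right ⟨⟨hzC', c.z_H0⟩, c.zE⟩ fun x hx y hy => ?_
    refine commutatorElement_eq_one_iff_mul_comm.mp ?_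
    rcases hcomm' x hx.1.1 y hy.1.1 with h | h
    · exact h
    · rcases c.mem_Z.mp (c.comm_E hx.2 hy.2) with h' | h'
      · exact h'
      · exact absurd (h.symm.trans h') haz
  have hB16 : 16 ≤ Nat.card B := by
    by_contra hlt
    have h := Nat.mul_le_mul hK7 (show Nat.card B ≤ 15 by omega)
    omega
  obtain ⟨S, hS⟩ := hBp.exists_le_sylow
  obtain ⟨A, hAS, hA, hclass⟩ := hex_data S
  refine ⟨A, hA, a, mem_sup_left ?_, ⟨g⁻¹, by rw [ha]; group⟩, haz⟩
  have haB : a ∈ c.fixB B := by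
    refine ⟨haE, fun x hx => ?_⟩
    obtain ⟨v, hv, hvx⟩ := hBsurj _ hx.2.1
    have he' := c.match_val hx.1 hx.2.2 hv.2 2 (h4' v hv.1) hvx.symm
    set d := v⁻¹ * x
    have hx' : x = v * d := by simp [d]
    show ⁅x, a⁆ ∈ zpowers z
    rw [hx', commutatorElement_mul_left_eq_conj_mul, c.Z_conj (hC'H hv.1) (c.comm_E he' haE),
      commutatorElement_eq_one_iff_mul_comm.mpr (hacom v hv.1), mul_one]
    exact c.comm_E he' haE
  rcases hclass B hS hBel hB16 with h | h
  · exact h ▸ haB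
  · exact c.duad_in S.isPGroup' hA.1.1 hBel hAS hS h haB

/-- A conjugate of z in the inner part other than z gives one in an elementary abelian group of order 2^11. -/
theorem in_V (c : Ctx z P E) [IsSimpleGroup G] (hG : ¬ IsMulCommutative G) :
    ∃ A : Subgroup MTwoTwo, ∃ hA : HexData A, ∃ a ∈ c.vGrp A hA.1.1, c.IsZ a ∧ a ≠ z := by
  classical
  obtain ⟨t, ht0, htz, htne⟩ := c.exists_inner hG
  have ht2 := c.isZ_sq htz
  have htH := c.H0le ht0
  by_cases hv : c.val t = 1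
  · refine c.in_E (c.N_two ((c.val_eq_one ht0).mp hv) 1 ?_) htz htne
    rw [pow_one, sq]; exact ht2
  obtain ⟨A, hA, htA⟩ := hex_of_invol (i := c.val t) (by
    rw [← c.val_mul ht0 ht0, ht2]; exact (c.val_eq_one (one_mem _)).mpr (one_mem _))
  obtain ⟨y, hy, hvy⟩ := c.twoGrp_lift hA.1.1 htA
  have hd := c.match_val hy.1 hy.2.2 ht0 1 (by rw [pow_one, sq]; exact ht2) hvy
  have hyy : y * y = 1 := c.twoGrp_sq hA.1 y hy
  set e := t * y with he
  have hty : t = e * y := by rw [he, mul_assoc, hyy, mul_one]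
  have heE : e ∈ E := by
    have h1 : t⁻¹ * y = e := by rw [inv_eq_of_mul_eq_one_left ht2]
    rw [← h1]; exact hd
  clear_value e
  obtain ⟨hF7, hFc, hFsq, hFQ⟩ := c.hex_fix hA.1
  by_cases heW : e ∈ c.fixB A
  · exact ⟨A, hA, t, hty ▸ mul_mem (mem_sup_left heW) (mem_sup_right hy), htz, htne⟩
  have hyZ : y ∉ zpowers z := fun h => hv (hvy.symm.trans (c.val_E (c.Z_le h)))
  obtain ⟨hS32, hSW, -, -⟩ := c.kernel_facts hA hy hyZ
  have hyinv : y⁻¹ = y := inv_eq_of_mul_eq_one_left hyy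
  have hye : ⁅y, e⁆ ∈ zpowers z := by
    have h1 : e * y * (e * y) = 1 := hty ▸ ht2
    have h2 : y * e * y⁻¹ = e⁻¹ := by
      rw [hyinv]; refine eq_inv_of_mul_eq_one_right ?_
      rw [← h1]; group
    rw [commutatorElement_def, h2, ← mul_inv_rev]; exact inv_mem (c.sq_mem_Z heE)
  set K := c.ker1 hy.1.1
  have heK : e ∈ K := c.mem_ker1.mpr ⟨heE, hye⟩
  obtain ⟨w, hwW, hwe⟩ : ∃ w ∈ c.fixB A, ⁅w, e⁆ = z := by
    by_contra hall
    push Not at hall
    refine heW (hFc ▸ (⟨heE, mem_centralizer_iff.mpr fun w hw => commutatorElement_eq_one_iff_mul_comm.mp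
      ((c.mem_Z.mp (c.comm_E (c.fixB_le A hw) heE)).resolve_right (hall w hw))⟩ : e ∈ E ⊓ centralizer (c.fixB A : Set G)))
  have hwt : w * t * w⁻¹ = z * t := by
    have hwy : y * w⁻¹ = w⁻¹ * y := hFQ _ (inv_mem hwW) y hy
    rw [hty, show w * (e * y) * w⁻¹ = w * e * (y * w⁻¹) by group, hwy,
      show w * e * (w⁻¹ * y) = ⁅w, e⁆ * (e * y) by simp only [commutatorElement_def]; group, hwe]
  set S := E ⊓ centralizer (K : Set G) with hS
  obtain ⟨him, himsurj⟩ := c.image_eq hy.1.1 hy.2.2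
  have hmy : ∀ m ∈ S, y * m = m * y := fun m hm => hFQ m (hSW hm) y hy
  have hmt : ∀ m ∈ S, m * t = t * m := fun m hm => by
    rw [hty, ← mul_assoc, ← mem_centralizer_iff.mp hm.2 e heK, mul_assoc, ← hmy m hm, mul_assoc]
  -- the coset of S consists of conjugates
  have hcoset : ∀ m ∈ S, c.IsZ (m * t) := by
    intro m hm
    obtain ⟨f, hf, hfm⟩ := himsurj m hm
    set k := ⁅y, f⁆ with hk
    have hkS : k ∈ S := him f hf
    have hkinv : k⁻¹ = k := inv_eq_of_mul_eq_one_left (hFsq k (hSW hkS))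
    have hke : e * k = k * e := mem_centralizer_iff.mp hkS.2 e heK
    have h1 : f * t * f⁻¹ = ⁅f, e⁆ * (e * k⁻¹ * y) := by
      rw [hty, hk]; simp only [commutatorElement_def]; group
    rw [hkinv, hke, show ⁅f, e⁆ * (k * e * y) = ⁅f, e⁆ * k * (e * y) by group, ← hty] at h1
    have hζ : (⁅f, e⁆ * k)⁻¹ * m ∈ zpowers z := by
      rw [mul_inv_rev, show k⁻¹ * ⁅f, e⁆⁻¹ * m = k⁻¹ * ⁅f, e⁆⁻¹ * k * (k⁻¹ * m) by group,
        c.Z_comm (c.Ez (inv_mem hkS.1)) (inv_mem (c.comm_E hf heE)), inv_mul_cancel_right]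
      exact mul_mem (inv_mem (c.comm_E hf heE)) hfm
    rcases c.mem_Z.mp hζ with h | h
    · rw [← inv_mul_eq_one.mp h, ← h1]; exact c.isZ_conj htz f
    · have hm' : m = ⁅f, e⁆ * k * z := by rw [← h, mul_inv_cancel_left]
      rw [hm', mul_assoc, ← hwt]
      have h2 : ⁅f, e⁆ * k * (w * t * w⁻¹) = f * (z * t) * f⁻¹ := by
        rw [hwt, show f * (z * t) * f⁻¹ = (f * z) * t * f⁻¹ by group,
          c.Z_comm (c.Ez hf) (mem_zpowers z), show z * f * t * f⁻¹ = z * (f * t * f⁻¹) by group, h1,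
          ← mul_assoc, c.Z_comm (c.Ez (mul_mem (c.Z_le (c.comm_E hf heE)) hkS.1)) (mem_zpowers z), mul_assoc]
      rw [h2, ← hwt]
      exact c.isZ_conj (c.isZ_conj htz w) f
  -- elements of E commuting with t lie in the kernel
  set Ct := E ⊓ centralizer ({t} : Set G) with hCt
  have hCtK : Ct ≤ K := by
    intro f hf
    refine c.mem_ker1.mpr ⟨hf.1, ?_⟩
    have h := mem_centralizer_singleton_iff.mp hf.2
    rw [hty] at h
    have h1 : e * (y * f * y⁻¹ * f⁻¹) * e⁻¹ = ⁅f, e⁆ := by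
      rw [show e * (y * f * y⁻¹ * f⁻¹) * e⁻¹ = (e * y * f) * (y⁻¹ * f⁻¹ * e⁻¹) by group, ← h,
        commutatorElement_def]
      group
    have h2 : ⁅y, f⁆ = e⁻¹ * ⁅f, e⁆ * e := by rw [← h1, commutatorElement_def]; group
    rw [h2, c.Z_comm (c.Ez (inv_mem heE)) (c.comm_E hf.1 heE), inv_mul_cancel_right]
    exact c.comm_E hf.1 heE
  have hCt8 : 2 ^ 8 ≤ Nat.card Ct := by
    let φ : K →* G :=
      { toFun := fun x => ⁅(x : G), e⁆
        map_one' := by simp [commutatorElement_def]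
        map_mul' := fun a b => c.comm_mul_left (c.ker1_le _ a.2) (c.ker1_le _ b.2) heE }
    have hk : φ.ker.map K.subtype ≤ Ct := by
      rintro _ ⟨x, hx, rfl⟩
      refine ⟨c.ker1_le _ x.2, mem_centralizer_singleton_iff.mpr ?_⟩
      have h1 : (x : G) * e = e * x := commutatorElement_eq_one_iff_mul_comm.mp hx
      rw [hty, coe_subtype, ← mul_assoc, h1, mul_assoc, ← c.ker1_comm hy.1 _ x.2, mul_assoc]
    have h1 := Subgroup.card_mul_index φ.ker
    rw [Subgroup.index_ker, c.rank_two hA hy hyZ] at h1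
    have h2 : Nat.card φ.range ≤ 2 := by
      rw [← c.card_Z]; exact card_le_of_le (by rintro _ ⟨x, rfl⟩; exact c.comm_E (c.ker1_le _ x.2) heE)
    have h3 := card_le_of_le hk
    rw [card_map_of_injective K.subtype_injective] at h3
    have := Nat.mul_le_mul_left (Nat.card φ.ker) h2
    omega
  obtain ⟨g, hg⟩ := id htz
  have hback : ∀ {x}, x * t = t * x → g⁻¹ * x * g ∈ centralizer ({z} : Set G) := fun {x} hx =>
    mem_centralizer_singleton_iff.mpr (by
      rw [show g⁻¹ * x * g * z = g⁻¹ * (x * (g * z * g⁻¹)) * g by group, hg, hx, ← hg]; group)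
  -- some element of S is pulled back into E
  obtain ⟨m, hm, hm1, hmE⟩ : ∃ m ∈ S, m ≠ 1 ∧ g⁻¹ * m * g ∈ E := by
    by_contra hall
    push Not at hall
    set φ := (MulAut.conj g⁻¹).toMonoidHom
    set a := g⁻¹ * z * g with ha
    have hzS : z ∈ S := ⟨c.zE, mem_centralizer_iff.mpr fun x hx => mem_centralizer_singleton_iff.mp
      (c.Ez (c.ker1_le _ hx))⟩
    have hagE : a ∉ E := hall z hzS c.z_ne_one
    have ha2 : a * a = 1 := by
      rw [ha, show g⁻¹ * z * g * (g⁻¹ * z * g) = g⁻¹ * (z * z) * g by group, c.zz]; group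
    set U := S.map φ with hU
    set C' := Ct.map φ with hC'
    have hofU : ∀ {x}, x ∈ U → g * x * g⁻¹ ∈ S := by rintro _ ⟨x, hx, rfl⟩; simpa [φ, mul_assoc] using hx
    have hofC : ∀ {x}, x ∈ C' → g * x * g⁻¹ ∈ Ct := by rintro _ ⟨x, hx, rfl⟩; simpa [φ, mul_assoc] using hx
    have hSCt : S ≤ Ct := fun m hm => ⟨hm.1, mem_centralizer_singleton_iff.mpr (hmt m hm)⟩
    have hUC : U ≤ C' := Subgroup.map_mono hSCt
    have hC'H : C' ≤ centralizer ({z} : Set G) := fun x hx => by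
      have := hback (mem_centralizer_singleton_iff.mp (hofC hx).2)
      rwa [show g⁻¹ * (g * x * g⁻¹) * g = x by group] at this
    have hUE : ∀ x ∈ U, x ∈ E → x = 1 := by
      intro x hx hxE
      by_contra hx1
      refine hall _ (hofU hx) (fun h => hx1 (conj_eq_one_iff.mp h)) ?_
      rwa [show g⁻¹ * (g * x * g⁻¹) * g = x by group]
    have hUsq : ∀ x ∈ U, x * x = 1 := fun x hx => by
      have h := hFsq _ (hSW (hofU hx))
      rw [show g * x * g⁻¹ * (g * x * g⁻¹) = g * (x * x) * g⁻¹ by group] at h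
      exact conj_eq_one_iff.mp h
    have hUcent : ∀ x ∈ U, ∀ v ∈ C', v * x = x * v := fun x hx v hv => by
      have h := mem_centralizer_iff.mp (hofU hx).2 _ (hCtK (hofC hv))
      calc v * x = g⁻¹ * (g * v * g⁻¹ * (g * x * g⁻¹)) * g := by group
        _ = x * v := by rw [h]; group
    have hcase : ∀ w, g * w * g⁻¹ ∈ zpowers z → w = 1 ∨ w = a := by
      intro w hw
      rcases c.mem_Z.mp hw with h | h
      · exact Or.inl (conj_eq_one_iff.mp h)
      · exact Or.inr (by rw [ha, ← h]; group)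
    have h4' : ∀ x ∈ C', x ^ 2 ^ 2 = 1 := fun x hx => by
      have h := hcase (x * x) (by
        rw [show g * (x * x) * g⁻¹ = g * x * g⁻¹ * (g * x * g⁻¹) by group]; exact c.sq_mem_Z (hofC hx).1)
      rw [show 2 ^ 2 = 2 * 2 from rfl, pow_mul, sq, sq]
      rcases h with h | h <;> rw [h]
      exacts [one_mul 1, ha2]
    -- the image of U
    have hU32 : Nat.card U = 32 := by rw [hU, card_map_of_injective (MulAut.conj g⁻¹).injective]; exact hS32
    have hU0 := c.half_le (hUC.trans hC'H)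
    obtain ⟨B, hBp, hBin, hBsurj, hBcard⟩ := c.image_card (inf_le_right : U ⊓ c.H0 ≤ c.H0) 2
      fun x hx => h4' x (hUC hx.1)
    have hUE1 : Nat.card ↥(U ⊓ c.H0 ⊓ E) = 1 :=
      Subgroup.eq_bot_iff_card _ |>.mp ((eq_bot_iff_forall _).mpr fun x hx => hUE x hx.1.1 hx.2)
    rw [hUE1, one_mul] at hBcard
    have hBel : IsElementaryAbelian 2 B := by
      refine ⟨⟨⟨fun x y => Subtype.ext ?_⟩⟩, fun x hx => ?_⟩
      · obtain ⟨u, hu, hux⟩ := hBsurj x x.2
        obtain ⟨v, hv, hvy⟩ := hBsurj y y.2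
        simp only [Subgroup.coe_mul]
        rw [← hux, ← hvy, ← c.val_mul hu.2 hv.2, ← c.val_mul hv.2 hu.2, hUcent v hv.1 u (hUC hu.1)]
      · obtain ⟨u, hu, rfl⟩ := hBsurj x hx
        rw [sq, ← c.val_mul hu.2 hu.2, hUsq u hu.1]
        exact (c.val_eq_one (one_mem _)).mpr (one_mem _)
    have hB16 : 16 ≤ Nat.card B := by omega
    have hB16' : Nat.card B = 16 := by
      obtain ⟨S', hS'⟩ := hBp.exists_le_sylow
      obtain ⟨A', -, hA', hclass⟩ := hex_data S'
      rcases hclass B hS' hBel hB16 with h | h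
      · rw [h]; exact hA'.1.2.1
      · exact h.1
    obtain ⟨u0, hu0, hu00⟩ : ∃ u0 ∈ U, u0 ∉ c.H0 := by
      by_contra hle
      push Not at hle
      have : U ⊓ c.H0 = U := inf_eq_left.mpr hle
      rw [this] at hBcard
      omega
    obtain ⟨D, hDp, hDin, hDsurj, -⟩ := c.image_card (inf_le_right : C' ⊓ c.H0 ≤ c.H0) 2 fun x hx => h4' x hx.1
    have hDB : D ≤ B := by
      refine self_cent hBel hB16 hDp (fun b hb => ?_) fun x hx b hb => ?_
      · obtain ⟨u, hu, rfl⟩ := hBsurj b hb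
        exact hDin u ⟨hUC hu.1, hu.2⟩
      · obtain ⟨u, hu, rfl⟩ := hBsurj b hb
        obtain ⟨v, hv, rfl⟩ := hDsurj x hx
        rw [← c.val_mul hv.2 hu.2, ← c.val_mul hu.2 hv.2, hUcent u hu.1 v hv.1]
    have hform0 : ∀ x ∈ C', x ∈ c.H0 → ∃ u ∈ U, ∃ k ∈ C' ⊓ E, x = u * k := by
      intro x hx hx0
      obtain ⟨u, hu, huv⟩ := hBsurj _ (hDB (hDin x ⟨hx, hx0⟩))
      have hk : u⁻¹ * x ∈ C' := mul_mem (inv_mem (hUC hu.1)) hx
      exact ⟨u, hu.1, u⁻¹ * x, ⟨hk, c.N_two (c.val_eq_val hx0 hu.2 huv.symm) 2 (h4' _ hk)⟩,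
        (mul_inv_cancel_left _ _).symm⟩
    have hform : ∀ x ∈ C', ∃ u ∈ U, ∃ k ∈ C' ⊓ E, x = u * k := by
      intro x hx
      by_cases hx0 : x ∈ c.H0
      · exact hform0 x hx hx0
      · obtain ⟨u, hu, k, hk, e⟩ := hform0 (u0 * x) (mul_mem (hUC hu0) hx)
          (c.H0two _ (hC'H (hUC hu0)) hu00 _ (hC'H hx) hx0)
        exact ⟨u0⁻¹ * u, mul_mem (inv_mem hu0) hu, k, hk, by rw [mul_assoc, ← e, inv_mul_cancel_left]⟩
    have hKab : ∀ k ∈ C' ⊓ E, ∀ k' ∈ C' ⊓ E, k * k' = k' * k := fun k hk k' hk' => by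
      refine commutatorElement_eq_one_iff_mul_comm.mp ((hcase ⁅k, k'⁆ ?_).resolve_right fun h => hagE ?_)
      · rw [show g * ⁅k, k'⁆ * g⁻¹ = ⁅g * k * g⁻¹, g * k' * g⁻¹⁆ by simp only [commutatorElement_def]; group]
        exact c.comm_E (hofC hk.1).1 (hofC hk'.1).1
      · rw [← h]; exact c.Z_le (c.comm_E hk.2 hk'.2)
    have hab : ∀ x ∈ Ct, ∀ x' ∈ Ct, x * x' = x' * x := by
      intro x hx x' hx'
      obtain ⟨u, hu, k, hk, e1⟩ := hform (g⁻¹ * x * g) ⟨x, hx, by simp [φ]⟩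
      obtain ⟨u', hu', k', hk', e2⟩ := hform (g⁻¹ * x' * g) ⟨x', hx', by simp [φ]⟩
      have key : Commute (g⁻¹ * x * g) (g⁻¹ * x' * g) := by
        rw [e1, e2]
        exact ((show Commute u u' from hUcent u' hu' u (hUC hu)).mul_right (show Commute k' u from hUcent u hu k' hk'.1).symm).mul_left
          ((show Commute k u' from hUcent u' hu' k hk.1).mul_right (hKab k hk k' hk'))
      calc x * x' = g * ((g⁻¹ * x * g) * (g⁻¹ * x' * g)) * g⁻¹ := by group
        _ = x' * x := by rw [key.eq]; group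
    have hzCt : z ∈ Ct := ⟨c.zE, mem_centralizer_singleton_iff.mpr (mem_centralizer_singleton_iff.mp htH).symm⟩
    have : Nat.card Ct ≤ 2 ^ 7 := c.abelian_le (inf_le_left : Ct ≤ E) hzCt hab
    omega
  refine c.in_E (e := g⁻¹ * (m * t) * g) ?_ ?_ ?_
  · rw [show g⁻¹ * (m * t) * g = g⁻¹ * m * g * (g⁻¹ * t * g) by group, show g⁻¹ * t * g = z by rw [← hg]; group]
    exact mul_mem hmE c.zE
  · have := c.isZ_conj (hcoset m hm) g⁻¹
    rwa [inv_inv] at this
  · intro h
    refine hm1 ?_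
    have h' : m * t = t := by
      rw [← hg]; rw [← hg] at h
      calc m * (g * z * g⁻¹) = g * (g⁻¹ * (m * (g * z * g⁻¹)) * g) * g⁻¹ := by group
        _ = g * z * g⁻¹ := by rw [h]
    exact mul_eq_right.mp h'

end Ctx

end CfsgLib.JankoFour
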