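/-
The conjugates of the central involution in an elementary abelian group of order 2^11 are conjugate in its
normalizer, and do not all lie in E.
-/
import Cfsg.Agent.Lib.JankoFour.FusInner

set_option autoImplicit false

namespace CfsgLib.JankoFour

open Cfsg Subgroup
open scoped commutatorElement

universe u

variable {G : Type u} [Group G] [Finite G] {z : G} {P E : Subgroup G}

/-- In a finite group, stability under conjugation gives the normalizer. -/
theorem mem_norm_of {U : Subgroup G} {n : G} (h : ∀ e ∈ U, n * e * n⁻¹ ∈ U) : n ∈ normalizer (U : Set G) := by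
  have hm : U.map (MulAut.conj n).toMonoidHom = U := by
    refine eq_of_le_of_card_ge ?_ (le_of_eq (card_map_of_injective (MulAut.conj n).injective).symm)
    rintro _ ⟨e, he, rfl⟩
    exact h e he
  rw [mem_normalizer_iff]
  refine fun e => ⟨h e, fun he => ?_⟩
  obtain ⟨e', he', hee⟩ := (hm.symm ▸ he : n * e * n⁻¹ ∈ U.map (MulAut.conj n).toMonoidHom)
  have : e' = e := mul_left_cancel (mul_right_cancel (show n * e' * n⁻¹ = n * e * n⁻¹ from hee))
  exact this ▸ he'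

namespace Ctx

theorem Q_norm_W (c : Ctx z P E) {A : Subgroup MTwoTwo} (hA : HexLike A) :
    c.twoGrp A hA.1 ≤ normalizer (c.fixB A : Set G) := fun x hx => mem_norm_of fun e he => by
  rw [(c.hex_fix hA).2.2.2 e he x hx, mul_inv_cancel_right]; exact he

theorem mem_vGrp (c : Ctx z P E) {A : Subgroup MTwoTwo} (hA : HexLike A) {v : G} (hv : v ∈ c.vGrp A hA.1) :
    ∃ w ∈ c.fixB A, ∃ y ∈ c.twoGrp A hA.1, v = w * y := by
  rw [vGrp, ← SetLike.mem_coe, Subgroup.coe_mul_of_right_le_normalizer_left _ _ (c.Q_norm_W hA)] at hv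
  obtain ⟨w, hw, y, hy, rfl⟩ := hv
  exact ⟨w, hw, y, hy, rfl⟩

theorem vGrp_comm (c : Ctx z P E) {A : Subgroup MTwoTwo} (hA : HexLike A) {a b : G}
    (ha : a ∈ c.vGrp A hA.1) (hb : b ∈ c.vGrp A hA.1) : a * b = b * a := by
  haveI := (c.vGrp_facts hA).1.1
  exact setLike_mul_comm ha hb

theorem vGrp_sq (c : Ctx z P E) {A : Subgroup MTwoTwo} (hA : HexLike A) {a : G}
    (ha : a ∈ c.vGrp A hA.1) : a * a = 1 := by
  rw [← sq]; exact (c.vGrp_facts hA).1.2 a ha

theorem vGrp_inf_E (c : Ctx z P E) {A : Subgroup MTwoTwo} (hA : HexLike A) {v : G} (hv : v ∈ c.vGrp A hA.1)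
    (hvE : v ∈ E) : v ∈ c.fixB A := by
  obtain ⟨w, hw, y, hy, rfl⟩ := c.mem_vGrp hA hv
  have hyE : y ∈ E := by
    have := mul_mem (inv_mem (c.fixB_le A hw)) hvE
    rwa [inv_mul_cancel_left] at this
  exact mul_mem hw (c.Z_le_fixB A (c.E_inf_cen hyE hy.1))

/-- The action of E on an element above a hexad group. -/
theorem comm_twoGrp (c : Ctx z P E) {A : Subgroup MTwoTwo} (hA : HexData A) {y f : G}
    (hy : y ∈ c.twoGrp A hA.1.1) (hf : f ∈ E) : ⁅f, y⁆ ∈ c.fixB A := by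
  by_cases hyZ : y ∈ zpowers z
  · rw [commutatorElement_eq_one_iff_mul_comm.mpr (c.Z_comm (c.Ez hf) hyZ)]; exact one_mem _
  obtain ⟨hS, hSW, -, -⟩ := c.kernel_facts hA hy hyZ
  rw [← commutatorElement_inv]
  exact inv_mem (hSW ((c.image_eq hy.1.1 hy.2.2).1 f hf))

/-- The elements of cen above the normalizer of A normalize the group of order 2^11. -/
theorem cen_norm_V (c : Ctx z P E) {A : Subgroup MTwoTwo} (hA : HexLike A) {n : G} (hn : n ∈ c.cen)
    (hN : c.val n ∈ normalizer (A : Set MTwoTwo)) : n ∈ normalizer (c.vGrp A hA.1 : Set G) :=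
  mem_norm_of fun v hv => by
    obtain ⟨w, hw, y, hy, rfl⟩ := c.mem_vGrp hA hv
    rw [show n * (w * y) * n⁻¹ = n * w * n⁻¹ * (n * y * n⁻¹) by group]
    exact mul_mem (mem_sup_left (c.fixB_conj hn hN hw)) (mem_sup_right (c.two_conj hn hN hy))

/-- E normalizes the group of order 2^11. -/
theorem E_norm_V (c : Ctx z P E) {A : Subgroup MTwoTwo} (hA : HexData A) {f : G} (hf : f ∈ E) :
    f ∈ normalizer (c.vGrp A hA.1.1 : Set G) :=
  mem_norm_of fun v hv => by
    obtain ⟨w, hw, y, hy, rfl⟩ := c.mem_vGrp hA.1 hv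
    rw [show f * (w * y) * f⁻¹ = ⁅f, w⁆ * w * (⁅f, y⁆ * y) by simp only [commutatorElement_def]; group]
    exact mul_mem (mem_sup_left (mul_mem (c.Z_le_fixB A (c.comm_E hf (c.fixB_le A hw))) hw))
      (mul_mem (mem_sup_left (c.comm_twoGrp hA hy hf)) (mem_sup_right hy))

/-- Two-subgroups of H are conjugate into a Sylow subgroup. -/
theorem into_T (c : Ctx z P E) (T : Sylow 2 G) (hT : (T : Subgroup G) ≤ centralizer ({z} : Set G))
    {X : Subgroup G} (hX : IsPGroup 2 X) (hXH : X ≤ centralizer ({z} : Set G)) :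
    ∃ h ∈ centralizer ({z} : Set G), ∀ x ∈ X, h * x * h⁻¹ ∈ (T : Subgroup G) := by
  classical
  haveI : Fact (Nat.Prime 2) := ⟨Nat.prime_two⟩
  set H := centralizer ({z} : Set G)
  obtain ⟨T', hT'⟩ := (hX.comap_of_injective H.subtype H.subtype_injective).exists_le_sylow
  obtain ⟨g, hg⟩ := MulAction.exists_smul_eq H T' (T.subtype hT)
  refine ⟨g, g.2, fun x hx => ?_⟩
  have h1 : MulAut.conj g ⟨x, hXH hx⟩ ∈ ((T' : Subgroup H).map (MulAut.conj g).toMonoidHom) :=
    ⟨_, hT' (mem_subgroupOf.mpr hx : (⟨x, hXH hx⟩ : H) ∈ X.comap H.subtype), rfl⟩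
  have h2 : ((T' : Subgroup H).map (MulAut.conj g).toMonoidHom) = (T.subtype hT : Subgroup H) := by
    rw [← hg, Sylow.coe_subgroup_smul, Subgroup.pointwise_smul_def]; rfl
  rw [h2] at h1
  exact h1

/-- Conjugates of z in the group of order 2^11 are conjugate in its normalizer. -/
theorem weak_closure (c : Ctx z P E) {A : Subgroup MTwoTwo} (hA : HexLike A) {t : G}
    (ht : t ∈ c.vGrp A hA.1) (hz : c.IsZ t) :
    ∃ n ∈ normalizer (c.vGrp A hA.1 : Set G), n * z * n⁻¹ = t := by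
  classical
  haveI : Fact (Nat.Prime 2) := ⟨Nat.prime_two⟩
  obtain ⟨g, hg⟩ := hz
  set V := c.vGrp A hA.1 with hV
  obtain ⟨hVel, hVcard⟩ := c.vGrp_facts hA
  obtain ⟨T, hT, hET⟩ := c.exists_sylow
  obtain ⟨V1, ⟨-, -, -⟩, huniq⟩ := c.unique_two_eleven T hT hET
  have hzV : z ∈ V := mem_sup_left (c.Z_le_fixB A (mem_zpowers z))
  have key : ∀ X : Subgroup G, IsElementaryAbelian 2 X → Nat.card X = 2 ^ 11 → X ≤ centralizer ({z} : Set G) →
      ∃ h ∈ centralizer ({z} : Set G), X.map (MulAut.conj h).toMonoidHom = V1 := by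
    intro X hel hcard hXH
    obtain ⟨h, hh, hin⟩ := c.into_T T hT (IsPGroup.of_card (n := 11) hcard) hXH
    refine ⟨h, hh, huniq _ ⟨?_, elem_map _ hel, ?_⟩⟩
    · rintro _ ⟨x, hx, rfl⟩; exact hin x hx
    · rw [card_map_of_injective (MulAut.conj h).injective, hcard]
  obtain ⟨h1, hh1, e1⟩ := key V hVel hVcard fun v hv =>
    mem_centralizer_singleton_iff.mpr (c.vGrp_comm hA hv hzV)
  set X := V.map (MulAut.conj g⁻¹).toMonoidHom with hX
  obtain ⟨h2, hh2, e2⟩ := key X (elem_map _ hVel)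
    (by rw [hX, card_map_of_injective (MulAut.conj g⁻¹).injective, hVcard]) (by
      rintro _ ⟨v, hv, rfl⟩
      refine mem_centralizer_singleton_iff.mpr ?_
      show g⁻¹ * v * g⁻¹⁻¹ * z = z * (g⁻¹ * v * g⁻¹⁻¹)
      have h := c.vGrp_comm hA hv ht
      rw [← hg] at h
      calc g⁻¹ * v * g⁻¹⁻¹ * z = g⁻¹ * (v * (g * z * g⁻¹)) * g := by group
        _ = z * (g⁻¹ * v * g⁻¹⁻¹) := by rw [h]; group)
  refine ⟨g * h2⁻¹ * h1, mem_norm_of fun v hv => ?_, ?_⟩
  · have h3 : h1 * v * h1⁻¹ ∈ X.map (MulAut.conj h2).toMonoidHom := e2.symm ▸ e1 ▸ ⟨v, hv, rfl⟩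
    obtain ⟨_, ⟨v', hv', rfl⟩, e⟩ := h3
    have e' : h2 * (g⁻¹ * v' * g⁻¹⁻¹) * h2⁻¹ = h1 * v * h1⁻¹ := e
    rw [show g * h2⁻¹ * h1 * v * (g * h2⁻¹ * h1)⁻¹ = g * h2⁻¹ * (h1 * v * h1⁻¹) * h2 * g⁻¹ by group, ← e',
      show g * h2⁻¹ * (h2 * (g⁻¹ * v' * g⁻¹⁻¹) * h2⁻¹) * h2 * g⁻¹ = v' by group]
    exact hv'
  · have h3 : h2⁻¹ * h1 * z * (h2⁻¹ * h1)⁻¹ = z := c.Z_conj (mul_mem (inv_mem hh2) hh1) (mem_zpowers z)
    calc g * h2⁻¹ * h1 * z * (g * h2⁻¹ * h1)⁻¹ = g * (h2⁻¹ * h1 * z * (h2⁻¹ * h1)⁻¹) * g⁻¹ := by group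
      _ = t := by rw [h3, hg]

/-- Not all conjugates of z in the group of order 2^11 lie in E. -/
theorem not_in_W (c : Ctx z P E) {A : Subgroup MTwoTwo} (hA : HexData A) {a : G}
    (ha : a ∈ c.vGrp A hA.1.1) (haz : c.IsZ a) (hane : a ≠ z) :
    ∃ t ∈ c.vGrp A hA.1.1, c.IsZ t ∧ t ∉ c.fixB A := by
  classical
  by_contra hall
  push Not at hall
  set V := c.vGrp A hA.1.1 with hV
  set W := c.fixB A with hW
  obtain ⟨hF7, hFc, hFsq, hFQ⟩ := c.hex_fix hA.1
  have hWE := c.fixB_le A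
  have hzW : z ∈ W := c.Z_le_fixB A (mem_zpowers z)
  have hWV : W ≤ V := le_sup_left
  have haW : a ∈ W := hall a ha haz
  have hWab : ∀ x ∈ W, ∀ y ∈ W, x * y = y * x := fun x hx y hy => c.vGrp_comm hA.1 (hWV hx) (hWV hy)
  have hO1 : ∀ x, c.IsZ x → x ≠ 1 := fun x hx h => by
    obtain ⟨g, hg⟩ := hx
    exact c.z_ne_one (conj_eq_one_iff.mp (hg.trans h))
  have hinv : ∀ {n}, n ∈ normalizer (V : Set G) → ∀ {x}, x ∈ W → c.IsZ x → n * x * n⁻¹ ∈ W ∧ c.IsZ (n * x * n⁻¹) :=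
    fun {n} hn {x} hx hz => ⟨hall _ ((mem_normalizer_iff.mp hn x).mp (hWV hx)) (c.isZ_conj hz n), c.isZ_conj hz n⟩
  -- E multiplies a conjugate by z
  have hmulz : ∀ x ∈ W, c.IsZ x → x ≠ z → c.IsZ (z * x) := by
    intro x hx hxz hxne
    obtain ⟨f, hf, hfx⟩ : ∃ f ∈ E, ⁅f, x⁆ ≠ 1 := by
      by_contra hh
      push Not at hh
      have hxc : x ∈ E ⊓ centralizer (E : Set G) :=
        ⟨hWE hx, mem_centralizer_iff.mpr fun f hf => commutatorElement_eq_one_iff_mul_comm.mp (hh f hf)⟩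
      have hcard := c.cent_card le_rfl c.zE
      rw [c.hE] at hcard
      have h4 : Nat.card ↥(E ⊓ centralizer (E : Set G)) = 2 := by omega
      have hsub : zpowers z ≤ E ⊓ centralizer (E : Set G) := zpowers_le.mpr
        ⟨c.zE, mem_centralizer_iff.mpr fun f hf => mem_centralizer_singleton_iff.mp (c.Ez hf)⟩
      rw [← eq_of_le_of_card_ge hsub (by rw [h4, c.card_Z])] at hxc
      exact (c.mem_Z.mp hxc).elim (hO1 x hxz) hxne
    have e : f * x * f⁻¹ = z * x := by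
      rw [← (c.mem_Z.mp (c.comm_E hf (hWE hx))).resolve_left hfx, commutatorElement_def, inv_mul_cancel_right]
    exact e ▸ c.isZ_conj hxz f
  -- the product of two conjugates
  have hprod : ∀ x ∈ W, c.IsZ x → ∀ y ∈ W, c.IsZ y → x ≠ y → c.IsZ (x * y) := by
    intro x hx hxz y hy hyz hxy
    obtain ⟨n, hn, hnx⟩ := c.weak_closure hA.1 (hWV hx) hxz
    obtain ⟨hy'W, hy'z⟩ := hinv (inv_mem hn) hy hyz
    rw [inv_inv] at hy'W hy'z
    have hne : n⁻¹ * y * n ≠ z := fun h => hxy (by rw [← hnx, ← h]; group)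
    have := c.isZ_conj (hmulz _ hy'W hy'z hne) n
    rwa [show n * (z * (n⁻¹ * y * n)) * n⁻¹ = n * z * n⁻¹ * y by group, hnx] at this
  let U : Subgroup G :=
    { carrier := {x | x ∈ W ∧ (x = 1 ∨ c.IsZ x)}
      one_mem' := ⟨one_mem _, Or.inl rfl⟩
      mul_mem' := by
        rintro x y ⟨hx, hx'⟩ ⟨hy, hy'⟩
        refine ⟨mul_mem hx hy, ?_⟩
        rcases hx' with rfl | hx'
        · rw [one_mul]; exact hy'
        rcases hy' with rfl | hy'
        · rw [mul_one]; exact Or.inr hx'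
        by_cases hxy : x = y
        · subst hxy; exact Or.inl (hFsq x hx)
        · exact Or.inr (hprod x hx hx' y hy hy' hxy)
      inv_mem' := by
        rintro x ⟨hx, hx'⟩
        rw [inv_eq_of_mul_eq_one_left (hFsq x hx)]
        exact ⟨hx, hx'⟩ }
  have hUW : U ≤ W := fun x hx => hx.1
  have hzU : zpowers z ≤ U := zpowers_le.mpr ⟨hzW, Or.inr ⟨1, by group⟩⟩
  obtain ⟨R, hR, hPR, hR27, hnab, hRN⟩ := c.exists_R hA.1
  have hUR : ∀ r ∈ R, ∀ e ∈ U, r * e * r⁻¹ ∈ U := fun r hr e he =>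
    ⟨c.fixB_conj (hR hr) (hRN r hr) he.1,
      he.2.imp (fun h => by rw [h]; group) fun h => c.isZ_conj h r⟩
  have hUeq : U = W := by
    refine eq_of_le_of_card_ge hUW ?_
    have h9 := c.card_mod_nine hR hPR hR27 hnab (hUW.trans hWE) hzU hUR
    obtain ⟨m, -, hmc⟩ := c.card_two_pow (hUW.trans hWE)
    have h7 : m ≤ 7 := (Nat.pow_le_pow_iff_right (show 1 < 2 by norm_num)).mp (hmc ▸ hF7 ▸ card_le_of_le hUW)
    have h3 : 3 ≤ Nat.card U := by
      have hs : (↑({1, z, a} : Finset G) : Set G) ⊆ (U : Set G) := by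
        intro x hx
        simp only [Finset.coe_insert, Finset.coe_singleton, Set.mem_insert_iff, Set.mem_singleton_iff] at hx
        rcases hx with e | e | e <;> rw [SetLike.mem_coe, e]
        exacts [one_mem U, hzU (mem_zpowers z), ⟨haW, Or.inr haz⟩]
      have h := Set.ncard_le_ncard hs (Set.toFinite _)
      rw [Set.ncard_coe_finset, Finset.card_insert_of_notMem, Finset.card_insert_of_notMem, Finset.card_singleton,
        ← Nat.card_coe_set_eq] at h
      · exact h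
      · simpa using Ne.symm hane
      · simp only [Finset.mem_insert, Finset.mem_singleton, not_or]
        exact ⟨c.z_ne_one.symm, fun h => hO1 a haz h.symm⟩
    rw [hmc] at h9 h3 ⊢
    rw [hF7]
    interval_cases m <;> first | (norm_num at h9; done) | (norm_num at h3; done) | norm_num
  have hallW : ∀ x ∈ W, x ≠ 1 → c.IsZ x := fun x hx hx1 => (hUeq.symm ▸ hx : x ∈ U).2.resolve_left hx1
  -- the normalizer of V normalizes W
  have hWinv : ∀ {n}, n ∈ normalizer (V : Set G) → ∀ {x}, x ∈ W → n * x * n⁻¹ ∈ W := fun {n} hn {x} hx => by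
    by_cases hx1 : x = 1
    · rw [hx1, mul_one, mul_inv_cancel]; exact one_mem _
    · exact (hinv hn hx (hallW x hx hx1)).1
  obtain ⟨n, hn, hna⟩ := c.weak_closure hA.1 ha haz
  set u0 := n⁻¹ * z * n with hu0
  have hu0W : u0 ∈ W := by
    have := hWinv (inv_mem hn) hzW
    rwa [inv_inv] at this
  obtain ⟨f, hf, hfu, hfW⟩ : ∃ f ∈ E, ⁅f, u0⁆ = 1 ∧ f ∉ W := by
    by_contra hh
    push Not at hh
    let φ : E →* G :=
      { toFun := fun x => ⁅(x : G), u0⁆
        map_one' := by simp [commutatorElement_def]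
        map_mul' := fun x y => c.comm_mul_left x.2 y.2 (hWE hu0W) }
    have hk : φ.ker.map E.subtype ≤ W := by
      rintro _ ⟨x, hx, rfl⟩; exact hh x x.2 hx
    have h1 := Subgroup.card_mul_index φ.ker
    rw [Subgroup.index_ker, c.hE] at h1
    have h2 : Nat.card φ.range ≤ 2 := by
      rw [← c.card_Z]; exact card_le_of_le (by rintro _ ⟨x, rfl⟩; exact c.comm_E x.2 (hWE hu0W))
    have h3 := card_le_of_le hk
    rw [card_map_of_injective E.subtype_injective, hF7] at h3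
    have := Nat.mul_le_mul h3 h2
    omega
  set τ := n * f * n⁻¹ with hτ
  have hfu' : f * u0 * f⁻¹ = u0 := by
    rw [commutatorElement_eq_one_iff_mul_comm.mp hfu, mul_inv_cancel_right]
  have hτH : τ ∈ centralizer ({z} : Set G) := by
    refine mem_centralizer_singleton_iff.mpr (mul_inv_eq_iff_eq_mul.mp ?_)
    calc τ * z * τ⁻¹ = n * (f * u0 * f⁻¹) * n⁻¹ := by rw [hτ, hu0]; group
      _ = z := by rw [hfu', hu0]; group
  -- the action of τ on W
  have hτW : ∀ w ∈ W, ⁅τ, w⁆ = 1 ∨ ⁅τ, w⁆ = a := by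
    intro w hw
    have hw' := hWinv (inv_mem hn) hw
    rw [inv_inv] at hw'
    have e : ⁅τ, w⁆ = n * ⁅f, n⁻¹ * w * n⁆ * n⁻¹ := by rw [hτ]; simp only [commutatorElement_def]; group
    rcases c.mem_Z.mp (c.comm_E hf (hWE hw')) with h | h <;> rw [e, h]
    · exact Or.inl (by group)
    · exact Or.inr hna
  have haZ : a ∉ zpowers z := fun h => (c.mem_Z.mp h).elim (hO1 a haz) hane
  let χ : W →* G :=
    { toFun := fun w => ⁅τ, (w : G)⁆
      map_one' := by simp [commutatorElement_def]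
      map_mul' := fun x y => by
        show ⁅τ, (x : G) * y⁆ = ⁅τ, (x : G)⁆ * ⁅τ, (y : G)⁆
        have hy' : ⁅τ, (y : G)⁆ ∈ W := by
          rcases hτW y y.2 with h | h <;> rw [h]
          exacts [one_mem _, haW]
        rw [commutatorElement_mul_right_eq_mul_conj, mul_assoc _ (x : G), mul_assoc ⁅τ, (x : G)⁆,
          hWab x x.2 _ hy', mul_inv_cancel_right] }
  set Φ := χ.ker.map W.subtype with hΦ
  have hΦiff : ∀ w ∈ W, ⁅τ, w⁆ ∈ zpowers z ↔ w ∈ Φ := by
    intro w hw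
    constructor
    · intro h
      rcases hτW w hw with h' | h'
      · exact ⟨⟨w, hw⟩, h', rfl⟩
      · exact absurd (h' ▸ h) haZ
    · rintro ⟨w', hw', rfl⟩
      rw [show ⁅τ, (W.subtype w' : G)⁆ = 1 from hw']; exact one_mem _
  have hΦcard : 64 ≤ Nat.card Φ ∧ Nat.card Φ ≠ 128 := by
    rw [hΦ, card_map_of_injective W.subtype_injective]
    have h1 := Subgroup.card_mul_index χ.ker
    rw [Subgroup.index_ker, hF7] at h1
    have h2 : Nat.card χ.range ≤ 2 := by
      have hs : (χ.range : Set G) ⊆ {1, a} := by rintro _ ⟨x, rfl⟩; exact hτW x x.2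
      have h := Set.ncard_le_ncard hs (Set.toFinite _)
      rw [← Nat.card_coe_set_eq, Set.ncard_pair (Ne.symm (hO1 a haz))] at h
      exact h
    refine ⟨by have := Nat.mul_le_mul_left (Nat.card χ.ker) h2; omega, fun h128 => ?_⟩
    -- f would centralize W
    refine hfW ?_
    rw [hW, ← hFc]
    refine ⟨hf, mem_centralizer_iff.mpr fun w hw => ?_⟩
    have hker : χ.ker = ⊤ := eq_top_of_card_eq _ (by rw [h128, hF7]; norm_num)
    have hw' := hWinv hn (show w ∈ W from hw)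
    have h : ⁅τ, n * w * n⁻¹⁆ = 1 := by
      have : (⟨_, hw'⟩ : W) ∈ χ.ker := hker ▸ mem_top _
      exact this
    rw [show ⁅τ, n * w * n⁻¹⁆ = n * ⁅f, w⁆ * n⁻¹ by rw [hτ]; simp only [commutatorElement_def]; group] at h
    exact (commutatorElement_eq_one_iff_mul_comm.mp (conj_eq_one_iff.mp h)).symm
  have hΦW : Φ ≤ W := map_subtype_le _
  have hZΦ : zpowers z ≤ Φ := zpowers_le.mpr ((hΦiff z hzW).mp (by
    rw [commutatorElement_eq_one_iff_mul_comm.mpr (mem_centralizer_singleton_iff.mp hτH)]; exact one_mem _))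
  by_cases h0 : τ ∈ c.H0
  · -- an inner element acts as an element commuting with P
    obtain ⟨e, he, x, hx, hτx⟩ := c.decomp τ h0
    have hshift : ∀ u ∈ W, (⁅τ, u⁆ ∈ zpowers z ↔ ⁅x, u⁆ ∈ zpowers z) := by
      intro u hu
      have hxu : ⁅x, u⁆ ∈ E := c.delta_E hx.1 (hWE hu)
      have e1 : ⁅τ, u⁆ = e * ⁅x, u⁆ * e⁻¹ * ⁅e, u⁆ := by rw [hτx]; simp only [commutatorElement_def]; group
      rw [e1]
      constructor
      · intro h
        have h' := (mul_mem_cancel_right (c.comm_E he (hWE hu))).mp h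
        have h'' := c.Z_conj (inv_mem (c.Ez he)) h'
        rw [show e⁻¹ * (e * ⁅x, u⁆ * e⁻¹) * e⁻¹⁻¹ = ⁅x, u⁆ by group] at h''
        rw [h'']; exact h'
      · intro h
        rw [c.Z_conj (c.Ez he) h]
        exact mul_mem h (c.comm_E he (hWE hu))
    have hΦP : ∀ q ∈ P, ∀ u ∈ Φ, q * u * q⁻¹ ∈ Φ := by
      intro q hq u hu
      have hu' := hΦW hu
      refine (hΦiff _ (c.fixB_P hq hu')).mp ((hshift _ (c.fixB_P hq hu')).mpr ?_)
      have h := (hshift u hu').mp ((hΦiff u hu').mpr hu)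
      rw [c.delta_P (c.cen_comm hx hq), c.Z_conj (c.P_le hq) h]
      exact h
    have h3 := c.three_dvd (hΦW.trans hWE) hZΦ hΦP
    obtain ⟨m, -, hm⟩ := c.card_two_pow (hΦW.trans hWE)
    have h7 : m ≤ 7 := (Nat.pow_le_pow_iff_right (show 1 < 2 by norm_num)).mp (hm ▸ hF7 ▸ card_le_of_le hΦW)
    rw [hm] at h3 hΦcard
    interval_cases m <;> first | (norm_num at h3; done) | (norm_num at hΦcard; done)
  · have h := c.outer_fix hτH h0 hWE (c.Z_le_fixB A) (fun q hq u hu => c.fixB_P hq hu) hΦW hZΦ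
      fun u hu => (hΦiff u (hΦW hu)).mpr hu
    rw [hF7] at h
    have := Nat.mul_le_mul hΦcard.1 hΦcard.1
    omega

end Ctx

end CfsgLib.JankoFour
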