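/-
Some conjugate of the central involution lies in the 2-part above a hexad group, outside the centre.
-/
import Cfsg.Agent.Lib.JankoFour.WeakClos

set_option autoImplicit false

namespace CfsgLib.JankoFour

open Cfsg Subgroup
open scoped commutatorElement

universe u

/-- The orbit congruence for a p-group acting by conjugation on a set. -/
theorem orbit_mod {G : Type*} [Group G] [Finite G] {p : ℕ} [Fact p.Prime] (K : Subgroup G) (hK : IsPGroup p K)
    (S : Set G) (hS : ∀ k ∈ K, ∀ x ∈ S, k * x * k⁻¹ ∈ S) :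
    Nat.card S ≡ Nat.card ↥{x : G | x ∈ S ∧ ∀ k ∈ K, k * x * k⁻¹ = x} [MOD p] := by
  letI : MulAction K S :=
    { smul := fun k x => ⟨k * x * (k : G)⁻¹, hS k k.2 x x.2⟩
      one_smul := fun x => Subtype.ext (by show (1 : G) * x * (1 : G)⁻¹ = x; group)
      mul_smul := fun a b x => Subtype.ext (by
        show ((a : G) * b) * x * ((a : G) * b)⁻¹ = a * (b * x * (b : G)⁻¹) * (a : G)⁻¹; group) }
  refine (hK.card_modEq_card_fixedPoints S).trans ?_
  rw [Nat.card_congr (β := ↥{x : G | x ∈ S ∧ ∀ k ∈ K, k * x * k⁻¹ = x}) (α := MulAction.fixedPoints K S)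
    { toFun := fun x => ⟨x.1.1, x.1.2, fun k hk => congrArg Subtype.val (x.2 ⟨k, hk⟩)⟩
      invFun := fun x => ⟨⟨x.1, x.2.1⟩, fun k => Subtype.ext (x.2.2 k k.2)⟩
      left_inv := fun x => rfl
      right_inv := fun x => rfl }]

/-- A prime dividing 1441 + m modulo which two has large order, for the possible m. -/
theorem arith_orbit : ∀ m ≤ 126, m % 3 = 0 → m % 5 ≤ 1 →
    ∃ q < 1568, q ∣ 1441 + m ∧ (q = 131 ∨ q = 1447 ∨ q = 13 ∨ q = 1471 ∨ q = 211 ∨ q = 743 ∨ q = 373 ∨
      q = 137 ∨ q = 761 ∨ q = 1531 ∨ q = 29 ∨ q = 223 ∨ q = 1567 ∨ q = 43 ∨ q = 19 ∨ q = 379 ∨ q = 773 ∨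
      q = 97) := by
  intro m hm h3 h5
  have hmem : m ∈ [0, 6, 15, 21, 30, 36, 45, 51, 60, 66, 75, 81, 90, 96, 105, 111, 120, 126] := by
    interval_cases m <;> first | decide | omega
  fin_cases hmem
  exacts [⟨131, by norm_num⟩, ⟨1447, by norm_num⟩, ⟨13, by norm_num⟩, ⟨43, by norm_num⟩, ⟨1471, by norm_num⟩,
    ⟨211, by norm_num⟩, ⟨743, by norm_num⟩, ⟨373, by norm_num⟩, ⟨19, by norm_num⟩, ⟨137, by norm_num⟩,
    ⟨379, by norm_num⟩, ⟨761, by norm_num⟩, ⟨1531, by norm_num⟩, ⟨29, by norm_num⟩, ⟨773, by norm_num⟩,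
    ⟨97, by norm_num⟩, ⟨223, by norm_num⟩, ⟨1567, by norm_num⟩]

/-- No element of prime order q acts nontrivially on 2^11 when q divides no 2^k - 1 with k at most eleven. -/
theorem no_aut {V : Type*} [Group V] [Finite V] (hV : Nat.card V = 2 ^ 11) {q : ℕ} (hq : q.Prime) (hq2 : q ≠ 2)
    (hk : ∀ k < 11, ¬ q ∣ 2 ^ (k + 1) - 1) (σ : MulAut V) (hσ : σ ^ q = 1) : σ = 1 := by
  classical
  haveI : Fact q.Prime := ⟨hq⟩
  let F : Subgroup V :=
    { carrier := {v | σ v = v}
      one_mem' := map_one σ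
      mul_mem' := fun {a b} (ha : σ a = a) (hb : σ b = b) => by show σ (a * b) = a * b; rw [map_mul, ha, hb]
      inv_mem' := fun {a} (ha : σ a = a) => by show σ a⁻¹ = a⁻¹; rw [map_inv, ha] }
  have hK : IsPGroup q (zpowers σ) := by
    rintro ⟨x, hx⟩
    obtain ⟨i, rfl⟩ := mem_zpowers_iff.mp hx
    exact ⟨1, Subtype.ext (by
      rw [pow_one, coe_pow]
      show (σ ^ i) ^ q = 1
      rw [← zpow_natCast, ← zpow_mul, mul_comm, zpow_mul, zpow_natCast, hσ, one_zpow])⟩
  have h := hK.card_modEq_card_fixedPoints V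
  have e : MulAction.fixedPoints (zpowers σ) V = (F : Set V) := by
    ext v
    rw [MulAction.mem_fixedPoints]
    constructor
    · intro h; exact h ⟨σ, mem_zpowers σ⟩
    · rintro (hv : σ v = v) ⟨x, hx⟩
      obtain ⟨i, rfl⟩ := mem_zpowers_iff.mp hx
      show (σ ^ i) • v = v
      exact MulAction.mem_stabilizer_iff.mp ((MulAction.stabilizer (MulAut V) v).zpow_mem
        (MulAction.mem_stabilizer_iff.mpr hv) i)
  rw [e, hV] at h
  change 2 ^ 11 ≡ Nat.card F [MOD q] at h
  obtain ⟨j, hj, hjc⟩ := (Nat.dvd_prime_pow Nat.prime_two).mp (hV ▸ card_subgroup_dvd_card F)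
  rcases eq_or_lt_of_le hj with rfl | hlt
  · have hF : F = ⊤ := eq_top_of_card_eq _ (by rw [hjc, hV])
    ext v
    exact (hF ▸ mem_top v : v ∈ F)
  · exfalso
    rw [hjc] at h
    have hd : q ∣ 2 ^ j * (2 ^ (11 - j) - 1) := by
      rw [Nat.mul_sub, mul_one, ← pow_add, Nat.add_sub_cancel' hj]
      exact (Nat.modEq_iff_dvd' (Nat.pow_le_pow_right (by norm_num) hj)).mp h.symm
    rcases (Nat.Prime.dvd_mul hq).mp hd with h1 | h1
    · exact hq2 ((Nat.prime_dvd_prime_iff_eq hq Nat.prime_two).mp (hq.dvd_of_dvd_pow h1))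
    · exact hk (10 - j) (by omega) (by rwa [show 10 - j + 1 = 11 - j by omega])

variable {G : Type u} [Group G] [Finite G] {z : G} {P E : Subgroup G}

namespace Ctx

theorem Z_mem_twoGrp (c : Ctx z P E) {A : Subgroup MTwoTwo} (hA : HexLike A) {t : G} (ht : t ∈ zpowers z) :
    t ∈ c.twoGrp A hA.1 :=
  ⟨c.Z_le_cen ht, by rw [c.val_E (c.Z_le ht)]; exact one_mem _, by rw [c.Z_sq ht]; exact one_mem _⟩

/-- A conjugate of z above a hexad group outside the centre. -/
theorem exists_u (c : Ctx z P E) [IsSimpleGroup G] (hG : ¬ IsMulCommutative G) :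
    ∃ A : Subgroup MTwoTwo, ∃ hA : HexData A, ∃ u ∈ c.twoGrp A hA.1.1, u ∉ zpowers z ∧ c.IsZ u := by
  classical
  obtain ⟨A, hA, a, ha, haz, hane⟩ := c.in_V hG
  refine ⟨A, hA, ?_⟩
  by_contra hno
  push Not at hno
  obtain ⟨o, hoV, hoz, hoW⟩ := c.not_in_W hA ha haz hane
  set V := c.vGrp A hA.1.1 with hV
  set W := c.fixB A with hW
  set Q := c.twoGrp A hA.1.1 with hQ
  obtain ⟨hVel, hVcard⟩ := c.vGrp_facts hA.1
  obtain ⟨hF7, hFc, hFsq, hFQ⟩ := c.hex_fix hA.1
  obtain ⟨p, hp, hp1, hgen⟩ := c.exists_gen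
  have hWE : W ≤ E := c.fixB_le A
  have hZW : zpowers z ≤ W := c.Z_le_fixB A
  have hWV : W ≤ V := le_sup_left
  have hQV : Q ≤ V := le_sup_right
  have hO1 : ∀ x, c.IsZ x → x ≠ 1 := fun x hx h => by
    obtain ⟨g, hg⟩ := hx
    exact c.z_ne_one (conj_eq_one_iff.mp (hg.trans h))
  have hpN : c.val p ∈ normalizer (A : Set MTwoTwo) := by rw [c.val_P hp]; exact one_mem _
  have hval : ∀ {w y}, w ∈ W → y ∈ Q → c.val (w * y) = c.val y := fun {w y} hw hy => by
    rw [c.val_mul (c.NH0 (c.EN (hWE hw))) (c.cen_le_H0 hy.1), c.val_E (hWE hw), one_mul]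
  have hval1 : ∀ {y}, y ∈ Q → y ∉ zpowers z → c.val y ≠ 1 := fun {y} hy hyZ h => hyZ (c.two_ker hy h)
  have hwy : ∀ {w y}, w ∈ W → y ∈ Q → y ∉ zpowers z → w * y ∉ W := fun {w y} hw hy hyZ h => by
    have := mul_mem (inv_mem hw) h
    rw [inv_mul_cancel_left] at this
    exact hyZ (c.E_inf_cen (hWE this) hy.1)
  -- every coset meets the conjugates
  have hall : ∀ y ∈ Q, y ∉ zpowers z → ∃ w ∈ W, c.IsZ (w * y) := by
    intro y hy hyZ
    obtain ⟨w0, hw0, y0, hy0, rfl⟩ := c.mem_vGrp hA.1 hoV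
    have hy0Z : y0 ∉ zpowers z := fun h => hoW (mul_mem hw0 (hZW h))
    obtain ⟨n, hn, hny⟩ := hA.1.2.2.2 _ hy0.2.1 _ hy.2.1 (hval1 hy0 hy0Z) (hval1 hy hyZ)
    obtain ⟨n', hn', hvn⟩ := c.exists_val n
    have hn'N : c.val n' ∈ normalizer (A : Set MTwoTwo) := by rw [hvn]; exact hn
    have hy1 : n' * y0 * n'⁻¹ ∈ Q := c.two_conj hn' hn'N hy0
    have ht := c.twoGrp_val_eq hy1 hy (by
      rw [c.val_mul (c.cen_le_H0 (mul_mem hn' hy0.1)) (c.cen_le_H0 (inv_mem hn')), c.val_mul (c.cen_le_H0 hn')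
        (c.cen_le_H0 hy0.1), c.val_inv (c.cen_le_H0 hn'), hvn, hny])
    refine ⟨n' * w0 * n'⁻¹ * (y⁻¹ * (n' * y0 * n'⁻¹)), mul_mem (c.fixB_conj hn' hn'N hw0) (hZW ht), ?_⟩
    have e : n' * w0 * n'⁻¹ * (y⁻¹ * (n' * y0 * n'⁻¹)) * y = n' * (w0 * y0) * n'⁻¹ := by
      rw [mul_assoc _ (y⁻¹ * _), ← c.Z_comm hy.1.1 ht, mul_inv_cancel_left]; group
    rw [e]
    exact c.isZ_conj hoz n'
  -- the coset of y consists of the elements outside S_y
  let Sy : ∀ y, y ∈ Q → Subgroup G := fun y hy => E ⊓ centralizer (c.ker1 hy.1.1 : Set G)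
  have hcoset : ∀ y (hy : y ∈ Q), y ∉ zpowers z → ∀ w ∈ W, (c.IsZ (w * y) ↔ w ∉ Sy y hy) := by
    intro y hy hyZ
    obtain ⟨hS32, hSW, hWK, -⟩ := c.kernel_facts hA hy hyZ
    obtain ⟨him, himsurj⟩ := c.image_eq hy.1.1 hy.2.2
    set S := Sy y hy with hS
    have hfy : ∀ f ∈ E, ⁅f, y⁆ = ⁅y, f⁆ := fun f hf => by
      rw [← commutatorElement_inv y f, inv_eq_of_mul_eq_one_left (hFsq _ (hSW (him f hf)))]
    have hconj : ∀ f ∈ E, ∀ w ∈ W, f * (w * y) * f⁻¹ = ⁅f, w⁆ * ⁅f, y⁆ * w * y := fun f hf w hw => by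
      have h1 : ⁅f, y⁆ * w = w * ⁅f, y⁆ := c.vGrp_comm hA.1 (hWV (c.comm_twoGrp hA hy hf)) (hWV hw)
      rw [mul_assoc ⁅f, w⁆, h1]
      simp only [commutatorElement_def]; group
    have hnot : ∀ w ∈ W, c.IsZ (w * y) → w ∉ S := by
      intro w hw hwz hwS
      obtain ⟨f, hf, hfm⟩ := himsurj w hwS
      have h := c.isZ_conj hwz f
      rw [hconj f hf w hw, hfy f hf] at h
      have h2 : ⁅y, f⁆ * w ∈ zpowers z := by
        rwa [inv_eq_of_mul_eq_one_left (hFsq _ (hSW (him f hf)))] at hfm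
      rw [mul_assoc ⁅f, w⁆] at h
      exact hno _ (mul_mem (c.Z_mem_twoGrp hA.1 (mul_mem (c.comm_E hf (hWE hw)) h2)) hy) (fun hh => hyZ (by
        have := mul_mem (inv_mem (mul_mem (c.comm_E hf (hWE hw)) h2)) hh
        rwa [inv_mul_cancel_left] at this)) h
    intro w hw
    refine ⟨hnot w hw, fun hwS => ?_⟩
    obtain ⟨w1, hw1, hw1z⟩ := hall y hy hyZ
    have hw1S := hnot w1 hw1 hw1z
    -- the translates by S
    have htrans : ∀ x ∈ W, c.IsZ (x * y) → x ∉ S → ∀ s ∈ S, c.IsZ (s * x * y) := by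
      intro x hx hxz hxS s hs
      obtain ⟨f, hf, hfm⟩ := himsurj s hs
      have h := c.isZ_conj hxz f
      rw [hconj f hf x hx, hfy f hf] at h
      rw [inv_eq_of_mul_eq_one_left (hFsq _ (hSW (him f hf)))] at hfm
      -- some element of the kernel moves x
      obtain ⟨f0, hf0, hf0x⟩ : ∃ f0 ∈ c.ker1 hy.1.1, ⁅f0, x⁆ = z := by
        by_contra hh
        push Not at hh
        refine hxS ⟨hWE hx, mem_centralizer_iff.mpr fun f0 hf0 => ?_⟩
        exact commutatorElement_eq_one_iff_mul_comm.mp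
          ((c.mem_Z.mp (c.comm_E (c.ker1_le _ hf0) (hWE hx))).resolve_right (hh f0 hf0))
      have hz' : c.IsZ (z * x * y) := by
        have h0 := c.isZ_conj hxz f0
        rwa [hconj f0 (c.ker1_le _ hf0) x hx, hf0x, commutatorElement_eq_one_iff_mul_comm.mpr
          (c.ker1_comm hy.1 f0 hf0).symm, mul_one] at h0
      have hz2 : c.IsZ (z * ⁅f, x⁆ * ⁅y, f⁆ * x * y) := by
        have hzx : z * x ∈ W := mul_mem (hZW (mem_zpowers z)) hx
        have h0 := c.isZ_conj hz' f
        rw [hconj f hf _ hzx, hfy f hf, c.comm_mul_right c.zE (hWE hx) hf,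
          commutatorElement_eq_one_iff_mul_comm.mpr (mem_centralizer_singleton_iff.mp (c.Ez hf)), one_mul] at h0
        have e : ⁅f, x⁆ * ⁅y, f⁆ * (z * x) * y = z * ⁅f, x⁆ * ⁅y, f⁆ * x * y := by
          rw [← mul_assoc _ z x, c.Z_comm (mul_mem (c.mem_ZH (c.comm_E hf (hWE hx))) (c.Ez (hWE (hSW (him f hf)))))
            (mem_zpowers z)]
          simp only [mul_assoc]
        rwa [e] at h0
      -- s differs from the translation by the centre
      have hd : (⁅f, x⁆ * ⁅y, f⁆)⁻¹ * s ∈ zpowers z := by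
        rw [mul_inv_rev, inv_eq_of_mul_eq_one_left (hFsq _ (hSW (him f hf))), c.Z_inv (c.comm_E hf (hWE hx)),
          c.Z_comm (c.Ez (hWE (hSW (him f hf)))) (c.comm_E hf (hWE hx)), mul_assoc]
        exact mul_mem (c.comm_E hf (hWE hx)) hfm
      rcases c.mem_Z.mp hd with h' | h'
      · rw [← inv_mul_eq_one.mp h']; exact h
      · have e : s = ⁅f, x⁆ * ⁅y, f⁆ * z := by rw [← h', mul_inv_cancel_left]
        rw [e, c.Z_comm (mul_mem (c.mem_ZH (c.comm_E hf (hWE hx))) (c.Ez (hWE (hSW (him f hf))))) (mem_zpowers z),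
          ← mul_assoc z]
        exact hz2
    -- the three cosets
    have hZS : zpowers z ≤ S := zpowers_le.mpr ⟨c.zE, mem_centralizer_iff.mpr fun f hf =>
      mem_centralizer_singleton_iff.mp (c.Ez (c.ker1_le _ hf))⟩
    have hSp : ∀ s ∈ S, p * s * p⁻¹ ∈ S := fun s hs =>
      c.cent_conj (c.P_le hp) (fun f hf => by
        have h := c.ker1_P hy.1 (inv_mem hp) f hf
        rwa [inv_inv] at h) hs
    have hpy : p * y * p⁻¹ = y := by rw [← c.cen_comm hy.1 hp, mul_inv_cancel_right]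
    have hsec := fun {u} (hu : u ∈ E) (h : ⁅p, u⁆ ∈ S) => c.sec_fpf inf_le_left hZS hp hgen hSp hu h
    set w2 := p * w1 * p⁻¹ with hw2
    set w3 := p * w2 * p⁻¹ with hw3
    have hw2W : w2 ∈ W := c.fixB_P hp hw1
    have hw3W : w3 ∈ W := c.fixB_P hp hw2W
    have hpz : ∀ x ∈ W, c.IsZ (x * y) → c.IsZ (p * x * p⁻¹ * y) := fun x _ hx => by
      have h := c.isZ_conj hx p
      rwa [show p * (x * y) * p⁻¹ = p * x * p⁻¹ * (p * y * p⁻¹) by group, hpy] at h
    have hw2z := hpz w1 hw1 hw1z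
    have hw3z := hpz w2 hw2W hw2z
    have d12 : w2 * w1⁻¹ ∉ S := fun h => hw1S (hsec (hWE hw1) (by rwa [commutatorElement_def]))
    have d23 : w3 * w2⁻¹ ∉ S := fun h => hnot w2 hw2W hw2z (hsec (hWE hw2W) (by rwa [commutatorElement_def]))
    have p3 : p * p * p = 1 := c.P_cube hp
    have d13 : w1 * w3⁻¹ ∉ S := fun h => hnot w3 hw3W hw3z (hsec (hWE hw3W) (by
      have e : p * w3 * p⁻¹ = w1 := by
        rw [hw3, hw2, show p * (p * (p * w1 * p⁻¹) * p⁻¹) * p⁻¹ = (p * p * p) * w1 * (p * p * p)⁻¹ by group, p3]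
        group
      rwa [commutatorElement_def, e]))
    -- counting the translates
    let wi : Fin 3 → G := ![w1, w2, w3]
    have hwi : ∀ i, wi i ∈ W ∧ c.IsZ (wi i * y) := by
      intro i; fin_cases i
      exacts [⟨hw1, hw1z⟩, ⟨hw2W, hw2z⟩, ⟨hw3W, hw3z⟩]
    let g : S × Fin 3 → ↥((W : Set G) \ (S : Set G)) := fun x =>
      ⟨x.1 * wi x.2, mul_mem (hSW x.1.2) (hwi x.2).1, fun h => hnot _ (hwi x.2).1 (hwi x.2).2 (by
        have := mul_mem (inv_mem x.1.2) h
        rwa [inv_mul_cancel_left] at this)⟩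
    have hg : Function.Injective g := by
      rintro ⟨s, i⟩ ⟨t, j⟩ hxy
      have e : (s : G) * wi i = t * wi j := congrArg Subtype.val hxy
      have hd : wi i * (wi j)⁻¹ ∈ S := by
        have : wi i * (wi j)⁻¹ = (s : G)⁻¹ * t := by
          rw [eq_inv_mul_iff_mul_eq, ← mul_assoc, e, mul_inv_cancel_right]
        rw [this]; exact mul_mem (inv_mem s.2) t.2
      have hij : i = j := by
        have hsymm : ∀ {u v : G}, u * v⁻¹ ∈ S → v * u⁻¹ ∈ S := fun h => by simpa using inv_mem h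
        fin_cases i <;> fin_cases j <;> first
          | rfl
          | (exact absurd hd d12) | (exact absurd (hsymm hd) d12)
          | (exact absurd hd d23) | (exact absurd (hsymm hd) d23)
          | (exact absurd hd d13) | (exact absurd (hsymm hd) d13)
      subst hij
      exact Prod.ext (Subtype.ext (mul_right_cancel e)) rfl
    have hcard : Nat.card ↥((W : Set G) \ (S : Set G)) ≤ Nat.card (S × Fin 3) := by
      rw [Nat.card_prod, Nat.card_fin, Nat.card_coe_set_eq, Set.ncard_sdiff (show (S : Set G) ⊆ W from hSW),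
        ← Nat.card_coe_set_eq, ← Nat.card_coe_set_eq]
      show Nat.card W - Nat.card S ≤ Nat.card S * 3
      have e : Nat.card S = 32 := hS32
      rw [hF7, e]; norm_num
    obtain ⟨⟨s, i⟩, hsi⟩ :=
      (Function.Injective.bijective_of_nat_card_le hg hcard).2 ⟨w, hw, hwS⟩
    have e : (s : G) * wi i = w := congrArg Subtype.val hsi
    rw [← e]
    exact htrans _ (hwi i).1 (hwi i).2 (hnot _ (hwi i).1 (hwi i).2) s s.2
  -- the conjugates outside W
  set O : Set G := {t | t ∈ V ∧ c.IsZ t} with hO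
  have hT : Nat.card ↥(O \ (W : Set G)) = 1440 := by
    let ι := {a : MTwoTwo // a ∈ A ∧ a ≠ 1}
    have hι : Nat.card ι = 15 := by
      have e : Nat.card ι = Nat.card ↥((A : Set MTwoTwo) \ {1}) := Nat.card_congr
        ⟨fun x => ⟨x.1, x.2.1, x.2.2⟩, fun x => ⟨x.1, x.2.1, x.2.2⟩, fun x => rfl, fun x => rfl⟩
      rw [e, Nat.card_coe_set_eq, Set.ncard_sdiff (Set.singleton_subset_iff.mpr (one_mem A)), Set.ncard_singleton,
        ← Nat.card_coe_set_eq, SetLike.coe_sort_coe, hA.1.2.1]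
    have lift : ∀ i : ι, ∃ x, x ∈ Q ∧ x ∉ zpowers z ∧ c.val x = i.1 := fun i => by
      obtain ⟨x, hx, hv⟩ := c.twoGrp_lift hA.1.1 i.2.1
      exact ⟨x, hx, fun h => i.2.2 (by rw [← hv]; exact c.val_E (c.Z_le h)), hv⟩
    choose yl hyl hylZ hylv using lift
    let g : (Σ i : ι, ↥((W : Set G) \ (Sy (yl i) (hyl i) : Set G))) → ↥(O \ (W : Set G)) := fun x =>
      ⟨x.2.1 * yl x.1, ⟨mul_mem (hWV x.2.2.1) (hQV (hyl x.1)), (hcoset _ (hyl x.1) (hylZ x.1) _ x.2.2.1).mpr x.2.2.2⟩,
        hwy x.2.2.1 (hyl x.1) (hylZ x.1)⟩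
    have hg : Function.Bijective g := by
      constructor
      · rintro ⟨i, w, hw⟩ ⟨j, w', hw'⟩ hxy
        have e : w * yl i = w' * yl j := congrArg Subtype.val hxy
        have hij : i = j := Subtype.ext (by
          rw [← hylv i, ← hylv j, ← hval hw.1 (hyl i), ← hval hw'.1 (hyl j), e])
        subst hij
        have : w = w' := mul_right_cancel e
        subst this
        rfl
      · rintro ⟨t, ⟨htV, htz⟩, htW⟩
        obtain ⟨w, hw, y, hy, rfl⟩ := c.mem_vGrp hA.1 htV
        have hyZ : y ∉ zpowers z := fun h => htW (mul_mem hw (hZW h))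
        set i : ι := ⟨c.val y, hy.2.1, hval1 hy hyZ⟩ with hi
        have hd := c.twoGrp_val_eq hy (hyl i) (hylv i).symm
        set t' := (yl i)⁻¹ * y with ht'
        have hey : w * y = (w * t') * yl i := by
          rw [mul_assoc, ← c.Z_comm (hyl i).1.1 hd, ht', mul_inv_cancel_left]
        have hwt : w * t' ∈ W := mul_mem hw (hZW hd)
        refine ⟨⟨i, w * t', hwt, (hcoset _ (hyl i) (hylZ i) _ hwt).mp (hey ▸ htz)⟩, Subtype.ext ?_⟩
        exact hey.symm
    rw [← Nat.card_eq_of_bijective g hg, Nat.card_sigma]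
    have h96 : ∀ i, Nat.card ↥((W : Set G) \ (Sy (yl i) (hyl i) : Set G)) = 96 := fun i => by
      obtain ⟨hS32, hSW, -, -⟩ := c.kernel_facts hA (hyl i) (hylZ i)
      rw [Nat.card_coe_set_eq, Set.ncard_sdiff (show (Sy (yl i) (hyl i) : Set G) ⊆ W from hSW),
        ← Nat.card_coe_set_eq, ← Nat.card_coe_set_eq]
      show Nat.card W - Nat.card (E ⊓ centralizer (c.ker1 (hyl i).1.1 : Set G) : Subgroup G) = 96
      rw [hF7, hS32]; norm_num
    rw [Finset.sum_congr rfl (fun i _ => h96 i), Finset.sum_const, Finset.card_univ, ← Nat.card_eq_fintype_card,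
      hι]
    rfl
  -- the conjugates in W other than z
  set S0 : Set G := (O ∩ (W : Set G)) \ {z} with hS0
  have hS0E : ∀ x ∈ S0, x ∈ W ∧ x ∉ zpowers z := fun x hx =>
    ⟨hx.1.2, fun h => (c.mem_Z.mp h).elim (hO1 x hx.1.1.2) hx.2⟩
  have hOconj : ∀ {n}, n ∈ normalizer (V : Set G) → ∀ x ∈ O, n * x * n⁻¹ ∈ O := fun {n} hn x hx =>
    ⟨(mem_normalizer_iff.mp hn x).mp hx.1, c.isZ_conj hx.2 n⟩
  have hcenS0 : ∀ {n}, n ∈ c.cen → c.val n ∈ normalizer (A : Set MTwoTwo) → ∀ x ∈ S0, n * x * n⁻¹ ∈ S0 :=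
    fun {n} hn hN x hx => ⟨⟨hOconj (c.cen_norm_V hA.1 hn hN) x hx.1.1, c.fixB_conj hn hN hx.1.2⟩, fun h => hx.2 (by
      have h' : n * x * n⁻¹ = z := h
      have h2 := c.Z_conj (inv_mem hn.1) (mem_zpowers z)
      rw [← h'] at h2
      rw [Set.mem_singleton_iff, ← h', ← h2]; group)⟩
  have hm3 : Nat.card S0 % 3 = 0 := by
    haveI : Fact (Nat.Prime 3) := ⟨Nat.prime_three⟩
    have h := orbit_mod P (IsPGroup.of_card (n := 1) (by rw [c.hP, pow_one])) S0 fun q hq x hx =>
      hcenS0 (c.P_le_cen hq) (by rw [c.val_P hq]; exact one_mem _) x hx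
    have he : Nat.card ↥{x : G | x ∈ S0 ∧ ∀ k ∈ P, k * x * k⁻¹ = x} = 0 := by
      rw [Nat.card_eq_zero]
      refine Or.inl ⟨fun x => (hS0E x.1 x.2.1).2 (c.fpf x.1 (hWE (hS0E x.1 x.2.1).1) fun q hq => ?_)⟩
      exact mul_inv_eq_iff_eq_mul.mp (x.2.2 q hq)
    rw [he] at h
    exact h
  have hmle : Nat.card S0 ≤ 126 := by
    have hs : S0 ⊆ (W : Set G) \ (zpowers z : Set G) := fun x hx => hS0E x hx
    have h := Set.ncard_le_ncard hs (Set.toFinite _)
    rw [Set.ncard_sdiff (show ((zpowers z : Subgroup G) : Set G) ⊆ W from hZW), ← Nat.card_coe_set_eq,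
      ← Nat.card_coe_set_eq, ← Nat.card_coe_set_eq] at h
    change Nat.card S0 ≤ Nat.card W - Nat.card (zpowers z) at h
    rwa [hF7, c.card_Z] at h
  -- an element of order five
  have hm5 : Nat.card S0 % 5 ≤ 1 := by
    haveI : Fact (Nat.Prime 5) := ⟨by norm_num⟩
    obtain ⟨g, hgN, g5, g1⟩ := hA.2.1
    obtain ⟨x, hx, hvx⟩ := c.exists_val g
    set g' := x ^ 6 with hg'
    have hg'c : g' ∈ c.cen := pow_mem hx 6
    have hvg : c.val g' = g := by
      rw [hg', c.val_pow (c.cen_le_H0 hx), hvx, show 6 = 5 + 1 from rfl, pow_succ, g5, one_mul]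
    have hg'5 : g' ^ 5 = 1 := by
      have hker : (⟨x, hx⟩ : c.cen) ^ 5 ∈ c.valHom.ker := MonoidHom.mem_ker.mpr (by
        show c.val (x ^ 5) = 1
        rw [c.val_pow (c.cen_le_H0 hx), hvx, g5])
      have h6 := pow_card_eq_one' (x := (⟨_, hker⟩ : c.valHom.ker))
      rw [c.card_valKer] at h6
      have h6' : (x ^ 5) ^ 6 = 1 := congrArg (fun k : c.valHom.ker => ((k : c.cen) : G)) h6
      rw [hg', ← pow_mul, show 6 * 5 = 5 * 6 from rfl, pow_mul, h6']
    set C := W ⊓ centralizer ({g'} : Set G) with hC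
    have hgW : ∀ w ∈ W, g' * w * g'⁻¹ ∈ W := fun w hw => c.fixB_conj hg'c (by rw [hvg]; exact hgN) hw
    have hK : IsPGroup 5 (zpowers g') := by
      rintro ⟨k, hk⟩
      obtain ⟨i, rfl⟩ := mem_zpowers_iff.mp hk
      exact ⟨1, Subtype.ext (by
        rw [pow_one, coe_pow]
        show (g' ^ i) ^ 5 = 1
        rw [← zpow_natCast, ← zpow_mul, mul_comm, zpow_mul, zpow_natCast, hg'5, one_zpow])⟩
    have hKc : ∀ k ∈ zpowers g', k ∈ c.cen ∧ c.val k ∈ normalizer (A : Set MTwoTwo) := by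
      intro k hk
      have hkc : k ∈ c.cen := zpowers_le.mpr hg'c hk
      refine ⟨hkc, ?_⟩
      have : (⟨k, hkc⟩ : c.cen) ∈ (normalizer (A : Set MTwoTwo)).comap c.valHom := by
        obtain ⟨i, hi⟩ := mem_zpowers_iff.mp hk
        rw [show (⟨k, hkc⟩ : c.cen) = ⟨g', hg'c⟩ ^ i from Subtype.ext (by rw [Subgroup.coe_zpow]; exact hi.symm)]
        exact Subgroup.zpow_mem _ (mem_comap.mpr (by rw [valHom_apply, hvg]; exact hgN)) i
      exact this
    have hfix : ∀ (T : Set G), {x : G | x ∈ T ∧ ∀ k ∈ zpowers g', k * x * k⁻¹ = x} = T ∩ centralizer ({g'} : Set G) := by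
      intro T
      ext v
      constructor
      · rintro ⟨hv, h⟩
        exact ⟨hv, mem_centralizer_singleton_iff.mpr (mul_inv_eq_iff_eq_mul.mp (h g' (mem_zpowers g'))).symm⟩
      · rintro ⟨hv, hvc⟩
        refine ⟨hv, fun k hk => ?_⟩
        obtain ⟨i, rfl⟩ := mem_zpowers_iff.mp hk
        rw [((show Commute g' v from (mem_centralizer_singleton_iff.mp hvc).symm).zpow_left i).eq,
          mul_inv_cancel_right]
    have hW5 := orbit_mod (zpowers g') hK (W : Set G) fun k hk v hv => c.fixB_conj (hKc k hk).1 (hKc k hk).2 hv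
    rw [hfix] at hW5
    change Nat.card W ≡ Nat.card C [MOD 5] at hW5
    have hzC : z ∈ C := ⟨hZW (mem_zpowers z),
      mem_centralizer_singleton_iff.mpr (mem_centralizer_singleton_iff.mp hg'c.1).symm⟩
    obtain ⟨j, hj, hjc⟩ := (Nat.dvd_prime_pow Nat.prime_two).mp (hF7 ▸ card_dvd_of_le (inf_le_left : C ≤ W))
    rw [hF7, hjc] at hW5
    have hC8 : Nat.card C = 8 := by
      have h7 : j ≠ 7 := by
        rintro rfl
        -- g' would centralize E
        have hCW : C = W := eq_of_le_of_card_ge inf_le_left (by rw [hjc, hF7])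
        have hcw : ∀ v ∈ W, g' * v * g'⁻¹ = v := fun v hv => by
          have h : v ∈ centralizer ({g'} : Set G) := (hCW.symm ▸ hv : v ∈ C).2
          rw [← mem_centralizer_singleton_iff.mp h, mul_inv_cancel_right]
        have hd : ∀ e ∈ E, g' * e * g'⁻¹ * e⁻¹ ∈ W := fun e he => by
          rw [hW, ← hFc]
          refine ⟨c.delta_E hg'c.1 he, mem_centralizer_iff.mpr fun v hv => ?_⟩
          have h1 := c.conj_comm hg'c.1 (hWE hv) he
          rw [hcw v hv] at h1
          have h2 : ⁅v, g' * e * g'⁻¹ * e⁻¹⁆ = 1 := by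
            rw [c.comm_mul_right (c.conj_E hg'c.1 he) (inv_mem he) (hWE hv), h1,
              c.comm_swap (hWE hv) (inv_mem he), c.comm_inv_left he (hWE hv), c.comm_swap he (hWE hv),
              c.Z_sq (c.comm_E (hWE hv) he)]
          exact commutatorElement_eq_one_iff_mul_comm.mp h2
        have hcE : ∀ e ∈ E, g' * e * g'⁻¹ = e := fun e he => by
          set w := g' * e * g'⁻¹ * e⁻¹ with hw
          have hw2 : w * w = 1 := hFsq w (hd e he)
          have hwW : w ∈ W := hd e he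
          have he' : g' * e * g'⁻¹ = w * e := by rw [hw]; group
          clear_value w
          have hpow : ∀ n : ℕ, g' ^ n * e * (g' ^ n)⁻¹ = w ^ n * e := by
            intro n
            induction n with
            | zero => simp
            | succ n ih =>
              rw [pow_succ' g', show g' * g' ^ n * e * (g' * g' ^ n)⁻¹ = g' * (g' ^ n * e * (g' ^ n)⁻¹) * g'⁻¹ by
                group, ih, show g' * (w ^ n * e) * g'⁻¹ = g' * w ^ n * g'⁻¹ * (g' * e * g'⁻¹) by group,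
                hcw _ (pow_mem hwW n), he', ← mul_assoc, ← pow_succ]
          have h5 := hpow 5
          rw [hg'5, one_mul, inv_one, mul_one, show w ^ 5 = (w * w) * (w * w) * w by simp only [pow_succ, pow_zero, one_mul, mul_assoc], hw2, one_mul,
            one_mul] at h5
          have : w = 1 := right_eq_mul.mp h5
          rw [he', this, one_mul]
        have := c.cent g' hg'c.1 fun e he => (mul_inv_eq_iff_eq_mul.mp (hcE e he)).symm
        exact g1 (hvg ▸ c.val_E this)
      rw [hjc]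
      interval_cases j <;> first | rfl | (exfalso; revert hW5; decide) | (exfalso; exact h7 rfl)
    -- the fixed conjugates
    have h5 := orbit_mod (zpowers g') hK S0 fun k hk v hv => hcenS0 (hKc k hk).1 (hKc k hk).2 v hv
    rw [hfix] at h5
    set S1 : Set G := S0 ∩ centralizer ({g'} : Set G) with hS1
    have hS1C : S1 ⊆ (C : Set G) \ (zpowers z : Set G) := fun v hv =>
      ⟨⟨(hS0E v hv.1).1, hv.2⟩, (hS0E v hv.1).2⟩
    have h6 : Nat.card S1 ≤ 6 := by
      have h := Set.ncard_le_ncard hS1C (Set.toFinite _)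
      rw [Set.ncard_sdiff (show ((zpowers z : Subgroup G) : Set G) ⊆ C from zpowers_le.mpr hzC),
        ← Nat.card_coe_set_eq, ← Nat.card_coe_set_eq, ← Nat.card_coe_set_eq] at h
      change Nat.card S1 ≤ Nat.card C - Nat.card (zpowers z) at h
      rwa [hC8, c.card_Z] at h
    have hor : Nat.card S1 = 0 ∨ 6 ≤ Nat.card S1 := by
      rcases (S1).eq_empty_or_nonempty with he | ⟨v, hv⟩
      · exact Or.inl (by rw [he]; simp)
      refine Or.inr ?_
      have hpg : p * g' = g' * p := (c.cen_comm hg'c hp).symm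
      have hcl1 : ∀ v ∈ S1, p * v * p⁻¹ ∈ S1 := fun v hv =>
        ⟨hcenS0 (c.P_le_cen hp) hpN v hv.1, by
          have h1 : Commute g' v := (mem_centralizer_singleton_iff.mp hv.2).symm
          exact mem_centralizer_singleton_iff.mpr
            ((((show Commute g' p from hpg.symm).mul_right h1).mul_right
              (show Commute g' p from hpg.symm).inv_right).eq).symm⟩
      have hcl2 : ∀ v ∈ S1, z * v ∈ S1 := by
        intro v hv
        obtain ⟨hvW, hvZ⟩ := hS0E v hv.1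
        obtain ⟨f, hf, hfv⟩ : ∃ f ∈ E, ⁅f, v⁆ = z := by
          by_contra hh
          push Not at hh
          refine hvZ (c.fpf v (hWE hvW) fun q hq => ?_)
          have hvcen : ∀ e ∈ E, e * v = v * e := fun e he => commutatorElement_eq_one_iff_mul_comm.mp
            ((c.mem_Z.mp (c.comm_E he (hWE hvW))).resolve_right (hh e he))
          obtain ⟨hz0, hext⟩ := c.extE
          have hcen : (⟨v, hWE hvW⟩ : E) ∈ center E :=
            Subgroup.mem_center_iff.mpr fun e => Subtype.ext (hvcen e e.2)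
          rcases (hext.center_iff _).mp hcen with e | e
          · rw [show v = 1 from congrArg Subtype.val e]; simp
          · rw [show v = z from congrArg Subtype.val e]; exact c.zP q hq
        have e : f * v * f⁻¹ = z * v := by rw [← hfv, commutatorElement_def, inv_mul_cancel_right]
        refine ⟨⟨⟨e ▸ hOconj (c.E_norm_V hA hf) v hv.1.1.1, mul_mem (hZW (mem_zpowers z)) hvW⟩, fun h => ?_⟩, ?_⟩
        · exact hO1 v hv.1.1.1.2 (mul_eq_left.mp (h : z * v = z))
        · exact mul_mem hzC.2 hv.2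
      set v2 := p * v * p⁻¹ with hv2
      set v3 := p * v2 * p⁻¹ with hv3
      have hv2S := hcl1 v hv
      have hv3S := hcl1 v2 hv2S
      have d : ∀ v ∈ S1, p * v * p⁻¹ ≠ v ∧ p * v * p⁻¹ ≠ z * v := fun v hv => by
        have hnf : ∀ t ∈ zpowers z, p * v * p⁻¹ ≠ t * v := fun t ht h => (hS0E v hv.1).2
          (c.fixed_mem_Z hp hgen (hWE (hS0E v hv.1).1) (by rw [h, mul_inv_cancel_right]; exact ht))
        exact ⟨fun h => hnf 1 (one_mem _) (by rw [one_mul]; exact h), hnf z (mem_zpowers z)⟩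
      have p3 : p * p * p = 1 := c.P_cube hp
      have e31 : p * v3 * p⁻¹ = v := by
        rw [hv3, hv2, show p * (p * (p * v * p⁻¹) * p⁻¹) * p⁻¹ = (p * p * p) * v * (p * p * p)⁻¹ by group, p3]
        group
      let φ : Fin 3 × Fin 2 → S1 := fun x =>
        ⟨(![1, z] x.2) * (![v, v2, v3] x.1), by
          obtain ⟨i, j⟩ := x
          fin_cases i <;> fin_cases j <;>
            simp only [Fin.zero_eta, Fin.mk_one, Fin.reduceFinMk, Matrix.cons_val_zero, Matrix.cons_val_one,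
              Matrix.cons_val, one_mul] <;>
            first | exact hv | exact hv2S | exact hv3S | exact hcl2 _ hv | exact hcl2 _ hv2S | exact hcl2 _ hv3S⟩
      have hφ : Function.Injective φ := by
        obtain ⟨a1, b1⟩ := d v hv
        obtain ⟨a2, b2⟩ := d v2 hv2S
        obtain ⟨a3, b3⟩ := d v3 hv3S
        rw [← hv2] at a1 b1
        rw [← hv3] at a2 b2
        rw [e31] at a3 b3
        have zl : ∀ a b : G, z * a = b → a = z * b := fun a b h => by rw [← h, ← mul_assoc, c.zz, one_mul]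
        have zne : ∀ a : G, z * a ≠ a := fun a h => c.z_ne_one (mul_eq_right.mp h)
        rintro ⟨i, j⟩ ⟨i', j'⟩ h
        have h' := congrArg Subtype.val h
        simp only [φ] at h'
        fin_cases i <;> fin_cases j <;> fin_cases i' <;> fin_cases j' <;>
          simp only [Fin.zero_eta, Fin.mk_one, Fin.reduceFinMk, Matrix.cons_val_zero, Matrix.cons_val_one,
            Matrix.cons_val, one_mul, mul_right_inj] at h' ⊢ <;>
          first
            | (exact absurd h' (zne _)) | (exact absurd h'.symm (zne _))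
            | (exact absurd h' a1) | (exact absurd h'.symm a1) | (exact absurd h' a2) | (exact absurd h'.symm a2)
            | (exact absurd h' a3) | (exact absurd h'.symm a3)
            | (exact absurd h' b1) | (exact absurd h'.symm b1) | (exact absurd h' b2) | (exact absurd h'.symm b2)
            | (exact absurd h' b3) | (exact absurd h'.symm b3)
            | (exact absurd (zl _ _ h') b1) | (exact absurd (zl _ _ h'.symm) b1)
            | (exact absurd (zl _ _ h') b2) | (exact absurd (zl _ _ h'.symm) b2)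
            | (exact absurd (zl _ _ h') b3) | (exact absurd (zl _ _ h'.symm) b3)
            | rfl
      have h := Nat.card_le_card_of_injective φ hφ
      simpa using h
    rcases hor with h0 | h0
    · rw [h0] at h5; exact le_trans (le_of_eq h5) (by norm_num)
    · rw [show Nat.card S1 = 6 by omega] at h5; exact le_of_eq h5
  -- the size of the orbit and an automorphism of large prime order
  have hzO : z ∈ O := ⟨hWV (hZW (mem_zpowers z)), 1, by group⟩
  have hOcard : Nat.card O = 1441 + Nat.card S0 := by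
    have h1 := Set.ncard_inter_add_ncard_sdiff_eq_ncard O (W : Set G) (Set.toFinite _)
    have h2 : S0.ncard + 1 = (O ∩ (W : Set G)).ncard :=
      Set.ncard_sdiff_singleton_add_one (show z ∈ O ∩ (W : Set G) from ⟨hzO, hZW (mem_zpowers z)⟩) (Set.toFinite _)
    rw [← Nat.card_coe_set_eq (O \ (W : Set G)), hT] at h1
    rw [Nat.card_coe_set_eq, Nat.card_coe_set_eq]
    omega
  obtain ⟨q, hq, hqd, hqcases⟩ := arith_orbit _ hmle hm3 hm5
  have hqfacts : q.Prime ∧ q ≠ 2 ∧ ∀ k < 11, ¬ q ∣ 2 ^ (k + 1) - 1 := by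
    rcases hqcases with rfl | rfl | rfl | rfl | rfl | rfl | rfl | rfl | rfl | rfl | rfl | rfl | rfl | rfl | rfl |
      rfl | rfl | rfl <;> exact ⟨by norm_num, by norm_num, by decide⟩
  haveI : Fact q.Prime := ⟨hqfacts.1⟩
  set NV := normalizer (V : Set G) with hNV
  letI : MulAction NV V :=
    { smul := fun n x => ⟨n * x * (n : G)⁻¹, (mem_normalizer_iff.mp n.2 x).mp x.2⟩
      one_smul := fun x => Subtype.ext (by show (1 : G) * x * (1 : G)⁻¹ = x; group)
      mul_smul := fun a b x => Subtype.ext (by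
        show ((a : G) * b) * x * ((a : G) * b)⁻¹ = a * (b * x * (b : G)⁻¹) * (a : G)⁻¹; group) }
  let φ : NV →* MulAut V :=
    { toFun := fun n =>
        { toFun := fun x => n • x
          invFun := fun x => n⁻¹ • x
          left_inv := fun x => inv_smul_smul n x
          right_inv := fun x => smul_inv_smul n x
          map_mul' := fun x y => Subtype.ext (by
            show (n : G) * (x * y) * (n : G)⁻¹ = n * x * (n : G)⁻¹ * (n * y * (n : G)⁻¹); group) }
      map_one' := MulEquiv.ext fun x => one_smul NV x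
      map_mul' := fun a b => MulEquiv.ext fun x => mul_smul a b x }
  have horb : MulAction.orbit φ.range (⟨z, hzO.1⟩ : V) = {x : V | (x : G) ∈ O} := by
    ext x
    constructor
    · rintro ⟨⟨_, n, rfl⟩, rfl⟩
      exact hOconj n.2 z hzO
    · rintro ⟨-, hx⟩
      obtain ⟨n, hn, hnz⟩ := c.weak_closure hA.1 x.2 hx
      exact ⟨⟨_, ⟨n, hn⟩, rfl⟩, Subtype.ext hnz⟩
  have hdvd : q ∣ Nat.card φ.range := by
    refine hqd.trans ?_
    rw [← hOcard]
    have e : Nat.card O = Nat.card (MulAction.orbit φ.range (⟨z, hzO.1⟩ : V)) := by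
      rw [horb]
      exact Nat.card_congr ⟨fun x => ⟨⟨x.1, x.2.1⟩, x.2⟩, fun x => ⟨x.1.1, x.2⟩, fun x => rfl, fun x => rfl⟩
    rw [e, Nat.card_congr (MulAction.orbitEquivQuotientStabilizer φ.range _)]
    exact Subgroup.card_quotient_dvd_card _
  obtain ⟨⟨σ, hσr⟩, hσ⟩ := exists_prime_orderOf_dvd_card' q hdvd
  have hσq : σ ^ q = 1 := by
    have := pow_orderOf_eq_one (⟨σ, hσr⟩ : φ.range)
    rw [hσ] at this
    exact congrArg Subtype.val this
  have h1 := no_aut hVcard hqfacts.1 hqfacts.2.1 hqfacts.2.2 σ hσq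
  subst h1
  rw [show (⟨1, hσr⟩ : φ.range) = 1 from rfl, orderOf_one] at hσ
  exact hqfacts.1.one_lt.ne hσ

end Ctx

end CfsgLib.JankoFour
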