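/-
The central involution is isolated in the centralizer of P.
-/
import Cfsg.Agent.Lib.JankoFour.FusQ
import Cfsg.Agent.Lib.ZStar.Main

set_option autoImplicit false

namespace CfsgLib.JankoFour

open Cfsg Subgroup
open scoped commutatorElement

universe u

variable {G : Type u} [Group G] [Finite G] {z : G} {P E : Subgroup G}

namespace Ctx

/-- Elements of order three stay in N under conjugation by H. -/
theorem P_conj_N (c : Ctx z P E) {h q : G} (hh : h ∈ centralizer ({z} : Set G)) (hq : q ∈ P) :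
    h * q * h⁻¹ ∈ c.N := by
  have key : ∀ e ∈ E, ∀ n, n ∈ P → e * n * e⁻¹ ∈ c.N := fun e he n hn =>
    mul_mem (mul_mem (c.EN he) (c.PN hn)) (inv_mem (c.EN he))
  by_cases h0 : h ∈ c.H0
  · obtain ⟨e, he, x, hx, rfl⟩ := c.decomp h h0
    rw [show e * x * q * (e * x)⁻¹ = e * (x * q * x⁻¹) * e⁻¹ by group, c.cen_comm hx hq, mul_inv_cancel_right]
    exact key e he q hq
  · obtain ⟨e, he, n, hn, rfl, hinv⟩ := c.outer h hh h0
    rw [show e * n * q * (e * n)⁻¹ = e * (n * q * n⁻¹) * e⁻¹ by group, hinv q hq]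
    exact key e he _ (inv_mem hq)

/-- An element of order three in N is conjugate under E to an element of P. -/
theorem three_in_N (c : Ctx z P E) {r : G} (hr : r ∈ c.N) (r3 : r ^ 3 = 1) :
    ∃ a ∈ E, ∃ q ∈ P, r = a * q * a⁻¹ := by
  obtain ⟨e, he, q, hq, rfl⟩ := c.N_decomp hr
  by_cases hq1 : q = 1
  · subst hq1
    rw [mul_one] at r3 ⊢
    have h4 : e ^ 4 = 1 := by
      rw [show 4 = 2 * 2 from rfl, pow_mul, sq, sq]; exact c.Z_sq (c.sq_mem_Z he)
    have : e = 1 := by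
      have := pow_gcd_eq_one.mpr ⟨r3, h4⟩
      simpa using this
    exact ⟨1, one_mem _, 1, one_mem _, by rw [this]; simp⟩
  have hgen : P = zpowers q := by
    refine (eq_of_le_of_card_ge (zpowers_le.mpr hq) ?_).symm
    rw [Nat.card_zpowers, c.hP, orderOf_eq_prime (hp := ⟨Nat.prime_three⟩)
      (by rw [pow_succ, sq]; exact c.P_cube hq) hq1]
  obtain ⟨a, ha, ht⟩ := c.delta_surj le_rfl c.Z_le hq hgen (fun e he => c.conj_E (c.P_le hq) he) e he
  set t := (a⁻¹ * (q * a * q⁻¹))⁻¹ * e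
  have het : e = a⁻¹ * (q * a * q⁻¹) * t := (mul_inv_cancel_left _ _).symm
  have htq : t * q = q * t := (c.Z_comm (c.P_le hq) ht).symm
  have e1 : e * q = a⁻¹ * q * a * t := by
    rw [het, mul_assoc _ t q, htq]; group
  have hc : Commute (a⁻¹ * q * a) t :=
    c.Z_comm (mul_mem (mul_mem (inv_mem (c.Ez ha)) (c.P_le hq)) (c.Ez ha)) ht
  rw [e1, hc.mul_pow] at r3
  have h3 : (a⁻¹ * q * a) ^ 3 = 1 := by
    rw [show (a⁻¹ * q * a) ^ 3 = a⁻¹ * (q * q * q) * a by simp only [pow_succ, pow_zero]; group, c.P_cube hq]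
    group
  rw [h3, one_mul, pow_succ, sq, c.Z_sq ht, one_mul] at r3
  refine ⟨a⁻¹, inv_mem ha, q, hq, ?_⟩
  rw [e1, r3, mul_one, inv_inv]

/-- An involution of cen outside the centre lies above a hexad group. -/
theorem invol_twoGrp (c : Ctx z P E) {t : G} (ht : t ∈ c.cen) (t2 : t * t = 1) :
    t ∈ zpowers z ∨ ∃ A : Subgroup MTwoTwo, ∃ hA : HexData A, t ∈ c.twoGrp A hA.1.1 := by
  refine or_iff_not_imp_left.mpr fun _ => ?_
  have hv : c.val t * c.val t = 1 := by
    rw [← c.val_mul (c.cen_le_H0 ht) (c.cen_le_H0 ht), t2]; exact (c.val_eq_one (one_mem _)).mpr (one_mem _)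
  obtain ⟨A, hA, htA⟩ := hex_of_invol hv
  exact ⟨A, hA, ht, htA, by rw [t2]; exact one_mem _⟩

/-- No element centralizing P takes z above a hexad group outside the centre. -/
theorem no_fuse (c : Ctx z P E) {A : Subgroup MTwoTwo} (hA : HexData A) {g : G}
    (hg : g ∈ centralizer (P : Set G)) (hu : g * z * g⁻¹ ∈ c.twoGrp A hA.1.1)
    (huZ : g * z * g⁻¹ ∉ zpowers z) : False := by
  obtain ⟨p, hp, -, hgen⟩ := c.exists_gen
  set u := g * z * g⁻¹ with hudef
  obtain ⟨-, -, -, hnab⟩ := c.kernel_facts hA hu huZ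
  set K := c.ker1 hu.1.1
  have hgp : g * p = p * g := (mem_centralizer_iff.mp hg p hp).symm
  -- the elements pulled back into E
  set D : Set G := {f | f ∈ E ∧ g⁻¹ * f * g ∈ E} with hD
  have hDab : ∀ a ∈ D, ∀ b ∈ D, a * b = b * a := by
    intro a ha b hb
    refine commutatorElement_eq_one_iff_mul_comm.mp ?_
    rcases c.mem_Z.mp (c.comm_E ha.1 hb.1) with h | h
    · exact h
    · exfalso
      have h' := c.comm_E ha.2 hb.2
      rw [show ⁅g⁻¹ * a * g, g⁻¹ * b * g⁆ = g⁻¹ * ⁅a, b⁆ * g by simp only [commutatorElement_def]; group, h] at h'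
      rcases c.mem_Z.mp h' with e | e
      · exact c.z_ne_one (by rw [show z = g * (g⁻¹ * z * g) * g⁻¹ by group, e]; group)
      · refine huZ ?_
        have : u = z := by
          rw [hudef]
          calc g * z * g⁻¹ = g * (g⁻¹ * z * g) * g⁻¹ := by rw [e]
            _ = z := by group
        rw [this]; exact mem_zpowers z
  have hKD : ∀ f ∈ K, ∃ d ∈ D, ∃ t ∈ zpowers z, f = d * t := by
    intro f hf
    obtain ⟨a, ha, ht⟩ := c.delta_surj (c.ker1_le _) (c.Z_le_ker1 _) hp hgen (fun e he => c.ker1_P hu.1 hp e he) f hf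
    refine ⟨a⁻¹ * (p * a * p⁻¹), ⟨?_, ?_⟩, _, ht, (mul_inv_cancel_left _ _).symm⟩
    · exact mul_mem (inv_mem (c.ker1_le _ ha)) (c.conj_E (c.P_le hp) (c.ker1_le _ ha))
    · have hau : u * a = a * u := c.ker1_comm hu.1 a ha
      have haH : g⁻¹ * a * g ∈ centralizer ({z} : Set G) := mem_centralizer_singleton_iff.mpr (by
        calc g⁻¹ * a * g * z = g⁻¹ * (a * u) * g := by rw [hudef]; group
          _ = z * (g⁻¹ * a * g) := by rw [← hau, hudef]; group)
      have hgp' : g⁻¹ * p = p * g⁻¹ := by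
        rw [inv_mul_eq_iff_eq_mul, ← mul_assoc, hgp, mul_inv_cancel_right]
      have e : g⁻¹ * (a⁻¹ * (p * a * p⁻¹)) * g = ((g⁻¹ * a * g)⁻¹ * p * (g⁻¹ * a * g)⁻¹⁻¹) * p⁻¹ := by
        rw [show g⁻¹ * (a⁻¹ * (p * a * p⁻¹)) * g = g⁻¹ * a⁻¹ * g * (g⁻¹ * p) * a * (p⁻¹ * g) by group, hgp',
          show p⁻¹ * g = g * p⁻¹ by rw [inv_mul_eq_iff_eq_mul, ← mul_assoc, ← hgp, mul_inv_cancel_right]]
        group
      rw [e]
      refine c.N_two (mul_mem (c.P_conj_N (inv_mem haH) hp) (inv_mem (c.PN hp))) 2 ?_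
      rw [← e]
      have h4 : (a⁻¹ * (p * a * p⁻¹)) ^ 4 = 1 := by
        rw [show 4 = 2 * 2 from rfl, pow_mul, sq, sq]
        exact c.Z_sq (c.sq_mem_Z (mul_mem (inv_mem (c.ker1_le _ ha)) (c.conj_E (c.P_le hp) (c.ker1_le _ ha))))
      calc (g⁻¹ * (a⁻¹ * (p * a * p⁻¹)) * g) ^ 2 ^ 2 = g⁻¹ * (a⁻¹ * (p * a * p⁻¹)) ^ 4 * g⁻¹⁻¹ := by
            rw [← conj_pow]; simp
        _ = 1 := by rw [h4]; group
  obtain ⟨a, ha, b, hb, hab⟩ := hnab
  obtain ⟨d, hd, t, ht, rfl⟩ := hKD a ha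
  obtain ⟨d', hd', t', ht', rfl⟩ := hKD b hb
  refine hab ?_
  have c1 : Commute d t := c.Z_comm (c.Ez hd.1) ht
  have c2 : Commute d t' := c.Z_comm (c.Ez hd.1) ht'
  have c3 : Commute d' t := c.Z_comm (c.Ez hd'.1) ht
  have c4 : Commute d' t' := c.Z_comm (c.Ez hd'.1) ht'
  have c5 : Commute t t' := c.Z_comm (c.mem_ZH ht) ht'
  exact (((show Commute d d' from hDab d hd d' hd').mul_right c2).mul_left (c3.symm.mul_right c5)).eq

/-- z is isolated in the centralizer of P. -/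
theorem P_isolated (c : Ctx z P E) {g : G} (hg : g ∈ centralizer (P : Set G))
    (hc : g * z * g⁻¹ * z = z * (g * z * g⁻¹)) : g * z * g⁻¹ = z := by
  have hcen : g * z * g⁻¹ ∈ c.cen := ⟨mem_centralizer_singleton_iff.mpr hc, by
    refine mem_centralizer_iff.mpr fun q hq => ?_
    have h1 : Commute q g := mem_centralizer_iff.mp hg q hq
    have h2 : Commute q z := c.zP q hq
    exact (h1.mul_right h2).mul_right h1.inv_right⟩
  have h2 : g * z * g⁻¹ * (g * z * g⁻¹) = 1 := c.isZ_sq ⟨g, rfl⟩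
  rcases c.invol_twoGrp hcen h2 with hZ | ⟨A, hA, hin⟩
  · rcases c.mem_Z.mp hZ with e | e
    · exact absurd (conj_eq_one_iff.mp e) c.z_ne_one
    · exact e
  by_contra hne
  exact c.no_fuse hA hg hin fun hZ => (c.mem_Z.mp hZ).elim
    (fun e => c.z_ne_one (conj_eq_one_iff.mp e)) hne

/-- The odd core of the centralizer of P. -/
theorem zstar_P (c : Ctx z P E) : ∃ K : Subgroup G, K ≤ centralizer (P : Set G) ∧
    (∀ g ∈ centralizer (P : Set G), ∀ k ∈ K, g * k * g⁻¹ ∈ K) ∧ Odd (Nat.card K) ∧ P ≤ K ∧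
    (∀ g ∈ centralizer (P : Set G), g * z * g⁻¹ * z⁻¹ ∈ K) ∧ ∀ k ∈ K, k * z = z * k → k ∈ P := by
  classical
  set C := centralizer (P : Set G) with hC
  have hzC : z ∈ C := mem_centralizer_iff.mpr fun q hq => c.zP q hq
  have hPC : P ≤ C := fun q hq => (c.P_le_cen hq).2
  let K0 := pPrimeCore 2 C
  have hoz : orderOf (⟨z, hzC⟩ : C) = 2 := by rw [← Subgroup.orderOf_coe]; exact c.oz
  have hiso : IsIsolated (⟨z, hzC⟩ : C) := fun g hcomm => Subtype.ext (c.P_isolated g.2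
    (congrArg Subtype.val hcomm.eq).symm)
  have hK0odd : Odd (Nat.card K0) := CfsgLib.odd_card_oddCore
  refine ⟨K0.map C.subtype, map_subtype_le _, ?_, ?_, ?_, ?_, ?_⟩
  · rintro g hg _ ⟨k, hk, rfl⟩
    exact ⟨⟨g, hg⟩ * k * ⟨g, hg⟩⁻¹, (inferInstance : K0.Normal).conj_mem k hk ⟨g, hg⟩, rfl⟩
  · rw [card_map_of_injective C.subtype_injective]; exact hK0odd
  · intro q hq
    haveI : (P.subgroupOf C).Normal := ⟨fun w hw x => by
      rw [mem_subgroupOf] at hw ⊢
      simp only [Subgroup.coe_mul, Subgroup.coe_inv]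
      rw [← mem_centralizer_iff.mp x.2 _ hw, mul_inv_cancel_right]; exact hw⟩
    refine ⟨⟨q, hPC hq⟩, CfsgLib.le_oddCore (N := P.subgroupOf C) ?_ (mem_subgroupOf.mpr hq), rfl⟩
    rw [Nat.card_congr (subgroupOfEquivOfLe hPC).toEquiv, c.hP]; decide
  · intro g hg
    have h := CfsgLib.ZStar.commutator_mem hoz hiso ⟨g, hg⟩
    refine ⟨_, inv_mem h, ?_⟩
    rw [coe_subtype, Subgroup.coe_inv, Subgroup.coe_mul, Subgroup.coe_mul, Subgroup.coe_mul, Subgroup.coe_inv,
      Subgroup.coe_inv]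
    group
  · rintro _ ⟨k, hk, rfl⟩ hkz
    have hkc : (k : G) ∈ c.cen := ⟨mem_centralizer_singleton_iff.mpr hkz, k.2⟩
    -- the image in M22 is normal of odd order
    let ι : c.cen →* C := Subgroup.inclusion inf_le_right
    let B := (K0.comap ι).map c.valHom
    haveI hBn : B.Normal := Subgroup.Normal.map inferInstance _ c.valHom_surj
    haveI := CfsgGolay.isSimple_sporM22
    have hodd : Odd (Nat.card (K0.comap ι)) :=
      hK0odd.of_dvd_nat (card_comap_dvd_of_injective K0 ι (Subgroup.inclusion_injective _))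
    have hBodd : Odd (Nat.card B) := hodd.of_dvd_nat (card_map_dvd _ _)
    have hv : c.val (k : G) = 1 := by
      have hmem : c.valHom ⟨k, hkc⟩ ∈ B := ⟨⟨k, hkc⟩, hk, rfl⟩
      rcases IsSimpleGroup.eq_bot_or_eq_top_of_normal B hBn with hb | hb
      · rw [hb] at hmem; exact hmem
      · exfalso
        rw [hb, card_top, show Nat.card MTwoTwo = 443520 from CfsgGolay.card_sporM22] at hBodd
        exact absurd hBodd (by decide)
    have hker : (⟨k, hkc⟩ : c.cen) ∈ c.valHom.ker := hv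
    obtain ⟨t, ht, q, hq, e⟩ := c.cen_N hkc ((c.val_eq_one (c.cen_le_H0 hkc)).mp hv)
    -- the order is odd
    have ho : Odd (orderOf (k : G)) := by
      rw [Subgroup.orderOf_coe]
      exact hK0odd.of_dvd_nat (by rw [← Subgroup.orderOf_mk k hk]; exact orderOf_dvd_natCard _)
    obtain ⟨i, hi⟩ := ho
    have hcq : Commute t q := (c.Z_comm (c.P_le hq) ht).symm
    have h6 : (k : G) ^ (2 * i + 1) = 1 := by rw [← hi]; exact pow_orderOf_eq_one _
    rw [e, hcq.mul_pow, pow_succ t, pow_mul t, show t ^ 2 = 1 by rw [sq]; exact c.Z_sq ht, one_pow, one_mul] at h6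
    have htP : t ∈ P := eq_inv_of_mul_eq_one_left h6 ▸ inv_mem (pow_mem hq _)
    show (k : G) ∈ P
    rw [e]; exact mul_mem htP hq

/-- An element of cen of order three outside N is part of a frame. -/
theorem exists_lift_frame (c : Ctx z P E) {r p : G} (hr : r ∈ c.cen) (r3 : r ^ 3 = 1) (hr1 : c.val r ≠ 1)
    (hp : p ∈ P) (hgen : P = zpowers p) : ∃ s ∈ c.cen, s * r * s⁻¹ = r * p := by
  classical
  have hv : c.val r ^ 3 = 1 := by
    rw [← c.val_pow (c.cen_le_H0 hr), r3]; exact (c.val_eq_one (one_mem _)).mpr (one_mem _)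
  obtain ⟨R, hR, hrR⟩ := exists_nine hv
  obtain ⟨S, hSc, hPS, hS27, ⟨a, ha, b, hb, hab⟩, hval, -, hall⟩ := c.cen_nine hR
  have hrS : r ∈ S := hall r hr hrR (by rw [show 9 = 3 * 3 from rfl, pow_mul, r3, one_pow])
  obtain ⟨s, hs, hsr⟩ : ∃ s ∈ S, s * r ≠ r * s := by
    by_contra hh
    push Not at hh
    have hrc : (⟨r, hrS⟩ : S) ∈ center S := Subgroup.mem_center_iff.mpr fun w => Subtype.ext (hh w w.2)
    have hpc : (⟨p, hPS hp⟩ : S) ∈ center S :=
      Subgroup.mem_center_iff.mpr fun w => Subtype.ext (c.cen_comm (hSc w.2) hp)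
    haveI : Fact (Nat.Prime 3) := ⟨Nat.prime_three⟩
    have hcyc : IsCyclic (S ⧸ center S) := by
      obtain ⟨k, hk, hkc⟩ := (Nat.dvd_prime_pow Nat.prime_three).mp
        (show Nat.card (center S) ∣ 3 ^ 3 by rw [show 3 ^ 3 = 27 by norm_num, ← hS27]; exact card_subgroup_dvd_card _)
      have h4 : 3 < Nat.card (center S) := by
        by_contra hle
        have hsub : (zpowers (⟨p, hPS hp⟩ : S)) = center S := by
          refine eq_of_le_of_card_ge (zpowers_le.mpr hpc) ?_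
          rw [Nat.card_zpowers, ← Subgroup.orderOf_coe, ← Nat.card_zpowers, ← hgen, c.hP]; omega
        obtain ⟨i, hi⟩ := mem_zpowers_iff.mp (hsub.symm ▸ hrc)
        have e : p ^ i = r := congrArg Subtype.val hi
        exact hr1 (c.val_P (by rw [hgen, ← e]; exact zpow_mem_zpowers p i))
      have hidx := Subgroup.card_mul_index (center S)
      rw [hkc, hS27] at hidx
      rw [hkc] at h4
      interval_cases k
      · norm_num at h4
      · norm_num at h4
      · exact isCyclic_of_prime_card (p := 3) (by rw [← Subgroup.index_eq_card]; norm_num at hidx ⊢; omega)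
      · haveI : Subsingleton (S ⧸ center S) := (Nat.card_eq_one_iff_unique.mp (by
          rw [← Subgroup.index_eq_card]; norm_num at hidx ⊢; omega)).1
        exact isCyclic_of_subsingleton
    exact hab (congrArg Subtype.val (commutative_of_cyclic_center_quotient (QuotientGroup.mk' (center S))
      (by rw [QuotientGroup.ker_mk']) ⟨a, ha⟩ ⟨b, hb⟩))
  have hk := c.nine_comm_mem hR (hSc hs) hr (hval s hs) hrR
  set k := s * r * s⁻¹ * r⁻¹ with hkdef
  have hkP : k ∈ P := hk (by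
    have hm : ⁅s, r⁆ ∈ S := mul_mem (mul_mem (mul_mem hs hrS) (inv_mem hs)) (inv_mem hrS)
    have h27 := pow_card_eq_one' (x := (⟨_, hm⟩ : S))
    rw [hS27] at h27
    have hker : (⟨_, hSc hm⟩ : c.cen) ∈ c.valHom.ker := by
      show c.valHom ⁅(⟨s, hSc hs⟩ : c.cen), ⟨r, hr⟩⁆ = 1
      rw [map_commutatorElement, commutatorElement_eq_one_iff_mul_comm]
      exact (nine_facts hR).1 _ (hval s hs) _ hrR
    have h6 := pow_card_eq_one' (x := (⟨_, hker⟩ : c.valHom.ker))
    rw [c.card_valKer] at h6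
    have h6' : ⁅s, r⁆ ^ 6 = 1 := congrArg (fun w : c.valHom.ker => ((w : c.cen) : G)) h6
    have h := pow_gcd_eq_one.mpr ⟨(congrArg Subtype.val h27 : ⁅s, r⁆ ^ 27 = 1), h6'⟩
    rw [show 9 = 3 * 3 from rfl, pow_mul, show ⁅s, r⁆ ^ 3 = 1 from h, one_pow])
  have hk1 : k ≠ 1 := fun e => hsr (by
    rw [hkdef, mul_inv_eq_one, mul_inv_eq_iff_eq_mul] at e
    exact e)
  have e1 : s * r * s⁻¹ = r * k := by
    rw [c.cen_comm hr hkP, hkdef]; group
  have p3 : p ^ 3 = 1 := by rw [pow_succ, sq]; exact c.P_cube hp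
  obtain ⟨i, hi⟩ := mem_zpowers_iff.mp (hgen ▸ hkP : k ∈ zpowers p)
  rw [zpow_eq_zpow_emod' i p3] at hi
  have hlt : i % ((3 : ℕ) : ℤ) < 3 := Int.emod_lt_of_pos _ (by norm_num)
  have hge : 0 ≤ i % ((3 : ℕ) : ℤ) := Int.emod_nonneg _ (by norm_num)
  interval_cases hc : i % ((3 : ℕ) : ℤ)
  · exact absurd (by rw [← hi, zpow_zero]) hk1
  · exact ⟨s, hSc hs, by rw [e1, ← hi, zpow_one]⟩
  · refine ⟨s * s, hSc (mul_mem hs hs), ?_⟩
    rw [show s * s * r * (s * s)⁻¹ = s * (s * r * s⁻¹) * s⁻¹ by group, e1,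
      show s * (r * k) * s⁻¹ = s * r * s⁻¹ * (s * k * s⁻¹) by group, e1, c.cen_comm (hSc hs) hkP, mul_inv_cancel_right,
      mul_assoc, ← hi, ← zpow_add]
    norm_num
    rw [pow_succ, p3, one_mul]

end Ctx

end CfsgLib.JankoFour
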