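/-
The centralizer and the normalizer of P lie in the centralizer of the central involution.
-/
import Cfsg.Agent.Lib.JankoFour.NormPBase

set_option autoImplicit false

namespace CfsgLib.JankoFour

open Cfsg Subgroup
open scoped commutatorElement

universe u

variable {G : Type u} [Group G] [Finite G] {z : G} {P E : Subgroup G}

namespace Ctx

/-- An element of cen of order three outside N centralizes a subgroup of E with centre Z. -/
theorem ker1_center (c : Ctx z P E) {r : G} (hr : r ∈ c.cen) (r3 : r ^ 3 = 1) {y : G}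
    (hy : y ∈ c.ker1 hr.1) (hc : ∀ e ∈ c.ker1 hr.1, e * y = y * e) : y ∈ zpowers z := by
  have hyE := c.ker1_le _ hy
  have hry : r * y * r⁻¹ = y := by rw [c.ker1_comm hr y hy, mul_inv_cancel_right]
  refine c.fpf y hyE fun q hq => ?_
  obtain ⟨hz0, hext⟩ := c.extE
  suffices hall : ∀ e ∈ E, ⁅e, y⁆ = 1 by
    have hcen : (⟨y, hyE⟩ : E) ∈ center E := Subgroup.mem_center_iff.mpr fun e =>
      Subtype.ext (commutatorElement_eq_one_iff_mul_comm.mp (hall e e.2))
    rcases (hext.center_iff _).mp hcen with e | e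
    · rw [show y = 1 from congrArg Subtype.val e]; simp
    · rw [show y = z from congrArg Subtype.val e]; exact c.zP q hq
  intro e he
  set e1 := r * e * r⁻¹ with he1
  set e2 := r * e1 * r⁻¹ with he2
  have hE1 : e1 ∈ E := c.conj_E hr.1 he
  have hE2 : e2 ∈ E := c.conj_E hr.1 hE1
  have hE12 : e1 * e2 ∈ E := mul_mem hE1 hE2
  -- the sum over the orbit is fixed
  have hre2 : r * e2 * r⁻¹ = e := by
    rw [he2, he1, show r * (r * (r * e * r⁻¹) * r⁻¹) * r⁻¹ = (r * r * r) * e * (r * r * r)⁻¹ by group,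
      show r * r * r = r ^ 3 by simp only [pow_succ, pow_zero, one_mul], r3]
    group
  have hfix : e * (e1 * e2) ∈ c.ker1 hr.1 := by
    refine c.mem_ker1.mpr ⟨mul_mem he hE12, ?_⟩
    have h1 : r * (e * (e1 * e2)) * r⁻¹ = e1 * e2 * e := by
      rw [show r * (e * (e1 * e2)) * r⁻¹ = (r * e * r⁻¹) * (r * e1 * r⁻¹) * (r * e2 * r⁻¹) by group, hre2, ← he1,
        ← he2]
    rw [commutatorElement_def, h1]
    exact c.comm_E hE12 he |> fun h => by simpa [commutatorElement_def, mul_assoc] using h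
  have h1 : ⁅e1, y⁆ = ⁅e, y⁆ := by rw [← c.conj_comm hr.1 he hyE, hry]
  have h2 : ⁅e2, y⁆ = ⁅e, y⁆ := by rw [← h1, ← c.conj_comm hr.1 hE1 hyE, hry]
  have h := commutatorElement_eq_one_iff_mul_comm.mpr (hc _ hfix)
  rw [c.comm_mul_left he hE12 hyE, c.comm_mul_left hE1 hE2 hyE, h1, h2,
    c.Z_sq (c.comm_E he hyE), mul_one] at h
  exact h

/-- A conjugate of z above a hexad group together with a suitable conjugating element. -/
theorem adjust (c : Ctx z P E) (hinv : ∃ n ∈ centralizer ({z} : Set G), ∀ q ∈ P, n * q * n⁻¹ = q⁻¹)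
    {A : Subgroup MTwoTwo} (hA : HexData A) {u : G} (hu : u ∈ c.twoGrp A hA.1.1) (huZ : u ∉ zpowers z)
    (hz : c.IsZ u) {p : G} (hp : p ∈ P) (hgen : P = zpowers p) :
    ∃ g : G, g * z * g⁻¹ = u ∧ g⁻¹ * p * g ∈ c.cen ∧ c.val (g⁻¹ * p * g) ≠ 1 := by
  classical
  obtain ⟨g, hg⟩ := hz
  obtain ⟨n, hn, hninv⟩ := hinv
  have hpu : p * u = u * p := (c.cen_comm hu.1 hp).symm
  set r := g⁻¹ * p * g with hr
  have hrH : r ∈ centralizer ({z} : Set G) := mem_centralizer_singleton_iff.mpr (by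
    calc r * z = g⁻¹ * (p * u) * g := by rw [hr, ← hg]; group
      _ = z * r := by rw [hpu, hr, ← hg]; group)
  have r3 : r ^ 3 = 1 := by
    rw [hr, show (g⁻¹ * p * g) ^ 3 = g⁻¹ * (p * p * p) * g by simp only [pow_succ, pow_zero]; group, c.P_cube hp]
    group
  have hr0 : r ∈ c.H0 := by
    by_contra hn0
    have h2 : r * r ∈ c.H0 := c.H0two _ hrH hn0 _ hrH hn0
    have : r = r * r * (r * r) := by
      rw [show r * r * (r * r) = r ^ 3 * r by simp only [pow_succ, pow_zero]; group, r3, one_mul]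
    exact hn0 (this ▸ mul_mem h2 h2)
  have hrN : r ∉ c.N := by
    intro hrN
    obtain ⟨a, ha, q, hq, hraq⟩ := c.three_in_N hrN r3
    -- a conjugating element centralizing P
    have key : ∀ g' : G, g' * z * g'⁻¹ = u → g' * p * g'⁻¹ = p → False := fun g' h1 h2 => by
      refine c.no_fuse hA (g := g') (mem_centralizer_iff.mpr fun q' hq' => ?_) (h1.symm ▸ hu) (h1.symm ▸ huZ)
      have hc : Commute g' p := mul_inv_eq_iff_eq_mul.mp h2
      obtain ⟨i, hi⟩ := mem_zpowers_iff.mp (hgen ▸ hq' : q' ∈ zpowers p)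
      rw [← hi]; exact ((hc.zpow_right i).eq).symm
    have h1 : g * a * q * (g * a)⁻¹ = p := by
      rw [show g * a * q * (g * a)⁻¹ = g * (a * q * a⁻¹) * g⁻¹ by group, ← hraq, hr]; group
    have hga : g * a * z * (g * a)⁻¹ = u := by
      rw [show g * a * z * (g * a)⁻¹ = g * (a * z * a⁻¹) * g⁻¹ by group, c.Z_conj (c.Ez ha) (mem_zpowers z), hg]
    have hpp : ∀ q' ∈ P, q' = 1 ∨ q' = p ∨ q' = p⁻¹ := by
      intro q' hq'
      have p3 : p ^ 3 = 1 := by rw [pow_succ, sq]; exact c.P_cube hp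
      obtain ⟨i, hi⟩ := mem_zpowers_iff.mp (hgen ▸ hq' : q' ∈ zpowers p)
      rw [zpow_eq_zpow_emod' i p3] at hi
      have hlt : i % ((3 : ℕ) : ℤ) < 3 := Int.emod_lt_of_pos _ (by norm_num)
      have hge : 0 ≤ i % ((3 : ℕ) : ℤ) := Int.emod_nonneg _ (by norm_num)
      interval_cases hc : i % ((3 : ℕ) : ℤ)
      · exact Or.inl (by rw [← hi, zpow_zero])
      · exact Or.inr (Or.inl (by rw [← hi, zpow_one]))
      · refine Or.inr (Or.inr ?_)
        rw [← hi, eq_inv_iff_mul_eq_one, ← zpow_add_one]; exact_mod_cast p3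
    have hp1 : p ≠ 1 := fun e => by
      have h := c.hP
      rw [hgen, e, zpowers_one_eq_bot, card_bot] at h
      norm_num at h
    rcases hpp q hq with rfl | rfl | rfl
    · exact hp1 (by rw [← h1]; group)
    · exact key _ hga h1
    · refine key (g * a * n) ?_ ?_
      · rw [show g * a * n * z * (g * a * n)⁻¹ = g * a * (n * z * n⁻¹) * (g * a)⁻¹ by group,
          c.Z_conj hn (mem_zpowers z), hga]
      · rw [show g * a * n * p * (g * a * n)⁻¹ = g * a * (n * p * n⁻¹) * (g * a)⁻¹ by group, hninv p hp, h1]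
  -- r fixes a conjugate of p under E
  haveI : Fact (Nat.Prime 3) := ⟨Nat.prime_three⟩
  letI : MulAction E G :=
    { smul := fun e x => e * x * (e : G)⁻¹
      one_smul := fun x => by show (1 : G) * x * (1 : G)⁻¹ = x; group
      mul_smul := fun a b x => by
        show ((a : G) * b) * x * ((a : G) * b)⁻¹ = a * (b * x * (b : G)⁻¹) * (a : G)⁻¹; group }
  set T : Set G := MulAction.orbit E p with hT
  have hK : IsPGroup 3 (zpowers r) := by
    rintro ⟨x, hx⟩
    obtain ⟨i, rfl⟩ := mem_zpowers_iff.mp hx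
    exact ⟨1, Subtype.ext (by
      rw [pow_one, coe_pow]
      show (r ^ i) ^ 3 = 1
      rw [← zpow_natCast, ← zpow_mul, mul_comm, zpow_mul, zpow_natCast, r3, one_zpow])⟩
  have hTinv : ∀ k ∈ zpowers r, ∀ x ∈ T, k * x * k⁻¹ ∈ T := by
    rintro k hk _ ⟨a, rfl⟩
    have hk0 : k ∈ c.H0 := zpowers_le.mpr hr0 hk
    obtain ⟨e, he, x, hx, hke⟩ := c.decomp k hk0
    refine ⟨⟨k * a * k⁻¹ * e, mul_mem (c.conj_E (c.H0le hk0) a.2) he⟩, ?_⟩
    show k * a * k⁻¹ * e * p * (k * a * k⁻¹ * e)⁻¹ = k * (a * p * (a : G)⁻¹) * k⁻¹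
    have h : e * p * e⁻¹ = k * p * k⁻¹ := by
      rw [hke, show e * x * p * (e * x)⁻¹ = e * (x * p * x⁻¹) * e⁻¹ by group, c.cen_comm hx hp,
        mul_inv_cancel_right]
    rw [show k * a * k⁻¹ * e * p * (k * a * k⁻¹ * e)⁻¹ = k * a * k⁻¹ * (e * p * e⁻¹) * (k * a * k⁻¹)⁻¹ by group, h]
    group
  have hmod := orbit_mod (zpowers r) hK T hTinv
  have h3 : ¬ 3 ∣ Nat.card T := by
    intro h
    have hd : Nat.card T ∣ Nat.card E := by
      rw [hT, Nat.card_congr (MulAction.orbitEquivQuotientStabilizer E p)]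
      exact Subgroup.card_quotient_dvd_card _
    rw [c.hE] at hd
    have := (Nat.Prime.dvd_of_dvd_pow Nat.prime_three (h.trans hd))
    norm_num at this
  obtain ⟨⟨x, hxT, hxfix⟩⟩ : Nonempty ↥{x : G | x ∈ T ∧ ∀ k ∈ zpowers r, k * x * k⁻¹ = x} := by
    by_contra hne
    rw [not_nonempty_iff] at hne
    rw [(Nat.card_eq_zero.mpr (Or.inl hne) :
      Nat.card ↥{x : G | x ∈ T ∧ ∀ k ∈ zpowers r, k * x * k⁻¹ = x} = 0)] at hmod
    exact h3 (Nat.modEq_zero_iff_dvd.mp hmod)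
  obtain ⟨⟨a, ha⟩, hax⟩ := hxT
  have hax' : a * p * a⁻¹ = x := hax
  have hrx : r * x * r⁻¹ = x := hxfix r (mem_zpowers r)
  have hc : Commute (a⁻¹ * r * a) p := by
    show a⁻¹ * r * a * p = p * (a⁻¹ * r * a)
    calc a⁻¹ * r * a * p = a⁻¹ * (r * (a * p * a⁻¹) * r⁻¹) * r * a := by group
      _ = p * (a⁻¹ * r * a) := by rw [hax', hrx, ← hax']; group
  have e : (g * a)⁻¹ * p * (g * a) = a⁻¹ * r * a := by rw [hr]; group
  refine ⟨g * a, ?_, ?_, ?_⟩
  · rw [show g * a * z * (g * a)⁻¹ = g * (a * z * a⁻¹) * g⁻¹ by group, c.Z_conj (c.Ez ha) (mem_zpowers z), hg]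
  · rw [e]
    refine ⟨(centralizer ({z} : Set G)).mul_mem ((centralizer ({z} : Set G)).mul_mem
      ((centralizer ({z} : Set G)).inv_mem (c.Ez ha)) hrH) (c.Ez ha), mem_centralizer_iff.mpr fun q hq => ?_⟩
    obtain ⟨i, hi⟩ := mem_zpowers_iff.mp (hgen ▸ hq : q ∈ zpowers p)
    rw [← hi]; exact ((hc.zpow_right i).eq).symm
  · rw [e]
    intro h1
    refine hrN ?_
    have h : a⁻¹ * r * a ∈ c.N :=
      (c.val_eq_one (mul_mem (mul_mem (inv_mem (c.NH0 (c.EN ha))) hr0) (c.NH0 (c.EN ha)))).mp h1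
    have := mul_mem (mul_mem (c.EN ha) h) (inv_mem (c.EN ha))
    rwa [show a * (a⁻¹ * r * a) * a⁻¹ = r by group] at this

/-- A four-fold fact: the centralizer of P lies in H, with the data used to see it. -/
theorem cent_P (c : Ctx z P E) [IsSimpleGroup G] (hG : ¬ IsMulCommutative G)
    (hinv : ∃ n ∈ centralizer ({z} : Set G), ∀ q ∈ P, n * q * n⁻¹ = q⁻¹) :
    centralizer (P : Set G) ≤ centralizer ({z} : Set G) ∧
    ∃ g p : G, p ∈ P ∧ P = zpowers p ∧ g⁻¹ * p * g ∈ c.cen ∧ c.val (g⁻¹ * p * g) ≠ 1 ∧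
      g * z * g⁻¹ ∈ c.cen ∧ g⁻¹ * z * g ∈ c.cen ∧ c.val (g⁻¹ * z * g) ≠ 1 ∧
      g * z * g⁻¹ ∈ ⁅c.cen, c.cen⁆ ∧ g * z * g⁻¹ ∉ zpowers z := by
  classical
  obtain ⟨p, hp, -, hgen⟩ := c.exists_gen
  obtain ⟨A, hA, u, hu, huZ, huz⟩ := c.exists_u hG
  obtain ⟨g, hg, hrcen, hr1⟩ := c.adjust hinv hA hu huZ huz hp hgen
  obtain ⟨K, hKC, hKconj, hKodd, hPK, hKz, hKfix⟩ := c.zstar_P
  set C := centralizer (P : Set G) with hC
  set r := g⁻¹ * p * g with hr
  set z1 := g⁻¹ * z * g with hz1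
  have hrC : ∀ {x}, x ∈ centralizer ({r} : Set G) → g * x * g⁻¹ ∈ C := fun {x} hx =>
    mem_centralizer_iff.mpr fun q hq => by
      obtain ⟨i, hi⟩ := mem_zpowers_iff.mp (hgen ▸ hq : q ∈ zpowers p)
      have hc : Commute p (g * x * g⁻¹) := by
        show p * (g * x * g⁻¹) = g * x * g⁻¹ * p
        calc p * (g * x * g⁻¹) = g * (r * x) * g⁻¹ := by rw [hr]; group
          _ = g * x * g⁻¹ * p := by rw [← mem_centralizer_singleton_iff.mp hx, hr]; group
      rw [← hi]; exact (hc.zpow_left i).eq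
  have r3 : r ^ 3 = 1 := by
    rw [hr, show (g⁻¹ * p * g) ^ 3 = g⁻¹ * (p * p * p) * g by simp only [pow_succ, pow_zero]; group, c.P_cube hp]
    group
  have hz1H : z1 ∈ centralizer ({z} : Set G) := mem_centralizer_singleton_iff.mpr (by
    have h : z * (g * z * g⁻¹) = g * z * g⁻¹ * z := by
      rw [hg]; exact (mem_centralizer_singleton_iff.mp hu.1.1).symm
    calc z1 * z = g⁻¹ * (z * (g * z * g⁻¹)) * g := by rw [hz1]; group
      _ = z * z1 := by rw [h, hz1]; group)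
  have hz1r : z1 * r = r * z1 := by
    rw [hz1, hr, show g⁻¹ * z * g * (g⁻¹ * p * g) = g⁻¹ * (z * p) * g by group, ← c.zP p hp]; group
  have hz1sq : z1 * z1 = 1 := by
    rw [hz1, show g⁻¹ * z * g * (g⁻¹ * z * g) = g⁻¹ * (z * z) * g by group, c.zz]; group
  have hoddinv : ∀ {k : G}, k ∈ K → k * k = 1 → k = 1 := fun {k} hk h2 => by
    obtain ⟨i, hi⟩ := hKodd
    have h := pow_card_eq_one' (x := (⟨k, hk⟩ : K))
    rw [hi] at h
    have h' : k ^ (2 * i + 1) = 1 := congrArg Subtype.val h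
    rwa [pow_succ, pow_mul, sq, h2, one_pow, one_mul] at h'
  -- z1 centralizes the centralizer of r in E
  set D := c.ker1 hrcen.1 with hD
  have hzd : ∀ e ∈ D, z1 * e = e * z1 := by
    intro e he
    have heE := c.ker1_le _ he
    have her : e ∈ centralizer ({r} : Set G) := mem_centralizer_singleton_iff.mpr (c.ker1_comm hrcen e he).symm
    have hk := hKz _ (hrC her)
    set f := e * z1 * e⁻¹ * z1⁻¹ with hf
    have hfE : f ∈ E := by
      rw [hf, show e * z1 * e⁻¹ * z1⁻¹ = e * (z1 * e⁻¹ * z1⁻¹) by group]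
      exact mul_mem heE (c.conj_E hz1H (inv_mem heE))
    have hfK : g * f * g⁻¹ ∈ K := by
      rw [hf, hz1, show g * (e * (g⁻¹ * z * g) * e⁻¹ * (g⁻¹ * z * g)⁻¹) * g⁻¹ =
        g * e * g⁻¹ * z * (g * e * g⁻¹)⁻¹ * z⁻¹ by group]
      exact hk
    have h4 : (g * f * g⁻¹) ^ 4 = 1 := by
      rw [conj_pow, show 4 = 2 * 2 from rfl, pow_mul, sq, sq, c.Z_sq (c.sq_mem_Z hfE)]; group
    have hh2 : g * f * g⁻¹ * (g * f * g⁻¹) = 1 := hoddinv (mul_mem hfK hfK) (by
      rw [← sq, ← sq, ← pow_mul]; exact h4)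
    have h1 : f = 1 := conj_eq_one_iff.mp (hoddinv hfK hh2)
    rw [hf, mul_inv_eq_one, mul_inv_eq_iff_eq_mul] at h1
    exact h1.symm
  have hz1z : z1 ≠ z := fun h => huZ (by
    have e : g * z * g⁻¹ = z := by
      calc g * z * g⁻¹ = g * z1 * g⁻¹ := by rw [h]
        _ = z := by rw [hz1]; group
    rw [← hg, e]; exact mem_zpowers z)
  have hz1E : z1 ∉ E := fun hzE => by
    have hzD : z1 ∈ D := c.mem_ker1.mpr ⟨hzE, by
      rw [commutatorElement_eq_one_iff_mul_comm.mpr hz1r.symm]; exact one_mem _⟩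
    rcases c.mem_Z.mp (c.ker1_center hrcen r3 hzD fun e he => (hzd e he).symm) with h | h
    · exact c.z_ne_one (by rw [show z = g * z1 * g⁻¹ by rw [hz1]; group, h]; group)
    · exact hz1z h
  have hDP : ∀ q ∈ P, ∀ e ∈ D, q * e * q⁻¹ ∈ D := fun q hq e he => c.ker1_P hrcen hq e he
  -- C_E(r) is nonabelian
  obtain ⟨e0, he0, e0', he0', hne0⟩ : ∃ a ∈ D, ∃ b ∈ D, a * b ≠ b * a := by
    by_contra hh
    push Not at hh
    have hDZ : D = zpowers z := le_antisymm (fun y hy => c.ker1_center hrcen r3 hy fun e he => hh e he y hy)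
      (c.Z_le_ker1 _)
    -- then r would act fixed point freely on E modulo the centre
    haveI : Fact (Nat.Prime 3) := ⟨Nat.prime_three⟩
    have hK3 : IsPGroup 3 (zpowers r) := by
      rintro ⟨x, hx⟩
      obtain ⟨i, rfl⟩ := mem_zpowers_iff.mp hx
      exact ⟨1, Subtype.ext (by
        rw [pow_one, coe_pow]
        show (r ^ i) ^ 3 = 1
        rw [← zpow_natCast, ← zpow_mul, mul_comm, zpow_mul, zpow_natCast, r3, one_zpow])⟩
    obtain ⟨s, hs, hsr⟩ := c.exists_lift_frame hrcen r3 hr1 hp hgen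
    have h1 := (Frame.split (c := c) ⟨hrcen, hs, hp, hgen, r3, hsr⟩ le_rfl c.Z_le (fun e he => c.conj_E hrcen.1 he)
      (fun e he => c.conj_E (c.P_le hp) he))
    obtain ⟨h1, h2⟩ := h1
    have h2' := h2 fun e he => c.conj_E hs.1 he
    rw [← h2' 0 (by norm_num) 1 (by norm_num), ← h2' 0 (by norm_num) 2 (by norm_num)] at h1
    have hcard : Nat.card ↥(E ⊓ c.ker1 (Frame.t_mem (c := c) ⟨hrcen, hs, hp, hgen, r3, hsr⟩ 0).1) = 2 := by
      rw [← c.card_Z, ← hDZ, inf_eq_right.mpr (c.ker1_le _), hD]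
      congr 3 <;> simp
    rw [hcard, c.hE] at h1
    norm_num at h1
  have hz10 : z1 ∈ c.H0 := by
    by_contra h0
    refine hne0 (c.Z_comm (c.Ez (c.ker1_le _ he0)) (c.outer_disj hz1H h0 hp hgen (c.ker1_le _ he0') ?_ ?_))
    · rw [commutatorElement_eq_one_iff_mul_comm.mpr (hzd e0' he0')]; exact one_mem _
    · rw [commutatorElement_eq_one_iff_mul_comm.mpr (hzd _ (hDP p hp e0' he0'))]; exact one_mem _
  have hw1 : c.val z1 ≠ 1 := fun h => hz1E (c.N_two ((c.val_eq_one hz10).mp h) 1 (by rw [pow_one, sq]; exact hz1sq))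
  -- the centralizer of u in K
  have huH : u ∈ centralizer ({z} : Set G) := hu.1.1
  have hodd0 : ∀ {x : G}, x ∈ centralizer ({z} : Set G) → (∃ i, x ^ (2 * i + 1) = 1) → x ∈ c.H0 := by
    intro x hx ⟨i, hi⟩
    by_contra h0
    have hsq : x ^ 2 ∈ c.H0 := by rw [sq]; exact c.H0two _ hx h0 _ hx h0
    have h1 : x ^ (2 * i) ∈ c.H0 := by rw [pow_mul]; exact pow_mem hsq i
    rw [pow_succ] at hi
    exact h0 (eq_inv_of_mul_eq_one_right hi ▸ inv_mem h1)
  let L1 : Subgroup G := (K ⊓ centralizer ({u} : Set G)).map (MulAut.conj g⁻¹).toMonoidHom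
  have hL1 : ∀ {x}, x ∈ L1 → g * x * g⁻¹ ∈ K ∧ x ∈ centralizer ({z} : Set G) ∧ x * r = r * x ∧ x ∈ c.H0 := by
    rintro _ ⟨k, hk, rfl⟩
    have hx : g * (g⁻¹ * k * g⁻¹⁻¹) * g⁻¹ = k := by group
    have hH : g⁻¹ * k * g⁻¹⁻¹ ∈ centralizer ({z} : Set G) := mem_centralizer_singleton_iff.mpr (by
      have h := mem_centralizer_singleton_iff.mp hk.2
      rw [← hg] at h
      calc g⁻¹ * k * g⁻¹⁻¹ * z = g⁻¹ * (k * (g * z * g⁻¹)) * g := by group
        _ = z * (g⁻¹ * k * g⁻¹⁻¹) := by rw [h]; group)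
    refine ⟨by show g * (g⁻¹ * k * g⁻¹⁻¹) * g⁻¹ ∈ K; rw [hx]; exact hk.1, hH, ?_, hodd0 hH ?_⟩
    · show g⁻¹ * k * g⁻¹⁻¹ * r = r * (g⁻¹ * k * g⁻¹⁻¹)
      have h := mem_centralizer_iff.mp (hKC hk.1) p hp
      rw [hr, show g⁻¹ * k * g⁻¹⁻¹ * (g⁻¹ * p * g) = g⁻¹ * (k * p) * g by group, ← h]; group
    · obtain ⟨i, hi⟩ := hKodd
      refine ⟨i, ?_⟩
      show (g⁻¹ * k * g⁻¹⁻¹) ^ (2 * i + 1) = 1
      have h := pow_card_eq_one' (x := (⟨k, hk.1⟩ : K))
      rw [hi] at h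
      rw [conj_pow, show k ^ (2 * i + 1) = 1 from congrArg Subtype.val h]; group
  let fL : L1 →* MTwoTwo := c.ψ.comp (Subgroup.inclusion (fun x hx => (hL1 hx).2.2.2 : L1 ≤ c.H0))
  have hfL : ∀ x : L1, fL x = c.val x := fun x => (c.val_eq (hL1 x.2).2.2.2).symm
  have hL1odd : Odd (Nat.card L1) := by
    rw [card_map_of_injective (MulAut.conj g⁻¹).injective]
    exact hKodd.of_dvd_nat (card_dvd_of_le inf_le_left)
  have hrL : r ∈ L1 := ⟨p, ⟨hPK hp, mem_centralizer_singleton_iff.mpr (c.cen_comm hu.1 hp).symm⟩, by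
    show g⁻¹ * p * g⁻¹⁻¹ = r; rw [hr]; group⟩
  have hz1L : ∀ x ∈ L1, z1 * x * z1⁻¹ ∈ L1 := by
    rintro _ ⟨k, hk, rfl⟩
    refine ⟨z * k * z⁻¹, ⟨hKconj z (mem_centralizer_iff.mpr fun q hq => c.zP q hq) k hk.1,
      mem_centralizer_singleton_iff.mpr ?_⟩, ?_⟩
    · have h1 : Commute k u := mem_centralizer_singleton_iff.mp hk.2
      have h2 : Commute z u := (mem_centralizer_singleton_iff.mp huH).symm
      exact (h2.mul_left h1).mul_left h2.inv_left
    · show g⁻¹ * (z * k * z⁻¹) * g⁻¹⁻¹ = z1 * (g⁻¹ * k * g⁻¹⁻¹) * z1⁻¹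
      rw [hz1]; group
  have hwL : ∀ x : L1, c.val z1 * fL x = fL x * c.val z1 := by
    haveI : Fact (Nat.Prime 3) := ⟨Nat.prime_three⟩
    have hvr3 : c.val r ^ 3 = 1 := by
      rw [← c.val_pow (c.cen_le_H0 hrcen), r3]; exact (c.val_eq_one (one_mem _)).mpr (one_mem _)
    have hB3 : IsPGroup 3 fL.range := by
      rcases eq_or_ne (Nat.card fL.range) 1 with h1 | h1
      · exact IsPGroup.of_card (n := 0) (by rw [h1, pow_zero])
      refine IsPGroup.iff_card.mpr ⟨(Nat.card fL.range).primeFactorsList.length,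
        Nat.eq_prime_pow_of_unique_prime_dvd (Nat.pos_of_ne_zero Nat.card_pos.ne').ne' fun {q} hq hdvd => ?_⟩
      rcases prime_cases hq with rfl | rfl | h5
      · exact absurd (even_iff_two_dvd.mpr (hdvd.trans (Subgroup.card_range_dvd fL)))
          (Nat.not_even_iff_odd.mpr hL1odd)
      · rfl
      · haveI := Fact.mk hq
        obtain ⟨⟨_, x, rfl⟩, hx⟩ := exists_prime_orderOf_dvd_card' q hdvd
        rw [← Subgroup.orderOf_coe] at hx
        change orderOf (fL x) = q at hx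
        have := cent_three_prime hvr3 hr1 hq h5 (by rw [← hx]; exact pow_orderOf_eq_one (fL x)) (by
          rw [hfL, ← c.val_mul (hL1 x.2).2.2.2 (c.cen_le_H0 hrcen), ← c.val_mul (c.cen_le_H0 hrcen) (hL1 x.2).2.2.2,
            (hL1 x.2).2.2.1])
        rw [this, orderOf_one] at hx
        exact absurd hx.symm hq.ne_one
    obtain ⟨S, hS⟩ := hB3.exists_le_sylow
    have h9 : Nat.card (S : Subgroup MTwoTwo) = 9 := by
      rw [Sylow.card_eq_multiplicity, factorization_M22.2]; norm_num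
    have hrB : c.val r ∈ fL.range := ⟨⟨r, hrL⟩, hfL _⟩
    intro x
    rcases eq_or_ne (Nat.card fL.range) 9 with hB | hB
    · exfalso
      refine nine_invol hB (i := c.val z1) ?_ hw1 (mem_norm_of ?_) hrB hr1 ?_
      · rw [← c.val_mul hz10 hz10, hz1sq]; exact (c.val_eq_one (one_mem _)).mpr (one_mem _)
      · rintro _ ⟨y, rfl⟩
        refine ⟨⟨_, hz1L y y.2⟩, ?_⟩
        rw [hfL, hfL, c.val_mul (mul_mem hz10 (hL1 y.2).2.2.2) (inv_mem hz10), c.val_mul hz10 (hL1 y.2).2.2.2,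
          c.val_inv hz10]
      · rw [← c.val_mul hz10 (c.cen_le_H0 hrcen), ← c.val_mul (c.cen_le_H0 hrcen) hz10, hz1r]
    · obtain ⟨k, hk2, hk⟩ := (Nat.dvd_prime_pow Nat.prime_three).mp
        (show Nat.card fL.range ∣ 3 ^ 2 from (by norm_num : 3 ^ 2 = 9) ▸ h9 ▸ card_dvd_of_le hS)
      have hk1 : k ≤ 1 := by
        by_contra hh
        rw [show k = 2 by omega] at hk
        exact hB (hk.trans (by norm_num))
      have hgenr : zpowers (c.val r) = fL.range := by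
        refine eq_of_le_of_card_ge (zpowers_le.mpr hrB) ?_
        rw [Nat.card_zpowers, orderOf_eq_prime hvr3 hr1, hk]
        calc 3 ^ k ≤ 3 ^ 1 := Nat.pow_le_pow_right (by norm_num) hk1
          _ = 3 := by norm_num
      obtain ⟨i, hi⟩ := mem_zpowers_iff.mp (hgenr ▸ ⟨x, rfl⟩ : fL x ∈ zpowers (c.val r))
      rw [← hi]
      exact ((show Commute (c.val z1) (c.val r) by
        show c.val z1 * c.val r = c.val r * c.val z1
        rw [← c.val_mul hz10 (c.cen_le_H0 hrcen), ← c.val_mul (c.cen_le_H0 hrcen) hz10, hz1r]).zpow_right i).eq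
  have hKu : ∀ k ∈ K, k * u = u * k → k ∈ P := by
    intro k hk hku
    refine hKfix k hk ?_
    set x := g⁻¹ * k * g with hx
    have hxL : x ∈ L1 := ⟨k, ⟨hk, mem_centralizer_singleton_iff.mpr hku⟩, by
      show g⁻¹ * k * g⁻¹⁻¹ = x; rw [hx]; group⟩
    -- z1 centralizes the part in N
    have hcN : ∀ y ∈ L1, y ∈ c.N → z1 * y * z1⁻¹ = y := by
      intro y hy hyN
      obtain ⟨e, he, q, hq, hyq⟩ := c.N_decomp hyN
      obtain ⟨e1, he1, v, hv, hzv⟩ := c.decomp z1 hz10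
      have hd : z1 * y * z1⁻¹ * y⁻¹ ∈ E := by
        have : z1 * y * z1⁻¹ * y⁻¹ = (z1 * e * z1⁻¹) * (e1 * (v * q * v⁻¹) * e1⁻¹ * q⁻¹) * e⁻¹ := by
          rw [hzv, hyq]; group
        rw [this, c.cen_comm hv hq, mul_inv_cancel_right]
        refine mul_mem (mul_mem (c.conj_E hz1H he) ?_) (inv_mem he)
        rw [show e1 * q * e1⁻¹ * q⁻¹ = e1 * (q * e1⁻¹ * q⁻¹) by group]
        exact mul_mem he1 (c.conj_E (c.P_le hq) (inv_mem he1))
      have hL : z1 * y * z1⁻¹ * y⁻¹ ∈ L1 := mul_mem (hz1L y hy) (inv_mem hy)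
      set d := z1 * y * z1⁻¹ * y⁻¹ with hdd
      have hd1 : g * d * g⁻¹ = 1 := by
        have hdK := (hL1 hL).1
        have h4 : (g * d * g⁻¹) ^ 4 = 1 := by
          rw [conj_pow, show 4 = 2 * 2 from rfl, pow_mul, sq, sq, c.Z_sq (c.sq_mem_Z hd)]; group
        exact hoddinv hdK (hoddinv (mul_mem hdK hdK) (by rw [← sq, ← sq, ← pow_mul]; exact h4))
      exact mul_inv_eq_one.mp (hdd ▸ conj_eq_one_iff.mp hd1)
    set d := z1 * x * z1⁻¹ * x⁻¹ with hdd
    have hdL : d ∈ L1 := mul_mem (hz1L x hxL) (inv_mem hxL)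
    have hdN : d ∈ c.N := by
      have hx0 := (hL1 hxL).2.2.2
      refine (c.val_eq_one (hL1 hdL).2.2.2).mp ?_
      have h := hwL ⟨x, hxL⟩
      rw [hfL] at h
      rw [hdd, c.val_mul (mul_mem (mul_mem hz10 hx0) (inv_mem hz10)) (inv_mem hx0),
        c.val_mul (mul_mem hz10 hx0) (inv_mem hz10), c.val_mul hz10 hx0, c.val_inv hz10, c.val_inv hx0, h,
        mul_inv_cancel_right, mul_inv_cancel]
    have h1 : z1 * x * z1⁻¹ = d * x := by rw [hdd]; group
    have h2 : d * d = 1 := by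
      have h : z1 * (z1 * x * z1⁻¹) * z1⁻¹ = x := by
        rw [show z1 * (z1 * x * z1⁻¹) * z1⁻¹ = (z1 * z1) * x * (z1 * z1)⁻¹ by group, hz1sq]; group
      rw [h1, show z1 * (d * x) * z1⁻¹ = (z1 * d * z1⁻¹) * (z1 * x * z1⁻¹) by group, hcN d hdL hdN, h1,
        ← mul_assoc] at h
      exact mul_eq_right.mp h
    have hd1 : d = 1 := by
      refine conj_eq_one_iff.mp (hoddinv (hL1 hdL).1 ?_ : g * d * g⁻¹ = 1)
      rw [show g * d * g⁻¹ * (g * d * g⁻¹) = g * (d * d) * g⁻¹ by group, h2]; group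
    rw [hd1, one_mul, hz1, hx] at h1
    calc k * z = z * (g * (g⁻¹ * z * g)⁻¹ * g⁻¹) * (k * z) := by group
      _ = z * k := by
        rw [inv_eq_of_mul_eq_one_left (show g⁻¹ * z * g * (g⁻¹ * z * g) = 1 by rw [← hz1]; exact hz1sq)]
        have h3 : z * k * z⁻¹ = k := by
          calc z * k * z⁻¹ = g * (g⁻¹ * z * g * (g⁻¹ * k * g) * (g⁻¹ * z * g)⁻¹) * g⁻¹ := by group
            _ = k := by rw [h1]; group
        rw [mul_inv_eq_iff_eq_mul] at h3
        rw [show g * (g⁻¹ * z * g) * g⁻¹ = z by group, c.zz, one_mul]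
        exact h3.symm
  -- the centralizer of u in C lies in H
  have hCu : ∀ x ∈ C, x * u = u * x → x ∈ c.cen := by
    intro x hx hxu
    refine ⟨mem_centralizer_singleton_iff.mpr ?_, hx⟩
    have hzu : Commute z u := (mem_centralizer_singleton_iff.mp huH).symm
    have hq : x * z * x⁻¹ * z⁻¹ ∈ P := by
      refine hKu _ (hKz x hx) ?_
      have h : Commute x u := hxu
      exact ((((h.mul_left hzu).mul_left h.inv_left).mul_left hzu.inv_left).eq)
    set q := x * z * x⁻¹ * z⁻¹ with hqd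
    have h : q * z * (q * z) = 1 := by
      rw [hqd, show x * z * x⁻¹ * z⁻¹ * z * (x * z * x⁻¹ * z⁻¹ * z) = x * (z * z) * x⁻¹ by group, c.zz]; group
    rw [show q * z * (q * z) = q * (z * q) * z by group, ← c.zP q hq,
      show q * (q * z) * z = q * q * (z * z) by group, c.zz, mul_one] at h
    have h1 : q = 1 := by
      have h3 := c.P_cube hq
      rwa [h, one_mul] at h3
    rw [hqd, mul_inv_eq_one, mul_inv_eq_iff_eq_mul] at h1
    exact h1
  have hp' : g * p * g⁻¹ ∈ c.cen := by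
    refine hCu _ (hrC (mem_centralizer_singleton_iff.mpr (c.cen_comm hrcen hp).symm)) ?_
    rw [← hg, show g * p * g⁻¹ * (g * z * g⁻¹) = g * (p * z) * g⁻¹ by group, c.zP p hp]; group
  have hz1cen : z1 ∈ c.cen := ⟨hz1H, mem_centralizer_iff.mpr fun q hq => by
    obtain ⟨i, hi⟩ := mem_zpowers_iff.mp (hgen ▸ hq : q ∈ zpowers p)
    have hc : Commute p z1 := by
      have h := mem_centralizer_singleton_iff.mp hp'.1
      show p * z1 = z1 * p
      calc p * z1 = g⁻¹ * (g * p * g⁻¹ * z) * g := by rw [hz1]; group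
        _ = z1 * p := by rw [h, hz1]; group
    rw [← hi]; exact (hc.zpow_left i).eq⟩
  -- u is a commutator
  have huD : u ∈ ⁅c.cen, c.cen⁆ := by
    have hin : ∀ e ∈ D, g * e * g⁻¹ ∈ c.cen := fun e he => by
      refine hCu _ (hrC (mem_centralizer_singleton_iff.mpr (c.ker1_comm hrcen e he).symm)) ?_
      rw [← hg, show g * e * g⁻¹ * (g * z * g⁻¹) = g * (e * z) * g⁻¹ by group,
        mem_centralizer_singleton_iff.mp (c.Ez (c.ker1_le _ he))]; group
    have h := commutator_mem_commutator (hin _ he0) (hin _ he0')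
    have hne : ⁅e0, e0'⁆ = z := (c.mem_Z.mp (c.comm_E (c.ker1_le _ he0) (c.ker1_le _ he0'))).resolve_left
      fun h => hne0 (commutatorElement_eq_one_iff_mul_comm.mp h)
    rw [show ⁅g * e0 * g⁻¹, g * e0' * g⁻¹⁆ = g * ⁅e0, e0'⁆ * g⁻¹ by simp only [commutatorElement_def]; group,
      hne, hg] at h
    exact h
  refine ⟨?_, g, p, hp, hgen, hrcen, hr1, hg ▸ hu.1, hz1cen, hw1, hg ▸ huD, hg ▸ huZ⟩
  -- z and u invert K modulo P
  have hinvert : ∀ v ∈ C, v * v = 1 → (∀ k ∈ K, k * v = v * k → k ∈ P) →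
      ∀ k ∈ K, v * k * v⁻¹ * k ∈ P := by
    intro v hv v2 hfix k hk
    have hvinv : v⁻¹ = v := inv_eq_of_mul_eq_one_left v2
    set a := k⁻¹ * (v * k * v⁻¹) with ha
    have haK : a ∈ K := mul_mem (inv_mem hk) (hKconj v hv k hk)
    have hva : v * a * v⁻¹ = a⁻¹ := by
      have h2 : v * (v * k * v⁻¹) * v⁻¹ = k := by
        rw [show v * (v * k * v⁻¹) * v⁻¹ = (v * v) * k * (v * v)⁻¹ by group, v2]; group
      rw [ha, show v * (k⁻¹ * (v * k * v⁻¹)) * v⁻¹ = (v * k * v⁻¹)⁻¹ * (v * (v * k * v⁻¹) * v⁻¹) by group, h2]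
      group
    obtain ⟨i, hi⟩ := hKodd
    have hapow : a ^ (2 * i + 1) = 1 := by
      have h := pow_card_eq_one' (x := (⟨a, haK⟩ : K))
      rw [hi] at h
      exact congrArg Subtype.val h
    set b := a ^ (i + 1) with hb
    have hab : a = b * b := by
      rw [hb, ← pow_add, show i + 1 + (i + 1) = 2 * i + 1 + 1 by ring, pow_succ, hapow, one_mul]
    have hvb : v * b * v⁻¹ = b⁻¹ := by rw [hb, ← conj_pow, hva, inv_pow]
    have hbK : b ∈ K := pow_mem haK _
    have hkv : v * k * v⁻¹ = k * a := by rw [ha]; group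
    have hkb : k * b ∈ P := by
      refine hfix _ (mul_mem hk hbK) ?_
      have h : v * (k * b) * v⁻¹ = k * b := by
        rw [show v * (k * b) * v⁻¹ = (v * k * v⁻¹) * (v * b * v⁻¹) by group, hkv, hvb, hab]; group
      rw [mul_inv_eq_iff_eq_mul] at h
      exact h.symm
    have hc : (k * b) * k = k * (k * b) :=
      mem_centralizer_iff.mp (hKC hk) _ hkb
    have : v * k * v⁻¹ * k = (k * b) * (k * b) := by
      have hbk : b * k = k * b := mul_left_cancel (a := k) (by rw [← mul_assoc, hc])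
      rw [hkv, hab]
      calc k * (b * b) * k = k * b * (b * k) := by group
        _ = _ := by rw [hbk]
    rw [this]; exact mul_mem hkb hkb
  have hzC : z ∈ C := mem_centralizer_iff.mpr fun q hq => c.zP q hq
  have hzinv := hinvert z hzC c.zz fun k hk h => hKfix k hk h
  have huinv := hinvert u hu.1.2 (c.isZ_sq huz) hKu
  -- the elements of cen acting trivially on K modulo P
  let M : Subgroup c.cen :=
    { carrier := {x | ∀ k ∈ K, (x : G) * k * (x : G)⁻¹ * k⁻¹ ∈ P}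
      one_mem' := fun k _ => by simp
      mul_mem' := fun {x y} hx hy k hk => by
        have h1 := hy k hk
        have h2 := hx k hk
        rw [show ((x * y : c.cen) : G) * k * ((x * y : c.cen) : G)⁻¹ * k⁻¹ =
          (x : G) * ((y : G) * k * (y : G)⁻¹ * k⁻¹) * (x : G)⁻¹ * ((x : G) * k * (x : G)⁻¹ * k⁻¹) by
          simp only [Subgroup.coe_mul]; group, c.cen_comm x.2 h1, mul_inv_cancel_right]
        exact mul_mem h1 h2
      inv_mem' := fun {x} hx k hk => by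
        have h := hx _ (hKconj _ (x⁻¹ : c.cen).2.2 k hk)
        have h' := inv_mem h
        simp only [Subgroup.coe_inv] at h'
        rwa [show ((x : G) * ((x : G)⁻¹ * k * (x : G)⁻¹⁻¹) * (x : G)⁻¹ * ((x : G)⁻¹ * k * (x : G)⁻¹⁻¹)⁻¹)⁻¹ =
          (x : G)⁻¹ * k * (x : G)⁻¹⁻¹ * k⁻¹ by group] at h' }
  haveI : M.Normal := ⟨fun m hm x k hk => by
    have h := hm _ (hKconj _ (x⁻¹ : c.cen).2.2 k hk)
    simp only [Subgroup.coe_inv] at h
    simp only [Subgroup.coe_mul, Subgroup.coe_inv]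
    rw [show (x : G) * m * (x : G)⁻¹ * k * ((x : G) * m * (x : G)⁻¹)⁻¹ * k⁻¹ = (x : G) *
      ((m : G) * ((x : G)⁻¹ * k * (x : G)⁻¹⁻¹) * (m : G)⁻¹ * ((x : G)⁻¹ * k * (x : G)⁻¹⁻¹)⁻¹) * (x : G)⁻¹ by group,
      c.cen_comm x.2 h, mul_inv_cancel_right]
    exact h⟩
  have hucen : u * z ∈ c.cen := mul_mem hu.1 (c.Z_le_cen (mem_zpowers z))
  have hPcomm : ∀ {q x}, q ∈ P → x ∈ K → q * x = x * q := fun {q x} hq hx => mem_centralizer_iff.mp (hKC hx) q hq
  have huzM : (⟨u * z, hucen⟩ : c.cen) ∈ M := by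
    intro k hk
    show u * z * k * (u * z)⁻¹ * k⁻¹ ∈ P
    have h1 := hzinv k hk
    set k1 := z * k * z⁻¹
    have hk1 : k1 ∈ K := hKconj z hzC k hk
    have h2 := huinv k1 hk1
    have e : u * z * k * (u * z)⁻¹ * k⁻¹ = (u * k1 * u⁻¹ * k1) * (k1 * k)⁻¹ * (k1⁻¹ * k1) := by
      have e1 : k * k1 = k1 * k := by
        have := hPcomm h1 hk
        calc k * k1 = k * (k1 * k) * k⁻¹ := by group
          _ = k1 * k := by rw [← this, mul_inv_cancel_right]
      rw [mul_inv_rev k1 k, inv_mul_cancel, mul_one,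
        show u * k1 * u⁻¹ * k1 * (k⁻¹ * k1⁻¹) = u * k1 * u⁻¹ * (k1 * k⁻¹ * k1⁻¹) by group,
        show k1 * k⁻¹ * k1⁻¹ = (k1 * k * k1⁻¹)⁻¹ by group, ← e1, mul_inv_cancel_right]
      show u * z * k * (u * z)⁻¹ * k⁻¹ = u * (z * k * z⁻¹) * u⁻¹ * k⁻¹
      group
    rw [e, inv_mul_cancel, mul_one]
    exact mul_mem h2 (inv_mem h1)
  have hvuz : c.val (u * z) ≠ 1 := by
    rw [c.val_mul (c.cen_le_H0 hu.1) c.z_H0, c.val_E c.zE, mul_one]
    exact fun h => huZ (c.two_ker hu h)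
  haveI := CfsgGolay.isSimple_sporM22
  have hMtop : M.map c.valHom = ⊤ := by
    refine ((IsSimpleGroup.eq_bot_or_eq_top_of_normal (M.map c.valHom)
      (Subgroup.Normal.map inferInstance _ c.valHom_surj)).resolve_left fun hb => hvuz ?_)
    have hm : c.valHom ⟨u * z, hucen⟩ ∈ M.map c.valHom := ⟨_, huzM, rfl⟩
    rw [hb] at hm
    exact hm
  have hcomm : (⁅(⊤ : Subgroup c.cen), ⊤⁆ : Subgroup c.cen) ≤ M := by
    rw [Subgroup.commutator_le]
    intro x _ y _
    obtain ⟨m, hm, hmx⟩ := (hMtop ▸ mem_top (c.valHom x) : c.valHom x ∈ M.map c.valHom)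
    obtain ⟨m', hm', hmy⟩ := (hMtop ▸ mem_top (c.valHom y) : c.valHom y ∈ M.map c.valHom)
    have hcen : ∀ {a b : c.cen}, c.valHom a = c.valHom b → ∀ w : c.cen, w * (a⁻¹ * b) = a⁻¹ * b * w := by
      intro a b h w
      have hk : c.val ((a⁻¹ * b : c.cen) : G) = 1 := by
        show c.valHom (a⁻¹ * b) = 1
        rw [map_mul, map_inv, h, inv_mul_cancel]
      exact Subtype.ext (c.cen_N_central (a⁻¹ * b : c.cen).2 ((c.val_eq_one (c.cen_le_H0 (a⁻¹ * b : c.cen).2)).mp hk)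
        w.2)
    set kx := m⁻¹ * x
    set ky := m'⁻¹ * y
    have hx : x = m * kx := by simp [kx]
    have hy : y = m' * ky := by simp [ky]
    have hkx : ∀ w, w * kx = kx * w := hcen hmx
    have hky : ∀ w, w * ky = ky * w := hcen hmy
    have e : ⁅x, y⁆ = ⁅m, m'⁆ := by
      rw [hx, hy, commutatorElement_mul_left_eq_conj_mul, commutatorElement_eq_one_iff_mul_comm.mpr (hkx _).symm,
        mul_one, mul_inv_cancel, one_mul, commutatorElement_mul_right_eq_mul_conj,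
        commutatorElement_eq_one_iff_mul_comm.mpr (hky _), mul_one, mul_inv_cancel_right]
    rw [e]
    exact mul_mem (mul_mem (mul_mem hm hm') (inv_mem hm)) (inv_mem hm')
  have hcen' : ⁅c.cen, c.cen⁆ = (⁅(⊤ : Subgroup c.cen), ⊤⁆ : Subgroup c.cen).map c.cen.subtype := by
    rw [Subgroup.map_commutator, ← MonoidHom.range_eq_map, range_subtype]
  rw [hcen'] at huD
  obtain ⟨uu, huu, huue⟩ := huD
  have hzM : (⟨z, c.Z_le_cen (mem_zpowers z)⟩ : c.cen) ∈ M := by
    have h := mul_mem (inv_mem (hcomm huu)) huzM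
    have e : uu⁻¹ * ⟨u * z, hucen⟩ = (⟨z, c.Z_le_cen (mem_zpowers z)⟩ : c.cen) := Subtype.ext (by
      rw [Subgroup.coe_mul, Subgroup.coe_inv, show (uu : G) = u from huue]; group)
    rwa [e] at h
  have hKP : ∀ k ∈ K, k ∈ P := by
    intro k hk
    have h2 : k * k ∈ P := by
      have h3 : z * k * z⁻¹ * k⁻¹ ∈ P := hzM k hk
      have := mul_mem (inv_mem h3) (hzinv k hk)
      rwa [show (z * k * z⁻¹ * k⁻¹)⁻¹ * (z * k * z⁻¹ * k) = k * k by group] at this
    obtain ⟨i, hi⟩ := hKodd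
    have h := pow_card_eq_one' (x := (⟨k, hk⟩ : K))
    rw [hi] at h
    have h' : (k * k) ^ i * k = 1 := by
      rw [← sq, ← pow_mul, ← pow_succ]; exact congrArg Subtype.val h
    rw [eq_inv_of_mul_eq_one_right h']; exact inv_mem (pow_mem h2 i)
  intro x hx
  refine mem_centralizer_singleton_iff.mpr ?_
  have hq := hKP _ (hKz x hx)
  set q := x * z * x⁻¹ * z⁻¹ with hqd
  have hqz : q * z = z * q := c.zP q hq
  have h : q * z * (q * z) = 1 := by
    rw [hqd, show x * z * x⁻¹ * z⁻¹ * z * (x * z * x⁻¹ * z⁻¹ * z) = x * (z * z) * x⁻¹ by group, c.zz]; group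
  rw [show q * z * (q * z) = q * (z * q) * z by group, ← hqz, show q * (q * z) * z = q * q * (z * z) by group,
    c.zz, mul_one] at h
  have h1 : q = 1 := by
    have h3 := c.P_cube hq
    rwa [h, one_mul] at h3
  rw [hqd, mul_inv_eq_one, mul_inv_eq_iff_eq_mul] at h1
  exact h1

/-- The normalizer of P lies in H. -/
theorem norm_P (c : Ctx z P E) [IsSimpleGroup G] (hG : ¬ IsMulCommutative G)
    (hinv : ∃ n ∈ centralizer ({z} : Set G), ∀ q ∈ P, n * q * n⁻¹ = q⁻¹) :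
    normalizer (P : Set G) ≤ centralizer ({z} : Set G) := by
  obtain ⟨hC, -⟩ := c.cent_P hG hinv
  obtain ⟨n, hn, hninv⟩ := hinv
  intro g hg
  by_cases hgc : ∀ q ∈ P, q * g = g * q
  · exact hC (mem_centralizer_iff.mpr hgc)
  push Not at hgc
  obtain ⟨q0, hq0, hne⟩ := hgc
  have hgi : ∀ q ∈ P, g * q * g⁻¹ = q⁻¹ := fun q hq => conj_inv_of_card_three c.hP hg hq0 (Ne.symm hne) hq
  have h : n * g ∈ centralizer (P : Set G) := mem_centralizer_iff.mpr fun q hq => by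
    have e : n * g * q * (n * g)⁻¹ = q := by
      rw [show n * g * q * (n * g)⁻¹ = n * (g * q * g⁻¹) * n⁻¹ by group, hgi q hq, hninv _ (inv_mem hq), inv_inv]
    exact (mul_inv_eq_iff_eq_mul.mp e).symm
  have := mul_mem (inv_mem hn) (hC h)
  rwa [inv_mul_cancel_left] at this

end Ctx

end CfsgLib.JankoFour
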