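/-
The centralizer of P is perfect.
-/
import Cfsg.Agent.Lib.JankoFour.NormP

set_option autoImplicit false

namespace CfsgLib.JankoFour

open Cfsg Subgroup
open scoped commutatorElement Pointwise

universe u

local notation "M" => MTwoTwo

/-- An abelian subgroup of odd order centralizing an involution and an element of order three lies in its group. -/
theorem odd_cent {w ρ δ : M} (hw : w * w = 1) (hw1 : w ≠ 1) (hρ : ρ ^ 3 = 1) (hρ1 : ρ ≠ 1)
    (hwρ : w * ρ = ρ * w) (hδ : Odd (orderOf δ)) (hδρ : δ * ρ = ρ * δ) (hwδ : w * δ = δ * w) :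
    δ ∈ zpowers ρ := by
  classical
  haveI : Fact (Nat.Prime 3) := ⟨Nat.prime_three⟩
  set T := zpowers ρ ⊔ zpowers δ with hT
  have hTc : ∀ x ∈ T, x * ρ = ρ * x ∧ w * x = x * w := by
    intro x hx
    have hle : T ≤ centralizer ({ρ} : Set M) ⊓ centralizer ({w} : Set M) := sup_le
      (zpowers_le.mpr ⟨mem_centralizer_singleton_iff.mpr rfl, mem_centralizer_singleton_iff.mpr hwρ.symm⟩)
      (zpowers_le.mpr ⟨mem_centralizer_singleton_iff.mpr hδρ, mem_centralizer_singleton_iff.mpr hwδ.symm⟩)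
    exact ⟨mem_centralizer_singleton_iff.mp (hle hx).1, (mem_centralizer_singleton_iff.mp (hle hx).2).symm⟩
  have hn : zpowers δ ≤ normalizer ((zpowers ρ : Subgroup M) : Set M) := zpowers_le.mpr (mem_norm_of fun x hx => by
    obtain ⟨i, rfl⟩ := mem_zpowers_iff.mp hx
    rw [((show Commute δ ρ from hδρ).zpow_right i).eq, mul_inv_cancel_right]; exact zpow_mem_zpowers _ _)
  have hTodd : Odd (Nat.card T) := by
    have e : ((T : Subgroup M) : Set M) = (zpowers ρ : Set M) * (zpowers δ : Set M) :=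
      Subgroup.coe_mul_of_right_le_normalizer_left _ _ hn
    rw [← Nat.not_even_iff_odd, even_iff_two_dvd]
    intro h2
    haveI : Fact (Nat.Prime 2) := ⟨Nat.prime_two⟩
    obtain ⟨⟨x, hx⟩, hxo⟩ := exists_prime_orderOf_dvd_card' 2 h2
    rw [← Subgroup.orderOf_coe] at hxo
    change orderOf x = 2 at hxo
    rw [← SetLike.mem_coe, e] at hx
    obtain ⟨a, ha, b, hb, rfl⟩ := hx
    obtain ⟨i, rfl⟩ := mem_zpowers_iff.mp ha
    obtain ⟨j, rfl⟩ := mem_zpowers_iff.mp hb
    obtain ⟨k, hk⟩ := hδ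
    have hpow : (ρ ^ i * δ ^ j) ^ (3 * (2 * k + 1)) = 1 := by
      rw [((show Commute ρ δ from hδρ.symm).zpow_zpow i j).mul_pow]
      have h1 : (ρ ^ i) ^ (3 * (2 * k + 1)) = 1 := by
        rw [pow_mul, show (ρ ^ i) ^ 3 = 1 by
          rw [← zpow_natCast, ← zpow_mul, mul_comm, zpow_mul, zpow_natCast, hρ, one_zpow], one_pow]
      have h2 : (δ ^ j) ^ (3 * (2 * k + 1)) = 1 := by
        rw [mul_comm 3, pow_mul, show (δ ^ j) ^ (2 * k + 1) = 1 by
          rw [← zpow_natCast, ← zpow_mul, mul_comm, zpow_mul, zpow_natCast, ← hk, pow_orderOf_eq_one, one_zpow],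
          one_pow]
      rw [h1, h2, one_mul]
    have := orderOf_dvd_of_pow_eq_one hpow
    rw [hxo] at this
    omega
  have hT3 : IsPGroup 3 T := by
    rcases eq_or_ne (Nat.card T) 1 with h1 | h1
    · exact IsPGroup.of_card (n := 0) (by rw [h1, pow_zero])
    refine IsPGroup.iff_card.mpr ⟨(Nat.card T).primeFactorsList.length,
      Nat.eq_prime_pow_of_unique_prime_dvd (Nat.pos_of_ne_zero Nat.card_pos.ne').ne' fun {q} hq hdvd => ?_⟩
    rcases prime_cases hq with rfl | rfl | h5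
    · exact absurd (even_iff_two_dvd.mpr hdvd) (Nat.not_even_iff_odd.mpr hTodd)
    · rfl
    · haveI := Fact.mk hq
      obtain ⟨⟨x, hx⟩, hxo⟩ := exists_prime_orderOf_dvd_card' q hdvd
      rw [← Subgroup.orderOf_coe] at hxo
      change orderOf x = q at hxo
      have := cent_three_prime hρ hρ1 hq h5 (by rw [← hxo]; exact pow_orderOf_eq_one x) (hTc x hx).1
      rw [this, orderOf_one] at hxo
      exact absurd hxo.symm hq.ne_one
  obtain ⟨S, hS⟩ := hT3.exists_le_sylow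
  have h9 : Nat.card (S : Subgroup M) = 9 := by
    rw [Sylow.card_eq_multiplicity, factorization_M22.2]; norm_num
  obtain ⟨k, hk2, hk⟩ := (Nat.dvd_prime_pow Nat.prime_three).mp
    (show Nat.card T ∣ 3 ^ 2 from (by norm_num : 3 ^ 2 = 9) ▸ h9 ▸ card_dvd_of_le hS)
  have hT9 : Nat.card T ≠ 9 := fun h => nine_invol h hw hw1
    (mem_norm_of fun x hx => by rw [(hTc x hx).2, mul_inv_cancel_right]; exact hx)
    (mem_sup_left (mem_zpowers ρ)) hρ1 hwρ
  have hk1 : k ≤ 1 := by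
    by_contra hh
    rw [show k = 2 by omega] at hk
    exact hT9 (hk.trans (by norm_num))
  have e : zpowers ρ = T := by
    refine eq_of_le_of_card_ge le_sup_left ?_
    rw [Nat.card_zpowers, orderOf_eq_prime hρ hρ1, hk]
    calc 3 ^ k ≤ 3 ^ 1 := Nat.pow_le_pow_right (by norm_num) hk1
      _ = 3 := by norm_num
  rw [e]; exact mem_sup_right (mem_zpowers δ)

variable {G : Type u} [Group G] [Finite G] {z : G} {P E : Subgroup G}

namespace Ctx

/-- The central involution lies in the derived group of the centralizer of P. -/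
theorem z_comm_cen (c : Ctx z P E) [IsSimpleGroup G] (hG : ¬ IsMulCommutative G)
    (hinv : ∃ n ∈ centralizer ({z} : Set G), ∀ q ∈ P, n * q * n⁻¹ = q⁻¹) : z ∈ ⁅c.cen, c.cen⁆ := by
  classical
  haveI : Fact (Nat.Prime 2) := ⟨Nat.prime_two⟩
  by_contra hzX
  obtain ⟨hC, g, p, hp, hgen, hrcen, hr1, hucen, hz1cen, hw1, huX, huZ⟩ := c.cent_P hG hinv
  set H := centralizer ({z} : Set G) with hH
  set r := g⁻¹ * p * g with hr
  set z1 := g⁻¹ * z * g with hz1
  set u := g * z * g⁻¹ with hu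
  have r3 : r ^ 3 = 1 := by
    rw [hr, show (g⁻¹ * p * g) ^ 3 = g⁻¹ * (p * p * p) * g by simp only [pow_succ, pow_zero]; group, c.P_cube hp]
    group
  -- the centralizer of r is conjugate to cen
  have hCr : ∀ {x}, x * r = r * x → g * x * g⁻¹ ∈ c.cen := by
    intro x hx
    have hc : g * x * g⁻¹ ∈ centralizer (P : Set G) := mem_centralizer_iff.mpr fun q hq => by
      obtain ⟨i, hi⟩ := mem_zpowers_iff.mp (hgen ▸ hq : q ∈ zpowers p)
      have hc : Commute p (g * x * g⁻¹) := by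
        show p * (g * x * g⁻¹) = g * x * g⁻¹ * p
        calc p * (g * x * g⁻¹) = g * (r * x) * g⁻¹ := by rw [hr]; group
          _ = g * x * g⁻¹ * p := by rw [← hx, hr]; group
      rw [← hi]; exact (hc.zpow_left i).eq
    exact ⟨hC hc, hc⟩
  have hCz1 : ∀ {x}, x * r = r * x → x * z1 = z1 * x := by
    intro x hx
    have h := mem_centralizer_singleton_iff.mp (hCr hx).1
    calc x * z1 = g⁻¹ * (g * x * g⁻¹ * z) * g := by rw [hz1]; group
      _ = z1 * x := by rw [h, hz1]; group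
  -- commutators in the centralizer of r
  set D' := (⁅c.cen, c.cen⁆).map (MulAut.conj g⁻¹).toMonoidHom with hD'
  have hD'mem : ∀ {x}, g * x * g⁻¹ ∈ ⁅c.cen, c.cen⁆ → x ∈ D' := fun {x} h =>
    ⟨_, h, by show g⁻¹ * (g * x * g⁻¹) * g⁻¹⁻¹ = x; group⟩
  have hz1D : z1 ∉ D' := by
    rintro ⟨y, hy, e⟩
    refine hzX ?_
    have e' : g⁻¹ * y * g⁻¹⁻¹ = g⁻¹ * z * g := e
    rw [inv_inv] at e'
    exact (mul_left_cancel (mul_right_cancel e')) ▸ hy
  have hcommD : ∀ {x y}, x * r = r * x → y * r = r * y → ⁅x, y⁆ ∈ D' := by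
    intro x y hx hy
    refine hD'mem ?_
    rw [show g * ⁅x, y⁆ * g⁻¹ = ⁅g * x * g⁻¹, g * y * g⁻¹⁆ by simp only [commutatorElement_def]; group]
    exact commutator_mem_commutator (hCr hx) (hCr hy)
  have hzD : z ∈ D' := hD'mem huX
  have hpr : p * r = r * p := (c.cen_comm hrcen hp).symm
  have hDD : ∀ e ∈ c.ker1 hrcen.1, e ∈ D' := by
    intro e he
    obtain ⟨a, ha, ht⟩ := c.delta_surj (c.ker1_le _) (c.Z_le_ker1 _) hp hgen
      (fun e he => c.ker1_P hrcen hp e he) e he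
    set t := (a⁻¹ * (p * a * p⁻¹))⁻¹ * e
    have het : e = ⁅a⁻¹, p⁆ * t := by
      rw [show ⁅a⁻¹, p⁆ = a⁻¹ * (p * a * p⁻¹) by simp only [commutatorElement_def]; group]
      exact (mul_inv_cancel_left _ _).symm
    rw [het]
    refine mul_mem (hcommD ?_ hpr) ?_
    · exact ((show Commute a r from (c.ker1_comm hrcen a ha).symm).inv_left).eq
    · rcases c.mem_Z.mp ht with h | h <;> rw [h]
      exacts [one_mem _, hzD]
  -- a 2-group of order 256 commuting with u in cen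
  obtain ⟨T0, hT0c, hT0card⟩ : ∃ T0 : Subgroup G,
      (∀ x ∈ T0, x ∈ c.cen ∧ x * u = u * x) ∧ Nat.card T0 = 256 := by
    have hu2 : u * u = 1 := c.isZ_sq ⟨g, rfl⟩
    have hvu : c.val u * c.val u = 1 := by
      rw [← c.val_mul (c.cen_le_H0 hucen) (c.cen_le_H0 hucen), hu2]; exact (c.val_eq_one (one_mem _)).mpr (one_mem _)
    have hvu1 : c.val u ≠ 1 := fun h => by
      obtain ⟨t, ht, q, hq, e⟩ := c.cen_N hucen ((c.val_eq_one (c.cen_le_H0 hucen)).mp h)
      have hc : Commute t q := (c.Z_comm (c.P_le hq) ht).symm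
      have h2 : q * q = 1 := by
        rw [e, show t * q * (t * q) = t * (q * t) * q by group, ← hc.eq,
          show t * (t * q) * q = t * t * (q * q) by group, c.Z_sq ht, one_mul] at hu2
        exact hu2
      have hq1 : q = 1 := by
        have h3 := c.P_cube hq
        rwa [h2, one_mul] at h3
      exact huZ (e ▸ hq1.symm ▸ (mul_one t).symm ▸ ht)
    obtain ⟨D, hD, hDc⟩ := invol_cent hvu hvu1
    let D1 := D.comap c.valHom
    have hcard : Nat.card D1 = 768 := by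
      have h1 : D1.index = D.index := index_comap_of_surjective D c.valHom_surj
      have h2 := Subgroup.card_mul_index D1
      have h3 := Subgroup.card_mul_index D
      rw [hD, show Nat.card MTwoTwo = 443520 from CfsgGolay.card_sporM22] at h3
      rw [h1, c.card_cen] at h2
      have : D.index = 3465 := by omega
      rw [this] at h2
      omega
    obtain ⟨S, hS⟩ := Sylow.exists_subgroup_card_pow_prime 2
      (show 2 ^ 8 ∣ Nat.card D1 by rw [hcard]; norm_num)
    refine ⟨(S.map D1.subtype).map c.cen.subtype, ?_, ?_⟩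
    · rintro _ ⟨_, ⟨x, -, rfl⟩, rfl⟩
      refine ⟨(x : c.cen).2, ?_⟩
      set y : G := ((x : c.cen) : G)
      have hy : y ∈ c.cen := (x : c.cen).2
      have hk : y * u * y⁻¹ * u⁻¹ ∈ c.cen := mul_mem (mul_mem (mul_mem hy hucen) (inv_mem hy)) (inv_mem hucen)
      have hkv : c.val (y * u * y⁻¹ * u⁻¹) = 1 := by
        show c.valHom ((x : c.cen) * ⟨u, hucen⟩ * (x : c.cen)⁻¹ * (⟨u, hucen⟩ : c.cen)⁻¹) = 1
        have hc : c.valHom (x : c.cen) * c.valHom ⟨u, hucen⟩ = c.valHom ⟨u, hucen⟩ * c.valHom (x : c.cen) :=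
          hDc _ x.2
        rw [map_mul, map_mul, map_mul, map_inv, map_inv, hc, mul_inv_cancel_right, mul_inv_cancel]
      obtain ⟨t, ht, q, hq, e⟩ := c.cen_N hk ((c.val_eq_one (c.cen_le_H0 hk)).mp hkv)
      have hku : u * (t * q) = t * q * u := by
        rw [← mul_assoc, c.Z_comm hucen.1 ht, mul_assoc, c.cen_comm hucen hq, ← mul_assoc]
      have hsq : t * q * (t * q) = 1 := by
        have h1 : y * u * y⁻¹ = t * q * u := by rw [← e]; group
        have h2 : y * u * y⁻¹ * (y * u * y⁻¹) = 1 := by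
          rw [show y * u * y⁻¹ * (y * u * y⁻¹) = y * (u * u) * y⁻¹ by group, hu2]; group
        rw [h1, show t * q * u * (t * q * u) = t * q * (u * (t * q)) * u by group, hku,
          show t * q * (t * q * u) * u = t * q * (t * q) * (u * u) by group, hu2, mul_one] at h2
        exact h2
      have hc : Commute t q := (c.Z_comm (c.P_le hq) ht).symm
      rw [show t * q * (t * q) = t * (q * t) * q by group, ← hc.eq,
        show t * (t * q) * q = t * t * (q * q) by group, c.Z_sq ht, one_mul] at hsq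
      have hq1 : q = 1 := by
        have h3 := c.P_cube hq
        rwa [hsq, one_mul] at h3
      rw [hq1, mul_one] at e
      show y * u = u * y
      rcases c.mem_Z.mp ht with h | h
      · rw [h, mul_inv_eq_one, mul_inv_eq_iff_eq_mul] at e; exact e
      · have h2 := commutator_mem_commutator hy hucen (H₁ := c.cen) (H₂ := c.cen)
        rw [commutatorElement_def, e, h] at h2
        exact absurd h2 hzX
    · rw [card_map_of_injective c.cen.subtype_injective, card_map_of_injective D1.subtype_injective, hS]; norm_num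
  -- the involutions above the four group
  obtain ⟨s, hs, hsr⟩ := c.exists_lift_frame hrcen r3 hr1 hp hgen
  set v1 := s * z1 * s⁻¹ with hv1
  set v2 := s * v1 * s⁻¹ with hv2
  have hv1cen : v1 ∈ c.cen := mul_mem (mul_mem hs hz1cen) (inv_mem hs)
  have hv2cen : v2 ∈ c.cen := mul_mem (mul_mem hs hv1cen) (inv_mem hs)
  have hz1sq : z1 * z1 = 1 := by
    rw [hz1, show g⁻¹ * z * g * (g⁻¹ * z * g) = g⁻¹ * (z * z) * g by group, c.zz]; group
  have hz1r : z1 * r = r * z1 := by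
    rw [hz1, hr, show g⁻¹ * z * g * (g⁻¹ * p * g) = g⁻¹ * (z * p) * g by group, ← c.zP p hp]; group
  have hstep : ∀ {v}, v ∈ c.cen → v * r = r * v → (s * v * s⁻¹) * r = r * (s * v * s⁻¹) := by
    intro v hv hvr
    have h1 : s⁻¹ * r * s = r * p⁻¹ := by
      have hsp : s * p * s⁻¹ = p := by rw [c.cen_comm hs hp, mul_inv_cancel_right]
      calc s⁻¹ * r * s = s⁻¹ * ((s * r * s⁻¹) * (s * p * s⁻¹)⁻¹) * s := by rw [hsr, hsp, mul_inv_cancel_right]
        _ = r * p⁻¹ := by group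
    have h2 : Commute v (s⁻¹ * r * s) := by
      rw [h1]; exact (show Commute v r from hvr).mul_right (c.cen_comm hv hp |> fun h => (Commute.inv_right h))
    calc s * v * s⁻¹ * r = s * (v * (s⁻¹ * r * s)) * s⁻¹ := by group
      _ = r * (s * v * s⁻¹) := by rw [h2.eq]; group
  have hv1r := hstep hz1cen hz1r
  have hv2r := hstep hv1cen hv1r
  have hv1sq : v1 * v1 = 1 := by
    rw [hv1, show s * z1 * s⁻¹ * (s * z1 * s⁻¹) = s * (z1 * z1) * s⁻¹ by group, hz1sq]; group
  have hv2sq : v2 * v2 = 1 := by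
    rw [hv2, show s * v1 * s⁻¹ * (s * v1 * s⁻¹) = s * (v1 * v1) * s⁻¹ by group, hv1sq]; group
  set ρ := c.val r with hρ
  set w := c.val z1 with hw
  set w1 := c.val v1 with hw1d
  set w2 := c.val v2 with hw2d
  set σ := c.val s with hσ
  have hvm : ∀ {a b : G}, a ∈ c.H0 → b ∈ c.H0 → a * b = b * a → c.val a * c.val b = c.val b * c.val a :=
    fun ha hb h => by rw [← c.val_mul ha hb, ← c.val_mul hb ha, h]
  have hz10 := c.cen_le_H0 hz1cen
  have hr0 := c.cen_le_H0 hrcen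
  have hs0 := c.cen_le_H0 hs
  have hv10 := c.cen_le_H0 hv1cen
  have hv20 := c.cen_le_H0 hv2cen
  have hconjval : ∀ {v}, v ∈ c.H0 → c.val (s * v * s⁻¹) = σ * c.val v * σ⁻¹ := fun {v} hv => by
    rw [c.val_mul (mul_mem hs0 hv) (inv_mem hs0), c.val_mul hs0 hv, c.val_inv hs0]
  have hρ3 : ρ ^ 3 = 1 := by rw [hρ, ← c.val_pow hr0, r3]; exact (c.val_eq_one (one_mem _)).mpr (one_mem _)
  have hw_sq : w * w = 1 := by
    rw [hw, ← c.val_mul hz10 hz10, hz1sq]; exact (c.val_eq_one (one_mem _)).mpr (one_mem _)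
  have hwρ : w * ρ = ρ * w := hvm hz10 hr0 hz1r
  have hσρ : σ * ρ * σ⁻¹ = ρ := by
    rw [hσ, hρ, ← hconjval hr0, hsr, c.val_mul hr0 (c.cen_le_H0 (c.P_le_cen hp)), c.val_P hp, mul_one]
  have hw1ne : w1 ≠ w := by
    intro h
    obtain ⟨R, hR, hrR⟩ := exists_nine hρ3
    -- w centralizes a group of order nine
    have hσw : σ * w = w * σ := by
      rw [hw1d, hv1, hconjval hz10] at h
      exact mul_inv_eq_iff_eq_mul.mp h
    obtain ⟨k, hk⟩ : ∃ k, σ ^ (2 ^ k * 1) = σ ^ (2 ^ k) := ⟨0, by simp⟩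
    set n := 2 ^ (orderOf σ).factorization 2 with hn
    have hodd : Odd (orderOf (σ ^ n)) := by
      rw [orderOf_pow' σ (by positivity : n ≠ 0), Nat.gcd_eq_right (Nat.ordProj_dvd _ _)]
      exact Nat.not_even_iff_odd.mp fun he => Nat.not_dvd_ordCompl Nat.prime_two (orderOf_pos σ).ne'
        (even_iff_two_dvd.mp he)
    have hc : Commute σ ρ := mul_inv_eq_iff_eq_mul.mp hσρ
    obtain ⟨i, hi⟩ := mem_zpowers_iff.mp (odd_cent hw_sq hw1 hρ3 hr1 hwρ hodd (hc.pow_left n).eq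
      ((show Commute w σ from hσw.symm).pow_right n).eq)
    -- the power of s moves r
    let π : centralizer ({z} : Set G) →* MTwoTwo := 1
    have key : ∀ m : ℕ, s ^ m * r * (s ^ m)⁻¹ = r * p ^ m := by
      intro m
      induction m with
      | zero => simp
      | succ m ih =>
        rw [pow_succ' s, show s * s ^ m * r * (s * s ^ m)⁻¹ = s * (s ^ m * r * (s ^ m)⁻¹) * s⁻¹ by group, ih,
          show s * (r * p ^ m) * s⁻¹ = (s * r * s⁻¹) * (s * p ^ m * s⁻¹) by group, hsr,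
          c.cen_comm hs (pow_mem hp m), mul_inv_cancel_right, mul_assoc, ← pow_succ']
    -- s^n differs from a power of r by the kernel
    set x := (r ^ i)⁻¹ * s ^ n with hx
    have hxcen : x ∈ c.cen := mul_mem (inv_mem (c.cen.zpow_mem hrcen i)) (pow_mem hs n)
    have hxv : c.val x = 1 := by
      have e : (((⟨r, hrcen⟩ : c.cen) ^ i)⁻¹ * ⟨s, hs⟩ ^ n : c.cen) = ⟨x, hxcen⟩ := Subtype.ext (by simp [hx])
      show c.valHom ⟨x, hxcen⟩ = 1
      rw [← e, map_mul, map_inv, map_zpow, map_pow]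
      show (ρ ^ i)⁻¹ * σ ^ n = 1
      rw [hi, inv_mul_cancel]
    have hxr : r * x = x * r := c.cen_N_central hxcen ((c.val_eq_one (c.cen_le_H0 hxcen)).mp hxv) hrcen
    have hsn : s ^ n = r ^ i * x := by rw [hx, mul_inv_cancel_left]
    have h := key n
    rw [hsn, show r ^ i * x * r * (r ^ i * x)⁻¹ = r ^ i * (x * r * x⁻¹) * (r ^ i)⁻¹ by group, ← hxr,
      mul_inv_cancel_right, show r ^ i * r * (r ^ i)⁻¹ = r by group] at h
    have hpn : p ^ n = 1 := left_eq_mul.mp h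
    have hp1 : p ≠ 1 := fun e => by
      have h := c.hP
      rw [hgen, e, zpowers_one_eq_bot, card_bot] at h
      norm_num at h
    have hop : orderOf p = 3 := orderOf_eq_prime (hp := ⟨Nat.prime_three⟩)
      (by rw [pow_succ, sq]; exact c.P_cube hp) hp1
    have h3 := orderOf_dvd_of_pow_eq_one hpn
    rw [hop, hn] at h3
    have := Nat.Prime.dvd_of_dvd_pow Nat.prime_three h3
    norm_num at this
  -- the four group
  have hwc : ∀ {v}, v ∈ c.cen → v * r = r * v → w * c.val v = c.val v * w := fun hv hvr =>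
    hvm hz10 (c.cen_le_H0 hv) (hCz1 hvr).symm
  have hw1ne1 : w1 ≠ 1 := fun h => by
    rw [hw1d, hv1, hconjval hz10, ← hw] at h
    exact hw1 (conj_eq_one_iff.mp h)
  let L := centralizer ({z} : Set G) ⊓ centralizer ({r} : Set G)
  have hLmem : ∀ {v}, v ∈ c.cen → v * r = r * v → v ∈ L := fun hv hvr =>
    ⟨hv.1, mem_centralizer_singleton_iff.mpr hvr⟩
  -- a Sylow subgroup of L
  have hzv : z1 * v1 = v1 * z1 := (hCz1 hv1r).symm
  let V4 : Subgroup G := zpowers z1 ⊔ zpowers v1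
  have hV4L : V4 ≤ L := sup_le (zpowers_le.mpr (hLmem hz1cen hz1r)) (zpowers_le.mpr (hLmem hv1cen hv1r))
  have hV42 : IsPGroup 2 V4 := by
    have h1 : ∀ {v : G}, v * v = 1 → IsPGroup 2 (zpowers v) := fun {v} h ⟨x, hx⟩ => by
      obtain ⟨i, rfl⟩ := mem_zpowers_iff.mp hx
      exact ⟨1, Subtype.ext (by
        rw [pow_one, coe_pow]
        show (v ^ i) ^ 2 = 1
        rw [← zpow_natCast, ← zpow_mul, mul_comm, zpow_mul, zpow_natCast, sq, h, one_zpow])⟩
    exact IsPGroup.to_sup_of_normal_left' (h1 hz1sq) (h1 hv1sq) (zpowers_le.mpr (mem_norm_of fun x hx => by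
      obtain ⟨i, rfl⟩ := mem_zpowers_iff.mp hx
      rw [((show Commute v1 z1 from hzv.symm).zpow_right i).eq, mul_inv_cancel_right]; exact zpow_mem_zpowers _ _))
  obtain ⟨T', hT'⟩ := (hV42.comap_of_injective L.subtype L.subtype_injective).exists_le_sylow
  set T := (T' : Subgroup L).map L.subtype with hT
  have hTL : T ≤ L := map_subtype_le _
  have hTp : IsPGroup 2 T := T'.isPGroup'.map _
  have hz1T : z1 ∈ T := ⟨⟨z1, hLmem hz1cen hz1r⟩, hT' (mem_subgroupOf.mpr (mem_sup_left (mem_zpowers z1)) :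
    (⟨z1, hLmem hz1cen hz1r⟩ : L) ∈ V4.comap L.subtype), rfl⟩
  have hv1T : v1 ∈ T := ⟨⟨v1, hLmem hv1cen hv1r⟩, hT' (mem_subgroupOf.mpr (mem_sup_right (mem_zpowers v1)) :
    (⟨v1, hLmem hv1cen hv1r⟩ : L) ∈ V4.comap L.subtype), rfl⟩
  have hT256 : 256 ≤ Nat.card T := by
    rw [hT, card_map_of_injective L.subtype_injective, Sylow.card_eq_multiplicity]
    have hle : T0.map (MulAut.conj g⁻¹).toMonoidHom ≤ L := by
      rintro _ ⟨x, hx, rfl⟩
      obtain ⟨hxc, hxu⟩ := hT0c x hx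
      refine ⟨mem_centralizer_singleton_iff.mpr ?_, mem_centralizer_singleton_iff.mpr ?_⟩
      · show g⁻¹ * x * g⁻¹⁻¹ * z = z * (g⁻¹ * x * g⁻¹⁻¹)
        calc g⁻¹ * x * g⁻¹⁻¹ * z = g⁻¹ * (x * u) * g := by rw [hu]; group
          _ = z * (g⁻¹ * x * g⁻¹⁻¹) := by rw [hxu, hu]; group
      · show g⁻¹ * x * g⁻¹⁻¹ * r = r * (g⁻¹ * x * g⁻¹⁻¹)
        have h := c.cen_comm hxc hp
        rw [hr, show g⁻¹ * x * g⁻¹⁻¹ * (g⁻¹ * p * g) = g⁻¹ * (x * p) * g by group, h]; group
    have hd := card_dvd_of_le hle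
    rw [card_map_of_injective (MulAut.conj g⁻¹).injective, hT0card, show 256 = 2 ^ 8 by norm_num,
      Nat.prime_two.pow_dvd_iff_le_factorization Nat.card_pos.ne'] at hd
    calc 256 = 2 ^ 8 := by norm_num
      _ ≤ _ := Nat.pow_le_pow_right (by norm_num) hd
  -- the image of the inner part
  set K := T ⊓ c.H0 with hK
  obtain ⟨k, hk⟩ : ∃ k, ∀ x ∈ K, x ^ 2 ^ k = 1 := by
    obtain ⟨k, hk⟩ := IsPGroup.iff_card.mp hTp
    exact ⟨k, fun x hx => by
      have := pow_card_eq_one' (x := (⟨x, hx.1⟩ : T))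
      rw [hk] at this
      exact congrArg Subtype.val this⟩
  obtain ⟨B, hBp, hBin, hBsurj, hBcard'⟩ := c.image_card (inf_le_right : K ≤ c.H0) k hk
  have hBcard : Nat.card K = Nat.card ↥(K ⊓ E) * Nat.card B := hBcard'
  have hLr : ∀ {x}, x ∈ T → x * r = r * x := fun hx => mem_centralizer_singleton_iff.mp (hTL hx).2
  have hBρ : ∀ b ∈ B, b * ρ = ρ * b := by
    intro b hb
    obtain ⟨x, hx, rfl⟩ := hBsurj b hb
    exact hvm hx.2 hr0 (hLr hx.1)
  have hwB : w ∈ B := hBin z1 ⟨hz1T, hz10⟩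
  have hw1B : w1 ∈ B := hBin v1 ⟨hv1T, hv10⟩
  have hB4 := cent_three_two hρ3 hr1 hBp hBρ
  have hww1 : w * w1 ≠ 1 ∧ w * w1 ≠ w ∧ w * w1 ≠ w1 := by
    refine ⟨fun h => hw1ne ?_, fun h => hw1ne1 (mul_eq_left.mp h), fun h => hw1 (mul_eq_right.mp h)⟩
    rw [show w1 = w * (w * w1) by rw [← mul_assoc, hw_sq, one_mul], h, mul_one]
  have hBset : ∀ b ∈ B, b = 1 ∨ b = w ∨ b = w1 ∨ b = w * w1 := by
    intro b hb
    have h1 : ({1, w, w1, w * w1} : Finset M) ⊆ (B : Set M).toFinite.toFinset := by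
      intro y hy
      simp only [Finset.mem_insert, Finset.mem_singleton] at hy
      rw [Set.Finite.mem_toFinset]
      rcases hy with rfl | rfl | rfl | rfl
      exacts [one_mem B, hwB, hw1B, mul_mem hwB hw1B]
    have h4 : ({1, w, w1, w * w1} : Finset M).card = 4 := by
      rw [Finset.card_insert_of_notMem, Finset.card_insert_of_notMem, Finset.card_insert_of_notMem,
        Finset.card_singleton]
      · exact fun h => hww1.2.2 (Finset.mem_singleton.mp h).symm
      · simp only [Finset.mem_insert, Finset.mem_singleton, not_or]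
        exact ⟨hw1ne.symm, Ne.symm hww1.2.1⟩
      · simp only [Finset.mem_insert, Finset.mem_singleton, not_or]
        exact ⟨Ne.symm hw1, hw1ne1.symm, Ne.symm hww1.1⟩
    have heq := Finset.eq_of_subset_of_card_le h1 (by
      rw [h4, ← Set.ncard_eq_toFinset_card, ← Nat.card_coe_set_eq]; exact hB4)
    have hb' : b ∈ (B : Set M).toFinite.toFinset := by rw [Set.Finite.mem_toFinset]; exact hb
    rw [← heq] at hb'
    simpa using hb'
  -- an outer element
  obtain ⟨f, hfT, hf0⟩ : ∃ f ∈ T, f ∉ c.H0 := by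
    by_contra hall
    push Not at hall
    have hKT : K = T := inf_eq_left.mpr hall
    have hKE : Nat.card ↥(K ⊓ E) ≤ 32 := by
      obtain ⟨h1, h2⟩ := Frame.split (c := c) ⟨hrcen, hs, hp, hgen, r3, hsr⟩ le_rfl c.Z_le
        (fun e he => c.conj_E hrcen.1 he) (fun e he => c.conj_E (c.P_le hp) he)
      have h2' := h2 fun e he => c.conj_E hs.1 he
      rw [← h2' 0 (by norm_num) 1 (by norm_num), ← h2' 0 (by norm_num) 2 (by norm_num), c.hE] at h1
      have hle : K ⊓ E ≤ E ⊓ c.ker1 (Frame.t_mem (c := c) ⟨hrcen, hs, hp, hgen, r3, hsr⟩ 0).1 := fun x hx =>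
        ⟨hx.2, c.mem_ker1.mpr ⟨hx.2, by
          rw [commutatorElement_eq_one_iff_mul_comm.mpr (by rw [pow_zero, mul_one]; exact (hLr hx.1.1).symm)]
          exact one_mem _⟩⟩
      refine (card_le_of_le hle).trans ?_
      obtain ⟨m, -, hm⟩ := c.card_two_pow
        (inf_le_left : E ⊓ c.ker1 (Frame.t_mem (c := c) ⟨hrcen, hs, hp, hgen, r3, hsr⟩ 0).1 ≤ E)
      rw [hm, ← pow_add, ← pow_add, show 2 ^ 13 * 4 = 2 ^ 15 from rfl] at h1
      have := Nat.pow_right_injective (le_refl 2) h1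
      rw [hm, show m = 5 by omega]; norm_num
    have := Nat.mul_le_mul hKE hB4
    have e : Nat.card K = Nat.card T := by rw [hKT]
    rw [← hBcard] at this
    omega
  have hfH : f ∈ centralizer ({z} : Set G) := (hTL hfT).1
  have hfr : f * r * f⁻¹ = r := by rw [hLr hfT, mul_inv_cancel_right]
  have hfK : ∀ {x}, x ∈ K → f * x * f⁻¹ ∈ K := fun {x} hx =>
    ⟨T.mul_mem (T.mul_mem hfT hx.1) (T.inv_mem hfT), c.H0_conj hfH hx.2⟩
  let φ : c.H0 →* MTwoTwo := c.ψ.comp
    { toFun := fun x => ⟨f * x * f⁻¹, c.H0_conj hfH x.2⟩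
      map_one' := Subtype.ext (by simp)
      map_mul' := fun a b => Subtype.ext (by
        show f * ((a : G) * b) * f⁻¹ = f * a * f⁻¹ * (f * b * f⁻¹); group) }
  have hφ : ∀ x : c.H0, φ x = c.val (f * x * f⁻¹) := fun x => (c.val_eq _).symm
  have hφz : φ ⟨z1, hz10⟩ = w := by rw [hφ, hw]; congr 1; rw [hCz1 (hLr hfT), mul_inv_cancel_right]
  have hKz1 : z1 ∈ K := ⟨hz1T, hz10⟩
  have hKv1 : v1 ∈ K := ⟨hv1T, hv10⟩
  have hφv1 : φ ⟨v1, hv10⟩ ∈ B := by rw [hφ]; exact hBin _ (hfK hKv1)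
  rcases hBset _ hφv1 with h | h | h | h
  · rw [hφ] at h
    have h' := (c.val_eq_one (c.H0_conj hfH hv10)).mp h
    have hE := c.N_two h' 1 (by
      rw [pow_one, sq, show f * v1 * f⁻¹ * (f * v1 * f⁻¹) = f * (v1 * v1) * f⁻¹ by group, hv1sq]; group)
    exact hw1ne1 (c.val_E (by
      have := c.conj_E (inv_mem hfH) hE
      rwa [show f⁻¹ * (f * v1 * f⁻¹) * f⁻¹⁻¹ = v1 by group] at this))
  · rw [hφ] at h
    -- then v1 would be above w
    have h2 : c.val (f * (z1 * v1) * f⁻¹) = 1 := by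
      rw [show f * (z1 * v1) * f⁻¹ = (f * z1 * f⁻¹) * (f * v1 * f⁻¹) by group,
        c.val_mul (c.H0_conj hfH hz10) (c.H0_conj hfH hv10), h, ← hφ ⟨z1, hz10⟩, hφz, hw_sq]
    have hE := c.N_two ((c.val_eq_one (c.H0_conj hfH (mul_mem hz10 hv10))).mp h2) 1 (by
      rw [pow_one, sq, show f * (z1 * v1) * f⁻¹ * (f * (z1 * v1) * f⁻¹) = f * (z1 * (v1 * z1) * v1) * f⁻¹ by group,
        ← hzv, show z1 * (z1 * v1) * v1 = (z1 * z1) * (v1 * v1) by group, hz1sq, hv1sq]; group)
    have hzE : z1 * v1 ∈ E := by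
      have := c.conj_E (inv_mem hfH) hE
      rwa [show f⁻¹ * (f * (z1 * v1) * f⁻¹) * f⁻¹⁻¹ = z1 * v1 by group] at this
    refine hww1.1 ?_
    rw [hw, hw1d, ← c.val_mul hz10 hv10]; exact c.val_E hzE
  · -- f centralizes the four group
    have hv2B : w2 ∈ B := by
      have hB' : IsPGroup 2 ↥(B ⊔ zpowers w2) := by
        refine IsPGroup.to_sup_of_normal_left' hBp ?_ (zpowers_le.mpr (mem_norm_of fun b hb => ?_))
        · rintro ⟨x, hx⟩
          obtain ⟨i, rfl⟩ := mem_zpowers_iff.mp hx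
          exact ⟨1, Subtype.ext (by
            rw [pow_one, coe_pow]
            show (w2 ^ i) ^ 2 = 1
            rw [← zpow_natCast, ← zpow_mul, mul_comm, zpow_mul, zpow_natCast, sq, hw2d,
              ← c.val_mul hv20 hv20, hv2sq, (c.val_eq_one (one_mem _)).mpr (one_mem _), one_zpow])⟩
        · have c0 : Commute w2 w := (hwc hv2cen hv2r).symm
          have c1 : Commute w2 w1 := by
            have h0 : Commute v1 z1 := hzv.symm
            show c.val v2 * c.val v1 = c.val v1 * c.val v2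
            refine hvm hv20 hv10 ?_
            have h := h0.map (MulAut.conj s).toMonoidHom
            show s * v1 * s⁻¹ * v1 = v1 * (s * v1 * s⁻¹)
            have h' : (s * v1 * s⁻¹) * (s * z1 * s⁻¹) = (s * z1 * s⁻¹) * (s * v1 * s⁻¹) := h
            rwa [← hv1] at h'
          have cb : Commute w2 b := by
            rcases hBset b hb with rfl | rfl | rfl | rfl
            exacts [Commute.one_right _, c0, c1, c0.mul_right c1]
          rw [cb.eq, mul_inv_cancel_right]; exact hb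
      have h4 := cent_three_two hρ3 hr1 hB' (fun x hx => by
        have hle : B ⊔ zpowers w2 ≤ centralizer ({ρ} : Set M) := sup_le
          (fun b hb => mem_centralizer_singleton_iff.mpr (hBρ b hb))
          (zpowers_le.mpr (mem_centralizer_singleton_iff.mpr (hvm hv20 hr0 hv2r)))
        exact mem_centralizer_singleton_iff.mp (hle hx))
      have hB4' : 4 ≤ Nat.card B := by
        have hs4 : (↑({1, w, w1, w * w1} : Finset M) : Set M) ⊆ (B : Set M) := by
          intro y hy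
          simp only [Finset.coe_insert, Finset.coe_singleton, Set.mem_insert_iff, Set.mem_singleton_iff] at hy
          rcases hy with rfl | rfl | rfl | rfl
          exacts [one_mem B, hwB, hw1B, mul_mem hwB hw1B]
        have hh := Set.ncard_le_ncard hs4 (Set.toFinite _)
        rw [Set.ncard_coe_finset, Finset.card_insert_of_notMem, Finset.card_insert_of_notMem,
          Finset.card_insert_of_notMem, Finset.card_singleton, ← Nat.card_coe_set_eq] at hh
        · exact hh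
        · exact fun h => hww1.2.2 (Finset.mem_singleton.mp h).symm
        · simp only [Finset.mem_insert, Finset.mem_singleton, not_or]
          exact ⟨hw1ne.symm, Ne.symm hww1.2.1⟩
        · simp only [Finset.mem_insert, Finset.mem_singleton, not_or]
          exact ⟨Ne.symm hw1, hw1ne1.symm, Ne.symm hww1.1⟩
      have e := eq_of_le_of_card_ge (le_sup_left : B ≤ B ⊔ zpowers w2) (h4.trans hB4')
      rw [e]; exact mem_sup_right (mem_zpowers w2)
    have hfixB : ∀ {v : G} (hv : v ∈ c.H0), c.val v ∈ B → φ ⟨v, hv⟩ = c.val v := by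
      intro v hv hvB
      have hcalc : ∀ (x : c.H0), c.val x = 1 → φ x = 1 := fun x hx => by
        rw [hφ]
        refine (c.val_eq_one (c.H0_conj hfH x.2)).mpr ?_
        obtain ⟨e, he, q, hq, e'⟩ := c.N_decomp ((c.val_eq_one x.2).mp hx)
        rw [e', show f * (e * q) * f⁻¹ = (f * e * f⁻¹) * (f * q * f⁻¹) by group]
        exact mul_mem (c.EN (c.conj_E hfH he)) (c.P_conj_N hfH hq)
      have hext : ∀ {v' : G} (hv' : v' ∈ c.H0), c.val v = c.val v' → φ ⟨v, hv⟩ = φ ⟨v', hv'⟩ := by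
        intro v' hv' hvv
        have h1 := hcalc (⟨v', hv'⟩⁻¹ * ⟨v, hv⟩) (by
          show c.val (v'⁻¹ * v) = 1
          rw [c.val_mul (inv_mem hv') hv, c.val_inv hv', hvv, inv_mul_cancel])
        rw [map_mul, map_inv] at h1
        exact (inv_mul_eq_one.mp h1).symm
      rcases hBset _ hvB with e | e | e | e
      · rw [hcalc ⟨v, hv⟩ e, e]
      · rw [hext hz10 e, hφz, e]
      · rw [hext hv10 e, h, e]
      · have hz1v1 : c.val (z1 * v1) = w * w1 := c.val_mul hz10 hv10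
        rw [hext (mul_mem hz10 hv10) (e.trans hz1v1.symm),
          show (⟨z1 * v1, mul_mem hz10 hv10⟩ : c.H0) = ⟨z1, hz10⟩ * ⟨v1, hv10⟩ from rfl, map_mul, hφz, h, e]
    set s' := f * s * f⁻¹ with hs'
    have hs'0 : s' ∈ c.H0 := c.H0_conj hfH hs0
    set σ' := c.val s' with hσ'
    have hσ'f : φ ⟨s, hs0⟩ = σ' := hφ _
    have hσ'conj : ∀ {v : G} (hv : v ∈ c.H0), σ' * φ ⟨v, hv⟩ * σ'⁻¹ = φ ⟨s * v * s⁻¹, mul_mem (mul_mem hs0 hv) (inv_mem hs0)⟩ := by
      intro v hv
      rw [← hσ'f, ← map_inv, ← map_mul, ← map_mul]; rfl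
    have hδw : σ' * w * σ'⁻¹ = w1 := by
      rw [← hφz, hσ'conj hz10]; exact h
    have hp0 := c.cen_le_H0 (c.P_le_cen hp)
    have hσ'ρ : σ' * ρ * σ'⁻¹ = ρ := by
      have e1 : φ ⟨r, hr0⟩ = ρ := by rw [hφ]; show c.val (f * r * f⁻¹) = _; rw [hfr]
      rw [← e1, hσ'conj hr0, show (⟨s * r * s⁻¹, mul_mem (mul_mem hs0 hr0) (inv_mem hs0)⟩ : c.H0) =
        ⟨r, hr0⟩ * ⟨p, hp0⟩ from Subtype.ext hsr, map_mul, hφ ⟨p, hp0⟩,
        (c.val_eq_one (c.H0_conj hfH hp0)).mpr (c.P_conj_N hfH hp), mul_one, e1]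
    set δ := σ⁻¹ * σ' with hδ
    have hσw : σ * w * σ⁻¹ = w1 := (hconjval hz10).symm
    have hδcw : Commute δ w := by
      show δ * w = w * δ
      rw [hδ]
      calc σ⁻¹ * σ' * w = σ⁻¹ * (σ' * w * σ'⁻¹) * σ' := by group
        _ = w * (σ⁻¹ * σ') := by rw [hδw, ← hσw]; group
    have hδcρ : Commute δ ρ := by
      show δ * ρ = ρ * δ
      rw [hδ]
      calc σ⁻¹ * σ' * ρ = σ⁻¹ * (σ' * ρ * σ'⁻¹) * σ' := by group
        _ = σ⁻¹ * (σ * ρ * σ⁻¹) * σ' := by rw [hσ'ρ, hσρ]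
        _ = ρ * (σ⁻¹ * σ') := by group
    set n := 2 ^ (orderOf δ).factorization 2 with hn
    have hodd : Odd (orderOf (δ ^ n)) := by
      rw [orderOf_pow' δ (by positivity : n ≠ 0), Nat.gcd_eq_right (Nat.ordProj_dvd _ _)]
      exact Nat.not_even_iff_odd.mp fun he => Nat.not_dvd_ordCompl Nat.prime_two (orderOf_pos δ).ne'
        (even_iff_two_dvd.mp he)
    obtain ⟨i, hi⟩ := mem_zpowers_iff.mp (odd_cent hw_sq hw1 hρ3 hr1 hwρ hodd (hδcρ.pow_left n).eq
      (hδcw.symm.pow_right n).eq)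
    -- compute modulo E
    set H := centralizer ({z} : Set G)
    haveI : (E.subgroupOf H).Normal := ⟨fun e he x => by
      rw [mem_subgroupOf] at he ⊢; exact c.conj_E x.2 he⟩
    let π := QuotientGroup.mk' (E.subgroupOf H)
    have hπ : ∀ {a b : H}, (a : G)⁻¹ * b ∈ E → π a = π b := fun h =>
      QuotientGroup.eq.mpr (mem_subgroupOf.mpr h)
    set R : H ⧸ E.subgroupOf H := π ⟨r, hrcen.1⟩
    set Pp : H ⧸ E.subgroupOf H := π ⟨p, c.P_le hp⟩
    set F : H ⧸ E.subgroupOf H := π ⟨f, hfH⟩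
    set S : H ⧸ E.subgroupOf H := π ⟨s, hs.1⟩
    have hRP : R * Pp = Pp * R := by rw [← map_mul, ← map_mul]; exact congrArg π (Subtype.ext hpr.symm)
    have hSR : S * R * S⁻¹ = R * Pp := by
      rw [← map_inv, ← map_mul, ← map_mul, ← map_mul]; exact congrArg π (Subtype.ext hsr)
    have hSP : S * Pp = Pp * S := by rw [← map_mul, ← map_mul]; exact congrArg π (Subtype.ext (c.cen_comm hs hp))
    have hFR : F * R * F⁻¹ = R := by
      rw [← map_inv, ← map_mul, ← map_mul]; exact congrArg π (Subtype.ext hfr)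
    have hFP : F * Pp * F⁻¹ = Pp⁻¹ := by
      obtain ⟨e, he, m, hm, hfm, hminv⟩ := c.outer f hfH hf0
      rw [← map_inv, ← map_inv π ⟨p, _⟩, ← map_mul, ← map_mul]
      refine (hπ ?_).symm
      show (p⁻¹)⁻¹ * (f * p * f⁻¹) ∈ E
      rw [hfm, show (p⁻¹)⁻¹ * (e * m * p * (e * m)⁻¹) = (p⁻¹)⁻¹ * e * (m * p * m⁻¹) * e⁻¹ by group, hminv p hp]
      exact mul_mem (by
        have := c.conj_E (c.P_le hp) he
        rwa [show p * e * p⁻¹ = (p⁻¹)⁻¹ * e * p⁻¹ by group] at this) (inv_mem he)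
    set D : H ⧸ E.subgroupOf H := S⁻¹ * (F * S * F⁻¹)
    have hFinv : F⁻¹ * R * F = R := by
      conv_lhs => rw [← hFR]
      group
    have hSiR : S⁻¹ * R * S = R * Pp⁻¹ := by
      calc S⁻¹ * R * S = S⁻¹ * (S * R * S⁻¹ * (S * Pp * S⁻¹)⁻¹) * S := by
            rw [hSR, hSP, mul_inv_cancel_right, mul_inv_cancel_right]
        _ = R * Pp⁻¹ := by group
    have hSiP : S⁻¹ * Pp * S = Pp := by rw [mul_assoc, ← hSP, inv_mul_cancel_left]
    have hDR : D * R * D⁻¹ = R * Pp := by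
      calc D * R * D⁻¹ = S⁻¹ * (F * (S * (F⁻¹ * R * F) * S⁻¹) * F⁻¹) * S := by simp only [D]; group
        _ = S⁻¹ * (F * (R * Pp) * F⁻¹) * S := by rw [hFinv, hSR]
        _ = S⁻¹ * ((F * R * F⁻¹) * (F * Pp * F⁻¹)) * S := by group
        _ = (S⁻¹ * R * S) * (S⁻¹ * Pp * S)⁻¹ := by rw [hFR, hFP]; group
        _ = R * Pp := by
          rw [hSiR, hSiP, mul_assoc]
          have h3 : Pp * Pp * Pp = 1 := by
            rw [← map_mul, ← map_mul, ← map_one π]; exact congrArg π (Subtype.ext (c.P_cube hp))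
          rw [eq_inv_of_mul_eq_one_left h3 |>.symm.trans rfl |> fun e => show Pp⁻¹ * Pp⁻¹ = Pp by
            rw [← mul_inv_rev, inv_eq_of_mul_eq_one_right h3]]
    have hDP : D * Pp * D⁻¹ = Pp := by
      have hSFP : F * S * F⁻¹ * Pp * (F * S * F⁻¹)⁻¹ = Pp := by
        have h1 : F⁻¹ * Pp * F = Pp⁻¹ := by
          have := congrArg (·⁻¹) hFP
          simp only [inv_inv, mul_inv_rev] at this
          conv_lhs => rw [← this]
          group
        calc F * S * F⁻¹ * Pp * (F * S * F⁻¹)⁻¹ = F * (S * (F⁻¹ * Pp * F) * S⁻¹) * F⁻¹ := by group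
          _ = F * Pp⁻¹ * F⁻¹ := by
            rw [h1, show S * Pp⁻¹ * S⁻¹ = (S * Pp * S⁻¹)⁻¹ by group, hSP, mul_inv_cancel_right]
          _ = Pp := by
            rw [show F * Pp⁻¹ * F⁻¹ = (F * Pp * F⁻¹)⁻¹ by group, hFP, inv_inv]
      calc D * Pp * D⁻¹ = S⁻¹ * (F * S * F⁻¹ * Pp * (F * S * F⁻¹)⁻¹) * S := by simp only [D]; group
        _ = Pp := by rw [hSFP, hSiP]
    have key : ∀ m : ℕ, D ^ m * R * (D ^ m)⁻¹ = R * Pp ^ m := by
      intro m
      induction m with
      | zero => simp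
      | succ m ih =>
        rw [pow_succ' D, show D * D ^ m * R * (D * D ^ m)⁻¹ = D * (D ^ m * R * (D ^ m)⁻¹) * D⁻¹ by group, ih,
          show D * (R * Pp ^ m) * D⁻¹ = (D * R * D⁻¹) * (D * Pp ^ m * D⁻¹) by group, hDR, ← conj_pow, hDP, mul_assoc,
          ← pow_succ']
    -- the power fixes r modulo E
    set d := s⁻¹ * s' with hd
    have hd0 : d ∈ c.H0 := mul_mem (inv_mem hs0) hs'0
    have hdval : c.val d = δ := by rw [hd, c.val_mul (inv_mem hs0) hs'0, c.val_inv hs0]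
    set x := (r ^ i)⁻¹ * d ^ n with hx
    have hri0 : r ^ i ∈ c.H0 := c.H0.zpow_mem hr0 i
    have hx0 : x ∈ c.H0 := mul_mem (inv_mem hri0) (pow_mem hd0 n)
    have hxN : x ∈ c.N := by
      refine (c.val_eq_one hx0).mp ?_
      rw [hx, c.val_mul (inv_mem hri0) (pow_mem hd0 n), c.val_inv hri0, c.val_pow hd0, hdval]
      have : c.val (r ^ i) = ρ ^ i := by
        rw [c.val_eq hri0, hρ, c.val_eq hr0, ← map_zpow]; rfl
      rw [this, hi, inv_mul_cancel]
    obtain ⟨e, he, q, hq, hxe⟩ := c.N_decomp hxN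
    have hdn : D ^ n * R * (D ^ n)⁻¹ = R := by
      have e1 : D ^ n = R ^ i * π ⟨q, c.P_le hq⟩ := by
        have hD : D = π ⟨d, c.H0le hd0⟩ := by
          simp only [D, S, F]
          rw [← map_inv, ← map_inv, ← map_mul, ← map_mul, ← map_mul]; rfl
        rw [hD, ← map_pow, ← map_zpow, ← map_mul]
        refine (hπ ?_).symm
        show (((⟨r, hrcen.1⟩ : H) ^ i : H) * q : G)⁻¹ * ((⟨d, c.H0le hd0⟩ : H) ^ n : H) ∈ E
        rw [Subgroup.coe_zpow, Subgroup.coe_pow]
        show (r ^ i * q)⁻¹ * d ^ n ∈ E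
        have e2 : d ^ n = r ^ i * (e * q) := by rw [← hxe, hx, mul_inv_cancel_left]
        rw [e2, show (r ^ i * q)⁻¹ * (r ^ i * (e * q)) = q⁻¹ * e * q⁻¹⁻¹ by group]
        exact c.conj_E (inv_mem (c.P_le hq)) he
      have hqR : π ⟨q, c.P_le hq⟩ * R = R * π ⟨q, c.P_le hq⟩ := by
        rw [← map_mul, ← map_mul]; exact congrArg π (Subtype.ext (c.cen_comm hrcen hq).symm)
      rw [e1, show R ^ i * π ⟨q, c.P_le hq⟩ * R * (R ^ i * π ⟨q, c.P_le hq⟩)⁻¹ =
        R ^ i * (π ⟨q, c.P_le hq⟩ * R * (π ⟨q, c.P_le hq⟩)⁻¹) * (R ^ i)⁻¹ by group, hqR, mul_inv_cancel_right]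
      group
    rw [key n] at hdn
    have hPn : Pp ^ n = 1 := mul_eq_left.mp hdn
    rw [← map_pow, ← MonoidHom.mem_ker, QuotientGroup.ker_mk', mem_subgroupOf, Subgroup.coe_pow] at hPn
    have hpn : p ^ n = 1 := by
      have := Subgroup.inf_eq_bot_of_coprime (H := E) (K := P) (by rw [c.hE, c.hP]; norm_num)
      rw [← mem_bot, ← this]; exact ⟨hPn, pow_mem hp n⟩
    have hp1 : p ≠ 1 := fun e => by
      have h := c.hP
      rw [hgen, e, zpowers_one_eq_bot, card_bot] at h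
      norm_num at h
    have hop : orderOf p = 3 := orderOf_eq_prime (hp := ⟨Nat.prime_three⟩)
      (by rw [pow_succ, sq]; exact c.P_cube hp) hp1
    have h3 := orderOf_dvd_of_pow_eq_one hpn
    rw [hop, hn] at h3
    have := Nat.Prime.dvd_of_dvd_pow Nat.prime_three h3
    norm_num at this
  · -- f moves v1: a commutator above w
    rw [hφ] at h
    set d := f * v1 * f⁻¹ * v1⁻¹ with hd
    have hdT : d ∈ T := mul_mem (mul_mem (mul_mem hfT hv1T) (inv_mem hfT)) (inv_mem hv1T)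
    have hd0 : d ∈ c.H0 := mul_mem (c.H0_conj hfH hv10) (inv_mem hv10)
    have hdv : c.val d = w := by
      rw [hd, c.val_mul (c.H0_conj hfH hv10) (inv_mem hv10), c.val_inv hv10, h, ← hw1d, mul_inv_cancel_right]
    have hdD : d ∈ D' := hcommD (hLr hfT) (hLr hv1T) |> fun h => by simpa [commutatorElement_def, hd] using h
    have he : d * z1⁻¹ ∈ D' := by
      have heN : d * z1⁻¹ ∈ c.N := (c.val_eq_one (mul_mem hd0 (inv_mem hz10))).mp (by
        rw [c.val_mul hd0 (inv_mem hz10), c.val_inv hz10, hdv, mul_inv_cancel])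
      have heK : d * z1⁻¹ ∈ K := ⟨T.mul_mem hdT (T.inv_mem hz1T), c.H0.mul_mem hd0 (c.H0.inv_mem hz10)⟩
      have heE := c.N_two heN k (hk _ heK)
      exact hDD _ (c.mem_ker1.mpr ⟨heE, by
        rw [commutatorElement_eq_one_iff_mul_comm.mpr (hLr heK.1).symm]; exact one_mem _⟩)
    refine hz1D ?_
    have := mul_mem (inv_mem he) hdD
    rwa [mul_inv_rev, inv_inv, inv_mul_cancel_right] at this

/-- The centralizer of P is perfect. -/
theorem cen_perfect (c : Ctx z P E) [IsSimpleGroup G] (hG : ¬ IsMulCommutative G)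
    (hinv : ∃ n ∈ centralizer ({z} : Set G), ∀ q ∈ P, n * q * n⁻¹ = q⁻¹) : ⁅c.cen, c.cen⁆ = c.cen := by
  classical
  have hz := c.z_comm_cen hG hinv
  refine le_antisymm (Subgroup.commutator_le_self _) ?_
  set D := (⁅c.cen, c.cen⁆ : Subgroup G) with hD
  haveI := CfsgGolay.isSimple_sporM22
  have hDle : D ≤ c.cen := Subgroup.commutator_le_self _
  let D1 := D.subgroupOf c.cen
  haveI hn : (D1.map c.valHom).Normal := by
    have : D1.Normal := ⟨fun d hd x => by
      rw [mem_subgroupOf] at hd ⊢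
      simp only [Subgroup.coe_mul, Subgroup.coe_inv]
      have h : ⁅(x : G), (d : G)⁆ ∈ D := commutator_mem_commutator x.2 d.2
      have := mul_mem h hd
      rwa [commutatorElement_def, inv_mul_cancel_right] at this⟩
    exact this.map _ c.valHom_surj
  have htop : D1.map c.valHom = ⊤ := by
    refine (IsSimpleGroup.eq_bot_or_eq_top_of_normal _ hn).resolve_left fun hb => ?_
    -- else M22 would be abelian
    haveI : Fact (Nat.Prime 3) := ⟨Nat.prime_three⟩
    obtain ⟨hC, g, p, hp, hgen, hrcen, hr1, hucen, hz1cen, hw1, huX, huZ⟩ := c.cent_P hG hinv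
    have : c.valHom ⟨g * z * g⁻¹, hucen⟩ ∈ D1.map c.valHom :=
      ⟨⟨_, hucen⟩, mem_subgroupOf.mpr huX, rfl⟩
    rw [hb] at this
    have hu2 := c.isZ_sq (t := g * z * g⁻¹) ⟨g, rfl⟩
    obtain ⟨t, ht, q, hq, e⟩ := c.cen_N hucen ((c.val_eq_one (c.cen_le_H0 hucen)).mp this)
    have hc : Commute t q := (c.Z_comm (c.P_le hq) ht).symm
    have h2 : q * q = 1 := by
      rw [e, show t * q * (t * q) = t * (q * t) * q by group, ← hc.eq,
        show t * (t * q) * q = t * t * (q * q) by group, c.Z_sq ht, one_mul] at hu2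
      exact hu2
    have hq1 : q = 1 := by
      have h3 := c.P_cube hq
      rwa [h2, one_mul] at h3
    exact huZ (e ▸ hq1.symm ▸ (mul_one t).symm ▸ ht)
  intro x hx
  obtain ⟨d, hd, hdx⟩ := (htop ▸ mem_top (c.valHom ⟨x, hx⟩) : c.valHom ⟨x, hx⟩ ∈ D1.map c.valHom)
  have hk : ((d⁻¹ * ⟨x, hx⟩ : c.cen) : G) ∈ c.cen := (d⁻¹ * ⟨x, hx⟩ : c.cen).2
  obtain ⟨t, ht, q, hq, e⟩ := c.cen_N hk ((c.val_eq_one (c.cen_le_H0 hk)).mp (by
    show c.valHom (d⁻¹ * ⟨x, hx⟩) = 1
    rw [map_mul, map_inv, hdx, inv_mul_cancel]))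
  have hmem : t * q ∈ D := mul_mem ((zpowers_le.mpr hz) ht) (c.Pcomm hq)
  have := mul_mem (mem_subgroupOf.mp hd) hmem
  rwa [← e, Subgroup.coe_mul, Subgroup.coe_inv, mul_inv_cancel_left] at this

end Ctx

end CfsgLib.JankoFour
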