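/-
The centre and the central quotient of the centralizer of P.
-/
import Cfsg.Agent.Lib.JankoFour.Perfect

set_option autoImplicit false

namespace CfsgLib.JankoFour

open Cfsg Subgroup
open scoped commutatorElement

universe u

variable {G : Type u} [Group G] [Finite G] {z : G} {P E : Subgroup G}

/-- An element of H inverting P. -/
theorem hinv_of_type (hJ : IsOfJankoFourTypeWith z P) :
    ∃ n ∈ centralizer ({z} : Set G), ∀ q ∈ P, n * q * n⁻¹ = q⁻¹ := by
  obtain ⟨-, -, -, -, ⟨N, -, -, -, -, -, -⟩, hP, -, hne, -⟩ := hJ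
  by_contra hno
  push Not at hno
  refine hne (le_antisymm ?_ fun n hn => ⟨hn.1, mem_norm_of fun p hp => ?_⟩)
  · intro n hn
    refine ⟨hn.1, mem_centralizer_iff.mpr fun p hp => ?_⟩
    by_contra hnp
    obtain ⟨q, hq, hq'⟩ := hno n hn.1
    exact hq' (conj_inv_of_card_three hP hn.2 hp (Ne.symm hnp) hq)
  · rw [← mem_centralizer_iff.mp hn.2 p hp, mul_inv_cancel_right]; exact hp

namespace Ctx

theorem center_cen (c : Ctx z P E) : center c.cen = c.valHom.ker := by
  classical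
  haveI := CfsgGolay.isSimple_sporM22
  refine le_antisymm (fun x hx => ?_) (fun x hx => Subgroup.mem_center_iff.mpr fun y =>
    Subtype.ext (c.cen_N_central x.2 ((c.val_eq_one (c.cen_le_H0 x.2)).mp hx) y.2))
  have hc : c.valHom x ∈ center MTwoTwo := Subgroup.mem_center_iff.mpr fun m => by
    obtain ⟨y, rfl⟩ := c.valHom_surj m
    rw [← map_mul, ← map_mul, Subgroup.mem_center_iff.mp hx y]
  rcases (inferInstance : (center MTwoTwo).Normal).eq_bot_or_eq_top with h | h
  · rw [h] at hc; exact hc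
  · exfalso
    obtain ⟨R, hR, r, hr, hr1, i, hi, hi1, hN⟩ : ∃ R : Subgroup MTwoTwo, Nat.card R = 9 ∧ ∃ r ∈ R, r ≠ 1 ∧
        ∃ i : MTwoTwo, i * i = 1 ∧ i ≠ 1 ∧ i ∈ normalizer (R : Set MTwoTwo) := by
      obtain ⟨R, hR, -⟩ := exists_nine (r := (1 : MTwoTwo)) (one_pow 3)
      haveI : Fact (Nat.Prime 2) := ⟨Nat.prime_two⟩
      obtain ⟨⟨i, hiN⟩, hi⟩ := exists_prime_orderOf_dvd_card' 2
        (show 2 ∣ Nat.card ↥(normalizer (R : Set MTwoTwo)) by rw [nine_norm hR]; norm_num)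
      rw [← Subgroup.orderOf_coe] at hi
      change orderOf i = 2 at hi
      haveI : Nontrivial R := Finite.one_lt_card_iff_nontrivial.mp (by rw [hR]; norm_num)
      obtain ⟨r, hr⟩ := exists_ne (1 : R)
      exact ⟨R, hR, r, r.2, fun e => hr (Subtype.ext e), i, by rw [← sq, ← hi, pow_orderOf_eq_one],
        fun e => by rw [e, orderOf_one] at hi; norm_num at hi, hiN⟩
    exact nine_invol hR hi hi1 hN hr hr1 (Subgroup.mem_center_iff.mp (h ▸ mem_top r : r ∈ center MTwoTwo) i)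

theorem center_cyclic (c : Ctx z P E) :
    IsCyclic ↥(center c.cen) ∧ Nat.card ↥(center c.cen) = 6 := by
  classical
  rw [c.center_cen]
  refine ⟨?_, c.card_valKer⟩
  obtain ⟨p, hp, hp1, -⟩ := c.exists_gen
  have hk : (⟨z * p, mul_mem (c.Z_le_cen (mem_zpowers z)) (c.P_le_cen hp)⟩ : c.cen) ∈ c.valHom.ker := by
    show c.val (z * p) = 1
    exact (c.val_eq_one (mul_mem c.z_H0 (c.cen_le_H0 (c.P_le_cen hp)))).mpr (mul_mem (c.EN c.zE) (c.PN hp))
  refine isCyclic_of_orderOf_eq_card ⟨_, hk⟩ ?_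
  rw [c.card_valKer, Subgroup.orderOf_mk, Subgroup.orderOf_mk,
    (show Commute z p from (c.zP p hp).symm).orderOf_mul_eq_mul_orderOf_of_coprime]
  · rw [c.oz, orderOf_eq_prime (hp := ⟨Nat.prime_three⟩) (by rw [pow_succ, sq]; exact c.P_cube hp) hp1]
  · rw [c.oz, orderOf_eq_prime (hp := ⟨Nat.prime_three⟩) (by rw [pow_succ, sq]; exact c.P_cube hp) hp1]
    norm_num

theorem quot_iso (c : Ctx z P E) : Cfsg.Spor.IsoM22 (↥c.cen ⧸ center c.cen) :=
  ⟨(QuotientGroup.quotientMulEquivOfEq c.center_cen).trans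
    (QuotientGroup.quotientKerEquivOfSurjective c.valHom c.valHom_surj)⟩

end Ctx

end CfsgLib.JankoFour
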