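/-
The Sylow 3-subgroups and the elements of order three.
-/
import Cfsg.Agent.Lib.JankoFour.CenCenter
import Cfsg.Agent.Lib.Fusion.EssentialSmall.Cube

set_option autoImplicit false

namespace CfsgLib.JankoFour

open Cfsg Subgroup
open scoped commutatorElement

universe u

variable {G : Type u} [Group G] [Finite G] {z : G} {P E : Subgroup G}

namespace Ctx

/-- The data of a Sylow 3-subgroup of the centralizer of P. -/
structure NineSyl (c : Ctx z P E) (R : Subgroup MTwoTwo) (S : Subgroup G) : Prop where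
  hR : Nat.card R = 9
  le : S ≤ c.cen
  hP : P ≤ S
  card : Nat.card S = 27
  nab : ∃ a ∈ S, ∃ b ∈ S, a * b ≠ b * a
  val_mem : ∀ x ∈ S, c.val x ∈ R
  lift : ∀ m ∈ R, ∃ x ∈ S, c.val x = m
  all : ∀ x ∈ c.cen, c.val x ∈ R → x ^ 9 = 1 → x ∈ S

theorem exists_nineSyl (c : Ctx z P E) : ∃ R S, c.NineSyl R S := by
  obtain ⟨R, hR, -⟩ := exists_nine (r := (1 : MTwoTwo)) (one_pow 3)
  obtain ⟨S, h1, h2, h3, h4, h5, h6, h7⟩ := c.cen_nine hR
  exact ⟨R, S, hR, h1, h2, h3, h4, h5, h6, h7⟩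

theorem NineSyl.cube {c : Ctx z P E} {R : Subgroup MTwoTwo} {S : Subgroup G} (h : c.NineSyl R S) :
    ∀ x ∈ S, x ^ 3 = 1 := by
  intro x hx
  haveI : Fact (Nat.Prime 3) := ⟨Nat.prime_three⟩
  have h9 : x ^ 9 = 1 := by
    obtain ⟨k, hk, hkc⟩ := (Nat.dvd_prime_pow Nat.prime_three).mp
      (show orderOf x ∣ 3 ^ 3 by
        rw [show 3 ^ 3 = Nat.card S by rw [h.card]; norm_num]
        have := orderOf_dvd_natCard (⟨x, hx⟩ : S)
        rwa [← Subgroup.orderOf_coe] at this)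
    have hk2 : k ≤ 2 := by
      by_contra hh
      rw [show k = 3 by omega] at hkc
      have e : zpowers x = S := eq_of_le_of_card_ge (zpowers_le.mpr hx) (by
        rw [Nat.card_zpowers, hkc, h.card]; norm_num)
      obtain ⟨a, ha, b, hb, hab⟩ := h.nab
      obtain ⟨i, rfl⟩ := mem_zpowers_iff.mp (e.symm ▸ ha)
      obtain ⟨j, rfl⟩ := mem_zpowers_iff.mp (e.symm ▸ hb)
      exact hab (Commute.zpow_zpow_self x i j).eq
    exact orderOf_dvd_iff_pow_eq_one.mp (hkc ▸ Nat.pow_dvd_pow 3 hk2)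
  exact c.cen_cube (h.le hx) h9 ((nine_facts h.hR).2.1 _ (h.val_mem x hx))

/-- P is the centre of such a group. -/
theorem NineSyl.center {c : Ctx z P E} {R : Subgroup MTwoTwo} {S : Subgroup G} (h : c.NineSyl R S) {x : G}
    (hx : x ∈ S) (hc : ∀ y ∈ S, y * x = x * y) : x ∈ P := by
  classical
  haveI : Fact (Nat.Prime 3) := ⟨Nat.prime_three⟩
  obtain ⟨a, ha, b, hb, hab⟩ := h.nab
  set Q := Subgroup.center ↥S with hQ
  have hPQ : P.subgroupOf S ≤ Q := fun q hq => Subgroup.mem_center_iff.mpr fun w =>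
    Subtype.ext (c.cen_comm (h.le w.2) (mem_subgroupOf.mp hq))
  have hxQ : (⟨x, hx⟩ : S) ∈ Q := Subgroup.mem_center_iff.mpr fun w => Subtype.ext (hc w w.2)
  obtain ⟨k, hk, hkc⟩ := (Nat.dvd_prime_pow Nat.prime_three).mp
    (show Nat.card Q ∣ 3 ^ 3 by rw [show 3 ^ 3 = 27 by norm_num, ← h.card]; exact card_subgroup_dvd_card _)
  have hle : k ≤ 1 := by
    by_contra hh
    have hidx := Subgroup.card_mul_index Q
    rw [hkc, h.card] at hidx
    have hcyc : IsCyclic (S ⧸ Q) := by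
      interval_cases k
      · exact isCyclic_of_prime_card (p := 3) (by rw [← Subgroup.index_eq_card]; norm_num at hidx ⊢; omega)
      · haveI : Subsingleton (S ⧸ Q) := (Nat.card_eq_one_iff_unique.mp (by
          rw [← Subgroup.index_eq_card]; norm_num at hidx ⊢; omega)).1
        exact isCyclic_of_subsingleton
    exact hab (congrArg Subtype.val (commutative_of_cyclic_center_quotient (QuotientGroup.mk' Q)
      (by rw [QuotientGroup.ker_mk']) ⟨a, ha⟩ ⟨b, hb⟩))
  have e : P.subgroupOf S = Q := by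
    refine eq_of_le_of_card_ge hPQ ?_
    rw [hkc, Nat.card_congr (subgroupOfEquivOfLe h.hP).toEquiv, c.hP]
    exact (Nat.pow_le_pow_right (by norm_num) hle).trans (le_of_eq (pow_one 3))
  rw [← e] at hxQ
  exact mem_subgroupOf.mp hxQ

/-- The normalizer of such a group normalizes P. -/
theorem NineSyl.norm_le {c : Ctx z P E} {R : Subgroup MTwoTwo} {S : Subgroup G} (h : c.NineSyl R S) :
    normalizer (S : Set G) ≤ normalizer (P : Set G) := by
  intro g hg
  refine mem_norm_of fun q hq => h.center ((mem_normalizer_iff.mp hg q).mp (h.hP hq)) fun y hy => ?_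
  have hy' : g⁻¹ * y * g ∈ S := (mem_normalizer_iff''.mp hg y).mp hy
  have hh := c.cen_comm (h.le hy') hq
  calc y * (g * q * g⁻¹) = g * (g⁻¹ * y * g * q) * g⁻¹ := by group
    _ = g * q * g⁻¹ * y := by rw [hh]; group

/-- Three-subgroups of cen have order at most 27 and are conjugate into S. -/
theorem NineSyl.conj_into {c : Ctx z P E} {R : Subgroup MTwoTwo} {S : Subgroup G} (h : c.NineSyl R S)
    {T : Subgroup G} (hT : IsPGroup 3 T) (hTc : T ≤ c.cen) :
    ∃ y ∈ c.cen, ∀ x ∈ T, y * x * y⁻¹ ∈ S := by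
  classical
  haveI : Fact (Nat.Prime 3) := ⟨Nat.prime_three⟩
  let S0 : Sylow 3 c.cen := Sylow.ofCard (S.subgroupOf c.cen) (by
    rw [Nat.card_congr (subgroupOfEquivOfLe h.le).toEquiv, h.card, c.fac_cen]; norm_num)
  obtain ⟨T', hT'⟩ := (hT.comap_of_injective c.cen.subtype c.cen.subtype_injective).exists_le_sylow
  obtain ⟨y, hy⟩ := MulAction.exists_smul_eq c.cen T' S0
  refine ⟨y, y.2, fun x hx => ?_⟩
  have h1 : MulAut.conj y ⟨x, hTc hx⟩ ∈ ((T' : Subgroup c.cen).map (MulAut.conj y).toMonoidHom) :=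
    ⟨_, hT' (mem_subgroupOf.mpr hx : (⟨x, hTc hx⟩ : c.cen) ∈ T.comap c.cen.subtype), rfl⟩
  have h2 : ((T' : Subgroup c.cen).map (MulAut.conj y).toMonoidHom) = (S0 : Subgroup c.cen) := by
    rw [← hy, Sylow.coe_subgroup_smul, Subgroup.pointwise_smul_def]; rfl
  rw [h2] at h1
  exact mem_subgroupOf.mp h1

/-- S is a Sylow 3-subgroup of G. -/
theorem NineSyl.sylow {c : Ctx z P E} [IsSimpleGroup G] (hG : ¬ IsMulCommutative G)
    (hinv : ∃ n ∈ centralizer ({z} : Set G), ∀ q ∈ P, n * q * n⁻¹ = q⁻¹)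
    {R : Subgroup MTwoTwo} {S : Subgroup G} (h : c.NineSyl R S) : ∃ T : Sylow 3 G, (T : Subgroup G) = S := by
  classical
  haveI : Fact (Nat.Prime 3) := ⟨Nat.prime_three⟩
  have hSp : IsPGroup 3 S := IsPGroup.of_card (n := 3) (by rw [h.card]; norm_num)
  obtain ⟨T, hT⟩ := hSp.exists_le_sylow
  refine ⟨T, (le_antisymm hT ?_).symm⟩
  by_contra hle
  haveI := T.isPGroup'.isNilpotent
  have hlt : S.subgroupOf (T : Subgroup G) < ⊤ := by
    rw [lt_top_iff_ne_top]
    intro e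
    exact hle fun x hx => mem_subgroupOf.mp (e ▸ mem_top (⟨x, hx⟩ : (T : Subgroup G)))
  obtain ⟨⟨x, hxT⟩, hxn, hx0⟩ := SetLike.exists_of_lt (Group.normalizerCondition_of_isNilpotent _ hlt)
  refine hx0 (mem_subgroupOf.mpr ?_)
  have hxS : x ∈ normalizer (S : Set G) := mem_norm_of fun e he =>
    mem_subgroupOf.mp ((mem_normalizer_iff.mp hxn ⟨e, hT he⟩).mp (mem_subgroupOf.mpr he))
  have hxP := h.norm_le hxS
  have hxH := c.norm_P hG hinv hxP
  obtain ⟨k, hk⟩ := T.isPGroup' ⟨x, hxT⟩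
  have hk' : x ^ 3 ^ k = 1 := congrArg Subtype.val hk
  -- x centralizes P
  have hxc : x ∈ c.cen := by
    refine ⟨hxH, mem_centralizer_iff.mpr fun q hq => ?_⟩
    by_contra hne
    have hflip : ∀ q' ∈ P, x * q' * x⁻¹ = q'⁻¹ := fun q' hq' => conj_inv_of_card_three c.hP hxP hq (Ne.symm hne) hq'
    have hodd : ∀ i : ℕ, x ^ (2 * i + 1) * q * (x ^ (2 * i + 1))⁻¹ = q⁻¹ := by
      intro i
      induction i with
      | zero => simpa using hflip q hq
      | succ i ih =>
        rw [show 2 * (i + 1) + 1 = 2 * i + 1 + 1 + 1 by ring, pow_succ' x, pow_succ' x,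
          show x * (x * x ^ (2 * i + 1)) * q * (x * (x * x ^ (2 * i + 1)))⁻¹ =
            x * (x * (x ^ (2 * i + 1) * q * (x ^ (2 * i + 1))⁻¹) * x⁻¹) * x⁻¹ by group, ih,
          hflip _ (inv_mem hq), inv_inv, hflip q hq]
    obtain ⟨i, hi⟩ : Odd (3 ^ k) := Odd.pow (by decide)
    have := hodd i
    rw [← hi, hk', one_mul, inv_one, mul_one] at this
    have h3 := c.P_cube hq
    have hq1 : q = 1 := by
      rw [eq_inv_iff_mul_eq_one] at this
      rwa [this, one_mul] at h3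
    exact hne (by rw [hq1, one_mul, mul_one])
  have hle2 : S ⊔ zpowers x ≤ c.cen := sup_le h.le (zpowers_le.mpr hxc)
  have hp2 : IsPGroup 3 ↥(S ⊔ zpowers x) :=
    T.isPGroup'.to_le (sup_le hT (zpowers_le.mpr hxT))
  obtain ⟨y, -, hy⟩ := h.conj_into hp2 hle2
  have hcard : Nat.card ↥(S ⊔ zpowers x) ≤ Nat.card S := by
    rw [← card_map_of_injective (K := S ⊔ zpowers x) (f := (MulAut.conj y).toMonoidHom) (MulAut.conj y).injective]
    exact card_le_of_le (by rintro _ ⟨w, hw, rfl⟩; exact hy w hw)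
  rw [eq_of_le_of_card_ge le_sup_left hcard]
  exact mem_sup_right (mem_zpowers x)

theorem NineSyl.extraspecial {c : Ctx z P E} {R : Subgroup MTwoTwo} {S : Subgroup G} (h : c.NineSyl R S) :
    IsExtraspecial 3 S := by
  haveI : Fact (Nat.Prime 3) := ⟨Nat.prime_three⟩
  refine (Cfsg.EssentialSmall.extraspecial_cube (p := 3) (by rw [h.card]; norm_num) fun hab => ?_).1
  obtain ⟨a, ha, b, hb, hne⟩ := h.nab
  exact hne (congrArg Subtype.val (hab ⟨a, ha⟩ ⟨b, hb⟩))

/-- The order of the normalizer of such a group. -/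
theorem NineSyl.card_norm {c : Ctx z P E} [IsSimpleGroup G] (hG : ¬ IsMulCommutative G)
    (hinv : ∃ n ∈ centralizer ({z} : Set G), ∀ q ∈ P, n * q * n⁻¹ = q⁻¹)
    {R : Subgroup MTwoTwo} {S : Subgroup G} (h : c.NineSyl R S) :
    Nat.card ↥(normalizer (S : Set G)) = 864 := by
  classical
  haveI : Fact (Nat.Prime 3) := ⟨Nat.prime_three⟩
  set NS := normalizer (S : Set G) with hNS
  -- the part in cen
  set D := (normalizer (R : Set MTwoTwo)).comap c.valHom with hD
  have hDcard : Nat.card D = 432 := by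
    have h1 : D.index = (normalizer (R : Set MTwoTwo)).index := index_comap_of_surjective _ c.valHom_surj
    have h2 := Subgroup.card_mul_index D
    have h3 := Subgroup.card_mul_index (normalizer (R : Set MTwoTwo))
    rw [nine_norm h.hR, show Nat.card MTwoTwo = 443520 from CfsgGolay.card_sporM22] at h3
    rw [h1, c.card_cen] at h2
    have : (normalizer (R : Set MTwoTwo)).index = 6160 := by omega
    rw [this] at h2
    omega
  have hin : NS ⊓ c.cen = D.map c.cen.subtype := by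
    ext x
    constructor
    · rintro ⟨hxS, hxc⟩
      refine ⟨⟨x, hxc⟩, ?_, rfl⟩
      show c.valHom ⟨x, hxc⟩ ∈ normalizer (R : Set MTwoTwo)
      refine mem_norm_of fun m hm => ?_
      obtain ⟨y, hy, rfl⟩ := h.lift m hm
      have := h.val_mem _ ((mem_normalizer_iff.mp hxS y).mp hy)
      rwa [c.val_mul (c.cen_le_H0 (mul_mem hxc (h.le hy))) (c.cen_le_H0 (inv_mem hxc)),
        c.val_mul (c.cen_le_H0 hxc) (c.cen_le_H0 (h.le hy)), c.val_inv (c.cen_le_H0 hxc)] at this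
    · rintro ⟨⟨x, hxc⟩, hxD, rfl⟩
      refine ⟨mem_norm_of fun y hy => h.all _ (mul_mem (mul_mem hxc (h.le hy)) (inv_mem hxc)) ?_ ?_, hxc⟩
      · rw [coe_subtype, c.val_mul (c.cen_le_H0 (mul_mem hxc (h.le hy))) (c.cen_le_H0 (inv_mem hxc)),
          c.val_mul (c.cen_le_H0 hxc) (c.cen_le_H0 (h.le hy)), c.val_inv (c.cen_le_H0 hxc)]
        exact (mem_normalizer_iff.mp hxD _).mp (h.val_mem y hy)
      · rw [conj_pow, show 9 = 3 * 3 from rfl, pow_mul, h.cube y hy, one_pow, mul_one, mul_inv_cancel]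
  -- an element inverting P
  obtain ⟨n, hn, hninv⟩ := hinv
  have hnP : ∀ q ∈ P, n * q * n⁻¹ ∈ P := fun q hq => by rw [hninv q hq]; exact inv_mem hq
  have hnS : (S.map (MulAut.conj n).toMonoidHom) ≤ c.cen := by
    rintro _ ⟨x, hx, rfl⟩
    refine ⟨(centralizer ({z} : Set G)).mul_mem ((centralizer ({z} : Set G)).mul_mem hn (h.le hx).1)
      ((centralizer ({z} : Set G)).inv_mem hn), mem_centralizer_iff.mpr fun q hq => ?_⟩
    show q * (n * x * n⁻¹) = n * x * n⁻¹ * q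
    have hq' : n⁻¹ * q * n ∈ P := by
      have := (mem_normalizer_iff''.mp (mem_norm_of hnP) q).mp hq
      exact this
    calc q * (n * x * n⁻¹) = n * (n⁻¹ * q * n * x) * n⁻¹ := by group
      _ = n * x * n⁻¹ * q := by rw [← c.cen_comm (h.le hx) hq']; group
  obtain ⟨y, hy, hyn⟩ := h.conj_into
    ((IsPGroup.of_card (n := 3) (by rw [h.card]; norm_num) : IsPGroup 3 S).map _) hnS
  set m := y * n with hm
  have hmS : m ∈ NS := mem_norm_of fun x hx => by
    have := hyn _ ⟨x, hx, rfl⟩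
    rwa [show y * ((MulAut.conj n).toMonoidHom x) * y⁻¹ = m * x * m⁻¹ by
      show y * (n * x * n⁻¹) * y⁻¹ = _; rw [hm]; group] at this
  obtain ⟨p, hp, hp1, hgen⟩ := c.exists_gen
  have hminv : ∀ q ∈ P, m * q * m⁻¹ = q⁻¹ := fun q hq => by
    rw [hm, show y * n * q * (y * n)⁻¹ = y * (n * q * n⁻¹) * y⁻¹ by group, hninv q hq, c.cen_comm hy (inv_mem hq),
      mul_inv_cancel_right]
  have hmc : m ∉ c.cen := fun hmc => hp1 (by
    have h3 := hminv p hp
    rw [c.cen_comm hmc hp, mul_inv_cancel_right, eq_inv_iff_mul_eq_one] at h3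
    have := c.P_cube hp
    rwa [h3, one_mul] at this)
  have hidx : ((NS ⊓ c.cen).subgroupOf NS).index = 2 := by
    refine Subgroup.index_eq_two_iff.mpr ⟨⟨m, hmS⟩, fun b => ?_⟩
    have hbP := h.norm_le b.2
    have hbH := c.norm_P hG ⟨n, hn, hninv⟩ hbP
    by_cases hb : (b : G) ∈ c.cen
    · refine Or.inr ⟨mem_subgroupOf.mpr ⟨b.2, hb⟩, fun hbm => hmc ?_⟩
      have := mul_mem (inv_mem hb) (mem_subgroupOf.mp hbm).2
      simpa using this
    · refine Or.inl ⟨mem_subgroupOf.mpr ⟨mul_mem b.2 hmS, ?_⟩, fun h => hb (mem_subgroupOf.mp h).2⟩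
      have hflip : ∀ q ∈ P, (b : G) * q * (b : G)⁻¹ = q⁻¹ := by
        intro q hq
        obtain ⟨q0, hq0, hne⟩ : ∃ q0 ∈ P, q0 * (b : G) ≠ b * q0 := by
          by_contra hh
          push Not at hh
          exact hb ⟨hbH, mem_centralizer_iff.mpr hh⟩
        exact conj_inv_of_card_three c.hP hbP hq0 (Ne.symm hne) hq
      refine ⟨mul_mem hbH (mul_mem hy.1 hn), mem_centralizer_iff.mpr fun q hq => ?_⟩
      show q * ((b : G) * m) = (b : G) * m * q
      have e : (b : G) * m * q * ((b : G) * m)⁻¹ = q := by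
        rw [show (b : G) * m * q * ((b : G) * m)⁻¹ = b * (m * q * m⁻¹) * (b : G)⁻¹ by group, hminv q hq,
          hflip _ (inv_mem hq), inv_inv]
      exact (mul_inv_eq_iff_eq_mul.mp e).symm
  have := Subgroup.card_mul_index ((NS ⊓ c.cen).subgroupOf NS)
  rw [hidx, Nat.card_congr (subgroupOfEquivOfLe inf_le_left).toEquiv, hin,
    card_map_of_injective c.cen.subtype_injective, hDcard] at this
  omega

/-- An element commuting with S and z lying in the centre. -/
theorem NineSyl.in_H {c : Ctx z P E} [IsSimpleGroup G] (hG : ¬ IsMulCommutative G)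
    (hinv : ∃ n ∈ centralizer ({z} : Set G), ∀ q ∈ P, n * q * n⁻¹ = q⁻¹)
    {R : Subgroup MTwoTwo} {S : Subgroup G} (h : c.NineSyl R S) {g : G}
    (hg : ∀ x ∈ S, g * x * g⁻¹ * z = z * (g * x * g⁻¹)) : g ∈ centralizer ({z} : Set G) := by
  set t := g⁻¹ * z * g with ht
  have htS : ∀ x ∈ S, x * t = t * x := fun x hx => by
    calc x * t = g⁻¹ * (g * x * g⁻¹ * z) * g := by rw [ht]; group
      _ = t * x := by rw [hg x hx, ht]; group
  have htc : t ∈ centralizer (P : Set G) := mem_centralizer_iff.mpr fun q hq => htS q (h.hP hq)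
  obtain ⟨hC, -⟩ := c.cent_P hG hinv
  have htcen : t ∈ c.cen := ⟨hC htc, htc⟩
  have ht2 : t * t = 1 := by rw [ht, show g⁻¹ * z * g * (g⁻¹ * z * g) = g⁻¹ * (z * z) * g by group, c.zz]; group
  haveI : Nontrivial R := Finite.one_lt_card_iff_nontrivial.mp (by rw [h.hR]; norm_num)
  obtain ⟨⟨m, hm⟩, hm1⟩ := exists_ne (1 : R)
  have hv : c.val t = 1 := by
    by_contra hv
    obtain ⟨x, hx, hxm⟩ := h.lift m hm
    refine nine_invol h.hR (i := c.val t) ?_ hv (mem_norm_of fun m' hm' => ?_) hm (fun e => hm1 (Subtype.ext e)) ?_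
    · rw [← c.val_mul (c.cen_le_H0 htcen) (c.cen_le_H0 htcen), ht2]; exact (c.val_eq_one (one_mem _)).mpr (one_mem _)
    · obtain ⟨x', hx', rfl⟩ := h.lift m' hm'
      rw [← c.val_mul (c.cen_le_H0 htcen) (c.cen_le_H0 (h.le hx')), ← htS x' hx',
        c.val_mul (c.cen_le_H0 (h.le hx')) (c.cen_le_H0 htcen), mul_inv_cancel_right]
      exact hm'
    · rw [← hxm, ← c.val_mul (c.cen_le_H0 htcen) (c.cen_le_H0 (h.le hx)),
        ← c.val_mul (c.cen_le_H0 (h.le hx)) (c.cen_le_H0 htcen), htS x hx]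
  obtain ⟨s, hs, q, hq, e⟩ := c.cen_N htcen ((c.val_eq_one (c.cen_le_H0 htcen)).mp hv)
  have hc : Commute s q := (c.Z_comm (c.P_le hq) hs).symm
  have h2 : q * q = 1 := by
    rw [e, show s * q * (s * q) = s * (q * s) * q by group, ← hc.eq,
      show s * (s * q) * q = s * s * (q * q) by group, c.Z_sq hs, one_mul] at ht2
    exact ht2
  have hq1 : q = 1 := by
    have h3 := c.P_cube hq
    rwa [h2, one_mul] at h3
  rw [hq1, mul_one] at e
  rcases c.mem_Z.mp hs with h' | h'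
  · refine absurd ?_ c.z_ne_one
    rw [show z = g * t * g⁻¹ by rw [ht]; group, e, h']; group
  · rw [h'] at e
    refine mem_centralizer_singleton_iff.mpr ?_
    calc g * z = g * t := by rw [e]
      _ = z * g := by rw [ht]; group

/-- Elements of order three in cen outside N are conjugate. -/
theorem NineSyl.conj_outside {c : Ctx z P E} {R : Subgroup MTwoTwo} {S : Subgroup G} (h : c.NineSyl R S)
    {x y : G} (hx : x ∈ S) (hy : y ∈ S) (hx1 : c.val x ≠ 1) (hy1 : c.val y ≠ 1) : IsConj x y := by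
  obtain ⟨m, hm, hmx⟩ := (nine_facts h.hR).2.2.1 _ (h.val_mem x hx) _ (h.val_mem y hy) hx1 hy1
  obtain ⟨n, hn, hnm⟩ := c.exists_val m
  have hn0 := c.cen_le_H0 hn
  have hval : c.val (n * x * n⁻¹) = c.val y := by
    rw [c.val_mul (mul_mem hn0 (c.cen_le_H0 (h.le hx))) (inv_mem hn0), c.val_mul hn0 (c.cen_le_H0 (h.le hx)),
      c.val_inv hn0, hnm, hmx]
  have hx' : n * x * n⁻¹ ∈ S := h.all _ (mul_mem (mul_mem hn (h.le hx)) (inv_mem hn))
    (by rw [hval]; exact h.val_mem y hy)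
    (by rw [conj_pow, show 9 = 3 * 3 from rfl, pow_mul, h.cube x hx, one_pow, mul_one, mul_inv_cancel])
  set q := y⁻¹ * (n * x * n⁻¹) with hq
  have hqP : q ∈ P := c.mem_P_of (h.le (mul_mem (inv_mem hy) hx'))
    (by rw [hq, c.val_mul (c.cen_le_H0 (h.le (inv_mem hy))) (c.cen_le_H0 (h.le hx')), c.val_inv (c.cen_le_H0 (h.le hy)),
      hval, inv_mul_cancel])
    (by rw [show 9 = 3 * 3 from rfl, pow_mul, h.cube _ (mul_mem (inv_mem hy) hx'), one_pow])
  have h1 : IsConj x (y * q) := isConj_iff.mpr ⟨n, by rw [hq, mul_inv_cancel_left]⟩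
  refine h1.trans ?_
  by_cases hq1 : q = 1
  · rw [hq1, mul_one]
  have hgen : P = zpowers q := by
    refine (eq_of_le_of_card_ge (zpowers_le.mpr hqP) ?_).symm
    rw [Nat.card_zpowers, c.hP, orderOf_eq_prime (hp := ⟨Nat.prime_three⟩)
      (by rw [pow_succ, sq]; exact c.P_cube hqP) hq1]
  obtain ⟨s, hs, hsy⟩ := c.exists_lift_frame (h.le hy) (h.cube y hy) hy1 hqP hgen
  exact (isConj_iff.mpr ⟨s, hsy⟩).symm

/-- All elements of order three are conjugate. -/
theorem three_class (c : Ctx z P E) [IsSimpleGroup G] (hG : ¬ IsMulCommutative G)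
    (hinv : ∃ n ∈ centralizer ({z} : Set G), ∀ q ∈ P, n * q * n⁻¹ = q⁻¹) :
    ∀ x y : G, orderOf x = 3 → orderOf y = 3 → IsConj x y := by
  classical
  haveI : Fact (Nat.Prime 3) := ⟨Nat.prime_three⟩
  obtain ⟨R, S, h⟩ := c.exists_nineSyl
  obtain ⟨T, hT⟩ := h.sylow hG hinv
  obtain ⟨-, g, p, hp, hgen, hrcen, hr1, -⟩ := c.cent_P hG hinv
  set r := g⁻¹ * p * g with hr
  have r3 : r ^ 3 = 1 := by
    rw [hr, show (g⁻¹ * p * g) ^ 3 = g⁻¹ * (p * p * p) * g by simp only [pow_succ, pow_zero]; group, c.P_cube hp]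
    group
  have hone : IsPGroup 3 (zpowers r) := by
    rintro ⟨x, hx⟩
    obtain ⟨i, rfl⟩ := mem_zpowers_iff.mp hx
    exact ⟨1, Subtype.ext (by
      rw [pow_one, coe_pow]
      show (r ^ i) ^ 3 = 1
      rw [← zpow_natCast, ← zpow_mul, mul_comm, zpow_mul, zpow_natCast, r3, one_zpow])⟩
  obtain ⟨y, hy, hyS⟩ := h.conj_into hone (zpowers_le.mpr hrcen)
  set w := y * r * y⁻¹ with hw
  have hwS : w ∈ S := hyS r (mem_zpowers r)
  have hw1 : c.val w ≠ 1 := by
    rw [hw, c.val_mul (c.cen_le_H0 (mul_mem hy hrcen)) (c.cen_le_H0 (inv_mem hy)),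
      c.val_mul (c.cen_le_H0 hy) (c.cen_le_H0 hrcen), c.val_inv (c.cen_le_H0 hy)]
    exact fun e => hr1 (conj_eq_one_iff.mp e)
  have hpw : IsConj p w := isConj_iff.mpr ⟨y * g⁻¹, by rw [hw, hr]; group⟩
  -- every element of order three is conjugate to w
  suffices key : ∀ x : G, orderOf x = 3 → IsConj x w from fun x y hx hy => (key x hx).trans (key y hy).symm
  intro x hx
  have hxp : IsPGroup 3 (zpowers x) := IsPGroup.of_card (n := 1) (by rw [Nat.card_zpowers, hx, pow_one])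
  obtain ⟨T', hT'⟩ := hxp.exists_le_sylow
  obtain ⟨k, hk⟩ := MulAction.exists_smul_eq G T' T
  set x' := k * x * k⁻¹ with hx'
  have hx'S : x' ∈ S := by
    rw [← hT, ← hk, Sylow.coe_subgroup_smul]
    exact Subgroup.smul_mem_pointwise_smul x (MulAut.conj k) _ (hT' (mem_zpowers x))
  have h1 : IsConj x x' := isConj_iff.mpr ⟨k, rfl⟩
  refine h1.trans ?_
  by_cases hv : c.val x' = 1
  · have hxP : x' ∈ P := c.mem_P_of (h.le hx'S) hv (by
      rw [show 9 = 3 * 3 from rfl, pow_mul, h.cube x' hx'S, one_pow])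
    have hx1 : x' ≠ 1 := fun e => by
      rw [hx'] at e
      rw [conj_eq_one_iff.mp e, orderOf_one] at hx
      norm_num at hx
    have p3 : p ^ 3 = 1 := by rw [pow_succ, sq]; exact c.P_cube hp
    obtain ⟨i, hi⟩ := mem_zpowers_iff.mp (hgen ▸ hxP : x' ∈ zpowers p)
    rw [zpow_eq_zpow_emod' i p3] at hi
    have hlt : i % ((3 : ℕ) : ℤ) < 3 := Int.emod_lt_of_pos _ (by norm_num)
    have hge : 0 ≤ i % ((3 : ℕ) : ℤ) := Int.emod_nonneg _ (by norm_num)
    obtain ⟨n, hn, hninv⟩ := hinv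
    interval_cases hc : i % ((3 : ℕ) : ℤ)
    · exact absurd (by rw [← hi, zpow_zero]) hx1
    · rw [show x' = p by rw [← hi, zpow_one]]; exact hpw
    · refine (isConj_iff.mpr ⟨n, ?_⟩ : IsConj x' p).trans hpw
      rw [hninv x' hxP, ← hi, inv_eq_iff_mul_eq_one, ← zpow_add_one]
      exact_mod_cast p3
  · exact h.conj_outside hx'S hwS hv hw1

end Ctx

end CfsgLib.JankoFour
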