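/-
Hexad groups of M22 are pointwise stabilizers of octads through the two special points.
-/
import Cfsg.Agent.Lib.JankoFour.M22Three
import Cfsg.Agent.Lib.Golay.OctStab
import Cfsg.Agent.Lib.Products
import Cfsg.Agent.Lib.JankoFour.Hex

set_option autoImplicit false

namespace CfsgLib.JankoFour

open Cfsg CfsgGolay M22Data
open scoped Pointwise

attribute [local irreducible] codeL octadL dodecadL slpCodes

local notation "M" => MTwoTwo

/-- `A` is the pointwise stabilizer of the octad `o` through the two special points. -/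
structure OctHex (A : Subgroup M) (o : Finset GolayPt) : Prop where
  oct : o ∈ octads
  pts : none ∈ o ∧ pt 0 ∈ o
  mem : ∀ g : M, g ∈ A ↔ ∀ p ∈ o, (g : Equiv.Perm GolayPt) p = p
  fix : ∀ a ∈ A, a ≠ 1 → fixF (a : Equiv.Perm GolayPt) = o
  card : Nat.card A = 16

theorem hexMask_checked : (hexI.all fun i => Nat.beq i 0 || Nat.beq (fixedMask (wd i)) 13062145) = true := by
  decide +kernel

theorem hexOct_checked : (octadL.contains 13062145) = true := by decide +kernel

theorem exists_octHex0 : ∃ (A : Subgroup M) (o : Finset GolayPt),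
    A ≤ sylS ∧ (A : Set M) = idxSet hexI ∧ OctHex A o := by
  classical
  obtain ⟨A, hle, hA, hhex, -⟩ := exists_hex0
  set o := toSet 13062145 with ho
  have hoct : o ∈ octads := toSet_mem_octads (List.contains_iff_mem.mp hexOct_checked)
  have hmask := hexMask_checked
  simp only [List.all_eq_true, Bool.or_eq_true] at hmask
  have hfix : ∀ a ∈ A, a ≠ 1 → fixF (a : Equiv.Perm GolayPt) = o := by
    intro a ha ha1
    obtain ⟨i, hi, rfl⟩ : a ∈ idxSet hexI := hA ▸ ha
    rcases hmask i hi with h | h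
    · exact absurd (by rw [Nat.eq_of_beq_eq_true h, we_zero]) ha1
    · rw [fixF_repr (we_repr i), Nat.eq_of_beq_eq_true h]
  have hsub : ∀ g ∈ A, ∀ p ∈ o, (g : Equiv.Perm GolayPt) p = p := by
    intro g hg p hp
    by_cases h1 : g = 1
    · subst h1; rfl
    · rw [← mem_fixF, hfix g hg h1]; exact hp
  let X : Set M := {g | ∀ p ∈ o, (g : Equiv.Perm GolayPt) p = p}
  have hX : X.ncard ≤ 16 := by
    rw [← Nat.card_coe_set_eq, ← (card_fixOct hoct).1]
    have hM : ∀ g : M, (g : Equiv.Perm GolayPt) ∈ M24 := fun g =>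
      (mem_subG.mp (M22_eq.le g.2 : (g : Equiv.Perm GolayPt) ∈ subG [0, 23] [])).1
    refine Nat.card_le_card_of_injective (fun g : X => (⟨(g.1 : Equiv.Perm GolayPt), ⟨hM g.1,
      (mem_fixingSubgroup_iff _).mpr fun p hp => g.2 p hp⟩⟩ : fixOct o)) fun g h e => ?_
    exact Subtype.ext (Subtype.ext (congrArg (fun x : fixOct o => (x : Equiv.Perm GolayPt)) e))
  have h16 : Nat.card A = 16 := hhex.1.2.1
  have heq : (A : Set M) = X := by
    refine Set.eq_of_subset_of_ncard_le (fun g hg => hsub g hg) ?_ (Set.toFinite _)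
    rw [← Nat.card_coe_set_eq (A : Set M)]
    exact hX.trans h16.ge
  refine ⟨A, o, hle, hA, hoct, ?_, fun g => ?_, hfix, h16⟩
  · constructor <;> simp only [ho, mem_toSet] <;> decide +kernel
  · rw [← SetLike.mem_coe, heq]; rfl

theorem OctHex.map {A : Subgroup M} {o : Finset GolayPt} (hA : OctHex A o) (h : M) :
    OctHex (A.map (MulAut.conj h).toMonoidHom) ((h : Equiv.Perm GolayPt) • o) := by
  have hM : (h : Equiv.Perm GolayPt) ∈ M24 :=
    (mem_subG.mp (M22_eq.le h.2 : (h : Equiv.Perm GolayPt) ∈ subG [0, 23] [])).1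
  obtain ⟨f0, f1⟩ := fixed_pts h
  rw [mem_fixF] at f0 f1
  refine ⟨smul_mem_octads hM hA.oct, ⟨?_, ?_⟩, fun g => ?_, ?_, by
    rw [Subgroup.card_map_of_injective (MulAut.conj h).injective, hA.card]⟩
  · rw [← f0]; exact Finset.mem_smul_finset.mpr ⟨none, hA.pts.1, rfl⟩
  · rw [← f1]; exact Finset.mem_smul_finset.mpr ⟨pt 0, hA.pts.2, rfl⟩
  · constructor
    · rintro ⟨a, ha, rfl⟩ p hp
      obtain ⟨q, hq, rfl⟩ := Finset.mem_smul_finset.mp hp
      simp [(hA.mem a).mp ha q hq]
    · intro hg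
      refine ⟨h⁻¹ * g * h, (hA.mem _).mpr fun q hq => ?_, ?_⟩
      · have := hg _ (Finset.mem_smul_finset.mpr ⟨q, hq, rfl⟩)
        simp only [Subgroup.coe_mul, Subgroup.coe_inv, Equiv.Perm.mul_apply]
        rw [Equiv.Perm.smul_def] at this
        rw [this]; simp
      · simp only [MulEquiv.coe_toMonoidHom, MulAut.conj_apply]; group
  · rintro _ ⟨a, ha, rfl⟩ ha1
    have ha1' : a ≠ 1 := fun e => ha1 (by rw [e, map_one])
    simp only [MulEquiv.coe_toMonoidHom, MulAut.conj_apply, Subgroup.coe_mul, Subgroup.coe_inv]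
    rw [fixF_conj, hA.fix a ha ha1']
    ext p; simp [Finset.mem_smul_finset]

/-- An involution lies in only one such group. -/
theorem OctHex.unique {A A' : Subgroup M} {o o' : Finset GolayPt} (hA : OctHex A o) (hA' : OctHex A' o') {a : M}
    (ha : a ∈ A) (ha' : a ∈ A') (ha1 : a ≠ 1) : A = A' := by
  have e : o = o' := by rw [← hA.fix a ha ha1, hA'.fix a ha' ha1]
  subst e
  ext g
  rw [hA.mem, hA'.mem]

theorem OctHex.mem_norm {A : Subgroup M} {o : Finset GolayPt} (hA : OctHex A o) {g : M} :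
    g ∈ Subgroup.normalizer (A : Set M) ↔ (g : Equiv.Perm GolayPt) • o = o := by
  classical
  have hA' := hA.map g
  constructor
  · intro hg
    obtain ⟨a, ha, ha1⟩ : ∃ a ∈ A, a ≠ (1 : M) := (A.bot_or_exists_ne_one).resolve_left fun e => by
      have := hA.card; rw [e, Subgroup.card_bot] at this; norm_num at this
    have h1 : g * a * g⁻¹ ∈ A := (Subgroup.mem_normalizer_iff.mp hg a).mp ha
    have h1' : g * a * g⁻¹ ≠ 1 := fun e => ha1 (conj_eq_one_iff.mp e)
    exact (hA'.fix (g * a * g⁻¹) ⟨a, ha, rfl⟩ h1').symm.trans (hA.fix _ h1 h1')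
  · intro hg
    have e : A.map (MulAut.conj g).toMonoidHom = A := by
      ext x
      rw [hA'.mem, hA.mem, hg]
    rw [Subgroup.mem_normalizer_iff]
    intro x
    constructor
    · intro hx
      exact e ▸ ⟨x, hx, rfl⟩
    · intro hx
      obtain ⟨y, hy, hyx⟩ : g * x * g⁻¹ ∈ A.map (MulAut.conj g).toMonoidHom := e.symm ▸ hx
      exact mul_left_cancel (mul_right_cancel (show g * y * g⁻¹ = g * x * g⁻¹ from hyx)) ▸ hy

theorem alt_two {o : Type} [Fintype o] [DecidableEq o] (h8 : Fintype.card o = 8) {a b : o} (hab : a ≠ b) :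
    ∃ (S : Type) (_ : Fintype S) (_ : DecidableEq S) (π : alternatingGroup S →* Equiv.Perm o),
      Fintype.card S = 6 ∧ Function.Injective π ∧
        ∀ σ, σ ∈ π.range ↔ σ ∈ alternatingGroup o ∧ σ a = a ∧ σ b = b := by
  classical
  let S := {x : o // x ≠ a ∧ x ≠ b}
  have hS : Fintype.card S = 6 := by
    rw [Fintype.card_subtype]
    have e : (Finset.univ.filter fun x : o => x ≠ a ∧ x ≠ b) = (Finset.univ.erase a).erase b := by
      ext x; simp; tauto
    rw [e, Finset.card_erase_of_mem (by simp [hab.symm]), Finset.card_erase_of_mem (Finset.mem_univ _),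
      Finset.card_univ, h8]
  refine ⟨S, inferInstance, inferInstance, Equiv.Perm.ofSubtype.comp (alternatingGroup S).subtype, hS,
    fun π π' h => Subtype.ext (Equiv.Perm.ofSubtype_injective h), fun σ => ⟨?_, ?_⟩⟩
  · rintro ⟨π, rfl⟩
    exact ⟨by
        rw [Equiv.Perm.mem_alternatingGroup, MonoidHom.comp_apply, Subgroup.coe_subtype, Equiv.Perm.sign_ofSubtype]
        exact π.2,
      Equiv.Perm.ofSubtype_apply_of_not_mem _ (by simp), Equiv.Perm.ofSubtype_apply_of_not_mem _ (by simp)⟩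
  · rintro ⟨hσ, ha, hb⟩
    have hinv : ∀ x, (σ x ≠ a ∧ σ x ≠ b) ↔ (x ≠ a ∧ x ≠ b) :=
      fun x => and_congr (σ.injective.ne_iff' ha) (σ.injective.ne_iff' hb)
    have e : Equiv.Perm.ofSubtype (σ.subtypePerm hinv) = σ :=
      Equiv.Perm.ofSubtype_subtypePerm (p := fun x => x ≠ a ∧ x ≠ b) hinv fun x hx => by
        constructor <;> intro e <;> subst e
        exacts [hx ha, hx hb]
    refine ⟨⟨σ.subtypePerm hinv, ?_⟩, e⟩
    rw [Equiv.Perm.mem_alternatingGroup, ← Equiv.Perm.sign_ofSubtype, e]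
    exact hσ

/-- The normalizer modulo the group is simple of order 360. -/
theorem OctHex.norm_quot {A : Subgroup M} {o : Finset GolayPt} (hA : OctHex A o) :
    ∃ f : Subgroup.normalizer (A : Set M) →* Equiv.Perm ↥o,
      f.ker.map (Subgroup.normalizer (A : Set M)).subtype = A ∧ Nat.card f.range = 360 ∧ IsSimpleGroup f.range := by
  classical
  set N := Subgroup.normalizer (A : Set M) with hN
  have hM : ∀ g : M, (g : Equiv.Perm GolayPt) ∈ M24 := fun g =>
    (mem_subG.mp (M22_eq.le g.2 : (g : Equiv.Perm GolayPt) ∈ subG [0, 23] [])).1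
  have hst : ∀ g : N, ((g : M) : Equiv.Perm GolayPt) ∈ stabM o := fun g =>
    mem_stabM.mpr ⟨hM g.1, hA.mem_norm.mp g.2⟩
  let f : N →* Equiv.Perm ↥o :=
    (octRes o).comp ((MonoidHom.comp (Spor.M22).subtype N.subtype).codRestrict (stabM o) hst)
  have hfa : ∀ (g : N) (x : ↥o), ((f g x : ↥o) : GolayPt) = ((g : M) : Equiv.Perm GolayPt) x := fun g x => rfl
  have hker : f.ker.map N.subtype = A := by
    ext g
    constructor
    · rintro ⟨x, hx, rfl⟩
      refine (hA.mem _).mpr fun p hp => ?_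
      have := congrArg (fun e : Equiv.Perm ↥o => ((e ⟨p, hp⟩ : ↥o) : GolayPt)) (MonoidHom.mem_ker.mp hx)
      simpa [hfa] using this
    · intro hg
      refine ⟨⟨g, Subgroup.le_normalizer hg⟩, MonoidHom.mem_ker.mpr (Equiv.ext fun x => Subtype.ext ?_), rfl⟩
      rw [hfa]; exact (hA.mem g).mp hg x x.2
  obtain ⟨S, _, _, π, hS, hπ, hπr⟩ := alt_two (o := ↥o)
    (by rw [Fintype.card_coe, card_of_mem_octads hA.oct]) (a := ⟨none, hA.pts.1⟩) (b := ⟨pt 0, hA.pts.2⟩)
    (fun e => absurd (congrArg Subtype.val e) (show (none : GolayPt) ≠ pt 0 by decide))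
  have hr : f.range = π.range := by
    ext σ
    rw [hπr]
    constructor
    · rintro ⟨g, rfl⟩
      refine ⟨octRes_range hA.oct ▸ ⟨_, rfl⟩, Subtype.ext ?_, Subtype.ext ?_⟩ <;> rw [hfa]
      exacts [mem_fixF.mp (fixed_pts g.1).1, mem_fixF.mp (fixed_pts g.1).2]
    · rintro ⟨hσ, h0, h1'⟩
      obtain ⟨k, rfl⟩ : σ ∈ (octRes o).range := (octRes_range hA.oct).symm ▸ hσ
      have k0 : (k : Equiv.Perm GolayPt) none = none := congrArg Subtype.val h0
      have k1 : (k : Equiv.Perm GolayPt) (pt 0) = pt 0 := congrArg Subtype.val h1'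
      obtain ⟨hkM, hko⟩ := mem_stabM.mp k.2
      have hk22 : (k : Equiv.Perm GolayPt) ∈ Spor.M22 := by
        rw [M22_eq, mem_subG, mem_fixL]
        refine ⟨hkM, fun p hp => ?_, fun m hm => absurd hm (by simp)⟩
        have hp' : idx p = 0 ∨ idx p = 23 := by simpa using hp
        rcases hp' with hp' | hp'
        · rw [show p = pt 0 by rw [← pt_idx p, hp']]; exact k1
        · rw [show p = (none : GolayPt) by rw [← pt_idx p, hp']; decide]; exact k0
      exact ⟨⟨⟨_, hk22⟩, hA.mem_norm.mpr hko⟩, rfl⟩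
  haveI : IsSimpleGroup (alternatingGroup S) :=
    alternatingGroup.isSimpleGroup (by rw [Nat.card_eq_fintype_card, hS]; norm_num)
  let e : alternatingGroup S ≃* f.range := (MonoidHom.ofInjective hπ).trans (MulEquiv.subgroupCongr hr.symm)
  refine ⟨f, hker, ?_, e.isSimpleGroup_congr.mp inferInstance⟩
  haveI : Nontrivial S := Fintype.one_lt_card_iff_nontrivial.mp (by omega)
  rw [← Nat.card_congr e.toEquiv, nat_card_alternatingGroup, Nat.card_eq_fintype_card, hS]
  rfl

theorem OctHex.card_norm {A : Subgroup M} {o : Finset GolayPt} (hA : OctHex A o) :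
    Nat.card ↥(Subgroup.normalizer (A : Set M)) = 5760 := by
  obtain ⟨f, hker, hr, -⟩ := hA.norm_quot
  have h1 := Subgroup.card_mul_index f.ker
  rw [Subgroup.index_ker, ← Subgroup.card_map_of_injective (f := (Subgroup.normalizer (A : Set M)).subtype)
    (Subgroup.normalizer (A : Set M)).subtype_injective, hker, hA.card, hr] at h1
  omega

/-- An octad group is its own centralizer. -/
theorem OctHex.self_centralizing {A : Subgroup M} {o : Finset GolayPt} (hA : OctHex A o) (hh : HexLike A) {g : M}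
    (hg : ∀ a ∈ A, g * a = a * g) : g ∈ A := by
  set N := Subgroup.normalizer (A : Set M) with hN
  obtain ⟨f, hker, -, hs⟩ := hA.norm_quot
  let C : Subgroup N := (Subgroup.centralizer (A : Set M)).subgroupOf N
  haveI hC : C.Normal := ⟨fun x hx n => by
    rw [Subgroup.mem_subgroupOf, Subgroup.mem_centralizer_iff] at hx ⊢
    intro a ha
    have h := hx _ ((Subgroup.mem_normalizer_iff''.mp n.2 a).mp ha)
    simp only [Subgroup.coe_mul, Subgroup.coe_inv]
    calc a * (↑n * ↑x * (↑n)⁻¹) = ↑n * (((↑n)⁻¹ * a * ↑n) * ↑x) * (↑n)⁻¹ := by group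
      _ = ↑n * ↑x * (↑n)⁻¹ * a := by rw [h]; group⟩
  have hCn : (C.map f.rangeRestrict).Normal := hC.map _ f.rangeRestrict_surjective
  have hgC : g ∈ Subgroup.centralizer (A : Set M) := Subgroup.mem_centralizer_iff.mpr fun a ha => (hg a ha).symm
  have hgN : g ∈ N := Subgroup.mem_normalizer_iff.mpr fun a => ⟨fun ha => by
    rw [hg a ha, mul_inv_cancel_right]; exact ha, fun ha => by
      have h2 := hg _ ha
      have : g * a * g⁻¹ = a := by
        have h3 : g * (g * a * g⁻¹) * g⁻¹ = g * a * g⁻¹ := by rw [h2]; group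
        have h4 := mul_left_cancel (mul_right_cancel h3)
        exact h4
      rwa [this] at ha⟩
  haveI := hs
  rcases hCn.eq_bot_or_eq_top with e | e
  · have h1 : f.rangeRestrict ⟨g, hgN⟩ = 1 := Subgroup.mem_bot.mp (e ▸ ⟨⟨g, hgN⟩, hgC, rfl⟩)
    rw [← hker]
    exact ⟨⟨g, hgN⟩, MonoidHom.mem_ker.mpr (congrArg Subtype.val h1), rfl⟩
  · exfalso
    obtain ⟨a, ha, b, hb, -, -, ha1, hb1, -, hab, -⟩ := Ctx.exists_three hh.2.1
    obtain ⟨n, hn, hnab⟩ := hh.2.2.2 a ha b hb ha1 hb1
    obtain ⟨x, hx, hxe⟩ : f.rangeRestrict ⟨n, hn⟩ ∈ C.map f.rangeRestrict := e ▸ Subgroup.mem_top _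
    have h1 : (⟨n, hn⟩ : N) * x⁻¹ ∈ f.ker := by
      rw [MonoidHom.mem_ker, map_mul, map_inv, show f x = f ⟨n, hn⟩ from congrArg Subtype.val hxe, mul_inv_cancel]
    have h2 : n * (x : M)⁻¹ ∈ A := hker.le ⟨_, h1, rfl⟩
    haveI := hh.1.1
    have h3 : n * (x : M)⁻¹ * a = a * (n * (x : M)⁻¹) := setLike_mul_comm h2 ha
    have h4 : a * (x : M) = (x : M) * a := Subgroup.mem_centralizer_iff.mp hx a ha
    apply hab
    calc a = a * (n * (x : M)⁻¹) * ((x : M) * n⁻¹) := by group
      _ = n * ((x : M)⁻¹ * (a * (x : M))) * n⁻¹ := by rw [← h3]; group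
      _ = b := by rw [h4, inv_mul_cancel_left, hnab]

theorem hexSq_checked : (Nat.blt 66 128 && hexI.all fun i => !Nat.beq (pcomp (wd 66) (wd 66)) (pcomp (wd i) pid)) = true := by
  decide +kernel

/-- A 2-group lies in a conjugate of the chosen Sylow subgroup and its hexad groups come from the chosen one. -/
theorem oct_sylow {D : Subgroup M} (hD : IsPGroup 2 D) :
    ∃ (h : M) (A0 : Subgroup M), (A0 : Set M) = idxSet hexI ∧ D ≤ sylS.map (MulAut.conj h).toMonoidHom ∧
      ∀ A : Subgroup M, A ≤ D → ¬ DuadLike A → IsElementaryAbelian 2 A → Nat.card A = 16 →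
        A = A0.map (MulAut.conj h).toMonoidHom := by
  obtain ⟨S, hS⟩ := hD.exists_le_sylow
  obtain ⟨h, hh⟩ := sylow_two_conj S
  obtain ⟨A0, -, hA0, -, hclass⟩ := exists_hex0
  refine ⟨h, A0, hA0, hh ▸ hS, fun A hAD hnd hel h16 => ?_⟩
  set φ := MulAut.conj h
  have eA := map_conj_symm A φ
  have hA' : A.map φ.symm.toMonoidHom ≤ sylS := by
    rintro _ ⟨a, ha, rfl⟩
    obtain ⟨s, hs, rfl⟩ := (hh ▸ hS) (hAD ha)
    simpa using hs
  rcases hclass _ hA' (elem_map _ hel)
    (by rw [Subgroup.card_map_of_injective φ.symm.injective, h16]) with e | e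
  · rw [← eA, e]
  · refine absurd ?_ hnd
    rw [← eA]
    exact e.map φ

/-- A hexad group normalized by another one equals it. -/
theorem hex_eq_of_norm {A A' : Subgroup M} (hnd : ¬ DuadLike A) (hnd' : ¬ DuadLike A')
    (hel : IsElementaryAbelian 2 A) (hel' : IsElementaryAbelian 2 A') (h16 : Nat.card A = 16)
    (h16' : Nat.card A' = 16) (hN : A' ≤ Subgroup.normalizer (A : Set M)) : A' = A := by
  haveI : Fact (Nat.Prime 2) := ⟨Nat.prime_two⟩
  have hD : IsPGroup 2 (A' ⊔ A : Subgroup M) := IsPGroup.to_sup_of_normal_right'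
    (fun x => ⟨1, Subtype.ext (by rw [pow_one]; exact hel'.2 _ x.2)⟩)
    (fun x => ⟨1, Subtype.ext (by rw [pow_one]; exact hel.2 _ x.2)⟩) hN
  obtain ⟨h, A0, -, -, huniq⟩ := oct_sylow hD
  rw [huniq A' le_sup_left hnd' hel' h16', huniq A le_sup_right hnd hel h16]

/-- An elementary abelian group normalizing a hexad group is at most four modulo it. -/
theorem oct_rank {A X : Subgroup M} {o : Finset GolayPt} (hA : OctHex A o) (hnd : ¬ DuadLike A)
    (hel : IsElementaryAbelian 2 A) (hX : IsElementaryAbelian 2 X) (hXN : X ≤ Subgroup.normalizer (A : Set M)) :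
    Nat.card X ≤ 4 * Nat.card ↥(X ⊓ A) := by
  classical
  haveI : Fact (Nat.Prime 2) := ⟨Nat.prime_two⟩
  set D := X ⊔ A with hDdef
  have hD : IsPGroup 2 D := IsPGroup.to_sup_of_normal_right'
    (fun x => ⟨1, Subtype.ext (by rw [pow_one]; exact hX.2 _ x.2)⟩)
    (fun x => ⟨1, Subtype.ext (by rw [pow_one]; exact hel.2 _ x.2)⟩) hXN
  obtain ⟨h, A0, hA0, hDS, huniq⟩ := oct_sylow hD
  have hAeq := huniq A le_sup_right hnd hel hA.card
  have hsq : ∀ d ∈ D, d * d ∈ A := by
    intro d hd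
    rw [hDdef, ← SetLike.mem_coe, Subgroup.coe_mul_of_left_le_normalizer_right _ _ hXN] at hd
    obtain ⟨x, hx, a, ha, rfl⟩ := hd
    have hx2 : x * x = 1 := by rw [← sq]; exact hX.2 x hx
    have hxa : x⁻¹ * a * x ∈ A := (Subgroup.mem_normalizer_iff''.mp (hXN hx) a).mp ha
    show x * a * (x * a) ∈ A
    rw [show x * a * (x * a) = x * x * (x⁻¹ * a * x) * a by group, hx2, one_mul]
    exact mul_mem hxa ha
  have hlt : Nat.card D ≤ 64 := by
    by_contra hc
    set S := sylS.map (MulAut.conj h).toMonoidHom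
    have hS : Nat.card S = 128 := by rw [Subgroup.card_map_of_injective (MulAut.conj h).injective, card_sylS]
    obtain ⟨j, hj, hjc⟩ := (Nat.dvd_prime_pow Nat.prime_two).mp
      ((show Nat.card S = 2 ^ 7 by rw [hS]; rfl) ▸ Subgroup.card_dvd_of_le hDS)
    have hj7 : j = 7 := by
      by_contra hne
      have : 2 ^ j ≤ 2 ^ 6 := Nat.pow_le_pow_right (by norm_num) (by omega)
      omega
    have hDeq : D = S := Subgroup.eq_of_le_of_card_ge hDS (by rw [hS, hjc, hj7]; norm_num)
    have hc := hexSq_checked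
    simp only [Bool.and_eq_true, List.all_eq_true, Bool.not_eq_true'] at hc
    have hmem : h * we 66 * h⁻¹ ∈ D := hDeq ▸ ⟨we 66, we_mem 66, rfl⟩
    have h66 := hsq _ hmem
    rw [hAeq] at h66
    obtain ⟨a, ha, e⟩ := h66
    obtain ⟨i, hi, rfl⟩ : a ∈ idxSet hexI := hA0 ▸ ha
    have e' : we i * 1 = we 66 * we 66 := by
      have e0 : h * we i * h⁻¹ = h * we 66 * h⁻¹ * (h * we 66 * h⁻¹) := e
      rw [show h * we 66 * h⁻¹ * (h * we 66 * h⁻¹) = h * (we 66 * we 66) * h⁻¹ by group] at e0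
      rw [mul_one]; exact mul_left_cancel (mul_right_cancel e0)
    exact ne_of_code (repr_mul (we_repr 66) (we_repr 66)) (repr_mul (we_repr i) repr_one) (hc.2 i hi) e'.symm
  have key := CfsgLib.Products.card_mul_card_le X A
  rw [← hDdef, hA.card] at key
  nlinarith [Nat.mul_le_mul_right (Nat.card ↥(X ⊓ A)) hlt]

/-- A hexad group is an octad group. -/
theorem exists_oct {A : Subgroup M} (hnd : ¬ DuadLike A) (hel : IsElementaryAbelian 2 A) (h16 : Nat.card A = 16) :
    ∃ o, OctHex A o := by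
  haveI : Fact (Nat.Prime 2) := ⟨Nat.prime_two⟩
  obtain ⟨h, A0, hA0, -, huniq⟩ := oct_sylow
    (IsPGroup.of_card (p := 2) (n := 4) (by rw [h16]; norm_num) : IsPGroup 2 A)
  obtain ⟨A1, o, -, hA1, hoct⟩ := exists_octHex0
  have e : A0 = A1 := SetLike.coe_injective (hA0.trans hA1.symm)
  subst e
  exact ⟨_, (huniq A le_rfl hnd hel h16).symm ▸ hoct.map h⟩

end CfsgLib.JankoFour
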