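/-
First facts on the normalizer of an elementary abelian group of order 2^11.
-/
import Cfsg.Agent.Lib.JankoFour.FusQ
import Cfsg.Agent.Lib.JankoFour.OrbHex

set_option autoImplicit false

namespace CfsgLib.JankoFour

open Cfsg Subgroup
open scoped commutatorElement

universe u

section Generic

variable {G : Type u} [Group G]

/-- A subgroup with one more involution of an elementary abelian group. -/
theorem exists_adj [Finite G] {V U : Subgroup G} (hsq : ∀ v ∈ V, v * v = 1)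
    (hcomm : ∀ v ∈ V, ∀ w ∈ V, v * w = w * v) (hU : U ≤ V) {a : G} (ha : a ∈ V) (haU : a ∉ U) :
    ∃ U' : Subgroup G, U ≤ U' ∧ U' ≤ V ∧ a ∈ U' ∧ Nat.card U' = 2 * Nat.card U ∧
      ∀ x, x ∈ U' ↔ x ∈ U ∨ a * x ∈ U := by
  let U' : Subgroup G :=
    { carrier := {x | x ∈ U ∨ a * x ∈ U}
      one_mem' := Or.inl (one_mem _)
      mul_mem' := by
        rintro x y (hx | hx) (hy | hy)
        · exact Or.inl (mul_mem hx hy)
        · refine Or.inr ?_
          rw [← mul_assoc, hcomm a ha x (hU hx), mul_assoc]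
          exact mul_mem hx hy
        · exact Or.inr (by rw [← mul_assoc]; exact mul_mem hx hy)
        · refine Or.inl ?_
          have hxV : x ∈ V := by
            have := mul_mem (inv_mem ha) (hU hx)
            rwa [inv_mul_cancel_left] at this
          have h := mul_mem hx hy
          rw [show a * x * (a * y) = a * (x * a) * y by group, hcomm x hxV a ha, ← mul_assoc a a x, hsq a ha,
            one_mul] at h
          exact h
      inv_mem' := by
        rintro x (hx | hx)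
        · exact Or.inl (inv_mem hx)
        · have hxV : x ∈ V := by
            have := mul_mem (inv_mem ha) (hU hx)
            rwa [inv_mul_cancel_left] at this
          refine Or.inr ?_
          rwa [inv_eq_of_mul_eq_one_left (hsq x hxV)] }
  refine ⟨U', fun x hx => Or.inl hx, ?_, Or.inr (by rw [hsq a ha]; exact one_mem _), ?_, fun x => Iff.rfl⟩
  · rintro x (hx | hx)
    · exact hU hx
    · have := mul_mem (inv_mem ha) (hU hx)
      rwa [inv_mul_cancel_left] at this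
  · have e : (U' : Set G) = (U : Set G) ∪ (fun x => a * x) '' (U : Set G) := by
      ext x
      constructor
      · rintro (hx | hx)
        · exact Or.inl hx
        · exact Or.inr ⟨a * x, hx, by show a * (a * x) = x; rw [← mul_assoc, hsq a ha, one_mul]⟩
      · rintro (hx | ⟨y, hy, rfl⟩)
        · exact Or.inl hx
        · exact Or.inr (by show a * (a * y) ∈ U; rw [← mul_assoc, hsq a ha, one_mul]; exact hy)
    have hd : Disjoint (U : Set G) ((fun x => a * x) '' (U : Set G)) := by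
      rw [Set.disjoint_left]
      rintro _ hx ⟨y, hy, rfl⟩
      have := mul_mem hx (inv_mem hy)
      rw [mul_inv_cancel_right] at this
      exact haU this
    show Nat.card ↥(U' : Set G) = 2 * Nat.card ↥(U : Set G)
    rw [Nat.card_coe_set_eq, Nat.card_coe_set_eq, e, Set.ncard_union_eq hd (Set.toFinite _) (Set.toFinite _),
      Set.ncard_image_of_injective _ (mul_right_injective a)]
    omega

/-- The coset outside a subgroup of index two. -/
theorem half_mul [Finite G] {U U' : Subgroup G} (hUU : U ≤ U') (hcard : Nat.card U' = 2 * Nat.card U) {a x : G}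
    (ha : a ∈ U') (haU : a ∉ U) (hx : x ∈ U') (hxU : x ∉ U) : a * x ∈ U := by
  have hi : (U.subgroupOf U').index = 2 := by
    have h := Subgroup.card_mul_index (U.subgroupOf U')
    rw [Nat.card_congr (subgroupOfEquivOfLe hUU).toEquiv, hcard, mul_comm 2] at h
    exact Nat.eq_of_mul_eq_mul_left Nat.card_pos h
  have := (Subgroup.mul_mem_iff_of_index_two hi (a := ⟨a, ha⟩) (b := ⟨x, hx⟩)).mpr
    (iff_of_false haU hxU)
  exact this

/-- A bound on all hyperplanes descends to all pairs of subgroups. -/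
theorem hyper_bound [Finite G] {V : Subgroup G} (hsq : ∀ v ∈ V, v * v = 1)
    (hcomm : ∀ v ∈ V, ∀ w ∈ V, v * w = w * v) (T : Set G) (d : ℕ)
    (hb : ∀ K : Subgroup G, K ≤ V → Nat.card V = 2 * Nat.card K →
      2 * (T ∩ (K : Set G)).ncard ≤ (T ∩ (V : Set G)).ncard + d) :
    ∀ U' U : Subgroup G, U' ≤ V → U ≤ U' → Nat.card U' = 2 * Nat.card U →
      2 * (T ∩ (U : Set G)).ncard ≤ (T ∩ (U' : Set G)).ncard + d := by
  suffices h : ∀ n : ℕ, ∀ U' U : Subgroup G, Nat.card V - Nat.card U' ≤ n → U' ≤ V → U ≤ U' →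
      Nat.card U' = 2 * Nat.card U → 2 * (T ∩ (U : Set G)).ncard ≤ (T ∩ (U' : Set G)).ncard + d from
    fun U' U => h _ U' U le_rfl
  intro n
  induction n with
  | zero =>
    intro U' U hn hU' hU hc
    obtain rfl : U' = V := eq_of_le_of_card_ge hU' (by omega)
    exact hb U hU hc
  | succ n ih =>
    intro U' U hn hU' hU hc
    by_cases hV : U' = V
    · subst hV; exact hb U hU hc
    obtain ⟨a, haV, haU'⟩ := SetLike.not_le_iff_exists.mp fun h => hV (le_antisymm hU' h)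
    obtain ⟨b, hb', hbU⟩ : ∃ b ∈ U', b ∉ U := SetLike.not_le_iff_exists.mp fun h => by
      have := card_le_of_le h
      have := Nat.card_pos (α := U)
      omega
    obtain ⟨U2, h12, h2V, -, h2c, h2mem⟩ := exists_adj hsq hcomm hU' haV haU'
    have haU : a ∉ U := fun h => haU' (hU h)
    have habV : a * b ∈ V := mul_mem haV (hU' hb')
    have habU' : a * b ∉ U' := fun h => haU' (by
      have := mul_mem h (inv_mem hb'); rwa [mul_inv_cancel_right] at this)
    obtain ⟨Ua, hUa, hUaV, -, hac, hamem⟩ := exists_adj hsq hcomm (hU.trans hU') haV haU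
    obtain ⟨Ub, hUb, hUbV, -, hbc, hbmem⟩ := exists_adj hsq hcomm (hU.trans hU') habV fun h => habU' (hU h)
    have ha2 : ∀ {x}, x ∈ V → a * (a * x) = x := fun _ => by rw [← mul_assoc, hsq a haV, one_mul]
    have habx : ∀ {x}, x ∈ V → a * b * x = b * (a * x) := fun _ => by rw [hcomm a haV b (hU' hb'), mul_assoc]
    have hle : ∀ {x}, x ∈ Ua ∨ x ∈ Ub → x ∈ U2 := by
      rintro x (hx | hx)
      · rcases (hamem x).mp hx with h | h
        · exact h12 (hU h)
        · exact (h2mem x).mpr (Or.inr (hU h))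
      · rcases (hbmem x).mp hx with h | h
        · exact h12 (hU h)
        · refine (h2mem x).mpr (Or.inr ?_)
          rw [habx (hUbV hx)] at h
          have := mul_mem (inv_mem hb') (hU h)
          rwa [inv_mul_cancel_left] at this
    have hia := ih U2 Ua (by
      have := card_le_of_le hU'; have := card_le_of_le h2V
      have := Nat.card_pos (α := U'); omega) h2V (fun x hx => hle (Or.inl hx)) (by omega)
    have hib := ih U2 Ub (by
      have := card_le_of_le hU'; have := card_le_of_le h2V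
      have := Nat.card_pos (α := U'); omega) h2V (fun x hx => hle (Or.inr hx)) (by omega)
    have hinter : T ∩ (Ua : Set G) ∩ (T ∩ (Ub : Set G)) = T ∩ (U : Set G) := by
      ext x
      refine ⟨?_, fun ⟨hT, hx⟩ => ⟨⟨hT, hUa hx⟩, hT, hUb hx⟩⟩
      rintro ⟨⟨hT, hxa⟩, -, hxb⟩
      refine ⟨hT, ?_⟩
      rcases (hamem x).mp hxa with h | h
      · exact h
      rcases (hbmem x).mp hxb with h' | h'
      · exact h'
      rw [habx (hUaV hxa)] at h'
      have := mul_mem h' (inv_mem h)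
      rw [mul_inv_cancel_right] at this
      exact absurd this hbU
    have hunion : T ∩ (Ua : Set G) ∪ T ∩ (Ub : Set G) =
        T ∩ (U : Set G) ∪ (T ∩ (U2 : Set G)) \ (T ∩ (U' : Set G)) := by
      ext x
      constructor
      · rintro (⟨hT, hx⟩ | ⟨hT, hx⟩) <;> by_cases hxU : x ∈ U
        · exact Or.inl ⟨hT, hxU⟩
        · refine Or.inr ⟨⟨hT, hle (Or.inl hx)⟩, fun h => haU' ?_⟩
          have := mul_mem (hU (((hamem x).mp hx).resolve_left hxU)) (inv_mem h.2)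
          rwa [mul_inv_cancel_right] at this
        · exact Or.inl ⟨hT, hxU⟩
        · refine Or.inr ⟨⟨hT, hle (Or.inr hx)⟩, fun h => habU' ?_⟩
          have := mul_mem (hU (((hbmem x).mp hx).resolve_left hxU)) (inv_mem h.2)
          rwa [mul_inv_cancel_right] at this
      · rintro (⟨hT, hx⟩ | ⟨⟨hT, hx⟩, hx'⟩)
        · exact Or.inl ⟨hT, hUa hx⟩
        · have hax : a * x ∈ U' := ((h2mem x).mp hx).resolve_left fun h => hx' ⟨hT, h⟩
          by_cases h : a * x ∈ U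
          · exact Or.inl ⟨hT, (hamem x).mpr (Or.inr h)⟩
          · refine Or.inr ⟨hT, (hbmem x).mpr (Or.inr ?_)⟩
            rw [habx (h2V hx)]
            exact half_mul hU hc hb' hbU hax h
    have hdisj : Disjoint (T ∩ (U : Set G)) ((T ∩ (U2 : Set G)) \ (T ∩ (U' : Set G))) :=
      Set.disjoint_left.mpr fun x hx hx' => hx'.2 ⟨hx.1, hU hx.2⟩
    have e1 := Set.ncard_union_add_ncard_inter (T ∩ (Ua : Set G)) (T ∩ (Ub : Set G)) (Set.toFinite _)
      (Set.toFinite _)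
    rw [hinter, hunion, Set.ncard_union_eq hdisj (Set.toFinite _) (Set.toFinite _)] at e1
    have hsub : T ∩ (U' : Set G) ⊆ T ∩ (U2 : Set G) := fun x hx => ⟨hx.1, h12 hx.2⟩
    have e2 := Set.ncard_sdiff_add_ncard_of_subset hsub (Set.toFinite _)
    omega

/-- An involution normalizing an elementary abelian group centralizes at least the square root of it. -/
theorem inv_fix_card [Finite G] {V : Subgroup G} (hsq : ∀ v ∈ V, v * v = 1)
    (hcomm : ∀ v ∈ V, ∀ w ∈ V, v * w = w * v) {u : G} (hu : u * u = 1) (hN : u ∈ normalizer (V : Set G)) :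
    Nat.card V ≤ Nat.card ↥(V ⊓ centralizer ({u} : Set G)) * Nat.card ↥(V ⊓ centralizer ({u} : Set G)) := by
  have hui : u⁻¹ = u := inv_eq_of_mul_eq_one_left hu
  have hc : ∀ v ∈ V, u * v * u ∈ V := fun v hv => by
    have := (mem_normalizer_iff.mp hN v).mp hv
    rwa [hui] at this
  let φ : V →* G :=
    { toFun := fun v => (v : G) * (u * v * u)
      map_one' := by simp [hu]
      map_mul' := fun v w => by
        simp only [Subgroup.coe_mul]
        have e : u * (↑v * ↑w) * u = u * ↑v * u * (u * ↑w * u) := by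
          rw [show u * ↑v * u * (u * ↑w * u) = u * ↑v * (u * u) * ↑w * u by group, hu]; group
        rw [e, show (v : G) * ↑w * (u * ↑v * u * (u * ↑w * u)) = ↑v * (↑w * (u * ↑v * u)) * (u * ↑w * u) by group,
          hcomm w w.2 _ (hc v v.2)]
        simp only [mul_assoc] }
  have hk : φ.ker.map V.subtype ≤ V ⊓ centralizer ({u} : Set G) := by
    rintro _ ⟨v, hv, rfl⟩
    refine ⟨v.2, mem_centralizer_singleton_iff.mpr ?_⟩
    have h : (v : G) * (u * v * u) = 1 := hv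
    have h2 : u * (v : G) * u = v := by
      rw [← inv_eq_of_mul_eq_one_right h, inv_eq_of_mul_eq_one_left (hsq _ v.2)]
    show (v : G) * u = u * v
    conv_lhs => rw [← h2]
    rw [mul_assoc, hu, mul_one]
  have hr : φ.range ≤ V ⊓ centralizer ({u} : Set G) := by
    rintro _ ⟨v, rfl⟩
    refine ⟨mul_mem v.2 (hc v v.2), mem_centralizer_singleton_iff.mpr ?_⟩
    show (v : G) * (u * v * u) * u = u * (v * (u * v * u))
    rw [show u * ((v : G) * (u * v * u)) = u * v * u * v * u by group, hcomm _ (hc v v.2) v v.2]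
  have h1 := Subgroup.card_mul_index φ.ker
  rw [Subgroup.index_ker] at h1
  rw [← h1]
  refine Nat.mul_le_mul ?_ (card_le_of_le hr)
  rw [← card_map_of_injective V.subtype_injective]
  exact card_le_of_le hk

end Generic

variable {G : Type u} [Group G] [Finite G] {z : G} {P E : Subgroup G}

namespace Ctx

theorem not_duad (c : Ctx z P E) {A : Subgroup MTwoTwo} (hA : HexData A) : ¬ DuadLike A := fun h => by
  have h1 := c.duad_small (fun b hb => by rw [← sq]; exact hA.1.1.2 b hb) h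
  rw [(c.hex_fix hA.1).1] at h1
  exact lt_irrefl _ h1

theorem exists_octHex (c : Ctx z P E) {A : Subgroup MTwoTwo} (hA : HexData A) : ∃ o, OctHex A o :=
  exists_oct (c.not_duad hA) hA.1.1 hA.1.2.1

/-- Two elementary abelian groups of order 2^11 in a 2-group are equal. -/
theorem eq_of_two (c : Ctx z P E) {D X X' : Subgroup G} (hD : IsPGroup 2 D) (hX : IsElementaryAbelian 2 X)
    (hX' : IsElementaryAbelian 2 X') (hc : Nat.card X = 2 ^ 11) (hc' : Nat.card X' = 2 ^ 11) (hXD : X ≤ D)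
    (hXD' : X' ≤ D) : X = X' := by
  classical
  haveI : Fact (Nat.Prime 2) := ⟨Nat.prime_two⟩
  obtain ⟨T, hT, hET⟩ := c.exists_sylow
  obtain ⟨V1, -, huniq⟩ := c.unique_two_eleven T hT hET
  obtain ⟨S, hS⟩ := hD.exists_le_sylow
  obtain ⟨g, hg⟩ := MulAction.exists_smul_eq G S T
  have key : ∀ Y : Subgroup G, IsElementaryAbelian 2 Y → Nat.card Y = 2 ^ 11 → Y ≤ D →
      Y.map (MulAut.conj g).toMonoidHom = V1 := fun Y hY hYc hYD => by
    refine huniq _ ⟨?_, elem_map _ hY, by rw [card_map_of_injective (MulAut.conj g).injective, hYc]⟩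
    rw [← hg, Sylow.coe_subgroup_smul, Subgroup.pointwise_smul_def]
    exact Subgroup.map_mono (hYD.trans hS)
  exact Subgroup.map_injective (MulAut.conj g).injective ((key X hX hc hXD).trans (key X' hX' hc' hXD').symm)

/-- An elementary abelian group of order 2^11 is the only one in its normalizer. -/
theorem eq_of_norm (c : Ctx z P E) {V X : Subgroup G} (hV : IsElementaryAbelian 2 V) (hVc : Nat.card V = 2 ^ 11)
    (hX : IsElementaryAbelian 2 X) (hXc : Nat.card X = 2 ^ 11) (hN : X ≤ normalizer (V : Set G)) : X = V := by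
  haveI : Fact (Nat.Prime 2) := ⟨Nat.prime_two⟩
  exact c.eq_of_two (IsPGroup.to_sup_of_normal_right' (IsPGroup.of_card hXc) (IsPGroup.of_card hVc) hN) hX hV hXc hVc
    le_sup_left le_sup_right

/-- Elementary abelian groups of order 2^11 are conjugate. -/
theorem two_eleven_conj (c : Ctx z P E) {A : Subgroup MTwoTwo} (hA : HexLike A) {X : Subgroup G}
    (hX : IsElementaryAbelian 2 X) (hXc : Nat.card X = 2 ^ 11) :
    ∃ g : G, (c.vGrp A hA.1).map (MulAut.conj g).toMonoidHom = X := by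
  classical
  haveI : Fact (Nat.Prime 2) := ⟨Nat.prime_two⟩
  obtain ⟨hVel, hVc⟩ := c.vGrp_facts hA
  obtain ⟨S, hS⟩ := (IsPGroup.of_card (p := 2) hVc).exists_le_sylow
  obtain ⟨S', hS'⟩ := (IsPGroup.of_card (p := 2) hXc).exists_le_sylow
  obtain ⟨g, hg⟩ := MulAction.exists_smul_eq G S S'
  refine ⟨g, c.eq_of_two S'.isPGroup' (elem_map _ hVel) hX
    (by rw [card_map_of_injective (MulAut.conj g).injective, hVc]) hXc ?_ hS'⟩
  rw [← hg, Sylow.coe_subgroup_smul, Subgroup.pointwise_smul_def]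
  exact Subgroup.map_mono hS

/-- Conjugates of the group above a hexad group in the inner part. -/
theorem vGrp_map (c : Ctx z P E) {A A' : Subgroup MTwoTwo} (hA : HexLike A) (hA' : HexLike A') {n : G}
    (hn : n ∈ c.cen) (he : A.map (MulAut.conj (c.val n)).toMonoidHom = A') :
    (c.vGrp A hA.1).map (MulAut.conj n).toMonoidHom = c.vGrp A' hA'.1 := by
  refine eq_of_le_of_card_ge ?_ (by
    rw [card_map_of_injective (MulAut.conj n).injective, (c.vGrp_facts hA).2, (c.vGrp_facts hA').2])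
  have hvn : ∀ {x}, x ∈ c.cen → c.val (n * x * n⁻¹) = c.val n * c.val x * (c.val n)⁻¹ := fun {x} hx => by
    rw [c.val_mul (c.cen_le_H0 (mul_mem hn hx)) (c.cen_le_H0 (inv_mem hn)), c.val_mul (c.cen_le_H0 hn)
      (c.cen_le_H0 hx), c.val_inv (c.cen_le_H0 hn)]
  have hti : ∀ x ∈ c.two A', n⁻¹ * x * n ∈ c.two A := by
    intro x hx
    have hxv : c.val (n⁻¹ * x * n) = (c.val n)⁻¹ * c.val x * c.val n := by
      rw [c.val_mul (c.cen_le_H0 (mul_mem (inv_mem hn) hx.1)) (c.cen_le_H0 hn),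
        c.val_mul (c.cen_le_H0 (inv_mem hn)) (c.cen_le_H0 hx.1), c.val_inv (c.cen_le_H0 hn)]
    refine ⟨mul_mem (mul_mem (inv_mem hn) hx.1) hn, ?_, ?_⟩
    · obtain ⟨a, ha, hae⟩ : c.val x ∈ A.map (MulAut.conj (c.val n)).toMonoidHom := he.symm ▸ hx.2.1
      have hae' : c.val n * a * (c.val n)⁻¹ = c.val x := hae
      rw [hxv, ← hae']
      simpa [mul_assoc] using ha
    · rw [show n⁻¹ * x * n * (n⁻¹ * x * n) = n⁻¹ * (x * x) * n⁻¹⁻¹ by group, c.Z_conj (inv_mem hn.1) hx.2.2]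
      exact hx.2.2
  rintro _ ⟨v, hv, rfl⟩
  obtain ⟨w, hw, y, hy, rfl⟩ := c.mem_vGrp hA hv
  show n * (w * y) * n⁻¹ ∈ c.vGrp A' hA'.1
  rw [show n * (w * y) * n⁻¹ = n * w * n⁻¹ * (n * y * n⁻¹) by group]
  refine mul_mem (mem_sup_left ⟨c.conj_E hn.1 (c.fixB_le A hw), fun x hx => ?_⟩) (mem_sup_right ⟨mul_mem (mul_mem hn hy.1) (inv_mem hn),
    ?_, ?_⟩)
  · rw [show x * (n * w * n⁻¹) * x⁻¹ * (n * w * n⁻¹)⁻¹ =
        n * ((n⁻¹ * x * n) * w * (n⁻¹ * x * n)⁻¹ * w⁻¹) * n⁻¹ by group,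
      c.Z_conj hn.1 (hw.2 _ (hti x hx))]
    exact hw.2 _ (hti x hx)
  · rw [hvn hy.1, ← he]
    exact ⟨c.val y, hy.2.1, rfl⟩
  · rw [show n * y * n⁻¹ * (n * y * n⁻¹) = n * (y * y) * n⁻¹ by group, c.Z_conj hn.1 hy.2.2]
    exact hy.2.2

theorem three_not_E (c : Ctx z P E) {p : G} (hp : p ∈ P) (hpE : p ∈ E) : p = 1 := by
  have h4 : p ^ 4 = 1 := by
    rw [show 4 = 2 * 2 from rfl, pow_mul, sq, sq]; exact c.Z_sq (c.sq_mem_Z hpE)
  have h3 : p ^ 3 = 1 := by rw [pow_succ, sq]; exact c.P_cube hp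
  rwa [pow_succ, h3, one_mul] at h4

/-- An element inverting P lies outside the inner part. -/
theorem exists_out (c : Ctx z P E) (hinv : ∃ n ∈ centralizer ({z} : Set G), ∀ q ∈ P, n * q * n⁻¹ = q⁻¹) :
    ∃ n ∈ centralizer ({z} : Set G), n ∉ c.H0 := by
  obtain ⟨n, hn, hni⟩ := hinv
  refine ⟨n, hn, fun h0 => ?_⟩
  obtain ⟨e, he, y, hy, rfl⟩ := c.decomp n h0
  obtain ⟨p, hp, hp1, -⟩ := c.exists_gen
  have h := hni p hp
  have hyp : y * p * y⁻¹ = p := by rw [c.cen_comm hy hp, mul_inv_cancel_right]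
  rw [show e * y * p * (e * y)⁻¹ = e * (y * p * y⁻¹) * e⁻¹ by group, hyp] at h
  have h1 := mul_mem (c.conj_E (inv_mem (c.P_le hp)) he) (inv_mem he)
  rw [inv_inv, show p⁻¹ * e * p * e⁻¹ = p⁻¹ * (e * p * e⁻¹) by group, h] at h1
  have e3 : p = p⁻¹ * p⁻¹ := by
    rw [← mul_inv_rev, eq_inv_iff_mul_eq_one, ← mul_assoc, c.P_cube hp]
  rw [← e3] at h1
  exact hp1 (c.three_not_E hp h1)

/-- The orbit product in an abelian P-invariant part of E. -/
theorem orbit_prod_Z (c : Ctx z P E) {A : Subgroup MTwoTwo} (hA : HexLike A) {p x : G} (hp : p ∈ P)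
    (hgen : P = zpowers p) (hx : x ∈ c.fixB A) :
    x * (p * x * p⁻¹) * (p * (p * x * p⁻¹) * p⁻¹) ∈ zpowers z := by
  have hx1 := c.fixB_P (B := A) hp hx
  have hx2 := c.fixB_P (B := A) hp hx1
  refine c.fixed_mem_Z hp hgen (c.fixB_le A (mul_mem (mul_mem hx hx1) hx2)) ?_
  set x1 := p * x * p⁻¹ with h1
  set x2 := p * x1 * p⁻¹ with h2
  have e3 : p * x2 * p⁻¹ = x := by
    rw [h2, h1, show p * (p * (p * x * p⁻¹) * p⁻¹) * p⁻¹ = (p * p * p) * x * (p * p * p)⁻¹ by group, c.P_cube hp]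
    group
  have e : p * (x * x1 * x2) * p⁻¹ = x1 * x2 * x := by
    rw [show p * (x * x1 * x2) * p⁻¹ = (p * x * p⁻¹) * (p * x1 * p⁻¹) * (p * x2 * p⁻¹) by group, ← h1, ← h2, e3]
  have hc := c.vGrp_comm hA (mem_sup_left hx : x ∈ c.vGrp A hA.1) (mem_sup_left (mul_mem hx1 hx2))
  rw [e, mul_assoc x x1 x2, hc, mul_inv_cancel]
  exact one_mem _

/-- The elements moving y by E. -/
def cR (_c : Ctx z P E) (y : G) : Set G := {v | ∃ f ∈ E, ⁅f, y⁆ = v}

theorem cR_conj (c : Ctx z P E) {n : G} (hn : n ∈ centralizer ({z} : Set G)) {y v : G} (hv : v ∈ c.cR y) :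
    n * v * n⁻¹ ∈ c.cR (n * y * n⁻¹) := by
  obtain ⟨f, hf, rfl⟩ := hv
  exact ⟨n * f * n⁻¹, c.conj_E hn hf, by simp only [commutatorElement_def]; group⟩

section Hex

variable (c : Ctx z P E) {A : Subgroup MTwoTwo}

theorem val_ne (hA : HexData A) {y : G} (hy : y ∈ c.twoGrp A hA.1.1) (hyZ : y ∉ zpowers z) : c.val y ≠ 1 :=
  fun h => hyZ (c.two_ker hy h)

theorem twoGrp_not_W (hA : HexData A) {w y : G} (hw : w ∈ c.fixB A) (hy : y ∈ c.twoGrp A hA.1.1)
    (hyZ : y ∉ zpowers z) : w * y ∉ c.fixB A := fun h => by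
  have := mul_mem (inv_mem hw) h
  rw [inv_mul_cancel_left] at this
  exact hyZ (c.E_inf_cen (c.fixB_le A this) hy.1)

theorem cR_sub (hA : HexData A) {y : G} (hy : y ∈ c.twoGrp A hA.1.1) (hyZ : y ∉ zpowers z) {v : G}
    (hv : v ∈ c.cR y) : v ∈ E ⊓ centralizer (c.ker1 hy.1.1 : Set G) ∧ v ∈ c.fixB A ∧ v * v = 1 := by
  obtain ⟨f, hf, rfl⟩ := hv
  obtain ⟨-, hSW, -, -⟩ := c.kernel_facts hA hy hyZ
  have h : ⁅f, y⁆ ∈ E ⊓ centralizer (c.ker1 hy.1.1 : Set G) := by
    rw [← commutatorElement_inv]; exact inv_mem ((c.image_eq hy.1.1 hy.2.2).1 f hf)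
  exact ⟨h, hSW h, (c.hex_fix hA.1).2.2.1 _ (hSW h)⟩

theorem cR_uniq (hA : HexData A) {y : G} (hy : y ∈ c.twoGrp A hA.1.1) (hyZ : y ∉ zpowers z) {v v' : G}
    (hv : v ∈ c.cR y) (hv' : v' ∈ c.cR y) (h : v⁻¹ * v' ∈ zpowers z) : v = v' := by
  obtain ⟨g, hg, rfl⟩ := hv
  obtain ⟨f, hf, rfl⟩ := hv'
  set k := g⁻¹ * f with hk
  have hkE : k ∈ E := mul_mem (inv_mem hg) hf
  have e : ⁅f, y⁆ = g * ⁅k, y⁆ * g⁻¹ * ⁅g, y⁆ := by
    rw [show f = g * k by rw [hk, mul_inv_cancel_left]]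
    exact commutatorElement_mul_left_eq_conj_mul g k y
  have hkS := (c.cR_sub hA hy hyZ ⟨k, hkE, rfl⟩).2.1
  have hg1 := (c.cR_sub hA hy hyZ ⟨g, hg, rfl⟩)
  have hc : g * ⁅k, y⁆ * g⁻¹ ∈ c.fixB A := by
    have h2 : g * ⁅k, y⁆ * g⁻¹ = ⁅g, ⁅k, y⁆⁆ * ⁅k, y⁆ := by
      rw [commutatorElement_def g, inv_mul_cancel_right]
    rw [h2]
    exact mul_mem (c.Z_le_fixB A (c.comm_E hg (c.fixB_le A hkS))) hkS
  rw [e, ← mul_assoc, c.vGrp_comm hA.1 (mem_sup_left (inv_mem hg1.2.1)) (mem_sup_left hc),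
    inv_mul_cancel_right] at h
  have hkZ : ⁅k, y⁆ ∈ zpowers z := by
    have h2 := c.Z_conj (inv_mem (c.Ez hg)) h
    rw [show g⁻¹ * (g * ⁅k, y⁆ * g⁻¹) * g⁻¹⁻¹ = ⁅k, y⁆ by group] at h2
    rw [h2]; exact h
  have hk1 : ⁅k, y⁆ = 1 := commutatorElement_eq_one_iff_mul_comm.mpr
    (c.ker1_comm hy.1 k (c.mem_ker1.mpr ⟨hkE, by rw [← commutatorElement_inv]; exact inv_mem hkZ⟩)).symm
  rw [e, hk1, mul_one, mul_inv_cancel, one_mul]

theorem cR_cover (hA : HexData A) {y : G} (hy : y ∈ c.twoGrp A hA.1.1) (hyZ : y ∉ zpowers z) {s : G}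
    (hs : s ∈ E ⊓ centralizer (c.ker1 hy.1.1 : Set G)) : ∃ t ∈ zpowers z, t * s ∈ c.cR y := by
  obtain ⟨f, hf, ht⟩ := (c.image_eq hy.1.1 hy.2.2).2 s hs
  refine ⟨_, inv_mem ht, f, hf, ?_⟩
  have hr := c.cR_sub hA hy hyZ ⟨f, hf, rfl⟩
  rw [mul_inv_rev, inv_inv, ← commutatorElement_inv f y,
    c.vGrp_comm hA.1 (mem_sup_left (inv_mem ((c.kernel_facts hA hy hyZ).2.1 hs)))
    (mem_sup_left (inv_mem hr.2.1)), inv_mul_cancel_right, inv_eq_of_mul_eq_one_left hr.2.2]

theorem cR_card (hA : HexData A) {y : G} (hy : y ∈ c.twoGrp A hA.1.1) (hyZ : y ∉ zpowers z) :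
    (c.cR y).ncard = 16 := by
  obtain ⟨hS32, -, -, -⟩ := c.kernel_facts hA hy hyZ
  set S := E ⊓ centralizer (c.ker1 hy.1.1 : Set G)
  have hzS : zpowers z ≤ S := zpowers_le.mpr ⟨c.zE, mem_centralizer_iff.mpr fun f hf =>
    mem_centralizer_singleton_iff.mp (c.Ez (c.ker1_le _ hf))⟩
  let g : zpowers z × c.cR y → S := fun x =>
    ⟨(x.1 : G) * x.2, mul_mem (hzS x.1.2) (c.cR_sub hA hy hyZ x.2.2).1⟩
  have hg : Function.Bijective g := by
    constructor
    · rintro ⟨⟨t, ht⟩, ⟨v, hv⟩⟩ ⟨⟨t', ht'⟩, ⟨v', hv'⟩⟩ h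
      have h' : t * v = t' * v' := congrArg Subtype.val h
      have e : v' = t'⁻¹ * t * v := by rw [mul_assoc, h', inv_mul_cancel_left]
      have hd : v⁻¹ * v' ∈ zpowers z := by
        rw [e, ← mul_assoc, c.Z_comm (inv_mem (c.Ez (c.cR_sub hA hy hyZ hv).1.1)) (mul_mem (inv_mem ht') ht),
          inv_mul_cancel_right]
        exact mul_mem (inv_mem ht') ht
      obtain rfl := c.cR_uniq hA hy hyZ hv hv' hd
      obtain rfl := mul_right_cancel h'
      rfl
    · rintro ⟨s, hs⟩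
      obtain ⟨t, ht, hts⟩ := c.cR_cover hA hy hyZ hs
      exact ⟨⟨⟨t⁻¹, inv_mem ht⟩, ⟨t * s, hts⟩⟩, Subtype.ext (inv_mul_cancel_left t s)⟩
  have h := Nat.card_eq_of_bijective g hg
  rw [Nat.card_prod, c.card_Z, hS32, Nat.card_coe_set_eq] at h
  omega

theorem cR_shift (hA : HexData A) {y : G} (hy : y ∈ c.twoGrp A hA.1.1) {t : G} (ht : t ∈ zpowers z) :
    c.cR (t * y) = c.cR y := by
  ext v
  refine exists_congr fun f => and_congr_right fun hf => ?_
  rw [commutatorElement_mul_right_eq_mul_conj, commutatorElement_eq_one_iff_mul_comm.mpr (c.Z_comm (c.Ez hf) ht),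
    one_mul]
  by_cases hyZ : y ∈ zpowers z
  · rw [commutatorElement_eq_one_iff_mul_comm.mpr (c.Z_comm (c.Ez hf) hyZ), mul_one, mul_inv_cancel]
  rw [← c.Z_comm (c.Ez (c.cR_sub hA hy hyZ ⟨f, hf, rfl⟩).1.1) ht, mul_inv_cancel_right]

/-- The action of E on the fibre above y. -/
theorem conj_fibre (hA : HexData A) {w y f : G} (hw : w ∈ c.fixB A) (hy : y ∈ c.twoGrp A hA.1.1) (hf : f ∈ E) :
    f * (w * y) * f⁻¹ = ⁅f, w⁆ * ⁅f, y⁆ * (w * y) := by
  have h1 : ⁅f, y⁆ * w = w * ⁅f, y⁆ :=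
    c.vGrp_comm hA.1 (mem_sup_left (c.comm_twoGrp hA hy hf)) (mem_sup_left hw)
  rw [show ⁅f, w⁆ * ⁅f, y⁆ * (w * y) = ⁅f, w⁆ * (⁅f, y⁆ * w) * y by simp only [mul_assoc], h1]
  simp only [commutatorElement_def]; group

/-- An element of W outside S is moved by the kernel. -/
theorem ker_moves (hA : HexData A) {w y : G} (hw : w ∈ c.fixB A) (hy : y ∈ c.twoGrp A hA.1.1)
    (hwS : w ∉ E ⊓ centralizer (c.ker1 hy.1.1 : Set G)) : ∃ f ∈ c.ker1 hy.1.1, ⁅f, w⁆ = z := by
  by_contra hh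
  push Not at hh
  refine hwS ⟨c.fixB_le A hw, mem_centralizer_iff.mpr fun f hf => ?_⟩
  exact commutatorElement_eq_one_iff_mul_comm.mp
    ((c.mem_Z.mp (c.comm_E (c.ker1_le _ hf) (c.fixB_le A hw))).resolve_right (hh f hf))

/-- All elements of W outside S give conjugates above y. -/
theorem big_conj (hA : HexData A) {w w' y : G} (hy : y ∈ c.twoGrp A hA.1.1) (hyZ : y ∉ zpowers z)
    (hw : w ∈ c.fixB A) (hw' : w' ∈ c.fixB A) (hwS : w ∉ E ⊓ centralizer (c.ker1 hy.1.1 : Set G))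
    (hwS' : w' ∉ E ⊓ centralizer (c.ker1 hy.1.1 : Set G)) :
    ∃ n ∈ normalizer (c.vGrp A hA.1.1 : Set G), n ∈ centralizer ({z} : Set G) ∧ n * (w * y) * n⁻¹ = w' * y := by
  obtain ⟨hS32, hSW, -, -⟩ := c.kernel_facts hA hy hyZ
  obtain ⟨hF7, -, hFsq, -⟩ := c.hex_fix hA.1
  set V := c.vGrp A hA.1.1
  set S := E ⊓ centralizer (c.ker1 hy.1.1 : Set G) with hS
  set W := c.fixB A
  have hcomm : ∀ a ∈ W, ∀ b ∈ W, a * b = b * a := fun a ha b hb =>
    c.vGrp_comm hA.1 (mem_sup_left ha) (mem_sup_left hb)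
  have hzS : zpowers z ≤ S := zpowers_le.mpr ⟨c.zE, mem_centralizer_iff.mpr fun f hf =>
    mem_centralizer_singleton_iff.mp (c.Ez (c.ker1_le _ hf))⟩
  -- translation by S
  have hstep : ∀ x ∈ W, x ∉ S → ∀ s ∈ S, ∃ n ∈ E, n * (x * y) * n⁻¹ = s * x * y := by
    intro x hx hxS s hs
    obtain ⟨t, ht, f, hf, hfs⟩ := c.cR_cover hA hy hyZ hs
    obtain ⟨f0, hf0, hf0x⟩ := c.ker_moves hA hx hy hxS
    have hf0E := c.ker1_le _ hf0
    have h1 := c.conj_fibre hA hx hy hf
    rw [hfs, show ⁅f, x⁆ * (t * s) * (x * y) = ⁅f, x⁆ * t * s * x * y by group] at h1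
    have hzt : ⁅f, x⁆ * t ∈ zpowers z := mul_mem (c.comm_E hf (c.fixB_le A hx)) ht
    rcases c.mem_Z.mp hzt with e | e
    · exact ⟨f, hf, by rw [h1, e, one_mul]⟩
    · refine ⟨f0 * f, mul_mem hf0E hf, ?_⟩
      rw [show f0 * f * (x * y) * (f0 * f)⁻¹ = f0 * (f * (x * y) * f⁻¹) * f0⁻¹ by group, h1, e]
      have hc0 := c.conj_fibre hA (mul_mem (mul_mem (c.Z_le_fixB A (mem_zpowers z)) (hSW hs)) hx) hy hf0E
      have hk1 : ⁅f0, y⁆ = 1 := commutatorElement_eq_one_iff_mul_comm.mpr (c.ker1_comm hy.1 f0 hf0).symm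
      have hkS : ⁅f0, z * s⁆ = 1 := commutatorElement_eq_one_iff_mul_comm.mpr
        (mem_centralizer_iff.mp (mul_mem (hzS (mem_zpowers z)) hs).2 f0 hf0)
      rw [c.comm_mul_right (mul_mem c.zE (c.fixB_le A (hSW hs))) (c.fixB_le A hx) hf0E, hkS, hk1, hf0x, one_mul,
        mul_one] at hc0
      rw [hc0, show z * (z * s * x * y) = z * z * (s * x * y) by group, c.zz, one_mul]
  obtain ⟨p, hp, -, hgen⟩ := c.exists_gen
  have hSp : ∀ s ∈ S, p * s * p⁻¹ ∈ S := fun s hs =>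
    c.cent_conj (c.P_le hp) (fun f hf => by
      have h := c.ker1_P hy.1 (inv_mem hp) f hf
      rwa [inv_inv] at h) hs
  set w2 := p * w * p⁻¹ with hw2
  set w3 := p * w2 * p⁻¹ with hw3
  have hw2W : w2 ∈ W := c.fixB_P hp hw
  have hw3W : w3 ∈ W := c.fixB_P hp hw2W
  have hd : w2 * w ∉ S := fun h => hwS (c.sec_fpf inf_le_left hzS hp hgen hSp (c.fixB_le A hw) (by
    rw [commutatorElement_def, inv_eq_of_mul_eq_one_left (hFsq w hw)]; exact h))
  have hw2S : w2 ∉ S := fun h => hwS (by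
    have h2 := hSp _ (hSp _ h)
    rwa [hw2, show p * (p * (p * w * p⁻¹) * p⁻¹) * p⁻¹ = (p * p * p) * w * (p * p * p)⁻¹ by group, c.P_cube hp,
      one_mul, inv_one, mul_one] at h2)
  have hw3S : w3 ∉ S := fun h => hwS (by
    have h2 := hSp _ h
    rwa [hw3, hw2, show p * (p * (p * w * p⁻¹) * p⁻¹) * p⁻¹ = (p * p * p) * w * (p * p * p)⁻¹ by group, c.P_cube hp,
      one_mul, inv_one, mul_one] at h2)
  have hpy : p * y * p⁻¹ = y := by rw [← c.cen_comm hy.1 hp, mul_inv_cancel_right]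
  have hpV : p ∈ normalizer (V : Set G) :=
    c.cen_norm_V hA.1 (c.P_le_cen hp) (by rw [c.val_P hp]; exact one_mem _)
  obtain ⟨U1, h1, h1W, -, h1c, h1mem⟩ := exists_adj hFsq hcomm hSW hw hwS
  obtain ⟨U2, -, h2W, -, h2c, h2mem⟩ := exists_adj hFsq hcomm h1W hw2W (fun h => by
    rcases (h1mem w2).mp h with h | h
    · exact hw2S h
    · exact hd (by rw [hcomm w2 hw2W w hw]; exact h))
  have hU2 : U2 = W := eq_of_le_of_card_ge h2W (by rw [h2c, h1c, hS32, hF7]; norm_num)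
  -- the representative
  have hrep : ∀ x ∈ W, x ∉ S → ∀ k ∈ centralizer ({z} : Set G), k ∈ normalizer (V : Set G) →
      k * (w * y) * k⁻¹ = x * y → w' * x ∈ S →
      ∃ n ∈ normalizer (V : Set G), n ∈ centralizer ({z} : Set G) ∧ n * (w * y) * n⁻¹ = w' * y := by
    intro x hx hxS k hkH hkV hk hs
    obtain ⟨f, hf, hfe⟩ := hstep x hx hxS _ hs
    refine ⟨f * k, mul_mem (c.E_norm_V hA hf) hkV, mul_mem (c.Ez hf) hkH, ?_⟩
    rw [show f * k * (w * y) * (f * k)⁻¹ = f * (k * (w * y) * k⁻¹) * f⁻¹ by group, hk, hfe, mul_assoc w',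
      hFsq x hx, mul_one]
  have e2 : p * (w * y) * p⁻¹ = w2 * y := by
    rw [show p * (w * y) * p⁻¹ = p * w * p⁻¹ * (p * y * p⁻¹) by group, hpy]
  have e3 : p * p * (w * y) * (p * p)⁻¹ = w3 * y := by
    rw [show p * p * (w * y) * (p * p)⁻¹ = p * (p * (w * y) * p⁻¹) * p⁻¹ by group, e2,
      show p * (w2 * y) * p⁻¹ = p * w2 * p⁻¹ * (p * y * p⁻¹) by group, hpy]
  rcases (h2mem w').mp (hU2.symm ▸ hw') with h | h
  · rcases (h1mem w').mp h with h | h
    · exact absurd h hwS'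
    · exact hrep w hw hwS 1 (one_mem _) (one_mem _) (by group) (by rw [hcomm w' hw' w hw]; exact h)
  · rcases (h1mem (w2 * w')).mp h with h | h
    · exact hrep w2 hw2W hw2S p (c.P_le hp) hpV e2 (by rw [hcomm w' hw' w2 hw2W]; exact h)
    · refine hrep w3 hw3W hw3S (p * p) (mul_mem (c.P_le hp) (c.P_le hp)) (mul_mem hpV hpV) e3 ?_
      have hprod := c.orbit_prod_Z hA.1 hp hgen hw
      rw [← hw2, ← hw3] at hprod
      have := mul_mem h (hzS hprod)
      rwa [show w * (w2 * w') * (w * w2 * w3) = w * (w2 * (w' * w * w2)) * w3 by group,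
        hcomm (w' * w) (mul_mem hw' hw) w2 hw2W, ← mul_assoc w2 w2, hFsq w2 hw2W, one_mul,
        hcomm w' hw' w hw, ← mul_assoc w w, hFsq w hw, one_mul] at this

end Hex

end Ctx

end CfsgLib.JankoFour
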