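/-
Elements of order five in the centralizer of P and their fixed points on E.
-/
import Cfsg.Agent.Lib.JankoFour.Hex

set_option autoImplicit false

namespace CfsgLib.JankoFour

open Cfsg Subgroup

universe u

variable {G : Type u} [Group G] [Finite G] {z : G} {P E : Subgroup G}

namespace Ctx

/-- The map of the centralizer of P onto M22. -/
noncomputable def cenHom (c : Ctx z P E) : ↥c.cen →* MTwoTwo where
  toFun x := c.val x
  map_one' := (c.val_eq_one (one_mem _)).mpr (one_mem _)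
  map_mul' x y := c.val_mul (c.cen_le_H0 x.2) (c.cen_le_H0 y.2)

/-- The image in M22 of the part of a subgroup in the centralizer of P. -/
noncomputable def image (c : Ctx z P E) (S : Subgroup G) : Subgroup MTwoTwo := (S.subgroupOf c.cen).map c.cenHom

theorem mem_image (c : Ctx z P E) {S : Subgroup G} {m : MTwoTwo} :
    m ∈ c.image S ↔ ∃ x ∈ c.cen, x ∈ S ∧ c.val x = m := by
  constructor
  · rintro ⟨x, hx, rfl⟩
    exact ⟨x, x.2, hx, rfl⟩
  · rintro ⟨x, hx, hS, rfl⟩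
    exact ⟨⟨x, hx⟩, hS, rfl⟩

theorem val_conj (c : Ctx z P E) {x y : G} (hx : x ∈ c.H0) (hy : y ∈ c.H0) :
    c.val (x * y * x⁻¹) = c.val x * c.val y * (c.val x)⁻¹ := by
  rw [c.val_mul (mul_mem hx hy) (inv_mem hx), c.val_mul hx hy, c.val_inv hx]

theorem cen_ker (c : Ctx z P E) {x : G} (hx : x ∈ c.cen) (hv : c.val x = 1) :
    x ^ 6 = 1 ∧ (∀ y ∈ c.cen, y * x = x * y) ∧ ∃ t ∈ zpowers z, ∃ p ∈ P, x = t * p := by
  have hn := (c.val_eq_one (c.cen_le_H0 hx)).mp hv
  refine ⟨?_, fun y hy => c.cen_N_central hx hn hy, c.cen_N hx hn⟩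
  obtain ⟨t, ht, q, hq, rfl⟩ := c.cen_N hx hn
  have hc : Commute t q := (c.Z_comm (c.P_le hq) ht).symm
  rw [hc.mul_pow, show t ^ 6 = (t * t) ^ 3 by rw [← sq, ← pow_mul], c.Z_sq ht,
    show q ^ 6 = (q * q * q) ^ 2 by rw [← pow_three', ← pow_mul], c.P_cube hq, one_pow, one_pow, one_mul]

theorem five_eq (c : Ctx z P E) {x y : G} (hx : x ∈ c.cen) (hy : y ∈ c.cen) (hx5 : x ^ 5 = 1) (hy5 : y ^ 5 = 1)
    (hv : c.val x = c.val y) : x = y := by
  set r := y⁻¹ * x with hr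
  have hrc : r ∈ c.cen := mul_mem (inv_mem hy) hx
  obtain ⟨h6, hcomm, -⟩ := c.cen_ker hrc (by
    rw [hr, c.val_mul (c.cen_le_H0 (inv_mem hy)) (c.cen_le_H0 hx), c.val_inv (c.cen_le_H0 hy), hv, inv_mul_cancel])
  have e : x = y * r := by rw [hr, mul_inv_cancel_left]
  have h5 : r ^ 5 = 1 := by
    have := hx5
    rwa [e, (show Commute y r from hcomm y hy).mul_pow, hy5, one_mul] at this
  have r1 : r = 1 := by rwa [pow_succ, h5, one_mul] at h6
  rw [e, r1, mul_one]

theorem lift_five (c : Ctx z P E) {m : MTwoTwo} (hm : m ^ 5 = 1) : ∃ x ∈ c.cen, c.val x = m ∧ x ^ 5 = 1 := by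
  obtain ⟨x, hx, hv⟩ := c.exists_val m
  refine ⟨x ^ 6, pow_mem hx 6, ?_, ?_⟩
  · rw [c.val_pow (c.cen_le_H0 hx), hv, pow_succ, hm, one_mul]
  · rw [← pow_mul, mul_comm 6 5, pow_mul]
    exact (c.cen_ker (pow_mem hx 5) (by rw [c.val_pow (c.cen_le_H0 hx), hv, hm])).1

theorem cen_card_dvd (c : Ctx z P E) : Nat.card c.cen ∣ 6 * 443520 := by
  have hle : c.cenHom.ker.map c.cen.subtype ≤ zpowers z ⊔ P := by
    rintro _ ⟨x, hx, rfl⟩
    obtain ⟨-, -, t, ht, q, hq, e⟩ := c.cen_ker x.2 hx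
    rw [coe_subtype, e]
    exact mul_mem (mem_sup_left ht) (mem_sup_right hq)
  have h2 : Nat.card ↥(zpowers z ⊔ P) ∣ 6 := by
    let F : zpowers z × P →* G :=
      { toFun := fun x => x.1 * x.2
        map_one' := by simp
        map_mul' := fun x y => by
          show (x.1 * y.1 : G) * (x.2 * y.2) = x.1 * x.2 * (y.1 * y.2)
          rw [show (x.1 : G) * x.2 * (y.1 * y.2) = x.1 * (x.2 * y.1) * y.2 by group,
            c.Z_comm (c.P_le x.2.2) y.1.2]
          group }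
    have hr : F.range = zpowers z ⊔ P := by
      refine le_antisymm ?_ (sup_le (fun t ht => ⟨(⟨t, ht⟩, 1), by simp [F]⟩) (fun q hq => ⟨(1, ⟨q, hq⟩), by simp [F]⟩))
      rintro _ ⟨x, rfl⟩
      exact mul_mem (mem_sup_left x.1.2) (mem_sup_right x.2.2)
    rw [← hr]
    have := Subgroup.card_range_dvd F
    rwa [Nat.card_prod, c.card_Z, c.hP] at this
  have h1 := card_dvd_of_le hle
  rw [card_map_of_injective c.cen.subtype_injective] at h1
  rw [← Subgroup.card_mul_index c.cenHom.ker, Subgroup.index_ker,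
    show (443520 : ℕ) = Nat.card MTwoTwo from CfsgGolay.card_sporM22.symm]
  exact Nat.mul_dvd_mul (h1.trans h2) (card_subgroup_dvd_card _)

/-- The elements of the centralizer of P fixing w modulo the centre. -/
def stab (c : Ctx z P E) (w : G) : Subgroup G where
  carrier := {x | x ∈ c.cen ∧ x * w * x⁻¹ * w⁻¹ ∈ zpowers z}
  one_mem' := ⟨one_mem _, by simp⟩
  mul_mem' := by
    rintro a b ⟨ha, ha'⟩ ⟨hb, hb'⟩
    refine ⟨mul_mem ha hb, ?_⟩
    rw [show a * b * w * (a * b)⁻¹ * w⁻¹ = a * (b * w * b⁻¹ * w⁻¹) * a⁻¹ * (a * w * a⁻¹ * w⁻¹) by group,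
      c.Z_comm ha.1 hb', mul_inv_cancel_right]
    exact mul_mem hb' ha'
  inv_mem' := by
    rintro a ⟨ha, ha'⟩
    refine ⟨inv_mem ha, ?_⟩
    rw [show a⁻¹ * w * a⁻¹⁻¹ * w⁻¹ = a⁻¹ * (a * w * a⁻¹ * w⁻¹)⁻¹ * a by group, c.Z_comm (inv_mem ha.1) (inv_mem ha'),
      inv_mul_cancel_right]
    exact inv_mem ha'

theorem mem_stab (c : Ctx z P E) {w x : G} :
    x ∈ c.stab w ↔ x ∈ c.cen ∧ x * w * x⁻¹ * w⁻¹ ∈ zpowers z := Iff.rfl

theorem image_stab_hex (c : Ctx z P E) {A : Subgroup MTwoTwo} (h : HexLike A) {w : G} (hw : w ∈ c.fixB A) :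
    A ≤ c.image (c.stab w) := by
  intro a ha
  obtain ⟨y, hy, hv⟩ := c.exists_val a
  obtain ⟨h1, h2⟩ := c.pow_three_two (B := A) (fun b hb => by rw [← sq]; exact h.1.2 b hb) hy (hv ▸ ha)
  exact c.mem_image.mpr ⟨y ^ 3, h1.1, ⟨h1.1, hw.2 _ h1⟩, h2.trans hv⟩

/-- If the stabilizer modulo the centre of an element of E has image of order divisible by nine, it is central. -/
theorem fixed_nine (c : Ctx z P E) {A : Subgroup MTwoTwo} (h : HexLike A) {w : G} (hw : w ∈ E)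
    (h9 : 9 ∣ Nat.card (c.image (c.stab w))) : w ∈ zpowers z := by
  classical
  haveI : Fact (Nat.Prime 3) := ⟨by norm_num⟩
  obtain ⟨p, hp, hp1, hgen⟩ := c.exists_gen
  by_contra hwZ
  have hpS : p ∉ c.stab w := fun hh => hwZ (c.fixed_mem_Z hp hgen hw hh.2)
  set S := (c.stab w).subgroupOf c.cen
  have hS : 3 ^ 2 ∣ Nat.card S := h9.trans (S.card_map_dvd c.cenHom)
  obtain ⟨K, hK⟩ := Sylow.exists_subgroup_card_pow_prime 3 hS
  obtain ⟨R, hR, hPR, hR27, hnab, -⟩ := c.exists_R h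
  have hfac : (Nat.card c.cen).factorization 3 = 3 := by
    have h27 : 3 ^ 3 ∣ Nat.card c.cen := by
      have := card_dvd_of_le hR; rwa [hR27] at this
    have h81 : ¬ 3 ^ 4 ∣ Nat.card c.cen := fun h' => by
      have := h'.trans c.cen_card_dvd; norm_num at this
    rw [(show Nat.Prime 3 by norm_num).pow_dvd_iff_le_factorization Nat.card_pos.ne'] at h27 h81
    omega
  let SR : Sylow 3 c.cen := Sylow.ofCard (R.subgroupOf c.cen)
    (by rw [Nat.card_congr (subgroupOfEquivOfLe hR).toEquiv, hR27, hfac]; norm_num)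
  let K' : Subgroup c.cen := K.map S.subtype
  have hK' : Nat.card K' = 9 := by rw [card_map_of_injective S.subtype_injective, hK]; norm_num
  obtain ⟨T, hT⟩ := (IsPGroup.of_card (n := 2) (show Nat.card K' = 3 ^ 2 by rw [hK']; norm_num)).exists_le_sylow
  obtain ⟨k, hk⟩ := MulAction.exists_smul_eq c.cen T SR
  let L : Subgroup G := (K'.map (MulAut.conj k).toMonoidHom).map c.cen.subtype
  have hL : Nat.card L = 3 ^ 2 := by
    rw [card_map_of_injective c.cen.subtype_injective, card_map_of_injective (MulAut.conj k).injective, hK']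
    norm_num
  have hLR : L ≤ R := by
    rintro _ ⟨_, ⟨y, hy, rfl⟩, rfl⟩
    have : k * y * k⁻¹ ∈ (SR : Subgroup c.cen) := by
      rw [← hk, Sylow.coe_subgroup_smul]
      exact ⟨y, hT hy, rfl⟩
    exact this
  have hLP : L ⊓ P = ⊥ := by
    rw [eq_bot_iff]
    rintro x ⟨⟨_, ⟨⟨y, hyc⟩, hy, rfl⟩, rfl⟩, hxP⟩
    simp only [coe_subtype, MulEquiv.coe_toMonoidHom, MulAut.conj_apply, Subgroup.coe_mul, Subgroup.coe_inv] at hxP ⊢
    have e : (k : G) * y * (k : G)⁻¹ = y := by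
      have h1 := c.cen_comm k.2 hxP
      rw [inv_mul_cancel_right] at h1
      exact mul_left_cancel h1
    rw [e] at hxP ⊢
    have hyS : y ∈ c.stab w := by
      obtain ⟨⟨⟨y', hy'c⟩, hy'⟩, -, e'⟩ := hy
      obtain rfl : y' = y := congrArg Subtype.val e'
      exact hy'
    by_contra hy1
    rw [mem_bot] at hy1
    refine hpS ?_
    have : p ∈ zpowers y := by
      rw [eq_of_le_of_card_ge (zpowers_le.mpr hxP : zpowers y ≤ P) ?_]
      · exact hp
      · rw [Nat.card_zpowers, c.hP, orderOf_eq_prime (p := 3) (hp := ⟨by norm_num⟩) (by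
          rw [pow_succ, sq]; exact c.P_cube hxP) hy1]
    exact (zpowers_le.mpr hyS : zpowers y ≤ c.stab w) this
  haveI : IsMulCommutative L := IsPGroup.isMulCommutative_of_card_eq_prime_sq hL
  haveI : IsCyclic P := isCyclic_of_prime_card (p := 3) (hp := ⟨by norm_num⟩) c.hP
  let F : L × P → R := fun x => ⟨x.1 * x.2, mul_mem (hLR x.1.2) (hPR x.2.2)⟩
  have hF : Function.Injective F := by
    rintro ⟨⟨a, ha⟩, ⟨b, hb⟩⟩ ⟨⟨a', ha'⟩, ⟨b', hb'⟩⟩ e
    have e' : a * b = a' * b' := congrArg Subtype.val e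
    have h1 : a'⁻¹ * a = b' * b⁻¹ := by
      rw [eq_mul_inv_iff_mul_eq, mul_assoc, e', inv_mul_cancel_left]
    have h2 : a'⁻¹ * a ∈ L ⊓ P := ⟨L.mul_mem (L.inv_mem ha') ha, h1 ▸ P.mul_mem hb' (P.inv_mem hb)⟩
    rw [hLP, mem_bot] at h2
    obtain rfl : a = a' := (inv_mul_eq_one.mp h2).symm
    obtain rfl : b = b' := mul_left_cancel e'
    rfl
  have hFs : Function.Surjective F := ((Nat.bijective_iff_injective_and_card F).mpr
    ⟨hF, by rw [Nat.card_prod, hL, c.hP, hR27]; norm_num⟩).2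
  obtain ⟨a, ha, b, hb, hab⟩ := hnab
  obtain ⟨⟨l, q⟩, e1⟩ := hFs ⟨a, ha⟩
  obtain ⟨⟨l', q'⟩, e2⟩ := hFs ⟨b, hb⟩
  refine hab ?_
  rw [← show (l : G) * q = a from congrArg Subtype.val e1, ← show (l' : G) * q' = b from congrArg Subtype.val e2]
  have hll : Commute (l : G) l' := congrArg Subtype.val (mul_comm' l l')
  have hlq : Commute (l : G) q' := c.cen_comm (hR (hLR l.2)) q'.2
  have hl'q : Commute (l' : G) q := c.cen_comm (hR (hLR l'.2)) q.2
  have hqq : Commute (q : G) q' := congrArg Subtype.val (mul_comm' q q')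
  exact ((hll.mul_right hlq).mul_left (hl'q.symm.mul_right hqq)).eq

/-- A step of order two of an element of order five is trivial. -/
theorem five_step {q e w : G} (hq : q ^ 5 = 1) (he : q * e * q⁻¹ = e * w) (hqw : q * w = w * q) (hw : w * w = 1) :
    w = 1 := by
  have key : ∀ k : ℕ, q ^ k * e * (q ^ k)⁻¹ = e * w ^ k := by
    intro k
    induction k with
    | zero => simp
    | succ k ih =>
      have hwk : q * w ^ k * q⁻¹ = w ^ k := by rw [((show Commute q w from hqw).pow_right k).eq, mul_inv_cancel_right]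
      calc q ^ (k + 1) * e * (q ^ (k + 1))⁻¹ = q * (q ^ k * e * (q ^ k)⁻¹) * q⁻¹ := by rw [pow_succ']; group
        _ = q * e * q⁻¹ * (q * w ^ k * q⁻¹) := by rw [ih]; group
        _ = e * w ^ (k + 1) := by rw [he, hwk, pow_succ', mul_assoc]
  have h5 := key 5
  rw [hq, one_mul, inv_one, mul_one] at h5
  have h5' : w ^ 5 = 1 := left_eq_mul.mp h5
  rwa [show 5 = 2 + 2 + 1 from rfl, pow_add, pow_add, sq, hw, one_mul, one_mul, pow_one] at h5'

/-- An element of order five fixing modulo the centre fixes. -/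
theorem five_exact (c : Ctx z P E) {q e : G} (hq : q ∈ centralizer ({z} : Set G)) (hq5 : q ^ 5 = 1) (he : e ∈ E)
    (h : q * e * q⁻¹ * e⁻¹ ∈ zpowers z) : q * e = e * q := by
  set t := q * e * q⁻¹ * e⁻¹ with ht
  have e1 : q * e * q⁻¹ = e * t := by
    rw [c.Z_comm (c.Ez he) h, ht, inv_mul_cancel_right]
  have := five_step hq5 e1 (c.Z_comm hq h) (c.Z_sq h)
  rw [this, mul_one] at e1
  exact mul_inv_eq_iff_eq_mul.mp e1

/-- Fixed points of an element of order five on an invariant subgroup of E. -/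
theorem fix_modEq (_c : Ctx z P E) {q : G} (hq5 : q ^ 5 = 1) {W : Subgroup G}
    (hW : ∀ e ∈ W, q * e * q⁻¹ ∈ W) :
    Nat.card W ≡ Nat.card ↥(W ⊓ centralizer ({q} : Set G)) [MOD 5] := by
  classical
  haveI : Fact (Nat.Prime 5) := ⟨by norm_num⟩
  have hWk : ∀ k : ℕ, ∀ e ∈ W, q ^ k * e * (q ^ k)⁻¹ ∈ W := by
    intro k
    induction k with
    | zero => intro e he; simpa using he
    | succ k ih =>
      intro e he
      rw [show q ^ (k + 1) * e * (q ^ (k + 1))⁻¹ = q * (q ^ k * e * (q ^ k)⁻¹) * q⁻¹ by rw [pow_succ']; group]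
      exact hW _ (ih e he)
  have hWn : q ∈ normalizer (W : Set G) := by
    rw [mem_normalizer_iff]
    refine fun e => ⟨hW e, fun he => ?_⟩
    have := hWk 4 _ he
    rwa [show q ^ 4 * (q * e * q⁻¹) * (q ^ 4)⁻¹ = q ^ 5 * e * (q ^ 5)⁻¹ by group, hq5, one_mul, inv_one,
      mul_one] at this
  letI : MulAction (zpowers q) W :=
    { smul := fun x e => ⟨x * e * (x : G)⁻¹, (mem_normalizer_iff.mp (zpowers_le.mpr hWn x.2) e).mp e.2⟩
      one_smul := fun e => Subtype.ext (by show (1 : G) * e * (1 : G)⁻¹ = e; group)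
      mul_smul := fun x y e => Subtype.ext (by
        show ((x : G) * y) * e * ((x : G) * y)⁻¹ = x * (y * e * (y : G)⁻¹) * (x : G)⁻¹; group) }
  have hpg : IsPGroup 5 (zpowers q) := fun x => ⟨1, Subtype.ext (by
    obtain ⟨k, hk⟩ := mem_zpowers_iff.mp x.2
    rw [pow_one, Subgroup.coe_pow, ← hk, ← zpow_natCast, ← zpow_mul, mul_comm, zpow_mul, zpow_natCast, hq5,
      one_zpow, Subgroup.coe_one])⟩
  refine (hpg.card_modEq_card_fixedPoints W).trans (congrArg (· % 5) (Nat.card_congr ?_))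
  exact
    { toFun := fun e => ⟨e.1, e.1.2, mem_centralizer_singleton_iff.mpr (by
        have := congrArg Subtype.val (e.2 ⟨q, mem_zpowers q⟩)
        exact (mul_inv_eq_iff_eq_mul.mp this).symm)⟩
      invFun := fun e => ⟨⟨e.1, e.2.1⟩, fun x => Subtype.ext (by
        show (x : G) * e.1 * (x : G)⁻¹ = e.1
        have hc : Commute q e.1 := (mem_centralizer_singleton_iff.mp e.2.2).symm
        obtain ⟨k, hk⟩ := mem_zpowers_iff.mp x.2
        rw [← hk, (hc.zpow_left k).eq, mul_inv_cancel_right])⟩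
      left_inv := fun e => rfl
      right_inv := fun e => rfl }

/-- The commutator with a fixed element does not see conjugation by the element of order five. -/
theorem comm_shift (c : Ctx z P E) {q e f : G} (hq : q ∈ centralizer ({z} : Set G)) (he : e ∈ E) (hf : f ∈ E)
    (hqe : q * e = e * q) :
    e * (f⁻¹ * (q * f * q⁻¹)) = f⁻¹ * (q * f * q⁻¹) * e := by
  set t := e * f * e⁻¹ * f⁻¹ with ht
  have htZ := c.comm_mem_Z he hf
  have h1 : e * f * e⁻¹ = t * f := by rw [ht]; group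
  have hqe' : q * e * q⁻¹ = e := mul_inv_eq_iff_eq_mul.mpr hqe
  have h2 : e * (q * f * q⁻¹) * e⁻¹ = t * (q * f * q⁻¹) := by
    calc e * (q * f * q⁻¹) * e⁻¹ = (q * e * q⁻¹) * (q * f * q⁻¹) * (q * e * q⁻¹)⁻¹ := by rw [hqe']
      _ = q * (t * f) * q⁻¹ := by rw [← h1]; group
      _ = t * (q * f * q⁻¹) := by rw [← mul_assoc q t f, c.Z_comm hq (show t ∈ zpowers z from htZ)]; group
  rw [← mul_inv_eq_iff_eq_mul]
  calc e * (f⁻¹ * (q * f * q⁻¹)) * e⁻¹ = (e * f * e⁻¹)⁻¹ * (e * (q * f * q⁻¹) * e⁻¹) := by group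
    _ = f⁻¹ * (q * f * q⁻¹) := by rw [h1, h2]; group

/-- An element of order five normalizing a hexad group has eight fixed points in its group, and what centralizes
these and the element lies there. -/
theorem fix_eight (c : Ctx z P E) {A : Subgroup MTwoTwo} (h : HexLike A) {q : G} (hq : q ∈ c.cen) (hq5 : q ^ 5 = 1)
    (hq1 : q ≠ 1) (hqA : c.val q ∈ normalizer (A : Set MTwoTwo)) :
    Nat.card ↥(c.fixB A ⊓ centralizer ({q} : Set G)) = 8 ∧
      ∀ e ∈ E, q * e = e * q →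
        (∀ f ∈ c.fixB A ⊓ centralizer ({q} : Set G), f * e = e * f) → e ∈ c.fixB A := by
  classical
  obtain ⟨h7, hself, hsq, -⟩ := c.hex_fix h
  set F := c.fixB A with hF
  have hFE : F ≤ E := c.fixB_le A
  have hab : ∀ a ∈ F, ∀ b ∈ F, a * b = b * a := fun a ha b hb =>
    mem_centralizer_iff.mp (hself.symm ▸ hb : b ∈ E ⊓ centralizer (F : Set G)).2 a ha
  have hFq : ∀ f ∈ F, q * f * q⁻¹ ∈ F := fun f hf => c.fixB_conj hq hqA hf
  set K := F ⊓ centralizer ({q} : Set G) with hK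
  have hne : ¬ ∀ f ∈ F, q * f = f * q := by
    intro hall
    have hE : ∀ e ∈ E, q * e = e * q := by
      intro e he
      set w := e⁻¹ * (q * e * q⁻¹) with hw
      have hwF : w ∈ F := by
        rw [← hself]
        refine ⟨E.mul_mem (E.inv_mem he) (c.conj_E hq.1 he), mem_centralizer_iff.mpr fun f hf => ?_⟩
        have hqf : q * f * q⁻¹ = f := mul_inv_eq_iff_eq_mul.mpr (hall f hf)
        have ht := c.comm_mem_Z he (hFE hf)
        have e1 : (q * e * q⁻¹) * f * (q * e * q⁻¹)⁻¹ * f⁻¹ = e * f * e⁻¹ * f⁻¹ := by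
          calc (q * e * q⁻¹) * f * (q * e * q⁻¹)⁻¹ * f⁻¹
              = (q * e * q⁻¹) * (q * f * q⁻¹) * (q * e * q⁻¹)⁻¹ * (q * f * q⁻¹)⁻¹ := by rw [hqf]
            _ = q * (e * f * e⁻¹ * f⁻¹) * q⁻¹ := by group
            _ = e * f * e⁻¹ * f⁻¹ := by rw [c.Z_comm hq.1 ht, mul_inv_cancel_right]
        have e2 := mul_right_cancel e1
        calc f * w = e⁻¹ * (e * f * e⁻¹) * (q * e * q⁻¹) := by rw [hw]; group
          _ = w * f := by rw [← e2, hw]; group
      have e3 : q * e * q⁻¹ = e * w := by rw [hw]; group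
      rw [five_step hq5 e3 (hall w hwF) (hsq w hwF), mul_one] at e3
      exact mul_inv_eq_iff_eq_mul.mp e3
    have hqE : q ∈ E := c.cent q hq.1 fun e he => (hE e he).symm
    refine hq1 ?_
    have h2 : (q * q) * (q * q) = 1 := c.Z_sq (c.sq_mem_Z hqE)
    calc q = (q * q) * (q * q) * q := by rw [h2, one_mul]
      _ = q ^ 5 := by simp only [pow_succ, pow_zero, one_mul]; group
      _ = 1 := hq5
  have hK8 : Nat.card K = 8 := by
    have hm := c.fix_modEq hq5 hFq
    rw [h7, ← hK] at hm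
    obtain ⟨j, hj, hjc⟩ := c.card_two_pow ((inf_le_left : K ≤ F).trans hFE)
    have hle : Nat.card K ≤ 2 ^ 7 := h7 ▸ card_le_of_le inf_le_left
    have h128 : Nat.card K ≠ 2 ^ 7 := fun e => hne fun f hf => by
      have : K = F := eq_of_le_of_card_ge inf_le_left (by rw [h7, e])
      exact (mem_centralizer_singleton_iff.mp (this.symm ▸ hf : f ∈ K).2).symm
    rw [hjc] at hm hle h128 ⊢
    have hj7 : j ≤ 7 := (Nat.pow_le_pow_iff_right (by norm_num)).mp hle
    unfold Nat.ModEq at hm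
    interval_cases j <;> first | rfl | (exfalso; norm_num at hm; done) | (exfalso; norm_num at h128; done)
  refine ⟨hK8, ?_⟩
  let φ : F →* F :=
    { toFun := fun f => ⟨(f : G)⁻¹ * (q * f * q⁻¹), mul_mem (inv_mem f.2) (hFq f f.2)⟩
      map_one' := Subtype.ext (by simp)
      map_mul' := fun a b => Subtype.ext (by
        show ((a : G) * b)⁻¹ * (q * (a * b) * q⁻¹) = (a : G)⁻¹ * (q * a * q⁻¹) * ((b : G)⁻¹ * (q * b * q⁻¹))
        rw [show ((a : G) * b)⁻¹ * (q * (a * b) * q⁻¹) = (b : G)⁻¹ * ((a : G)⁻¹ * (q * a * q⁻¹)) * (q * b * q⁻¹)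
          by group, hab _ (inv_mem b.2) _ (mul_mem (inv_mem a.2) (hFq a a.2))]
        group) }
  have hker : φ.ker.map F.subtype = K := by
    ext f
    constructor
    · rintro ⟨⟨f, hf⟩, hk, rfl⟩
      refine ⟨hf, mem_centralizer_singleton_iff.mpr ?_⟩
      have h1 : f⁻¹ * (q * f * q⁻¹) = 1 := congrArg Subtype.val (MonoidHom.mem_ker.mp hk)
      exact (mul_inv_eq_iff_eq_mul.mp (inv_mul_eq_one.mp h1).symm).symm
    · rintro ⟨hf, hc⟩
      refine ⟨⟨f, hf⟩, MonoidHom.mem_ker.mpr (Subtype.ext ?_), rfl⟩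
      show f⁻¹ * (q * f * q⁻¹) = 1
      rw [← mem_centralizer_singleton_iff.mp hc, mul_inv_cancel_right, inv_mul_cancel]
  have hcard := Subgroup.card_mul_index φ.ker
  rw [Subgroup.index_ker, ← card_map_of_injective F.subtype_injective (K := φ.ker), hker, hK8, h7] at hcard
  let Φ : φ.ker × φ.range → F := fun x => (x.1 : F) * x.2
  have hΦ : Function.Injective Φ := by
    rintro ⟨⟨a, ha⟩, ⟨b, hb⟩⟩ ⟨⟨a', ha'⟩, ⟨b', hb'⟩⟩ e
    have e' : a * b = a' * b' := e
    have h1 : a'⁻¹ * a = b' * b⁻¹ := by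
      rw [eq_mul_inv_iff_mul_eq, mul_assoc, e', inv_mul_cancel_left]
    have hr : a'⁻¹ * a ∈ φ.range := h1 ▸ mul_mem hb' (inv_mem hb)
    obtain ⟨⟨f, hf⟩, hfe⟩ := hr
    have hw : ((a'⁻¹ * a : F) : G) ∈ K := hker ▸ ⟨_, mul_mem (inv_mem ha') ha, rfl⟩
    set w := ((a'⁻¹ * a : F) : G)
    have hfw : f⁻¹ * (q * f * q⁻¹) = w := congrArg Subtype.val hfe
    have hw1 : w = 1 := five_step (e := f) hq5 (by rw [← hfw]; group) (mem_centralizer_singleton_iff.mp hw.2).symm
      (hsq w hw.1)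
    obtain rfl : a = a' := (inv_mul_eq_one.mp (show a'⁻¹ * a = 1 from Subtype.ext hw1)).symm
    obtain rfl : b = b' := mul_left_cancel e'
    rfl
  have hΦs : Function.Surjective Φ := ((Nat.bijective_iff_injective_and_card Φ).mpr
    ⟨hΦ, by rw [Nat.card_prod, ← card_map_of_injective F.subtype_injective (K := φ.ker), hker, hK8, h7]; omega⟩).2
  intro e he hqe hcomm
  rw [← hself]
  refine ⟨he, mem_centralizer_iff.mpr fun f hf => ?_⟩
  obtain ⟨⟨⟨a, ha⟩, ⟨b, ⟨⟨g, hg⟩, hgb⟩⟩⟩, hab'⟩ := hΦs ⟨f, hf⟩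
  have hfe : (a : G) * b = f := congrArg Subtype.val hab'
  have ha' : (a : G) ∈ K := hker ▸ ⟨a, ha, rfl⟩
  have hb' : (b : G) * e = e * b := by
    rw [show (b : G) = g⁻¹ * (q * g * q⁻¹) from (congrArg Subtype.val hgb).symm]
    exact (c.comm_shift hq.1 he (hFE hg) hqe).symm
  rw [← hfe, mul_assoc, hb', ← mul_assoc, hcomm _ ha', mul_assoc]

end Ctx

end CfsgLib.JankoFour
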