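/-
Data on two elements of order five in M22 and the hexad groups they normalize (checked in Lib/JankoFour/FiveModel.lean).
-/
import Mathlib.Data.Nat.Notation

set_option autoImplicit false
set_option maxRecDepth 20000

namespace CfsgLib.JankoFour.FiveData

/-- Carries the hexad group to the first one normalized by the element of order five. -/
def gOne : ℕ := 962169125094743925107742869811365920

/-- Carries it to the second one. -/
def gTwo : ℕ := 969849395433890305340208394326412352

/-- Carries it to the one containing the square of the element of order four. -/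
def gThree : ℕ := 978285786655451042356687551774038144

/-- Squares the element of order five. -/
def nuC : ℕ := 971592914598343034710976577235617952

/-- Swaps the two points fixed by M22. -/
def muC : ℕ := 23738686339186281899546858814486711

/-- An element of order five normalizing the third hexad group. -/
def qOne : ℕ := 980543556527485443784693205543586848

/-- Moves it. -/
def nnC : ℕ := 972595244133643370412375136727630912

def idxI : ℕ := 1

/-- Two words for the generators of the first two groups. -/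
def wordsAB : List ℕ × List ℕ := ([15, 27, 3, 25, 22, 24, 16, 23, 10, 12, 16, 3, 15, 27, 3, 25, 22, 24, 16, 23, 10, 12, 16, 3], [23, 0, 30, 27, 3, 23, 23, 0, 30, 27, 3, 23])

def wordsBase : List ℕ × List ℕ := ([17, 10, 9, 17, 7, 15, 11, 1, 17, 16, 15, 14, 8, 4, 17, 10, 9, 17, 7, 15, 11, 1, 17, 16, 15, 14, 8, 4], [12, 6, 0, 16, 17, 12, 14, 6, 16, 11, 2, 1, 16])

def wordsOrb : List (List ℕ × List ℕ) :=
  [([16, 1, 2, 17, 5, 9, 11, 14, 5, 4, 10], [13, 16, 16, 9, 2, 11, 6, 11, 4, 17, 6]),
   ([16, 14, 17, 16, 1, 8], [11, 11, 11, 16, 11, 14, 10, 8, 1, 15, 7, 2, 0, 1]),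
   ([16, 4, 13, 12, 17, 15, 12, 16, 4, 13, 12, 17, 15, 12], [4, 16, 16, 2, 13, 17, 1, 15, 16, 11, 10, 16, 1, 4, 16, 16, 2, 13, 17, 1, 15, 16, 11, 10, 16, 1]),
   ([8, 12, 5, 4, 16, 12, 2, 2, 3, 4, 17, 0, 16], [0, 14, 15, 3, 16, 0, 11, 11, 13, 8, 8, 15, 12, 11]),
   ([9, 17, 7, 16, 16, 11, 2, 5, 6, 5, 10, 14, 12, 4, 9, 17, 7, 16, 16, 11, 2, 5, 6, 5, 10, 14, 12, 4], [17, 16, 5, 10, 3, 3, 17, 16, 5, 10, 3, 3]),
   ([14, 17, 12, 16, 3, 12, 11, 1, 12, 6, 14, 17, 12, 16, 3, 12, 11, 1, 12, 6], [12, 5, 17, 2, 3, 7, 0, 16, 17, 6, 15, 8, 12, 5, 17, 2, 3, 7, 0, 16, 17, 6, 15, 8])]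

end CfsgLib.JankoFour.FiveData
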