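/-
In M22 an element of order five generates its own centralizer.
-/
import Cfsg.Agent.Lib.Golay.OutSmall

set_option autoImplicit false

namespace CfsgLib.JankoFour.FiveSelf

open Cfsg CfsgGolay CfsgGolay.SubData CfsgGolay.OutSmall
open Out23 (eqCode eqCode_iff exists_perm bij_checked cN)

attribute [local irreducible] codeL octadL dodecadL

/-- The candidate commuting with the element of order five, with images `w` of the fixed points and `us` of the
representatives. -/
def candC (w us : List ℕ) : ℕ :=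
  pack (fun i => (if Nat.beq (tabL.getD i (4, 0)).1 4 then w.getD (tabL.getD i (4, 0)).2 0 else
    papp (ppow cN (tabL.getD i (4, 0)).2) (us.getD (tabL.getD i (4, 0)).1 0)) % 32) 24

/-- All candidates are powers. -/
def searchC (l : List ℕ) : Bool :=
  fixedL.all fun a => fixedL.all fun b => fixedL.all fun e => fixedL.all fun f =>
    !partOK l [] 0 (candC [a, b, e, f] []) || (List.range 24).all fun u1 =>
    !partOK l [] 1 (candC [a, b, e, f] [u1]) || (List.range 24).all fun u2 =>
    !partOK l [] 2 (candC [a, b, e, f] [u1, u2]) || (List.range 24).all fun u3 =>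
    !partOK l [] 3 (candC [a, b, e, f] [u1, u2, u3]) || (List.range 24).all fun u4 =>
    !memOK l [] (candC [a, b, e, f] [u1, u2, u3, u4]) ||
      (List.range 5).any fun t => eqCode (candC [a, b, e, f] [u1, u2, u3, u4]) (ppow cN t)

theorem searchC_checked : searchC [0, 23] = true := by decide +kernel

theorem candC_agree {w : List ℕ} {us vs : List ℕ} {k : ℕ} (h : ∀ r < k, us.getD r 0 = vs.getD r 0)
    {i : ℕ} (hi : i ∈ domL k) : papp (candC w us) i = papp (candC w vs) i := by
  obtain ⟨hr, hb⟩ := List.mem_filter.mp hi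
  have hi' := List.mem_range.mp hr
  rw [candC, candC, ((pack_spec _ (fun i => Nat.mod_lt _ (by norm_num))) 24).2 _ hi',
    ((pack_spec _ (fun i => Nat.mod_lt _ (by norm_num))) 24).2 _ hi']
  simp only [Bool.or_eq_true, Nat.blt_eq] at hb
  by_cases h4 : Nat.beq (tabL.getD i (4, 0)).1 4 = true
  · rw [if_pos h4, if_pos h4]
  · rw [if_neg h4, if_neg h4, h _ (hb.resolve_left h4)]

theorem self_cent {g gN : Equiv.Perm GolayPt} (hN : Repr cN gN) (hg : g ∈ subG [0, 23] [])
    (h : g * gN = gN * g) : ∃ t : ℕ, g = gN ^ t := by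
  have hsemi : ∀ t : ℕ, g * gN ^ t = gN ^ t * g := fun t => ((show Commute g gN from h).pow_right t).eq
  have hfix : ∀ j < 4, idx (g (pt (fixedL.getD j 0))) ∈ fixedL := by
    intro j hj
    have h1 : ∀ j < 4, fixedL.getD j 0 < 24 ∧ papp cN (fixedL.getD j 0) = fixedL.getD j 0 := by decide +kernel
    have h2 : ∀ i < 24, papp cN i = i → i ∈ fixedL := by decide +kernel
    refine h2 _ (idx_lt _) ?_
    rw [← hN (g (pt _)), ← Equiv.Perm.mul_apply, ← h, Equiv.Perm.mul_apply,
      hN.apply_pt (h1 j hj).1, (h1 j hj).2]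
  let W : List ℕ := [idx (g (pt 0)), idx (g (pt 1)), idx (g (pt 5)), idx (g (pt 23))]
  let U : List ℕ := [idx (g (pt 2)), idx (g (pt 3)), idx (g (pt 7)), idx (g (pt 14))]
  have hU : ∀ r < 4, U.getD r 0 = idx (g (pt (repsL.getD r 0))) := by
    intro r hr
    interval_cases r <;> rfl
  have hW : ∀ r < 4, W.getD r 0 = idx (g (pt (fixedL.getD r 0))) := by
    intro r hr
    interval_cases r <;> rfl
  have hrepr : Repr (candC W U) g := by
    intro p
    have hi := idx_lt p
    rw [candC, ((pack_spec _ (fun i => Nat.mod_lt _ (by norm_num))) 24).2 _ hi]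
    rcases tab_spec (idx p) hi with ⟨e, e2, e3⟩ | ⟨e, e2⟩
    · rw [e, if_pos (Nat.beq_refl 4), hW _ e2, e3, pt_idx, Nat.mod_eq_of_lt (by have := idx_lt (g p); omega)]
    · rw [if_neg (fun hb => by have := Nat.eq_of_beq_eq_true hb; omega), hU _ e]
      set s := tabL.getD (idx p) (4, 0)
      have hst : repsL.getD s.1 0 < 24 := by
        have : ∀ r < 4, repsL.getD r 0 < 24 := by decide
        exact this _ e
      have hp : p = (gN ^ s.2) (pt (repsL.getD s.1 0)) := by rw [(hN.pow _).apply_pt hst, e2, pt_idx]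
      conv_lhs => rw [hp, ← Equiv.Perm.mul_apply, hsemi, Equiv.Perm.mul_apply, (hN.pow _) _]
      have hlt := idx_lt ((gN ^ s.2) (g (pt (repsL.getD s.1 0))))
      rw [(hN.pow _) _] at hlt
      rw [Nat.mod_eq_of_lt (by omega)]
  have hl : ∀ x ∈ [0, 23], x < 24 := by decide
  have hp : ∀ k < 4, partOK [0, 23] [] k (candC W (U.take k)) = true := fun k hk =>
    partOK_of_agree hk hrepr hg fun i hi => candC_agree (fun r hr => by
      rw [List.getD_eq_getElem?_getD, List.getD_eq_getElem?_getD, List.getElem?_take, if_pos hr]) hi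
  have hm := memOK_of_mem hl (by simp) hrepr hg
  have hs := searchC_checked
  simp only [searchC, List.all_eq_true, Bool.or_eq_true, Bool.not_eq_true', List.mem_range, List.any_eq_true] at hs
  rcases hs _ (hfix 0 (by norm_num)) _ (hfix 1 (by norm_num)) _ (hfix 2 (by norm_num)) _ (hfix 3 (by norm_num)) with
    h0 | h0
  · exact absurd ((hp 0 (by norm_num)).symm.trans h0) (by simp)
  rcases h0 _ (idx_lt (g (pt 2))) with h1 | h1
  · exact absurd ((hp 1 (by norm_num)).symm.trans h1) (by simp)
  rcases h1 _ (idx_lt (g (pt 3))) with h2 | h2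
  · exact absurd ((hp 2 (by norm_num)).symm.trans h2) (by simp)
  rcases h2 _ (idx_lt (g (pt 7))) with h3 | h3
  · exact absurd ((hp 3 (by norm_num)).symm.trans h3) (by simp)
  rcases h3 _ (idx_lt (g (pt 14))) with h4 | ⟨t, -, ht⟩
  · exact absurd (hm.symm.trans h4) (by simp)
  · exact ⟨t, (eqCode_iff hrepr (hN.pow t)).mp ht⟩

end CfsgLib.JankoFour.FiveSelf
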