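/-
An element of order five in M22, the hexad groups it normalizes, and an outer automorphism fixing it.
-/
import Cfsg.Agent.Lib.JankoFour.FiveData
import Cfsg.Agent.Lib.JankoFour.FiveSelf
import Cfsg.Agent.Lib.JankoFour.M22Syl
import Cfsg.Agent.Lib.Golay.Elems

set_option autoImplicit false
set_option maxRecDepth 20000

namespace CfsgLib.JankoFour

open Cfsg CfsgGolay M22Data FiveData
open Out23 (eqCode eqCode_iff cN)

attribute [local irreducible] codeL octadL dodecadL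

local notation "M" => MTwoTwo

/-- The facts about M22 used at an element of order five. -/
structure FiveModel where
  q : M
  ν : M
  qOne : M
  nn : M
  AOne : Subgroup M
  ATwo : Subgroup M
  AThree : Subgroup M
  μ : MulAut M
  q5 : orderOf q = 5
  selfC : ∀ g : M, g * q = q * g → ∃ k : ℕ, g = q ^ k
  νq : ν * q * ν⁻¹ = q ^ 2
  ν4 : ν ^ 4 = 1
  hexOne : HexLike AOne
  hexTwo : HexLike ATwo
  hexThree : HexLike AThree
  qAOne : q ∈ Subgroup.normalizer (AOne : Set M)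
  qATwo : q ∈ Subgroup.normalizer (ATwo : Set M)
  νOne : ∀ a ∈ AOne, ν * a * ν⁻¹ ∈ ATwo
  νTwo : ∀ a ∈ ATwo, ν * a * ν⁻¹ ∈ AOne
  νThree : ν ∈ Subgroup.normalizer (AThree : Set M)
  sqThree : ν ^ 2 ∈ AThree
  qOne5 : orderOf qOne = 5
  qOneThree : qOne ∈ Subgroup.normalizer (AThree : Set M)
  nnThree : nn ∈ Subgroup.normalizer (AThree : Set M)
  gen12 : ∀ V : Subgroup M, AOne ≤ V → ATwo ≤ V → 9 ∣ Nat.card V
  genBase : ∀ V : Subgroup M, AThree ≤ V → qOne ∈ V → nn * qOne * nn⁻¹ ∈ V → 9 ∣ Nat.card V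
  genOrb : ∀ V : Subgroup M, AThree ≤ V → q ∈ V → qOne ∈ V → 9 ∣ Nat.card V
  genOrbit : ∀ k < 5, ∀ V : Subgroup M, AThree ≤ V → q ∈ V →
    qOne ^ k * (nn * qOne * nn⁻¹) * (qOne ^ k)⁻¹ ∈ V → 9 ∣ Nat.card V
  μq : μ q = q
  μμ : μ * μ = 1
  μOne : ∀ a ∈ AOne, μ a ∈ ATwo

namespace FiveChk

/-- The code of the conjugate. -/
def cj (g x : ℕ) : ℕ := pcomp (pcomp g x) (pinv g)

/-- The code of `h⁻¹ x g`. -/
def mv (h x g : ℕ) : ℕ := pcomp (pinv h) (pcomp x g)

/-- The generators of a hexad group. -/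
def hexC (g : ℕ) : List ℕ := hexI.map fun j => cj g (wd j)

/-- The code of the fifth-order elements around the base one. -/
def orbC (k : ℕ) : ℕ := cj (ppow qOne k) (cj nnC qOne)

/-- The product of a word. -/
def evalW (gens : List ℕ) : List ℕ → ℕ
  | [] => pid
  | i :: w => pcomp (gens.getD i pid) (evalW gens w)

/-- The two words give commuting elements generating a group of order nine. -/
def nineB (gens : List ℕ) (w : List ℕ × List ℕ) : Bool :=
  eqCode (ppow (evalW gens w.1) 3) pid && eqCode (ppow (evalW gens w.2) 3) pid &&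
    eqCode (pcomp (evalW gens w.1) (evalW gens w.2)) (pcomp (evalW gens w.2) (evalW gens w.1)) &&
    !eqCode (evalW gens w.1) pid &&
    (List.range 3).all fun k => !eqCode (evalW gens w.2) (ppow (evalW gens w.1) k)

/-- The generators in the k-th case. -/
def orbGens (k : ℕ) : List ℕ :=
  hexC gThree ++ [cN, if k = 0 then qOne else orbC (k - 1)]

theorem mem_checked : ([gOne, gTwo, gThree, nuC, qOne, nnC, cN].all memB) = true := by decide +kernel

theorem mu_checked : (permOK muC && gensKept muC && Nat.beq (papp muC 0) 23 && Nat.beq (papp muC 23) 0 &&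
    eqCode (pcomp muC muC) pid && eqCode (pcomp muC cN) (pcomp cN muC)) = true := by decide +kernel

theorem rel_checked : (eqCode (ppow cN 5) pid && !eqCode cN pid && eqCode (ppow qOne 5) pid && !eqCode qOne pid &&
    eqCode (ppow nuC 4) pid && eqCode (pcomp nuC cN) (pcomp (ppow cN 2) nuC) &&
    eqCode (pcomp nuC nuC) (cj gThree (wd idxI)) && hexI.contains idxI) = true := by decide +kernel

theorem norm_checked : (normB (mv gOne cN gOne) hexI && normB (mv gTwo cN gTwo) hexI &&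
    normB (mv gTwo nuC gOne) hexI && normB (mv gOne nuC gTwo) hexI && normB (mv gThree nuC gThree) hexI &&
    normB (mv gThree qOne gThree) hexI && normB (mv gThree nnC gThree) hexI &&
    normB (mv gTwo muC gOne) hexI) = true := by decide +kernel

theorem words_checked : (nineB (hexC gOne ++ hexC gTwo) wordsAB &&
    nineB (hexC gThree ++ [qOne, cj nnC qOne]) wordsBase &&
    (List.range 6).all fun k => nineB (orbGens k) (wordsOrb.getD k ([], []))) = true := by decide +kernel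

theorem nine_words {gens : List ℕ} {w : List ℕ × List ℕ} (h : nineB gens w = true) (V : Subgroup M)
    (hV : ∀ c ∈ gens, ∃ g ∈ V, Repr c ((g : M) : Equiv.Perm GolayPt)) : 9 ∣ Nat.card V := by
  have hw : ∀ l : List ℕ, ∃ g ∈ V, Repr (evalW gens l) ((g : M) : Equiv.Perm GolayPt) := by
    intro l
    induction l with
    | nil => exact ⟨1, one_mem _, repr_one⟩
    | cons i l ih =>
      obtain ⟨g, hg, hr⟩ := ih
      by_cases hi : i < gens.length
      · obtain ⟨a, ha, hra⟩ := hV _ (List.getElem_mem hi)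
        refine ⟨a * g, mul_mem ha hg, ?_⟩
        rw [evalW, List.getD_eq_getElem _ _ hi]
        exact repr_mul hra hr
      · refine ⟨1 * g, mul_mem (one_mem _) hg, ?_⟩
        rw [evalW, List.getD_eq_default _ _ (by omega)]
        exact repr_mul repr_one hr
  obtain ⟨u, hu, hru⟩ := hw w.1
  obtain ⟨v, hv, hrv⟩ := hw w.2
  simp only [nineB, Bool.and_eq_true, Bool.not_eq_true', List.all_eq_true, List.mem_range] at h
  obtain ⟨⟨⟨⟨h1, h2⟩, h3⟩, h4⟩, h5⟩ := h
  have eqM : ∀ {a b : ℕ} {g g' : M}, Repr a ((g : M) : Equiv.Perm GolayPt) → Repr b ((g' : M) : Equiv.Perm GolayPt) →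
      (eqCode a b = true ↔ g = g') := fun ha hb => (eqCode_iff ha hb).trans Subtype.ext_iff.symm
  have u3 : u ^ 3 = 1 := (eqM (repr_pow hru 3) repr_one).mp h1
  have v3 : v ^ 3 = 1 := (eqM (repr_pow hrv 3) repr_one).mp h2
  have huv : Commute u v := (eqM (repr_mul hru hrv) (repr_mul hrv hru)).mp h3
  refine nine_dvd u v u3 v3 huv (fun k e => ?_) hu hv (fun e => ?_)
  · rw [pow_eq_pow_mod k u3] at e
    have := h5 (k % 3) (Nat.mod_lt _ (by norm_num))
    rw [(eqM hrv (repr_pow hru _)).mpr e] at this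
    exact Bool.noConfusion this
  · rw [(eqM hru repr_one).mpr e] at h4
    exact Bool.noConfusion h4

theorem exists_hexA : ∃ A : Subgroup M, (A : Set M) = idxSet hexI ∧ HexLike A := by
  classical
  have hs := sets_checked
  simp only [Bool.and_eq_true, List.contains_iff_mem, decide_eq_true_eq] at hs
  obtain ⟨⟨⟨⟨⟨⟨⟨hh, hd⟩, hhl⟩, hdl⟩, hh0⟩, hd0⟩, hhn⟩, hdn⟩ := hs
  obtain ⟨A, hA⟩ := idx_subgroup hh hh0
  have hcA : Nat.card A = 16 := by
    rw [show Nat.card A = Nat.card (idxSet hexI) by rw [← hA]; rfl, card_idxSet hh hhn, Nat.eq_of_beq_eq_true hhl]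
  have hsq : ∀ a ∈ A, a ^ 2 = 1 := by
    intro a ha
    rw [← SetLike.mem_coe, hA] at ha
    obtain ⟨i, hi, rfl⟩ := ha
    exact invI_sq i ((closedB_spec hh).1 i hi).2
  have helem : IsElementaryAbelian 2 A := by
    refine ⟨⟨⟨fun a b => Subtype.ext ?_⟩⟩, hsq⟩
    have ha := hsq _ a.2
    have hb := hsq _ b.2
    have hab := hsq _ (A.mul_mem a.2 b.2)
    simp only [Subgroup.coe_mul]
    rw [sq] at ha hb hab
    calc (a : M) * b = (a * b)⁻¹ := eq_inv_of_mul_eq_one_left hab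
      _ = (b : M)⁻¹ * (a : M)⁻¹ := mul_inv_rev _ _
      _ = b * a := by rw [inv_eq_of_mul_eq_one_left ha, inv_eq_of_mul_eq_one_left hb]
  have hm := JankoFour.mem_checked
  simp only [Bool.and_eq_true, List.all_eq_true] at hm
  obtain ⟨⟨⟨⟨⟨-, hu⟩, hv⟩, htr⟩, -⟩, -⟩ := hm
  obtain ⟨u, hu⟩ := exists_el hu
  obtain ⟨v, hv⟩ := exists_el hv
  have hx := hex_checked
  simp only [Bool.and_eq_true, List.all_eq_true, List.any_eq_true, Bool.or_eq_true, Bool.not_eq_true'] at hx
  obtain ⟨⟨⟨⟨⟨⟨⟨⟨hnu, hnv⟩, huv⟩, hu3⟩, hun⟩, hv3⟩, hne⟩, hntr⟩, htrans⟩ := hx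
  have u3 : u ^ 3 = 1 := el_eq (repr_pow hu 3) (by rw [Nat.eq_of_beq_eq_true hu3]; exact repr_one)
  have v3 : v ^ 3 = 1 := el_eq (repr_pow hv 3) (by rw [Nat.eq_of_beq_eq_true hv3]; exact repr_one)
  have huv' : Commute u v := el_eq (repr_mul hu hv) (by rw [Nat.eq_of_beq_eq_true huv]; exact repr_mul hv hu)
  simp only [List.mem_cons, List.not_mem_nil, or_false, forall_eq_or_imp, forall_eq] at hne
  obtain ⟨hne0, hne1, hne2⟩ := hne
  have hvk : ∀ k : ℕ, v ≠ u ^ k := by
    intro k e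
    have e' : v * 1 = u ^ (k % 3) * 1 := by rw [e, ← pow_eq_pow_mod k u3]
    have : k % 3 < 3 := Nat.mod_lt _ (by norm_num)
    interval_cases h : k % 3
    · exact ne_of_code (repr_mul repr_one repr_one) (repr_mul hv repr_one) hne0 (by rw [e']; simp)
    · exact ne_of_code (repr_mul hu repr_one) (repr_mul hv repr_one) hne1 (by rw [e']; simp)
    · exact ne_of_code (repr_mul (repr_mul hu hu) repr_one) (repr_mul hv repr_one) hne2 (by rw [e', sq])
  have hu1 : u ≠ 1 := fun e => ne_of_code (repr_mul hu repr_one) (repr_mul repr_one repr_one) hun (by rw [e])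
  refine ⟨A, hA, helem, hcA, nine_dvd u v u3 v3 huv' hvk (normB_spec hu hnu hA) (normB_spec hv hnv hA) hu1, ?_⟩
  set b₁ := hexI.getD 1 0
  have key : ∀ a ∈ A, a ≠ 1 → ∃ n ∈ Subgroup.normalizer (A : Set M), n * we b₁ * n⁻¹ = a := by
    intro a ha ha1
    rw [← SetLike.mem_coe, hA] at ha
    obtain ⟨i, hi, rfl⟩ := ha
    have hi0 : i ≠ 0 := by rintro rfl; exact ha1 we_zero
    rcases htrans i ((List.mem_erase_of_ne hi0).mpr hi) with he | ⟨x, hx, he⟩
    · exact ⟨1, one_mem _, by rw [Nat.eq_of_beq_eq_true he]; simp [b₁]⟩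
    · obtain ⟨n, hn⟩ := exists_el (htr x hx)
      refine ⟨n, normB_spec hn (hntr x hx) hA, mul_inv_eq_iff_eq_mul.mpr (el_eq (repr_mul hn (we_repr b₁)) ?_)⟩
      rw [Nat.eq_of_beq_eq_true he]
      exact repr_mul (we_repr i) hn
  intro a ha b hb ha1 hb1
  obtain ⟨n, hn, hna⟩ := key a ha ha1
  obtain ⟨m, hm, hmb⟩ := key b hb hb1
  refine ⟨m * n⁻¹, mul_mem hm (inv_mem hn), ?_⟩
  rw [← hna, ← hmb]
  group

/-- The hexad group. -/
noncomputable def hexA : Subgroup M := Classical.choose exists_hexA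

theorem hexA_eq : (hexA : Set M) = idxSet hexI := (Classical.choose_spec exists_hexA).1

theorem hexA_hex : HexLike hexA := (Classical.choose_spec exists_hexA).2

theorem mem_hexA {a : M} : a ∈ hexA ↔ ∃ i ∈ hexI, we i = a := by
  rw [← SetLike.mem_coe, hexA_eq]; rfl

/-- Conjugation by a permutation whose transport normalizes the index set. -/
theorem carry {cx cg ch : ℕ} {x : Equiv.Perm GolayPt} {g h : M} (hx : Repr cx x)
    (hg : Repr cg ((g : M) : Equiv.Perm GolayPt)) (hh : Repr ch ((h : M) : Equiv.Perm GolayPt))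
    (hn : normB (mv ch cx cg) hexI = true) (a : M) (ha : a ∈ hexA.map (MulAut.conj g).toMonoidHom) :
    ∃ b ∈ hexA.map (MulAut.conj h).toMonoidHom,
      ((b : M) : Equiv.Perm GolayPt) = x * ((a : M) : Equiv.Perm GolayPt) * x⁻¹ := by
  obtain ⟨a, ha, rfl⟩ := ha
  obtain ⟨i, hi, rfl⟩ := mem_hexA.mp ha
  simp only [normB, List.all_eq_true, List.any_eq_true] at hn
  obtain ⟨k, hk, he⟩ := hn i hi
  refine ⟨h * we k * h⁻¹, ⟨we k, mem_hexA.mpr ⟨k, hk, rfl⟩, rfl⟩, ?_⟩
  set y := ((h : M) : Equiv.Perm GolayPt)⁻¹ * (x * ((g : M) : Equiv.Perm GolayPt))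
  have hy : Repr (mv ch cx cg) y := hh.inv.comp (hx.comp hg)
  have e : y * ((we i : M) : Equiv.Perm GolayPt) = ((we k : M) : Equiv.Perm GolayPt) * y := by
    refine (hy.comp (we_repr i)).unique ?_
    rw [Nat.eq_of_beq_eq_true he]
    exact (we_repr k).comp hy
  have e' := eq_mul_inv_iff_mul_eq.mpr e.symm
  simp only [MulEquiv.coe_toMonoidHom, MulAut.conj_apply, Subgroup.coe_mul, Subgroup.coe_inv]
  rw [e']
  simp only [y]
  group

theorem carry_el {cx cg ch : ℕ} {x g h : M} (hx : Repr cx ((x : M) : Equiv.Perm GolayPt))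
    (hg : Repr cg ((g : M) : Equiv.Perm GolayPt)) (hh : Repr ch ((h : M) : Equiv.Perm GolayPt))
    (hn : normB (mv ch cx cg) hexI = true) :
    ∀ a ∈ hexA.map (MulAut.conj g).toMonoidHom, x * a * x⁻¹ ∈ hexA.map (MulAut.conj h).toMonoidHom := by
  intro a ha
  obtain ⟨b, hb, e⟩ := carry hx hg hh hn a ha
  have : x * a * x⁻¹ = b := Subtype.ext (by simp only [Subgroup.coe_mul, Subgroup.coe_inv]; exact e.symm)
  exact this ▸ hb

theorem norm_of {cx cg : ℕ} {x g : M} (hx : Repr cx ((x : M) : Equiv.Perm GolayPt))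
    (hg : Repr cg ((g : M) : Equiv.Perm GolayPt)) (hn : normB (mv cg cx cg) hexI = true) :
    x ∈ Subgroup.normalizer ((hexA.map (MulAut.conj g).toMonoidHom : Subgroup M) : Set M) := by
  set A := hexA.map (MulAut.conj g).toMonoidHom
  have hmap := carry_el hx hg hg hn
  rw [Subgroup.mem_normalizer_iff]
  refine fun a => ⟨hmap a, fun ha => ?_⟩
  let F : A → A := fun a => ⟨x * a * x⁻¹, hmap a a.2⟩
  have hF : Function.Injective F := fun a b e => Subtype.ext (by
    have := congrArg Subtype.val e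
    simpa [F] using this)
  obtain ⟨b, hb⟩ := Finite.injective_iff_surjective.mp hF ⟨_, ha⟩
  have := congrArg Subtype.val hb
  simp only [F, mul_left_inj, mul_right_inj] at this
  exact this ▸ b.2

theorem gens_hex {cg : ℕ} {g : M} (hg : Repr cg ((g : M) : Equiv.Perm GolayPt)) {V : Subgroup M}
    (hV : hexA.map (MulAut.conj g).toMonoidHom ≤ V) :
    ∀ c ∈ hexC cg, ∃ a ∈ V, Repr c ((a : M) : Equiv.Perm GolayPt) := by
  intro c hc
  obtain ⟨j, hj, rfl⟩ := List.mem_map.mp hc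
  refine ⟨g * we j * g⁻¹, hV ⟨we j, mem_hexA.mpr ⟨j, hj, rfl⟩, rfl⟩, ?_⟩
  simp only [Subgroup.coe_mul, Subgroup.coe_inv]
  exact (hg.comp (we_repr j)).comp hg.inv

theorem mu_normalizes {x : Equiv.Perm GolayPt} (hx : x ∈ M24) (h0 : x (pt 0) = pt 23) (h23 : x (pt 23) = pt 0)
    (g : Equiv.Perm GolayPt) (hg : g ∈ Spor.M22) : x * g * x⁻¹ ∈ Spor.M22 := by
  rw [M22_eq] at hg ⊢
  obtain ⟨h1, h2, -⟩ := mem_subG.mp hg
  refine mem_subG.mpr ⟨mul_mem (mul_mem hx h1) (inv_mem hx), mem_fixL.mpr fun p hp => ?_, by simp⟩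
  have i0 : x⁻¹ (pt 0) = pt 23 := by rw [Equiv.Perm.inv_eq_iff_eq]; exact h23.symm
  have i23 : x⁻¹ (pt 23) = pt 0 := by rw [Equiv.Perm.inv_eq_iff_eq]; exact h0.symm
  have f0 : g (pt 0) = pt 0 := mem_fixL.mp h2 _ (by rw [idx_pt (by norm_num)]; simp)
  have f23 : g (pt 23) = pt 23 := mem_fixL.mp h2 _ (by rw [idx_pt (by norm_num)]; simp)
  have hp' : idx p = 0 ∨ idx p = 23 := by simpa using hp
  rcases hp' with e | e <;> rw [← pt_idx p, e]
  · show x (g (x⁻¹ (pt 0))) = pt 0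
    rw [i0, f23, h23]
  · show x (g (x⁻¹ (pt 23))) = pt 23
    rw [i23, f0, h0]

theorem exists_model : Nonempty FiveModel := by
  have hm := mem_checked
  simp only [List.all_eq_true, List.mem_cons, List.not_mem_nil, or_false, forall_eq_or_imp, forall_eq] at hm
  obtain ⟨m1, m2, m3, mν, mq1, mn, mq⟩ := hm
  obtain ⟨g1, r1⟩ := exists_el m1
  obtain ⟨g2, r2⟩ := exists_el m2
  obtain ⟨g3, r3⟩ := exists_el m3
  obtain ⟨ν, rν⟩ := exists_el mν
  obtain ⟨q1, rq1⟩ := exists_el mq1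
  obtain ⟨nn, rn⟩ := exists_el mn
  obtain ⟨q, rq⟩ := exists_el mq
  have hr := rel_checked
  simp only [Bool.and_eq_true, Bool.not_eq_true', List.contains_iff_mem] at hr
  obtain ⟨⟨⟨⟨⟨⟨⟨hq5, hqne⟩, h15⟩, h1ne⟩, hν4⟩, hνq⟩, hsq⟩, hidx⟩ := hr
  have hμc := mu_checked
  simp only [Bool.and_eq_true] at hμc
  obtain ⟨⟨⟨⟨⟨hp, hk⟩, h0⟩, h23⟩, hμ2⟩, hμq⟩ := hμc
  obtain ⟨x, rx⟩ := exists_repr_of_permOK hp
  have hx24 := mem_M24_of_gensKept rx hk
  have x0 : x (pt 0) = pt 23 := by rw [rx.apply_pt (by norm_num), Nat.eq_of_beq_eq_true h0]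
  have x23 : x (pt 23) = pt 0 := by rw [rx.apply_pt (by norm_num), Nat.eq_of_beq_eq_true h23]
  have hxx : x * x = 1 := (eqCode_iff (rx.comp rx) repr_pid).mp hμ2
  have hxi : x⁻¹ = x := inv_eq_of_mul_eq_one_left hxx
  have hnorm := mu_normalizes hx24 x0 x23
  let μ : MulAut M :=
    { toFun := fun g => ⟨x * g * x⁻¹, hnorm _ g.2⟩
      invFun := fun g => ⟨x * g * x⁻¹, hnorm _ g.2⟩
      left_inv := fun g => Subtype.ext (by
        show x * (x * (g : Equiv.Perm GolayPt) * x⁻¹) * x⁻¹ = _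
        rw [hxi, ← mul_assoc, ← mul_assoc, hxx, one_mul, mul_assoc, hxx, mul_one])
      right_inv := fun g => Subtype.ext (by
        show x * (x * (g : Equiv.Perm GolayPt) * x⁻¹) * x⁻¹ = _
        rw [hxi, ← mul_assoc, ← mul_assoc, hxx, one_mul, mul_assoc, hxx, mul_one])
      map_mul' := fun g h => Subtype.ext (by
        show x * ((g : Equiv.Perm GolayPt) * h) * x⁻¹ = x * g * x⁻¹ * (x * h * x⁻¹)
        group) }
  have hn := norm_checked
  simp only [Bool.and_eq_true] at hn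
  obtain ⟨⟨⟨⟨⟨⟨⟨n1, n2⟩, n12⟩, n21⟩, n3⟩, n3q⟩, n3n⟩, nμ⟩ := hn
  have hw := words_checked
  simp only [Bool.and_eq_true, List.all_eq_true, List.mem_range] at hw
  obtain ⟨⟨w12, wb⟩, worb⟩ := hw
  have eqM : ∀ {a b : ℕ} {g g' : M}, Repr a ((g : M) : Equiv.Perm GolayPt) → Repr b ((g' : M) : Equiv.Perm GolayPt) →
      (eqCode a b = true ↔ g = g') := fun ha hb => (eqCode_iff ha hb).trans Subtype.ext_iff.symm
  haveI : Fact (Nat.Prime 5) := ⟨by norm_num⟩
  have rconj : Repr (cj nnC qOne) (((nn * q1 * nn⁻¹ : M)) : Equiv.Perm GolayPt) := by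
    simp only [Subgroup.coe_mul, Subgroup.coe_inv]
    exact (rn.comp rq1).comp rn.inv
  refine ⟨{
    q := q, ν := ν, qOne := q1, nn := nn
    AOne := hexA.map (MulAut.conj g1).toMonoidHom
    ATwo := hexA.map (MulAut.conj g2).toMonoidHom
    AThree := hexA.map (MulAut.conj g3).toMonoidHom
    μ := μ
    q5 := orderOf_eq_prime ((eqM (repr_pow rq 5) repr_one).mp hq5)
      (fun e => by rw [(eqM rq repr_one).mpr e] at hqne; exact Bool.noConfusion hqne)
    selfC := ?_
    νq := mul_inv_eq_iff_eq_mul.mpr ((eqM (repr_mul rν rq) (repr_mul (repr_pow rq 2) rν)).mp hνq)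
    ν4 := (eqM (repr_pow rν 4) repr_one).mp hν4
    hexOne := hexA_hex.map _
    hexTwo := hexA_hex.map _
    hexThree := hexA_hex.map _
    qAOne := norm_of rq r1 n1
    qATwo := norm_of rq r2 n2
    νOne := carry_el rν r1 r2 n12
    νTwo := carry_el rν r2 r1 n21
    νThree := norm_of rν r3 n3
    sqThree := ?_
    qOne5 := orderOf_eq_prime ((eqM (repr_pow rq1 5) repr_one).mp h15)
      (fun e => by rw [(eqM rq1 repr_one).mpr e] at h1ne; exact Bool.noConfusion h1ne)
    qOneThree := norm_of rq1 r3 n3q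
    nnThree := norm_of rn r3 n3n
    gen12 := fun V h1 h2 => nine_words w12 V fun c hc => (List.mem_append.mp hc).elim (gens_hex r1 h1 c) (gens_hex r2 h2 c)
    genBase := ?_
    genOrb := ?_
    genOrbit := ?_
    μq := ?_
    μμ := ?_
    μOne := ?_ }⟩
  · intro g hg
    have hgs : (g : Equiv.Perm GolayPt) ∈ subG [0, 23] [] := M22_eq ▸ g.2
    obtain ⟨t, ht⟩ := FiveSelf.self_cent rq hgs (congrArg Subtype.val hg)
    exact ⟨t, Subtype.ext (by rw [ht, Subgroup.coe_pow])⟩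
  · refine ⟨we idxI, mem_hexA.mpr ⟨_, hidx, rfl⟩, ((eqM (g := ν ^ 2) ?_ ?_).mp hsq).symm⟩
    · rw [sq]; exact repr_mul rν rν
    · simp only [MulEquiv.coe_toMonoidHom, MulAut.conj_apply, Subgroup.coe_mul, Subgroup.coe_inv]
      exact (r3.comp (we_repr _)).comp r3.inv
  · intro V hA hq1 hnq
    refine nine_words wb V fun c hc => ?_
    rcases List.mem_append.mp hc with hc | hc
    · exact gens_hex r3 hA c hc
    · simp only [List.mem_cons, List.not_mem_nil, or_false] at hc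
      rcases hc with rfl | rfl
      exacts [⟨_, hq1, rq1⟩, ⟨_, hnq, rconj⟩]
  · intro V hA hq hq1
    refine nine_words (worb 0 (by norm_num)) V fun c hc => ?_
    rcases List.mem_append.mp hc with hc | hc
    · exact gens_hex r3 hA c hc
    · simp only [List.mem_cons, List.not_mem_nil, or_false, if_true] at hc
      rcases hc with rfl | rfl
      exacts [⟨_, hq, rq⟩, ⟨_, hq1, rq1⟩]
  · intro k hk V hA hq hy
    refine nine_words (worb (k + 1) (by omega)) V fun c hc => ?_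
    rcases List.mem_append.mp hc with hc | hc
    · exact gens_hex r3 hA c hc
    · simp only [List.mem_cons, List.not_mem_nil, or_false, Nat.succ_ne_zero, if_false, Nat.add_sub_cancel] at hc
      rcases hc with rfl | rfl
      · exact ⟨_, hq, rq⟩
      · refine ⟨_, hy, ?_⟩
        simp only [Subgroup.coe_mul, Subgroup.coe_inv, Subgroup.coe_pow]
        exact ((rq1.pow k).comp ((rn.comp rq1).comp rn.inv)).comp (rq1.pow k).inv
  · refine Subtype.ext ?_
    show x * (q : Equiv.Perm GolayPt) * x⁻¹ = q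
    exact mul_inv_eq_iff_eq_mul.mpr ((eqCode_iff (rx.comp rq) (rq.comp rx)).mp hμq)
  · refine MulEquiv.ext fun g => Subtype.ext ?_
    show x * (x * (g : Equiv.Perm GolayPt) * x⁻¹) * x⁻¹ = g
    rw [hxi, ← mul_assoc, ← mul_assoc, hxx, one_mul, mul_assoc, hxx, mul_one]
  · intro a ha
    obtain ⟨b, hb, e⟩ := carry rx r1 r2 nμ a ha
    exact (Subtype.ext e.symm : μ a = b) ▸ hb

end FiveChk

end CfsgLib.JankoFour
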