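/-
Elements of the centralizer of z outside the inner part act as outer automorphisms of M22.
-/
import Cfsg.Agent.Lib.JankoFour.Pre

set_option autoImplicit false

namespace CfsgLib.JankoFour

open Cfsg Subgroup

universe u

variable {G : Type u} [Group G] [Finite G] {z : G} {P : Subgroup G}

theorem conj_m22_injective : Function.Injective (MulAut.conj (G := MTwoTwo)) := by
  haveI := CfsgGolay.isSimple_sporM22
  rw [← MonoidHom.ker_eq_bot_iff]
  rcases Subgroup.Normal.eq_bot_or_eq_top (inferInstance : (MulAut.conj (G := MTwoTwo)).ker.Normal) with h | h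
  · exact h
  · exfalso
    have hab : ∀ a b : MTwoTwo, a * b = b * a := fun a b =>
      mul_inv_eq_iff_eq_mul.mp (DFunLike.congr_fun (MonoidHom.mem_ker.mp (h ▸ mem_top a : a ∈ _)) b)
    have hp : (Nat.card MTwoTwo).Prime := by
      let _ : CommGroup MTwoTwo := { (inferInstance : Group MTwoTwo) with mul_comm := hab }
      exact (CommGroup.is_simple_iff_prime_card).mp inferInstance
    rw [show Nat.card MTwoTwo = 443520 from CfsgGolay.card_sporM22] at hp
    norm_num at hp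

theorem perfect_conj_m22 :
    ⁅(MulAut.conj (G := MTwoTwo)).range, (MulAut.conj (G := MTwoTwo)).range⁆ = (MulAut.conj (G := MTwoTwo)).range := by
  haveI := CfsgGolay.isSimple_sporM22
  have htop : ⁅(⊤ : Subgroup MTwoTwo), (⊤ : Subgroup MTwoTwo)⁆ = ⊤ := by
    refine (Subgroup.Normal.eq_bot_or_eq_top inferInstance).resolve_left fun h => ?_
    have hab : ∀ a b : MTwoTwo, a * b = b * a := fun a b => commutatorElement_eq_one_iff_mul_comm.mp (by
      rw [← mem_bot, ← h]; exact commutator_mem_commutator (mem_top a) (mem_top b))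
    have hp : (Nat.card MTwoTwo).Prime := by
      let _ : CommGroup MTwoTwo := { (inferInstance : Group MTwoTwo) with mul_comm := hab }
      exact (CommGroup.is_simple_iff_prime_card).mp inferInstance
    rw [show Nat.card MTwoTwo = 443520 from CfsgGolay.card_sporM22] at hp
    norm_num at hp
  rw [MonoidHom.range_eq_map, ← map_commutator, htop]

namespace Ctx

theorem E_sup_P {E : Subgroup G} (c : Ctx z P E) (N : Subgroup G) (hEN : E ≤ N) (hPN : P ≤ N)
    (hN : Nat.card N = 3 * 2 ^ 13) : E ⊔ P = N := by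
  refine eq_of_le_of_card_ge (sup_le hEN hPN) ?_
  refine Nat.le_of_dvd Nat.card_pos ?_
  rw [hN]
  exact Nat.Coprime.mul_dvd_of_dvd_of_dvd (by norm_num) (c.hP ▸ card_dvd_of_le le_sup_right)
    (c.hE ▸ card_dvd_of_le le_sup_left)

/-- There are elements outside the inner part, and only the elements of N act trivially. -/
theorem outer_facts (hJ : IsOfJankoFourTypeWith z P) (c : Ctx z P (twoCoreOfCentralizer z)) :
    (∃ h ∈ centralizer ({z} : Set G), h ∉ c.H0) ∧
      ∀ h ∈ centralizer ({z} : Set G), (∀ x ∈ c.cen, h * x * h⁻¹ * x⁻¹ ∈ c.N) → h ∈ c.N := by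
  classical
  obtain ⟨-, -, hE, -, ⟨N, hEN, hNH, -, hN, ⟨hnorm, ⟨iso⟩⟩, hPN⟩, -, -, hne, -⟩ := hJ
  set H := centralizer ({z} : Set G) with hH
  have hNeq : c.N = N := by
    rw [← c.E_sup_P c.N c.EN c.PN c.hN, c.E_sup_P N hEN hPN (by rw [hN, hE])]
  set NH := N.subgroupOf H
  let φ : H →* MulAut MTwoTwo := iso.toMonoidHom.comp (QuotientGroup.mk' NH)
  have hφker : ∀ h : H, φ h = 1 ↔ (h : G) ∈ N := fun h => by
    show iso (QuotientGroup.mk' NH h) = 1 ↔ _
    rw [EmbeddingLike.map_eq_one_iff]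
    exact QuotientGroup.eq_one_iff h
  have hφsurj : Function.Surjective φ := iso.surjective.comp (QuotientGroup.mk'_surjective NH)
  obtain ⟨n, hnH, hnH0⟩ : ∃ n ∈ H, n ∉ c.H0 := by
    by_contra hall
    push Not at hall
    refine hne (le_antisymm (fun n hn => ⟨hn.1, ?_⟩) (inf_le_inf_left _ (centralizer_le_normalizer _)))
    obtain ⟨e, he, x, hx, rfl⟩ := c.decomp n (hall n hn.1)
    have hen : e ∈ normalizer (P : Set G) := by
      have := Subgroup.mul_mem _ hn.2 (Subgroup.inv_mem _ (centralizer_le_normalizer _ hx.2))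
      rwa [mul_inv_cancel_right] at this
    refine mul_mem (mem_centralizer_iff.mpr fun q hq => ?_) hx.2
    have h1 : e * q * e⁻¹ * q⁻¹ ∈ twoCoreOfCentralizer z := by
      rw [show e * q * e⁻¹ * q⁻¹ = e * (q * e⁻¹ * q⁻¹) by group]
      exact mul_mem he (c.conj_E (c.P_le hq) (inv_mem he))
    have h2 : e * q * e⁻¹ * q⁻¹ ∈ P := mul_mem ((mem_normalizer_iff.mp hen q).mp hq) (inv_mem hq)
    have h3 := Subgroup.inf_eq_bot_of_coprime (H := twoCoreOfCentralizer z) (K := P) (by rw [hE, c.hP]; norm_num)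
    have h4 : e * q * e⁻¹ * q⁻¹ = 1 := by
      rw [← mem_bot, ← h3]; exact ⟨h1, h2⟩
    rw [mul_inv_eq_one, mul_inv_eq_iff_eq_mul] at h4
    exact h4.symm
  refine ⟨⟨n, hnH, hnH0⟩, fun h hh htriv => ?_⟩
  set U : Subgroup (MulAut MTwoTwo) := (c.H0.subgroupOf H).map φ
  have hU2 : ∀ b, b ∈ U ∨ b * φ ⟨n, hnH⟩ ∈ U := by
    intro b
    obtain ⟨g, rfl⟩ := hφsurj b
    by_cases hg : (g : G) ∈ c.H0
    · exact Or.inl ⟨g, hg, rfl⟩
    · exact Or.inr ⟨g * ⟨n, hnH⟩, c.H0two g g.2 hg n hnH hnH0, map_mul _ _ _⟩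
  have hInn : (MulAut.conj (G := MTwoTwo)).range ≤ U := by
    by_cases htop : U = ⊤
    · rw [htop]; exact le_top
    refine perfect_le_of_index_two perfect_conj_m22 (Subgroup.index_eq_two_iff.mpr ⟨φ ⟨n, hnH⟩, fun b => ?_⟩)
    by_cases hb : b ∈ U
    · refine Or.inr ⟨hb, fun hbn => htop (eq_top_iff.mpr fun x _ => ?_)⟩
      have hn' : φ ⟨n, hnH⟩ ∈ U := (mul_mem_cancel_left hb).mp hbn
      rcases hU2 x with hx | hx
      · exact hx
      · exact (mul_mem_cancel_right hn').mp hx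
    · exact Or.inl ⟨(hU2 b).resolve_left hb, hb⟩
  have hcomm : ∀ u ∈ U, φ ⟨h, hh⟩ * u = u * φ ⟨h, hh⟩ := by
    rintro _ ⟨g, hg, rfl⟩
    obtain ⟨e, he, x, hx, hge⟩ := c.decomp g hg
    have hxH : x ∈ H := hx.1
    have he' : φ ⟨e, c.Ez he⟩ = 1 := (hφker _).mpr (hEN he)
    have hg' : φ g = φ ⟨x, hxH⟩ := by
      rw [show g = ⟨e, c.Ez he⟩ * ⟨x, hxH⟩ from Subtype.ext hge, map_mul, he', one_mul]
    have h1 : φ (⟨h, hh⟩ * ⟨x, hxH⟩ * ⟨h, hh⟩⁻¹ * ⟨x, hxH⟩⁻¹) = 1 := (hφker _).mpr (hNeq ▸ htriv x hx)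
    rw [map_mul, map_mul, map_mul, map_inv, map_inv, mul_inv_eq_one, mul_inv_eq_iff_eq_mul] at h1
    rw [hg', h1]
  have hone : φ ⟨h, hh⟩ = 1 := by
    refine MulEquiv.ext fun m => conj_m22_injective ?_
    have h1 := hcomm _ (hInn ⟨m, rfl⟩)
    refine MulEquiv.ext fun y => ?_
    have h2 := DFunLike.congr_fun h1 ((φ ⟨h, hh⟩).symm y)
    simp only [MulAut.mul_apply, MulAut.conj_apply, MulEquiv.apply_symm_apply, map_mul, map_inv] at h2
    simpa using h2
  exact hNeq ▸ (hφker ⟨h, hh⟩).mp hone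

end Ctx

end CfsgLib.JankoFour
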