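/-
The fixed points on E of an element of order five of the centralizer of P, and its centralizer in H.
-/
import Cfsg.Agent.Lib.JankoFour.FiveFix
import Cfsg.Agent.Lib.JankoFour.FiveOuter
import Cfsg.Agent.Lib.JankoFour.FiveModel

set_option autoImplicit false

namespace CfsgLib.JankoFour

open Cfsg Subgroup

universe u

variable {G : Type u} [Group G] [Finite G] {z : G} {P E : Subgroup G}

/-- An element of order five in the centralizer of P with the elements normalizing it. -/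
structure FiveData5 (c : Ctx z P E) (m : FiveModel) : Type u where
  q : G
  ν : G
  τ : G
  qc : q ∈ c.cen
  q5 : q ^ 5 = 1
  qv : c.val q = m.q
  νc : ν ∈ c.cen
  νv : c.val ν = m.ν
  νq : ν * q * ν⁻¹ = q ^ 2
  ν4 : ν ^ 4 ∈ zpowers z
  τH : τ ∈ centralizer ({z} : Set G)
  τout : τ ∉ c.H0
  τP : ∀ p ∈ P, τ * p * τ⁻¹ = p⁻¹
  τq : τ * q * τ⁻¹ = q
  ττ : τ * τ ∈ zpowers z
  τv : ∀ x ∈ c.cen, τ * x * τ⁻¹ ∈ c.cen ∧ c.val (τ * x * τ⁻¹) = m.μ (c.val x)

namespace Ctx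

theorem exists_five (c : Ctx z P E) (m : FiveModel) (hex : ∃ h ∈ centralizer ({z} : Set G), h ∉ c.H0)
    (hfaith : ∀ h ∈ centralizer ({z} : Set G), (∀ x ∈ c.cen, h * x * h⁻¹ * x⁻¹ ∈ c.N) → h ∈ c.N) :
    Nonempty (FiveData5 c m) := by
  classical
  have hm5 : m.q ^ 5 = 1 := m.q5 ▸ pow_orderOf_eq_one m.q
  obtain ⟨q, hq, hqv, hq5⟩ := c.lift_five hm5
  obtain ⟨ν0, hν0, hν0v⟩ := c.exists_val m.ν
  have hν0H := c.cen_le_H0 hν0
  set ν := ν0 ^ 9 with hν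
  have hνc : ν ∈ c.cen := pow_mem hν0 9
  have hνv : c.val ν = m.ν := by
    rw [hν, c.val_pow hν0H, hν0v, show 9 = 4 * 2 + 1 from rfl, pow_succ, pow_mul, m.ν4, one_pow, one_mul]
  have hν4 : ν ^ 4 ∈ zpowers z := by
    obtain ⟨-, -, t, ht, p, hp, e⟩ := c.cen_ker (pow_mem hν0 4) (by rw [c.val_pow hν0H, hν0v, m.ν4])
    rw [hν, ← pow_mul, mul_comm 9 4, pow_mul, e, (show Commute t p from (c.Z_comm (c.P_le hp) ht).symm).mul_pow,
      show p ^ 9 = (p * p * p) ^ 3 by rw [← pow_three', ← pow_mul], c.P_cube hp, one_pow, mul_one]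
    exact pow_mem ht 9
  have hνq : ν * q * ν⁻¹ = q ^ 2 := by
    refine c.five_eq (mul_mem (mul_mem hνc hq) (inv_mem hνc)) (pow_mem hq 2)
      (by rw [conj_pow, hq5, mul_one, mul_inv_cancel]) (by rw [← pow_mul, mul_comm 2 5, pow_mul, hq5, one_pow]) ?_
    rw [c.val_conj (c.cen_le_H0 hνc) (c.cen_le_H0 hq), hνv, hqv, c.val_pow (c.cen_le_H0 hq), hqv, m.νq]
  obtain ⟨h, hh, hh0⟩ := hex
  obtain ⟨e, he, n, hn, hen, hnP⟩ := c.outer h hh hh0
  have hn0 : n ∉ c.H0 := fun hc => hh0 (hen ▸ c.H0.mul_mem (c.NH0 (c.EN he)) hc)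
  have hnP' : ∀ p ∈ P, n⁻¹ * p * n = p⁻¹ := fun p hp => by
    have := hnP p⁻¹ (inv_mem hp)
    rw [inv_inv] at this
    calc n⁻¹ * p * n = n⁻¹ * (n * p⁻¹ * n⁻¹) * n := by rw [this]
      _ = p⁻¹ := by group
  have ncen : ∀ x ∈ c.cen, n * x * n⁻¹ ∈ c.cen := fun x hx =>
    ⟨(centralizer ({z} : Set G)).mul_mem ((centralizer ({z} : Set G)).mul_mem hn hx.1) ((centralizer ({z} : Set G)).inv_mem hn), mem_centralizer_iff.mpr fun p hp => by
      have h1 : x * p⁻¹ = p⁻¹ * x := c.cen_comm hx (inv_mem hp)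
      have h2 : n⁻¹ * p = p⁻¹ * n⁻¹ := eq_mul_inv_iff_mul_eq.mpr (hnP' p hp)
      have h3 : n * p⁻¹ = p * n := by
        have := hnP p⁻¹ (inv_mem hp)
        rw [inv_inv] at this
        exact mul_inv_eq_iff_eq_mul.mp this
      calc p * (n * x * n⁻¹) = (p * n) * x * n⁻¹ := by group
        _ = n * (x * p⁻¹) * n⁻¹ := by rw [h1, ← h3]; group
        _ = n * x * (p⁻¹ * n⁻¹) := by group
        _ = n * x * n⁻¹ * p := by rw [← h2]; group⟩
  let θ0 : c.cen →* MTwoTwo :=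
    { toFun := fun x => c.val (n * x * n⁻¹)
      map_one' := by
        rw [OneMemClass.coe_one, mul_one, mul_inv_cancel]
        exact (c.val_eq_one (one_mem _)).mpr (one_mem _)
      map_mul' := fun x y => by
        rw [← c.val_mul (c.cen_le_H0 (ncen x x.2)) (c.cen_le_H0 (ncen y y.2)), Subgroup.coe_mul]
        congr 1; group }
  have hZP : ∀ t ∈ zpowers z, ∀ p ∈ P, c.val (t * p) = 1 := fun t ht p hp =>
    (c.val_eq_one (c.cen_le_H0 (mul_mem (c.Z_le_cen ht) (c.P_le_cen hp)))).mpr (mul_mem (c.EN (c.Z_le ht)) (c.PN hp))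
  have hker : c.cenHom.ker ≤ θ0.ker := by
    intro x hx
    obtain ⟨-, -, t, ht, p, hp, hxe⟩ := c.cen_ker x.2 hx
    refine MonoidHom.mem_ker.mpr ?_
    show c.val (n * x * n⁻¹) = 1
    rw [hxe, show n * (t * p) * n⁻¹ = (n * t * n⁻¹) * (n * p * n⁻¹) by group, c.Z_comm hn ht, mul_inv_cancel_right,
      hnP p hp]
    exact hZP t ht _ (inv_mem hp)
  have hsurj : Function.Surjective c.cenHom := fun a => by
    obtain ⟨x, hx, hv⟩ := c.exists_val a
    exact ⟨⟨x, hx⟩, hv⟩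
  let θ1 : MTwoTwo →* MTwoTwo := c.cenHom.liftOfSurjective hsurj ⟨θ0, hker⟩
  have hθ1 : ∀ x ∈ c.cen, θ1 (c.val x) = c.val (n * x * n⁻¹) := fun x hx =>
    MonoidHom.liftOfRightInverse_comp_apply _ _ _ _ (⟨x, hx⟩ : c.cen)
  have hinj : Function.Injective θ1 := by
    rw [injective_iff_map_eq_one]
    intro a ha
    obtain ⟨x, hx, rfl⟩ := c.exists_val a
    rw [hθ1 x hx] at ha
    obtain ⟨-, -, t, ht, p, hp, he'⟩ := c.cen_ker (ncen x hx) ha
    have : x = t * p⁻¹ := by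
      calc x = n⁻¹ * (n * x * n⁻¹) * n := by group
        _ = (n⁻¹ * t * n) * (n⁻¹ * p * n) := by rw [he']; group
        _ = t * p⁻¹ := by rw [c.Z_comm (inv_mem hn) ht, inv_mul_cancel_right, hnP' p hp]
    rw [this]; exact hZP t ht _ (inv_mem hp)
  let θ : MulAut MTwoTwo := MulEquiv.ofBijective θ1 ⟨hinj, Finite.injective_iff_surjective.mp hinj⟩
  have hθ : ∀ x ∈ c.cen, θ (c.val x) = c.val (n * x * n⁻¹) := hθ1
  have hθI : θ ∉ (MulAut.conj (G := MTwoTwo)).range := by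
    rintro ⟨a, ha⟩
    obtain ⟨x, hx, rfl⟩ := c.exists_val a
    refine hn0 ?_
    have h1 : x⁻¹ * n ∈ c.N := hfaith _ (mul_mem (inv_mem hx.1) hn) fun y hy => by
      have hy' := ncen y hy
      have hxy : x⁻¹ * (n * y * n⁻¹) * x ∈ c.cen := mul_mem (mul_mem (inv_mem hx) hy') hx
      rw [show x⁻¹ * n * y * (x⁻¹ * n)⁻¹ * y⁻¹ = x⁻¹ * (n * y * n⁻¹) * x * y⁻¹ by group]
      refine (c.val_eq_one (c.cen_le_H0 (mul_mem hxy (inv_mem hy)))).mp ?_
      rw [c.val_mul (c.cen_le_H0 hxy) (c.cen_le_H0 (inv_mem hy)),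
        c.val_mul (c.cen_le_H0 (mul_mem (inv_mem hx) hy')) (c.cen_le_H0 hx),
        c.val_mul (c.cen_le_H0 (inv_mem hx)) (c.cen_le_H0 hy'), c.val_inv (c.cen_le_H0 hx),
        c.val_inv (c.cen_le_H0 hy), ← hθ y hy, ← ha, MulAut.conj_apply]
      group
    have := mul_mem (c.cen_le_H0 hx) (c.NH0 h1)
    rwa [mul_inv_cancel_left] at this
  have hμI : m.μ ∉ (MulAut.conj (G := MTwoTwo)).range := by
    rintro ⟨g, hg⟩
    have hgq : g * m.q = m.q * g := by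
      have := DFunLike.congr_fun hg m.q
      rw [MulAut.conj_apply, m.μq] at this
      exact mul_inv_eq_iff_eq_mul.mp this
    obtain ⟨k, rfl⟩ := m.selfC g hgq
    have hle : m.AOne ≤ m.ATwo := by
      intro a ha
      have ha' : (m.q ^ k)⁻¹ * a * m.q ^ k ∈ m.AOne :=
        (mem_normalizer_iff''.mp (pow_mem m.qAOne k) a).mp ha
      have := m.μOne _ ha'
      rw [← hg, MulAut.conj_apply] at this
      rwa [show m.q ^ k * ((m.q ^ k)⁻¹ * a * m.q ^ k) * (m.q ^ k)⁻¹ = a by group] at this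
    have h9 := m.gen12 m.ATwo hle le_rfl
    rw [m.hexTwo.2.1] at h9
    norm_num at h9
  obtain ⟨g, hg⟩ : θ * m.μ ∈ (MulAut.conj (G := MTwoTwo)).range := by
    rw [Subgroup.mul_mem_iff_of_index_two CfsgGolay.OutSmall.out_M22]
    exact iff_of_false hθI hμI
  obtain ⟨x0, hx0, rfl⟩ := c.exists_val g
  set τ := x0⁻¹ * n with hτ
  have hτH : τ ∈ centralizer ({z} : Set G) := mul_mem (inv_mem hx0.1) hn
  have hτout : τ ∉ c.H0 := fun hc => hn0 (by
    have := mul_mem (c.cen_le_H0 hx0) hc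
    rwa [hτ, mul_inv_cancel_left] at this)
  have hτv : ∀ x ∈ c.cen, τ * x * τ⁻¹ ∈ c.cen ∧ c.val (τ * x * τ⁻¹) = m.μ (c.val x) := by
    intro x hx
    have e1 : τ * x * τ⁻¹ = x0⁻¹ * (n * x * n⁻¹) * x0 := by rw [hτ]; group
    have hx' := ncen x hx
    refine ⟨e1 ▸ mul_mem (mul_mem (inv_mem hx0) hx') hx0, ?_⟩
    have e2 := DFunLike.congr_fun hg (m.μ (c.val x))
    rw [MulAut.mul_apply, show m.μ (m.μ (c.val x)) = c.val x from DFunLike.congr_fun m.μμ (c.val x), hθ x hx,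
      MulAut.conj_apply] at e2
    rw [e1, c.val_mul (c.cen_le_H0 (mul_mem (inv_mem hx0) hx')) (c.cen_le_H0 hx0),
      c.val_mul (c.cen_le_H0 (inv_mem hx0)) (c.cen_le_H0 hx'), c.val_inv (c.cen_le_H0 hx0), ← e2]
    group
  have hτP : ∀ p ∈ P, τ * p * τ⁻¹ = p⁻¹ := fun p hp => by
    rw [show τ * p * τ⁻¹ = x0⁻¹ * (n * p * n⁻¹) * x0 by rw [hτ]; group, hnP p hp,
      c.cen_comm (inv_mem hx0) (inv_mem hp), inv_mul_cancel_right]
  have hτq : τ * q * τ⁻¹ = q := by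
    obtain ⟨hc, hv⟩ := hτv q hq
    exact c.five_eq hc hq (by rw [conj_pow, hq5, mul_one, mul_inv_cancel]) hq5 (by rw [hv, hqv, m.μq])
  have hττc : τ * τ ∈ c.cen := ⟨mul_mem hτH hτH, mem_centralizer_iff.mpr fun p hp => by
    have h1 : τ * τ * p * (τ * τ)⁻¹ = p := by
      rw [show τ * τ * p * (τ * τ)⁻¹ = τ * (τ * p * τ⁻¹) * τ⁻¹ by group, hτP p hp, hτP _ (inv_mem hp), inv_inv]
    exact (mul_inv_eq_iff_eq_mul.mp h1).symm⟩
  have hττv : c.val (τ * τ) = 1 := by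
    refine conj_m22_injective ?_
    rw [map_one]
    refine MulEquiv.ext fun a => ?_
    obtain ⟨x, hx, rfl⟩ := c.exists_val a
    obtain ⟨h1, h1v⟩ := hτv x hx
    obtain ⟨-, h2v⟩ := hτv _ h1
    rw [MulAut.conj_apply, ← c.val_conj (c.cen_le_H0 hττc) (c.cen_le_H0 hx),
      show τ * τ * x * (τ * τ)⁻¹ = τ * (τ * x * τ⁻¹) * τ⁻¹ by group, h2v, h1v]
    exact DFunLike.congr_fun m.μμ (c.val x)
  obtain ⟨-, -, t, ht, p, hp, hτe⟩ := c.cen_ker hττc hττv
  have hττ : τ * τ ∈ zpowers z := by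
    have h1 : τ * τ = t * p⁻¹ := by
      calc τ * τ = τ * (τ * τ) * τ⁻¹ := by group
        _ = (τ * t * τ⁻¹) * (τ * p * τ⁻¹) := by rw [hτe]; group
        _ = t * p⁻¹ := by rw [c.Z_comm hτH ht, mul_inv_cancel_right, hτP p hp]
    have hpp : p = p⁻¹ := mul_left_cancel (hτe.symm.trans h1)
    have hp1 : p = 1 := by
      have := c.P_cube hp
      rwa [mul_eq_one_iff_eq_inv.mpr hpp, one_mul] at this
    rw [hτe, hp1, mul_one]; exact ht
  exact ⟨⟨q, ν, τ, hq, hq5, hqv, hνc, hνv, hνq, hν4, hτH, hτout, hτP, hτq, hττ, hτv⟩⟩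

end Ctx

namespace FiveData5

variable {c : Ctx z P E} {m : FiveModel} (d : FiveData5 c m)

theorem q1 : d.q ≠ 1 := fun h => by
  have h1 := d.qv
  rw [h, (c.val_eq_one (one_mem _)).mpr (one_mem _)] at h1
  have := m.q5
  rw [← h1, orderOf_one] at this
  norm_num at this

theorem qH : d.q ∈ centralizer ({z} : Set G) := d.qc.1

theorem q_comm_P {p : G} (hp : p ∈ P) : p * d.q = d.q * p := (c.cen_comm d.qc hp).symm

/-- The fixed points on E. -/
def D : Subgroup G := E ⊓ centralizer ({d.q} : Set G)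

/-- The fixed points in a hexad group. -/
noncomputable def fixA (A : Subgroup MTwoTwo) : Subgroup G := c.fixB A ⊓ centralizer ({d.q} : Set G)

theorem mem_D {e : G} : e ∈ d.D ↔ e ∈ E ∧ d.q * e = e * d.q := by
  simp only [D, mem_inf, mem_centralizer_singleton_iff, eq_comm]

theorem Z_le_D : zpowers z ≤ d.D := fun t ht => d.mem_D.mpr ⟨c.Z_le ht, c.Z_comm d.qH ht⟩

theorem fixA_le (A : Subgroup MTwoTwo) : d.fixA A ≤ d.D := inf_le_inf_right _ (c.fixB_le A)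

theorem Z_le_fixA (A : Subgroup MTwoTwo) : zpowers z ≤ d.fixA A := le_inf (c.Z_le_fixB A)
  (d.Z_le_D.trans inf_le_right)

theorem P_fixA {A : Subgroup MTwoTwo} {p e : G} (hp : p ∈ P) (he : e ∈ d.fixA A) : p * e * p⁻¹ ∈ d.fixA A :=
  ⟨c.fixB_P hp he.1, mem_centralizer_singleton_iff.mpr (by
    have hpq : Commute p d.q := d.q_comm_P hp
    exact ((hpq.symm.mul_right (mem_centralizer_singleton_iff.mp he.2).symm).mul_right hpq.symm.inv_right).eq.symm)⟩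

theorem card_fixA {A : Subgroup MTwoTwo} (h : HexLike A) (hq : m.q ∈ normalizer (A : Set MTwoTwo)) :
    Nat.card (d.fixA A) = 8 := (c.fix_eight h d.qc d.q5 d.q1 (d.qv.symm ▸ hq)).1

/-- Four elements generate a fixed-point group. -/
theorem fixA_gen {A : Subgroup MTwoTwo} (h : HexLike A) (hq : m.q ∈ normalizer (A : Set MTwoTwo)) {p a : G}
    (hp : p ∈ P) (hgen : P = zpowers p) (ha : a ∈ d.fixA A) (haZ : a ∉ zpowers z) {K : Subgroup G}
    (hzK : z ∈ K) (haK : a ∈ K) (hbK : p * a * p⁻¹ ∈ K) : d.fixA A ≤ K := by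
  classical
  have h8 := d.card_fixA h hq
  set b := p * a * p⁻¹
  set L := d.fixA A ⊓ K
  have hz1 : z ∈ L := ⟨d.Z_le_fixA A (mem_zpowers z), hzK⟩
  have ha1 : a ∈ L := ⟨ha, haK⟩
  have hb1 : b ∈ L := ⟨d.P_fixA hp ha, hbK⟩
  have haE : a ∈ E := (d.fixA_le A ha).1
  have hbne : ∀ t ∈ zpowers z, b ≠ t * a := fun t ht e => haZ (c.fixed_mem_Z hp hgen haE (by
    rw [show p * a * p⁻¹ * a⁻¹ = t by rw [show p * a * p⁻¹ = t * a from e, mul_inv_cancel_right]]; exact ht))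
  have hbZ : b ∉ zpowers z := fun hb => haZ (by
    have : a = p⁻¹ * b * p := by simp only [b]; group
    rw [this, c.Z_comm (inv_mem (c.P_le hp)) hb, inv_mul_cancel_right]; exact hb)
  have hS : ({1, z, a, z * a, b} : Finset G).card = 5 := by
    have n1 : (1 : G) ≠ z := Ne.symm c.z_ne_one
    have n2 : (1 : G) ≠ a := fun e => haZ (e ▸ one_mem _)
    have n3 : (1 : G) ≠ z * a := fun e => haZ (by
      rw [eq_inv_of_mul_eq_one_right e.symm]; exact inv_mem (mem_zpowers z))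
    have n4 : (1 : G) ≠ b := fun e => hbZ (e ▸ one_mem _)
    have n5 : z ≠ a := fun e => haZ (e ▸ mem_zpowers z)
    have n6 : z ≠ z * a := fun e => haZ (left_eq_mul.mp e ▸ one_mem _)
    have n7 : z ≠ b := fun e => hbZ (e ▸ mem_zpowers z)
    have n8 : a ≠ z * a := fun e => c.z_ne_one (right_eq_mul.mp e)
    have n9 : a ≠ b := fun e => hbne 1 (one_mem _) (by rw [one_mul, e])
    have n10 : z * a ≠ b := fun e => hbne z (mem_zpowers z) e.symm
    simp [*]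
  have hle : 5 ≤ Nat.card L := by
    rw [← hS, ← Set.ncard_coe_finset]
    refine (Set.ncard_le_ncard (t := (L : Set G)) ?_ (Set.toFinite _)).trans_eq (Nat.card_coe_set_eq _).symm
    intro x hx
    simp only [Finset.coe_insert, Finset.coe_singleton, Set.mem_insert_iff, Set.mem_singleton_iff] at hx
    rcases hx with rfl | rfl | rfl | rfl | rfl
    exacts [one_mem _, hz1, ha1, mul_mem hz1 ha1, hb1]
  have hdvd : Nat.card L ∣ 8 := h8 ▸ card_dvd_of_le inf_le_left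
  have hL8 : Nat.card L = 8 := by
    obtain ⟨k, hk, hkc⟩ := (Nat.dvd_prime_pow Nat.prime_two).mp (show Nat.card L ∣ 2 ^ 3 from hdvd)
    rw [hkc] at hle ⊢
    interval_cases k <;> first | rfl | (exfalso; norm_num at hle)
  have : L = d.fixA A := eq_of_le_of_card_ge inf_le_left (by rw [hL8, h8])
  exact fun x hx => (this.symm ▸ hx : x ∈ L).2

theorem exists_out {A : Subgroup MTwoTwo} (h : HexLike A) (hq : m.q ∈ normalizer (A : Set MTwoTwo)) :
    ∃ a ∈ d.fixA A, a ∉ zpowers z := by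
  by_contra hall
  push Not at hall
  have := card_le_of_le (hall : d.fixA A ≤ zpowers z)
  rw [d.card_fixA h hq, c.card_Z] at this
  norm_num at this

include d in
theorem meet {w : G} (h1 : w ∈ c.fixB m.AOne) (h2 : w ∈ c.fixB m.ATwo) : w ∈ zpowers z :=
  c.fixed_nine m.hexOne h1.1 (m.gen12 _ (c.image_stab_hex m.hexOne h1) (c.image_stab_hex m.hexTwo h2))

theorem cent_fixA {A : Subgroup MTwoTwo} (h : HexLike A) (hq : m.q ∈ normalizer (A : Set MTwoTwo)) {e : G}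
    (he : e ∈ d.D) (hc : ∀ f ∈ d.fixA A, f * e = e * f) : e ∈ d.fixA A :=
  ⟨(c.fix_eight h d.qc d.q5 d.q1 (d.qv.symm ▸ hq)).2 e (d.mem_D.mp he).1 (d.mem_D.mp he).2 hc, he.2⟩

theorem card_D_le : Nat.card d.D ≤ 32 := by
  obtain ⟨p, hp, -, hgen⟩ := c.exists_gen
  obtain ⟨a, ha, haZ⟩ := d.exists_out m.hexOne m.qAOne
  set b := p * a * p⁻¹
  have hbE : b ∈ E := c.conj_E (c.P_le hp) (d.fixA_le _ ha).1
  have haE : a ∈ E := (d.fixA_le _ ha).1
  let cm : ∀ {f : G}, f ∈ E → (d.D →* zpowers z) := fun {f} hf =>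
    { toFun := fun e => ⟨(e : G) * f * (e : G)⁻¹ * f⁻¹, c.comm_mem_Z e.2.1 hf⟩
      map_one' := Subtype.ext (by simp)
      map_mul' := fun x y => Subtype.ext (by
        show ((x : G) * y) * f * ((x : G) * y)⁻¹ * f⁻¹ = (x * f * (x : G)⁻¹ * f⁻¹) * (y * f * (y : G)⁻¹ * f⁻¹)
        rw [show ((x : G) * y) * f * ((x : G) * y)⁻¹ * f⁻¹ =
          x * (y * f * (y : G)⁻¹ * f⁻¹) * (x : G)⁻¹ * (x * f * (x : G)⁻¹ * f⁻¹) by group,
          c.Z_comm (c.Ez x.2.1) (c.comm_mem_Z y.2.1 hf), mul_inv_cancel_right,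
          c.Z_comm (c.Ez (mul_mem (mul_mem (mul_mem x.2.1 hf) (inv_mem x.2.1)) (inv_mem hf)))
            (c.comm_mem_Z y.2.1 hf)]) }
  let Φ : d.D →* zpowers z × zpowers z := (cm haE).prod (cm hbE)
  have hker : Φ.ker ≤ (d.fixA m.AOne).subgroupOf d.D := by
    intro e he
    rw [mem_subgroupOf]
    have h' := MonoidHom.mem_ker.mp he
    have ea : (e : G) * a * (e : G)⁻¹ * a⁻¹ = 1 := congrArg Subtype.val (congrArg Prod.fst h')
    have eb : (e : G) * b * (e : G)⁻¹ * b⁻¹ = 1 := congrArg Subtype.val (congrArg Prod.snd h')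
    refine d.cent_fixA m.hexOne m.qAOne e.2 fun f hf => ?_
    refine mem_centralizer_singleton_iff.mp (d.fixA_gen m.hexOne m.qAOne hp hgen ha haZ
      (K := centralizer ({(e : G)} : Set G)) ?_ ?_ ?_ hf)
    · exact mem_centralizer_singleton_iff.mpr (c.Z_comm (c.Ez e.2.1) (mem_zpowers z)).symm
    · exact mem_centralizer_singleton_iff.mpr (mul_inv_eq_iff_eq_mul.mp (mul_inv_eq_one.mp ea)).symm
    · exact mem_centralizer_singleton_iff.mpr (mul_inv_eq_iff_eq_mul.mp (mul_inv_eq_one.mp eb)).symm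
  have h1 := card_dvd_of_le hker
  rw [Nat.card_congr (subgroupOfEquivOfLe (d.fixA_le _)).toEquiv, d.card_fixA m.hexOne m.qAOne] at h1
  have h2 := Subgroup.card_mul_index Φ.ker
  have h3 := Nat.le_of_dvd Nat.card_pos (card_subgroup_dvd_card Φ.range)
  rw [Subgroup.index_ker] at h2
  rw [Nat.card_prod, c.card_Z] at h3
  calc Nat.card d.D = Nat.card Φ.ker * Nat.card Φ.range := h2.symm
    _ ≤ 8 * (2 * 2) := Nat.mul_le_mul (Nat.le_of_dvd (by norm_num) h1) h3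

theorem card_sup_ge : 32 ≤ Nat.card ↥(d.fixA m.AOne ⊔ d.fixA m.ATwo) := by
  set S := d.fixA m.AOne ⊔ d.fixA m.ATwo
  have h8 := d.card_fixA m.hexOne m.qAOne
  have h8' := d.card_fixA m.hexTwo m.qATwo
  have hinf : Nat.card ↥(d.fixA m.AOne ⊓ d.fixA m.ATwo) ∣ 2 :=
    c.card_Z ▸ card_dvd_of_le fun w hw => d.meet hw.1.1 hw.2.1
  have e1 : Nat.card ↥(d.fixA m.AOne ⊓ d.fixA m.ATwo) * (d.fixA m.ATwo).relIndex (d.fixA m.AOne) = 8 := by
    rw [← Subgroup.inf_relIndex_left, Subgroup.relIndex, ← h8,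
      ← Nat.card_congr (subgroupOfEquivOfLe (inf_le_left : d.fixA m.AOne ⊓ d.fixA m.ATwo ≤ _)).toEquiv]
    exact Subgroup.card_mul_index _
  have h4 : 4 ≤ (d.fixA m.ATwo).relIndex (d.fixA m.AOne) := by
    have := Nat.le_of_dvd (by norm_num) hinf
    nlinarith
  have h5 : (d.fixA m.ATwo).relIndex (d.fixA m.AOne) ≤ (d.fixA m.ATwo).relIndex S :=
    Subgroup.relIndex_le_of_le_right le_sup_left Subgroup.index_ne_zero_of_finite
  have e2 := Subgroup.card_mul_index ((d.fixA m.ATwo).subgroupOf S)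
  rw [Nat.card_congr (subgroupOfEquivOfLe (le_sup_right : d.fixA m.ATwo ≤ S)).toEquiv, h8'] at e2
  rw [← e2]
  change 32 ≤ 8 * (d.fixA m.ATwo).relIndex S
  omega

theorem D_eq : Nat.card d.D = 32 ∧ d.fixA m.AOne ⊔ d.fixA m.ATwo = d.D := by
  have hle : d.fixA m.AOne ⊔ d.fixA m.ATwo ≤ d.D := sup_le (d.fixA_le _) (d.fixA_le _)
  have h1 := d.card_sup_ge
  have h2 := d.card_D_le
  have h3 := card_le_of_le hle
  exact ⟨by omega, eq_of_le_of_card_ge hle (by omega)⟩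

theorem central_D {e : G} (he : e ∈ d.D) (hc : ∀ f ∈ d.D, f * e = e * f) : e ∈ zpowers z :=
  d.meet (d.cent_fixA m.hexOne m.qAOne he fun f hf => hc f (d.fixA_le _ hf)).1
    (d.cent_fixA m.hexTwo m.qATwo he fun f hf => hc f (d.fixA_le _ hf)).1

/-- The elements of the centralizer of P fixing q. -/
theorem cen_cent {x : G} (hx : x ∈ c.cen) (hxq : x * d.q = d.q * x) :
    ∃ k : ℕ, ∃ t ∈ zpowers z, ∃ p ∈ P, x = d.q ^ k * (t * p) := by
  have hv : c.val x * m.q = m.q * c.val x := by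
    rw [← d.qv, ← c.val_mul (c.cen_le_H0 hx) (c.cen_le_H0 d.qc), hxq,
      c.val_mul (c.cen_le_H0 d.qc) (c.cen_le_H0 hx)]
  obtain ⟨k, hk⟩ := m.selfC _ hv
  have hr : (d.q ^ k)⁻¹ * x ∈ c.cen := mul_mem (inv_mem (pow_mem d.qc k)) hx
  obtain ⟨-, -, t, ht, p, hp, e⟩ := c.cen_ker hr (by
    rw [c.val_mul (c.cen_le_H0 (inv_mem (pow_mem d.qc k))) (c.cen_le_H0 hx), c.val_inv (c.cen_le_H0 (pow_mem d.qc k)),
      c.val_pow (c.cen_le_H0 d.qc), d.qv, hk, inv_mul_cancel])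
  exact ⟨k, t, ht, p, hp, by rw [← e, mul_inv_cancel_left]⟩

/-- The elements of H0 fixing q. -/
theorem H0_cent {h : G} (hh : h ∈ c.H0) (hq : h * d.q = d.q * h) :
    ∃ e ∈ d.D, ∃ k : ℕ, ∃ p ∈ P, h = e * d.q ^ k * p := by
  obtain ⟨e, he, x, hx, rfl⟩ := c.decomp h hh
  have hxv : c.val x * m.q = m.q * c.val x := by
    have h1 := congrArg c.val hq
    rw [c.val_mul hh (c.cen_le_H0 d.qc), c.val_mul (c.cen_le_H0 d.qc) hh,
      c.val_mul (c.NH0 (c.EN he)) (c.cen_le_H0 hx), c.val_E he, one_mul, d.qv] at h1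
    exact h1
  have hx' : x * d.q = d.q * x := mul_inv_eq_iff_eq_mul.mp
    (c.five_eq (mul_mem (mul_mem hx d.qc) (inv_mem hx)) d.qc (by rw [conj_pow, d.q5, mul_one, mul_inv_cancel]) d.q5
      (by rw [c.val_conj (c.cen_le_H0 hx) (c.cen_le_H0 d.qc), d.qv, hxv, mul_inv_cancel_right]))
  have heq : d.q * e = e * d.q := mul_right_cancel (b := x) (by
    rw [mul_assoc e d.q x, ← hx', ← mul_assoc e x d.q, hq]; group)
  obtain ⟨k, t, ht, p, hp, rfl⟩ := d.cen_cent hx hx'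
  refine ⟨e * t, mul_mem (d.mem_D.mpr ⟨he, heq⟩) (d.Z_le_D ht), k, p, hp, ?_⟩
  rw [← mul_assoc (d.q ^ k) t p, c.Z_comm (pow_mem d.qH k) ht]; group

/-- The elements of H fixing q. -/
theorem H_cent {h : G} (hh : h ∈ centralizer ({z} : Set G)) (hq : h * d.q = d.q * h) :
    ∃ e ∈ d.D, ∃ k : ℕ, ∃ p ∈ P, h = e * d.q ^ k * p ∨ h = d.τ * (e * d.q ^ k * p) := by
  by_cases h0 : h ∈ c.H0
  · obtain ⟨e, he, k, p, hp, e'⟩ := d.H0_cent h0 hq
    exact ⟨e, he, k, p, hp, Or.inl e'⟩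
  · have hτi : d.τ⁻¹ ∉ c.H0 := fun hc => d.τout (inv_mem_iff.mp hc)
    have h1 := c.H0two _ (inv_mem d.τH) hτi _ hh h0
    have hτq : Commute d.τ d.q := mul_inv_eq_iff_eq_mul.mp d.τq
    obtain ⟨e, he, k, p, hp, e'⟩ := d.H0_cent h1 ((hτq.inv_left.mul_left hq).eq)
    exact ⟨e, he, k, p, hp, Or.inr (by rw [← e', mul_inv_cancel_left])⟩

end FiveData5

end CfsgLib.JankoFour
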