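/-
A conjugate of the central involution other than itself lies in the fixed group of a hexad group.
-/
import Cfsg.Agent.Lib.JankoFour.FusQ

set_option autoImplicit false
set_option maxHeartbeats 1000000

namespace CfsgLib.JankoFour

open Cfsg Subgroup
open scoped commutatorElement

universe u

variable {G : Type u} [Group G] [Finite G] {z : G} {P E : Subgroup G}

/-- A prime of large order modulo two for each possible orbit length. -/
theorem arith_cosets {n : ℕ} (hn : n = 16 ∨ n = 32 ∨ n = 112 ∨ n = 128) :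
    ∃ q, q ∣ 1 + 15 * n ∧ (q = 241 ∨ q = 13 ∨ q = 41 ∨ q = 113) := by
  rcases hn with rfl | rfl | rfl | rfl
  exacts [⟨241, by norm_num⟩, ⟨13, by norm_num⟩, ⟨41, by norm_num⟩, ⟨113, by norm_num⟩]

namespace Ctx

/-- The number of conjugates of z in one coset. -/
theorem coset_count (c : Ctx z P E) {A : Subgroup MTwoTwo} (hA : HexData A) {y : G} (hy : y ∈ c.twoGrp A hA.1.1)
    (hyZ : y ∉ zpowers z) (hyz : c.IsZ y) :
    Nat.card ↥{w : G | w ∈ c.fixB A ∧ c.IsZ (w * y)} = 16 ∨ Nat.card ↥{w : G | w ∈ c.fixB A ∧ c.IsZ (w * y)} = 32 ∨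
      Nat.card ↥{w : G | w ∈ c.fixB A ∧ c.IsZ (w * y)} = 112 ∨
      Nat.card ↥{w : G | w ∈ c.fixB A ∧ c.IsZ (w * y)} = 128 := by
  classical
  set W := c.fixB A with hW
  obtain ⟨hF7, hFc, hFsq, hFQ⟩ := c.hex_fix hA.1
  obtain ⟨p, hp, hp1, hgen⟩ := c.exists_gen
  have hWE : W ≤ E := c.fixB_le A
  have hZW : zpowers z ≤ W := c.Z_le_fixB A
  have hWV : W ≤ c.vGrp A hA.1.1 := le_sup_left
  obtain ⟨hS32, hSW, hWK, -⟩ := c.kernel_facts hA hy hyZ
  obtain ⟨him, himsurj⟩ := c.image_eq hy.1.1 hy.2.2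
  set S := E ⊓ centralizer (c.ker1 hy.1.1 : Set G) with hS
  set C : Set G := {w : G | w ∈ W ∧ c.IsZ (w * y)} with hC
  have hfy : ∀ f ∈ E, ⁅f, y⁆ = ⁅y, f⁆ := fun f hf => by
    rw [← commutatorElement_inv y f, inv_eq_of_mul_eq_one_left (hFsq _ (hSW (him f hf)))]
  have hconj : ∀ f ∈ E, ∀ w ∈ W, f * (w * y) * f⁻¹ = ⁅f, w⁆ * ⁅f, y⁆ * w * y := fun f hf w hw => by
    have h1 : ⁅f, y⁆ * w = w * ⁅f, y⁆ := c.vGrp_comm hA.1 (hWV (c.comm_twoGrp hA hy hf)) (hWV hw)
    rw [mul_assoc ⁅f, w⁆, h1]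
    simp only [commutatorElement_def]; group
  have hZS : zpowers z ≤ S := zpowers_le.mpr ⟨c.zE, mem_centralizer_iff.mpr fun f hf =>
    mem_centralizer_singleton_iff.mp (c.Ez (c.ker1_le _ hf))⟩
  -- translations of y
  have hfy1 : ∀ f ∈ E, f * y * f⁻¹ = ⁅y, f⁆ * y := fun f hf => by
    rw [← hfy f hf]; simp only [commutatorElement_def]; group
  have hB1 : ∀ s ∈ S, s ∈ C ∨ z * s ∈ C := by
    intro s hs
    obtain ⟨f, hf, hfm⟩ := himsurj s hs
    have h := c.isZ_conj hyz f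
    rw [hfy1 f hf] at h
    rcases c.mem_Z.mp hfm with e | e
    · rw [inv_mul_eq_one.mp e] at h; exact Or.inl ⟨hSW hs, h⟩
    · refine Or.inr ⟨mul_mem (hZW (mem_zpowers z)) (hSW hs), ?_⟩
      have es : s = ⁅y, f⁆ * z := by rw [← e, mul_inv_cancel_left]
      rwa [es, c.Z_comm (c.Ez (hWE (hSW (him f hf)))) (mem_zpowers z), ← mul_assoc, c.zz, one_mul]
  have hB2 : ∀ s ∈ S, s ∈ C → z * s ∈ C → z ∈ C := by
    intro s hs h1 h2
    obtain ⟨f, hf, hfm⟩ := himsurj s hs
    have hz' : c.IsZ (z * ⁅y, f⁆ * y) := by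
      rcases c.mem_Z.mp hfm with e | e
      · rw [inv_mul_eq_one.mp e]; exact h2.2
      · have es : s = ⁅y, f⁆ * z := by rw [← e, mul_inv_cancel_left]
        have := h1.2
        rwa [es, c.Z_comm (c.Ez (hWE (hSW (him f hf)))) (mem_zpowers z)] at this
    refine ⟨hZW (mem_zpowers z), ?_⟩
    have h := c.isZ_conj hz' f⁻¹
    rwa [show z * ⁅y, f⁆ * y = z * (f * y * f⁻¹) by rw [hfy1 f hf, mul_assoc],
      show f⁻¹ * (z * (f * y * f⁻¹)) * f⁻¹⁻¹ = (f⁻¹ * z * f) * y by group,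
      c.Z_comm (c.Ez (inv_mem hf)) (mem_zpowers z), inv_mul_cancel_right] at h
  have hB3 : z ∈ C → ∀ s ∈ S, s ∈ C := by
    intro hzC s hs
    obtain ⟨f, hf, hfm⟩ := himsurj s hs
    rcases c.mem_Z.mp hfm with e | e
    · have h := c.isZ_conj hyz f
      rw [hfy1 f hf, inv_mul_eq_one.mp e] at h
      exact ⟨hSW hs, h⟩
    · have h := c.isZ_conj hzC.2 f
      rw [show f * (z * y) * f⁻¹ = (f * z * f⁻¹) * (f * y * f⁻¹) by group, c.Z_conj (c.Ez hf) (mem_zpowers z),
        hfy1 f hf, ← mul_assoc] at h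
      refine ⟨hSW hs, ?_⟩
      rwa [show s = ⁅y, f⁆ * z by rw [← e, mul_inv_cancel_left],
        c.Z_comm (c.Ez (hWE (hSW (him f hf)))) (mem_zpowers z)]
  have hSC : (C ∩ (S : Set G)).ncard = 16 ∨ (C ∩ (S : Set G)).ncard = 32 := by
    by_cases hzC : z ∈ C
    · refine Or.inr ?_
      rw [show C ∩ (S : Set G) = (S : Set G) from Set.inter_eq_right.mpr (hB3 hzC), ← Nat.card_coe_set_eq]
      exact hS32
    · refine Or.inl ?_
      let g : ↥(C ∩ (S : Set G)) × zpowers z → S := fun x => ⟨x.2 * x.1.1, S.mul_mem (hZS x.2.2) x.1.2.2⟩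
      have hg : Function.Bijective g := by
        constructor
        · rintro ⟨⟨a, ha, haS⟩, ⟨t, ht⟩⟩ ⟨⟨b, hb, hbS⟩, ⟨t', ht'⟩⟩ e
          have e' : t * a = t' * b := congrArg Subtype.val e
          have hab : ∀ {a b : G}, a ∈ C → a ∈ S → b ∈ C → z * a = b → False := fun ha haS hb e =>
            hzC (hB2 _ haS ha (e ▸ hb))
          rcases c.mem_Z.mp ht with rfl | rfl <;> rcases c.mem_Z.mp ht' with rfl | rfl
          · simp only [one_mul] at e'; subst e'; rfl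
          · rw [one_mul] at e'; exact (hab hb hbS ha e'.symm).elim
          · rw [one_mul] at e'; exact (hab ha haS hb e').elim
          · obtain rfl := mul_left_cancel e'; rfl
        · rintro ⟨s, hs⟩
          rcases hB1 s hs with h | h
          · exact ⟨(⟨s, h, hs⟩, 1), Subtype.ext (one_mul s)⟩
          · exact ⟨(⟨z * s, h, S.mul_mem (hZS (mem_zpowers z)) hs⟩, ⟨z, mem_zpowers z⟩), Subtype.ext (by
              show z * (z * s) = s
              rw [← mul_assoc, c.zz, one_mul])⟩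
      have h := Nat.card_eq_of_bijective g hg
      rw [Nat.card_prod, c.card_Z, hS32, Nat.card_coe_set_eq] at h
      omega
  have hout : (C \ (S : Set G)).ncard = 0 ∨ (C \ (S : Set G)).ncard = 96 := by
    rcases (C \ (S : Set G)).eq_empty_or_nonempty with he | ⟨w1, ⟨hw1, hw1z⟩, hw1S⟩
    · exact Or.inl (by rw [he, Set.ncard_empty])
    refine Or.inr ?_
    -- the translates by S
    have htrans : ∀ x ∈ W, c.IsZ (x * y) → x ∉ S → ∀ s ∈ S, c.IsZ (s * x * y) := by
      intro x hx hxz hxS s hs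
      obtain ⟨f, hf, hfm⟩ := himsurj s hs
      have h := c.isZ_conj hxz f
      rw [hconj f hf x hx, hfy f hf] at h
      rw [inv_eq_of_mul_eq_one_left (hFsq _ (hSW (him f hf)))] at hfm
      -- some element of the kernel moves x
      obtain ⟨f0, hf0, hf0x⟩ : ∃ f0 ∈ c.ker1 hy.1.1, ⁅f0, x⁆ = z := by
        by_contra hh
        push Not at hh
        refine hxS ⟨hWE hx, mem_centralizer_iff.mpr fun f0 hf0 => ?_⟩
        exact commutatorElement_eq_one_iff_mul_comm.mp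
          ((c.mem_Z.mp (c.comm_E (c.ker1_le _ hf0) (hWE hx))).resolve_right (hh f0 hf0))
      have hz' : c.IsZ (z * x * y) := by
        have h0 := c.isZ_conj hxz f0
        rwa [hconj f0 (c.ker1_le _ hf0) x hx, hf0x, commutatorElement_eq_one_iff_mul_comm.mpr
          (c.ker1_comm hy.1 f0 hf0).symm, mul_one] at h0
      have hz2 : c.IsZ (z * ⁅f, x⁆ * ⁅y, f⁆ * x * y) := by
        have hzx : z * x ∈ W := mul_mem (hZW (mem_zpowers z)) hx
        have h0 := c.isZ_conj hz' f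
        rw [hconj f hf _ hzx, hfy f hf, c.comm_mul_right c.zE (hWE hx) hf,
          commutatorElement_eq_one_iff_mul_comm.mpr (mem_centralizer_singleton_iff.mp (c.Ez hf)), one_mul] at h0
        have e : ⁅f, x⁆ * ⁅y, f⁆ * (z * x) * y = z * ⁅f, x⁆ * ⁅y, f⁆ * x * y := by
          rw [← mul_assoc _ z x, c.Z_comm (mul_mem (c.mem_ZH (c.comm_E hf (hWE hx))) (c.Ez (hWE (hSW (him f hf)))))
            (mem_zpowers z)]
          simp only [mul_assoc]
        rwa [e] at h0
      -- s differs from the translation by the centre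
      have hd : (⁅f, x⁆ * ⁅y, f⁆)⁻¹ * s ∈ zpowers z := by
        rw [mul_inv_rev, inv_eq_of_mul_eq_one_left (hFsq _ (hSW (him f hf))), c.Z_inv (c.comm_E hf (hWE hx)),
          c.Z_comm (c.Ez (hWE (hSW (him f hf)))) (c.comm_E hf (hWE hx)), mul_assoc]
        exact mul_mem (c.comm_E hf (hWE hx)) hfm
      rcases c.mem_Z.mp hd with h' | h'
      · rw [← inv_mul_eq_one.mp h']; exact h
      · have e : s = ⁅f, x⁆ * ⁅y, f⁆ * z := by rw [← h', mul_inv_cancel_left]
        rw [e, c.Z_comm (mul_mem (c.mem_ZH (c.comm_E hf (hWE hx))) (c.Ez (hWE (hSW (him f hf))))) (mem_zpowers z),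
          ← mul_assoc z]
        exact hz2
    -- the three cosets
    have hZS : zpowers z ≤ S := zpowers_le.mpr ⟨c.zE, mem_centralizer_iff.mpr fun f hf =>
      mem_centralizer_singleton_iff.mp (c.Ez (c.ker1_le _ hf))⟩
    have hSp : ∀ s ∈ S, p * s * p⁻¹ ∈ S := fun s hs =>
      c.cent_conj (c.P_le hp) (fun f hf => by
        have h := c.ker1_P hy.1 (inv_mem hp) f hf
        rwa [inv_inv] at h) hs
    have hpy : p * y * p⁻¹ = y := by rw [← c.cen_comm hy.1 hp, mul_inv_cancel_right]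
    have hsec := fun {u} (hu : u ∈ E) (h : ⁅p, u⁆ ∈ S) => c.sec_fpf inf_le_left hZS hp hgen hSp hu h
    set w2 := p * w1 * p⁻¹ with hw2
    set w3 := p * w2 * p⁻¹ with hw3
    have hw2W : w2 ∈ W := c.fixB_P hp hw1
    have hw3W : w3 ∈ W := c.fixB_P hp hw2W
    have hpz : ∀ x ∈ W, c.IsZ (x * y) → c.IsZ (p * x * p⁻¹ * y) := fun x _ hx => by
      have h := c.isZ_conj hx p
      rwa [show p * (x * y) * p⁻¹ = p * x * p⁻¹ * (p * y * p⁻¹) by group, hpy] at h
    have hw2z := hpz w1 hw1 hw1z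
    have hw3z := hpz w2 hw2W hw2z
    have p3 : p * p * p = 1 := c.P_cube hp
    have hSp' : ∀ x, p * x * p⁻¹ ∈ S → x ∈ S := fun x hx => by
      have h := hSp _ (hSp _ hx)
      rwa [show p * (p * (p * x * p⁻¹) * p⁻¹) * p⁻¹ = (p * p * p) * x * (p * p * p)⁻¹ by group, p3, one_mul,
        inv_one, mul_one] at h
    have hw2S : w2 ∉ S := fun h => hw1S (hSp' _ h)
    have hw3S : w3 ∉ S := fun h => hw2S (hSp' _ h)
    have d12 : w2 * w1⁻¹ ∉ S := fun h => hw1S (hsec (hWE hw1) (by rwa [commutatorElement_def]))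
    have d23 : w3 * w2⁻¹ ∉ S := fun h => hw2S (hsec (hWE hw2W) (by rwa [commutatorElement_def]))
    have d13 : w1 * w3⁻¹ ∉ S := fun h => hw3S (hsec (hWE hw3W) (by
      have e : p * w3 * p⁻¹ = w1 := by
        rw [hw3, hw2, show p * (p * (p * w1 * p⁻¹) * p⁻¹) * p⁻¹ = (p * p * p) * w1 * (p * p * p)⁻¹ by group, p3]
        group
      rwa [commutatorElement_def, e]))
    -- counting the translates
    let wi : Fin 3 → G := ![w1, w2, w3]
    have hwi : ∀ i, wi i ∈ W ∧ c.IsZ (wi i * y) := by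
      intro i; fin_cases i
      exacts [⟨hw1, hw1z⟩, ⟨hw2W, hw2z⟩, ⟨hw3W, hw3z⟩]
    have hwiS : ∀ i, wi i ∉ S := by
      intro i; fin_cases i
      exacts [hw1S, hw2S, hw3S]
    let g : S × Fin 3 → ↥((W : Set G) \ (S : Set G)) := fun x =>
      ⟨x.1 * wi x.2, mul_mem (hSW x.1.2) (hwi x.2).1, fun h => hwiS x.2 (by
        have := mul_mem (inv_mem x.1.2) h
        rwa [inv_mul_cancel_left] at this)⟩
    have hg : Function.Injective g := by
      rintro ⟨s, i⟩ ⟨t, j⟩ hxy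
      have e : (s : G) * wi i = t * wi j := congrArg Subtype.val hxy
      have hd : wi i * (wi j)⁻¹ ∈ S := by
        have : wi i * (wi j)⁻¹ = (s : G)⁻¹ * t := by
          rw [eq_inv_mul_iff_mul_eq, ← mul_assoc, e, mul_inv_cancel_right]
        rw [this]; exact mul_mem (inv_mem s.2) t.2
      have hij : i = j := by
        have hsymm : ∀ {u v : G}, u * v⁻¹ ∈ S → v * u⁻¹ ∈ S := fun h => by simpa using inv_mem h
        fin_cases i <;> fin_cases j <;> first
          | rfl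
          | (exact absurd hd d12) | (exact absurd (hsymm hd) d12)
          | (exact absurd hd d23) | (exact absurd (hsymm hd) d23)
          | (exact absurd hd d13) | (exact absurd (hsymm hd) d13)
      subst hij
      exact Prod.ext (Subtype.ext (mul_right_cancel e)) rfl
    have hcard : Nat.card ↥((W : Set G) \ (S : Set G)) ≤ Nat.card (S × Fin 3) := by
      rw [Nat.card_prod, Nat.card_fin, Nat.card_coe_set_eq, Set.ncard_sdiff (show (S : Set G) ⊆ W from hSW),
        ← Nat.card_coe_set_eq, ← Nat.card_coe_set_eq]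
      show Nat.card W - Nat.card S ≤ Nat.card S * 3
      have e : Nat.card S = 32 := hS32
      rw [hF7, e]; norm_num
    have hall : C \ (S : Set G) = (W : Set G) \ (S : Set G) := by
      refine Set.Subset.antisymm (fun w hw => ⟨hw.1.1, hw.2⟩) fun w hw => ⟨⟨hw.1, ?_⟩, hw.2⟩
      obtain ⟨⟨s, i⟩, hsi⟩ :=
        (Function.Injective.bijective_of_nat_card_le hg hcard).2 ⟨w, hw⟩
      have e : (s : G) * wi i = w := congrArg Subtype.val hsi
      rw [← e]
      exact htrans _ (hwi i).1 (hwi i).2 (hwiS i) s s.2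
    rw [hall, Set.ncard_sdiff (show (S : Set G) ⊆ W from hSW), ← Nat.card_coe_set_eq, ← Nat.card_coe_set_eq]
    show Nat.card W - Nat.card S = 96
    rw [hF7, hS32]; norm_num
  have h := Set.ncard_inter_add_ncard_sdiff_eq_ncard C (S : Set G) (Set.toFinite _)
  rw [Nat.card_coe_set_eq]
  omega

/-- A conjugate of z other than itself in the fixed group of a hexad group. -/
theorem exists_w (c : Ctx z P E) [IsSimpleGroup G] (hG : ¬ IsMulCommutative G) :
    ∃ A : Subgroup MTwoTwo, ∃ _ : HexData A, ∃ w ∈ c.fixB A, w ∉ zpowers z ∧ c.IsZ w := by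
  classical
  obtain ⟨A, hA, u, hu, huZ, huz⟩ := c.exists_u hG
  refine ⟨A, hA, ?_⟩
  by_contra hno
  push Not at hno
  set V := c.vGrp A hA.1.1 with hV
  set W := c.fixB A with hW
  set Q := c.twoGrp A hA.1.1 with hQ
  obtain ⟨hVel, hVcard⟩ := c.vGrp_facts hA.1
  have hWE : W ≤ E := c.fixB_le A
  have hZW : zpowers z ≤ W := c.Z_le_fixB A
  have hWV : W ≤ V := le_sup_left
  have hQV : Q ≤ V := le_sup_right
  have hO1 : ∀ x, c.IsZ x → x ≠ 1 := fun x hx h => by
    obtain ⟨g, hg⟩ := hx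
    exact c.z_ne_one (conj_eq_one_iff.mp (hg.trans h))
  have hval : ∀ {w y}, w ∈ W → y ∈ Q → c.val (w * y) = c.val y := fun {w y} hw hy => by
    rw [c.val_mul (c.NH0 (c.EN (hWE hw))) (c.cen_le_H0 hy.1), c.val_E (hWE hw), one_mul]
  have hval1 : ∀ {y}, y ∈ Q → y ∉ zpowers z → c.val y ≠ 1 := fun {y} hy hyZ h => hyZ (c.two_ker hy h)
  have hwy : ∀ {w y}, w ∈ W → y ∈ Q → y ∉ zpowers z → w * y ∉ W := fun {w y} hw hy hyZ h => by
    have := mul_mem (inv_mem hw) h
    rw [inv_mul_cancel_left] at this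
    exact hyZ (c.E_inf_cen (hWE this) hy.1)
  set O : Set G := {t | t ∈ V ∧ c.IsZ t} with hO
  have hOconj : ∀ {n}, n ∈ normalizer (V : Set G) → ∀ x ∈ O, n * x * n⁻¹ ∈ O := fun {n} hn x hx =>
    ⟨(mem_normalizer_iff.mp hn x).mp hx.1, c.isZ_conj hx.2 n⟩
  set C : Set G := {w : G | w ∈ W ∧ c.IsZ (w * u)} with hC
  let ι := {a : MTwoTwo // a ∈ A ∧ a ≠ 1}
  have hι : Nat.card ι = 15 := by
    have e : Nat.card ι = Nat.card ↥((A : Set MTwoTwo) \ {1}) := Nat.card_congr
      ⟨fun x => ⟨x.1, x.2.1, x.2.2⟩, fun x => ⟨x.1, x.2.1, x.2.2⟩, fun x => rfl, fun x => rfl⟩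
    rw [e, Nat.card_coe_set_eq, Set.ncard_sdiff (Set.singleton_subset_iff.mpr (one_mem A)), Set.ncard_singleton,
      ← Nat.card_coe_set_eq, SetLike.coe_sort_coe, hA.1.2.1]
  have lift : ∀ i : ι, ∃ n ∈ c.cen, c.val n ∈ normalizer (A : Set MTwoTwo) ∧ c.val (n * u * n⁻¹) = i.1 := by
    intro i
    obtain ⟨n, hn, hni⟩ := hA.1.2.2.2 _ hu.2.1 _ i.2.1 (hval1 hu huZ) i.2.2
    obtain ⟨n', hn', hvn⟩ := c.exists_val n
    refine ⟨n', hn', hvn ▸ hn, ?_⟩
    rw [c.val_mul (c.cen_le_H0 (mul_mem hn' hu.1)) (c.cen_le_H0 (inv_mem hn')), c.val_mul (c.cen_le_H0 hn')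
      (c.cen_le_H0 hu.1), c.val_inv (c.cen_le_H0 hn'), hvn, hni]
  choose nl hnl hnlN hnlv using lift
  have hyl : ∀ i, nl i * u * (nl i)⁻¹ ∈ Q := fun i => c.two_conj (hnl i) (hnlN i) hu
  have hylZ : ∀ i, nl i * u * (nl i)⁻¹ ∉ zpowers z := fun i h => i.2.2 (by
    rw [← hnlv i]; exact c.val_E (c.Z_le h))
  have hT : Nat.card ↥(O \ (W : Set G)) = 15 * Nat.card C := by
    let g : ι × C → ↥(O \ (W : Set G)) := fun x =>
      ⟨nl x.1 * (x.2.1 * u) * (nl x.1)⁻¹,
        ⟨(mem_normalizer_iff.mp (c.cen_norm_V hA.1 (hnl x.1) (hnlN x.1)) _).mp (mul_mem (hWV x.2.2.1) (hQV hu)),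
          c.isZ_conj x.2.2.2 _⟩, by
        rw [show nl x.1 * (x.2.1 * u) * (nl x.1)⁻¹ = nl x.1 * x.2.1 * (nl x.1)⁻¹ * (nl x.1 * u * (nl x.1)⁻¹) by group]
        exact hwy (c.fixB_conj (hnl x.1) (hnlN x.1) x.2.2.1) (hyl x.1) (hylZ x.1)⟩
    have hg : Function.Bijective g := by
      constructor
      · rintro ⟨i, w, hw⟩ ⟨j, w', hw'⟩ hxy
        have e : nl i * (w * u) * (nl i)⁻¹ = nl j * (w' * u) * (nl j)⁻¹ := congrArg Subtype.val hxy
        have e' : nl i * w * (nl i)⁻¹ * (nl i * u * (nl i)⁻¹) = nl j * w' * (nl j)⁻¹ * (nl j * u * (nl j)⁻¹) :=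
          Eq.trans (by group) (e.trans (by group))
        have hij : i = j := Subtype.ext (by
          rw [← hnlv i, ← hnlv j, ← hval (c.fixB_conj (hnl i) (hnlN i) hw.1) (hyl i),
            ← hval (c.fixB_conj (hnl j) (hnlN j) hw'.1) (hyl j), e'])
        subst hij
        have : w = w' := mul_right_cancel (mul_left_cancel (mul_right_cancel e))
        subst this
        rfl
      · rintro ⟨t, ⟨htV, htz⟩, htW⟩
        obtain ⟨w, hw, y, hy, rfl⟩ := c.mem_vGrp hA.1 htV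
        have hyZ : y ∉ zpowers z := fun h => htW (mul_mem hw (hZW h))
        set i : ι := ⟨c.val y, hy.2.1, hval1 hy hyZ⟩ with hi
        have hd := c.twoGrp_val_eq hy (hyl i) (hnlv i).symm
        set t' := (nl i * u * (nl i)⁻¹)⁻¹ * y with ht'
        have hey : w * y = (w * t') * (nl i * u * (nl i)⁻¹) := by
          rw [mul_assoc, ← c.Z_comm (hyl i).1.1 hd, ht', mul_inv_cancel_left]
        have hwt : w * t' ∈ W := mul_mem hw (hZW hd)
        have hw0 : (nl i)⁻¹ * (w * t') * nl i ∈ W := c.fixB_conj_inv (hnl i) (hnlN i) hwt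
        have e0 : (nl i)⁻¹ * (w * t') * nl i * u = (nl i)⁻¹ * (w * y) * (nl i)⁻¹⁻¹ := by rw [hey]; group
        refine ⟨(i, ⟨_, hw0, e0 ▸ c.isZ_conj htz _⟩), Subtype.ext ?_⟩
        show nl i * ((nl i)⁻¹ * (w * t') * nl i * u) * (nl i)⁻¹ = w * y
        rw [e0]; group
    rw [← Nat.card_eq_of_bijective g hg, Nat.card_prod, hι]
  have hzO : z ∈ O := ⟨hWV (hZW (mem_zpowers z)), 1, by group⟩
  have hOcard : Nat.card O = 1 + 15 * Nat.card C := by
    have hin : O ∩ (W : Set G) = {z} := by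
      refine Set.eq_singleton_iff_unique_mem.mpr ⟨⟨hzO, hZW (mem_zpowers z)⟩, fun x hx => ?_⟩
      by_contra hne
      exact hno x hx.2 (fun h => (c.mem_Z.mp h).elim (hO1 x hx.1.2) hne) hx.1.2
    rw [Nat.card_coe_set_eq O, ← Set.ncard_inter_add_ncard_sdiff_eq_ncard O (W : Set G) (Set.toFinite _), hin,
      Set.ncard_singleton, ← Nat.card_coe_set_eq (O \ (W : Set G)), hT]
  obtain ⟨q, hqd, hqcases⟩ := arith_cosets (c.coset_count hA hu huZ huz)
  have hqfacts : q.Prime ∧ q ≠ 2 ∧ ∀ k < 11, ¬ q ∣ 2 ^ (k + 1) - 1 := by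
    rcases hqcases with rfl | rfl | rfl | rfl <;> exact ⟨by norm_num, by norm_num, by decide⟩
  haveI : Fact q.Prime := ⟨hqfacts.1⟩
  set NV := normalizer (V : Set G) with hNV
  letI : MulAction NV V :=
    { smul := fun n x => ⟨n * x * (n : G)⁻¹, (mem_normalizer_iff.mp n.2 x).mp x.2⟩
      one_smul := fun x => Subtype.ext (by show (1 : G) * x * (1 : G)⁻¹ = x; group)
      mul_smul := fun a b x => Subtype.ext (by
        show ((a : G) * b) * x * ((a : G) * b)⁻¹ = a * (b * x * (b : G)⁻¹) * (a : G)⁻¹; group) }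
  let φ : NV →* MulAut V :=
    { toFun := fun n =>
        { toFun := fun x => n • x
          invFun := fun x => n⁻¹ • x
          left_inv := fun x => inv_smul_smul n x
          right_inv := fun x => smul_inv_smul n x
          map_mul' := fun x y => Subtype.ext (by
            show (n : G) * (x * y) * (n : G)⁻¹ = n * x * (n : G)⁻¹ * (n * y * (n : G)⁻¹); group) }
      map_one' := MulEquiv.ext fun x => one_smul NV x
      map_mul' := fun a b => MulEquiv.ext fun x => mul_smul a b x }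
  have horb : MulAction.orbit φ.range (⟨z, hzO.1⟩ : V) = {x : V | (x : G) ∈ O} := by
    ext x
    constructor
    · rintro ⟨⟨_, n, rfl⟩, rfl⟩
      exact hOconj n.2 z hzO
    · rintro ⟨-, hx⟩
      obtain ⟨n, hn, hnz⟩ := c.weak_closure hA.1 x.2 hx
      exact ⟨⟨_, ⟨n, hn⟩, rfl⟩, Subtype.ext hnz⟩
  have hdvd : q ∣ Nat.card φ.range := by
    refine hqd.trans ?_
    rw [← hOcard]
    have e : Nat.card O = Nat.card (MulAction.orbit φ.range (⟨z, hzO.1⟩ : V)) := by
      rw [horb]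
      exact Nat.card_congr ⟨fun x => ⟨⟨x.1, x.2.1⟩, x.2⟩, fun x => ⟨x.1.1, x.2⟩, fun x => rfl, fun x => rfl⟩
    rw [e, Nat.card_congr (MulAction.orbitEquivQuotientStabilizer φ.range _)]
    exact Subgroup.card_quotient_dvd_card _
  obtain ⟨⟨σ, hσr⟩, hσ⟩ := exists_prime_orderOf_dvd_card' q hdvd
  have hσq : σ ^ q = 1 := by
    have := pow_orderOf_eq_one (⟨σ, hσr⟩ : φ.range)
    rw [hσ] at this
    exact congrArg Subtype.val this
  have h1 := no_aut hVcard hqfacts.1 hqfacts.2.1 hqfacts.2.2 σ hσq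
  subst h1
  rw [show (⟨1, hσr⟩ : φ.range) = 1 from rfl, orderOf_one] at hσ
  exact hqfacts.1.one_lt.ne hσ

end Ctx

end CfsgLib.JankoFour
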