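/-
A conjugate of the central involution among the fixed points on E of an element of order five.
-/
import Cfsg.Agent.Lib.JankoFour.FiveCent
import Cfsg.Agent.Lib.JankoFour.FiveOrbit

set_option autoImplicit false

namespace CfsgLib.JankoFour

open Cfsg Subgroup
open scoped commutatorElement

universe u

variable {G : Type u} [Group G] [Finite G] {z : G} {P E : Subgroup G}

namespace Ctx

theorem fixB_map (c : Ctx z P E) {B B' : Subgroup MTwoTwo} {x e : G} (hx : x ∈ c.cen)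
    (hB : ∀ b ∈ B', (c.val x)⁻¹ * b * c.val x ∈ B) (he : e ∈ c.fixB B) : x * e * x⁻¹ ∈ c.fixB B' := by
  refine ⟨c.conj_E hx.1 he.1, fun y hy => ?_⟩
  have hy' : x⁻¹ * y * x ∈ c.two B := by
    refine ⟨mul_mem (mul_mem (inv_mem hx) hy.1) hx, ?_, ?_⟩
    · rw [c.val_mul (c.cen_le_H0 (mul_mem (inv_mem hx) hy.1)) (c.cen_le_H0 hx),
        c.val_mul (c.cen_le_H0 (inv_mem hx)) (c.cen_le_H0 hy.1), c.val_inv (c.cen_le_H0 hx)]
      exact hB _ hy.2.1
    · rw [show x⁻¹ * y * x * (x⁻¹ * y * x) = x⁻¹ * (y * y) * x⁻¹⁻¹ by group, c.Z_conj (inv_mem hx.1) hy.2.2]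
      exact hy.2.2
  have h := he.2 _ hy'
  rw [show y * (x * e * x⁻¹) * y⁻¹ * (x * e * x⁻¹)⁻¹ = x * ((x⁻¹ * y * x) * e * (x⁻¹ * y * x)⁻¹ * e⁻¹) * x⁻¹ by group,
    c.Z_conj hx.1 h]
  exact h

theorem hex_conj (c : Ctx z P E) {A B : Subgroup MTwoTwo} (hA : HexLike A) (hB : HexLike B) :
    ∃ g : MTwoTwo, A.map (MulAut.conj g).toMonoidHom = B := by
  classical
  haveI : Fact (Nat.Prime 2) := ⟨Nat.prime_two⟩
  have hno : ∀ C : Subgroup MTwoTwo, HexLike C → ¬ DuadLike C := fun C hC hD => by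
    have h := c.duad_small (fun b hb => by rw [← sq]; exact hC.1.2 b hb) hD
    rw [(c.hex_fix hC).1] at h
    exact lt_irrefl _ h
  obtain ⟨S, hS⟩ := (IsPGroup.of_card (n := 4) (by rw [hA.2.1]; norm_num) : IsPGroup 2 A).exists_le_sylow
  obtain ⟨T, hT⟩ := (IsPGroup.of_card (n := 4) (by rw [hB.2.1]; norm_num) : IsPGroup 2 B).exists_le_sylow
  obtain ⟨g, hg⟩ := MulAction.exists_smul_eq MTwoTwo S T
  refine ⟨g, ?_⟩
  obtain ⟨A', -, -, hclass⟩ := m22_data T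
  have key : ∀ C : Subgroup MTwoTwo, C ≤ (T : Subgroup MTwoTwo) → HexLike C → C = A' := fun C hCT hC =>
    (hclass C hCT hC.1 hC.2.1.ge).resolve_right (hno C hC)
  rw [key B hT hB]
  refine key _ ?_ (hA.map (MulAut.conj g))
  rw [← hg, Sylow.coe_subgroup_smul, Subgroup.pointwise_smul_def]
  exact map_mono hS

theorem hexData_three (c : Ctx z P E) (m : FiveModel) {A : Subgroup MTwoTwo} (hA : HexData A) :
    HexData m.AThree := by
  obtain ⟨g, hg⟩ := c.hex_conj hA.1 m.hexThree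
  exact hg ▸ hA.map (MulAut.conj g)

theorem isZ_mul_z (c : Ctx z P E) {w : G} (hw : w ∈ E) (hwZ : w ∉ zpowers z) (hz : c.IsZ w) {t : G}
    (ht : t ∈ zpowers z) : c.IsZ (w * t) := by
  rcases c.mem_Z.mp ht with e0 | e0 <;> rw [e0]
  · rwa [mul_one]
  obtain ⟨f, hf, hfw⟩ : ∃ f ∈ E, ⁅f, w⁆ ≠ 1 := by
    by_contra hall
    push Not at hall
    obtain ⟨hz0, hext⟩ := c.extE
    have hcen : (⟨w, hw⟩ : E) ∈ center E := Subgroup.mem_center_iff.mpr fun e =>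
      Subtype.ext (commutatorElement_eq_one_iff_mul_comm.mp (hall e e.2))
    rcases (hext.center_iff _).mp hcen with e | e
    · exact hwZ (by rw [show w = 1 from congrArg Subtype.val e]; exact one_mem _)
    · exact hwZ (by rw [show w = z from congrArg Subtype.val e]; exact mem_zpowers z)
  have e : f * w * f⁻¹ = w * z := by
    rw [c.Z_comm (c.Ez hw) (mem_zpowers z), ← (c.mem_Z.mp (c.comm_E hf hw)).resolve_left hfw, commutatorElement_def,
      inv_mul_cancel_right]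
  exact e ▸ c.isZ_conj hz f

theorem card_H0 (c : Ctx z P E) : Nat.card c.H0 = 3 * 2 ^ 13 * 443520 := by
  have hs : Function.Surjective c.ψ := fun a => by
    obtain ⟨x, -, hx⟩ := c.ψC a
    exact ⟨x, hx⟩
  have hk : c.ψ.ker = c.N.subgroupOf c.H0 := by
    ext x
    rw [MonoidHom.mem_ker, c.ψker, mem_subgroupOf]
  rw [← Subgroup.card_mul_index c.ψ.ker, Subgroup.index_ker, MonoidHom.range_eq_top.mpr hs, card_top, hk,
    Nat.card_congr (subgroupOfEquivOfLe c.NH0).toEquiv, c.hN,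
    show Nat.card MTwoTwo = 443520 from CfsgGolay.card_sporM22]

end Ctx

theorem pow_five_range {x : G} (hx : x ^ 5 = 1) {y : G} (hy : y ∈ zpowers x) : ∃ k < 5, y = x ^ k := by
  obtain ⟨i, rfl⟩ := mem_zpowers_iff.mp hy
  refine ⟨(i % 5).toNat, ?_, ?_⟩
  · have h1 := Int.emod_lt_of_pos i (show (0 : ℤ) < 5 by norm_num)
    have h0 := Int.emod_nonneg i (show (5 : ℤ) ≠ 0 by norm_num)
    omega
  · rw [zpow_eq_zpow_emod' i hx, ← zpow_natCast, Int.toNat_of_nonneg (Int.emod_nonneg i (by norm_num))]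
    rfl

theorem commute_of_pow {q e : G} (hq : q ^ 5 = 1) {k : ℕ} (hk : k < 5) (hk0 : k ≠ 0) (h : Commute (q ^ k) e) :
    Commute q e := by
  obtain ⟨j, hj⟩ : ∃ j, k * j % 5 = 1 := by
    interval_cases k
    exacts [absurd rfl hk0, ⟨1, rfl⟩, ⟨3, rfl⟩, ⟨2, rfl⟩, ⟨4, rfl⟩]
  have := h.pow_left j
  rwa [← pow_mul, ← Nat.div_add_mod (k * j) 5, pow_add, pow_mul, hq, one_pow, one_mul, hj, pow_one] at this

namespace FiveData5

variable {c : Ctx z P E} {m : FiveModel} (d : FiveData5 c m)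

/-- Every element of order five of H is conjugate to a power of q. -/
theorem five_conj {y : G} (hy : y ∈ centralizer ({z} : Set G)) (hy5 : y ^ 5 = 1) (hy1 : y ≠ 1) :
    ∃ h ∈ centralizer ({z} : Set G), ∃ k < 5, k ≠ 0 ∧ h * y * h⁻¹ = d.q ^ k := by
  classical
  haveI : Fact (Nat.Prime 5) := ⟨by norm_num⟩
  have hy0 : y ∈ c.H0 := by
    by_contra h0
    have h2 : y * y ∈ c.H0 := c.H0two _ hy h0 _ hy h0
    refine h0 ?_
    have : y = y * y * (y * y) * (y * y) := by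
      calc y = y ^ 5 * y := by rw [hy5, one_mul]
        _ = y * y * (y * y) * (y * y) := by simp only [pow_succ, pow_zero]; group
    rw [this]; exact mul_mem (mul_mem h2 h2) h2
  have hq0 := c.cen_le_H0 d.qc
  have hfac : (Nat.card c.H0).factorization 5 = 1 := by
    rw [c.card_H0, show 3 * 2 ^ 13 * 443520 = 5 * 2179989504 by norm_num,
      Nat.factorization_mul (by norm_num) (by norm_num), Finsupp.add_apply,
      Nat.Prime.factorization_self (by norm_num), Nat.factorization_eq_zero_of_not_dvd (by norm_num)]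
  have ord : ∀ x : G, ∀ hx : x ∈ c.H0, x ^ 5 = 1 → x ≠ 1 →
      Nat.card (zpowers (⟨x, hx⟩ : c.H0)) = 5 ^ (Nat.card c.H0).factorization 5 := fun x hx h5 h1 => by
    rw [Nat.card_zpowers, hfac, pow_one]
    exact orderOf_eq_prime (Subtype.ext h5) (fun e => h1 (congrArg Subtype.val e))
  let Sy : Sylow 5 c.H0 := Sylow.ofCard (zpowers (⟨y, hy0⟩ : c.H0)) (ord y hy0 hy5 hy1)
  let Sq : Sylow 5 c.H0 := Sylow.ofCard (zpowers (⟨d.q, hq0⟩ : c.H0)) (ord d.q hq0 d.q5 d.q1)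
  obtain ⟨h, hh⟩ := MulAction.exists_smul_eq c.H0 Sy Sq
  have hm : h * ⟨y, hy0⟩ * h⁻¹ ∈ zpowers (⟨d.q, hq0⟩ : c.H0) := by
    show h * ⟨y, hy0⟩ * h⁻¹ ∈ (Sq : Subgroup c.H0)
    rw [← hh, Sylow.coe_subgroup_smul]
    exact ⟨⟨y, hy0⟩, mem_zpowers _, rfl⟩
  obtain ⟨i, hi⟩ := mem_zpowers_iff.mp hm
  have hi' : d.q ^ i = (h : G) * y * (h : G)⁻¹ := congrArg Subtype.val hi
  obtain ⟨k, hk, hk'⟩ := pow_five_range d.q5 (y := (h : G) * y * (h : G)⁻¹) (hi' ▸ zpow_mem (mem_zpowers d.q) i)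
  refine ⟨h, c.H0le h.2, k, hk, fun h0 => hy1 ?_, hk'⟩
  rw [h0, pow_zero] at hk'
  exact conj_eq_one_iff.mp hk'

include d in
/-- The fixed group of the third hexad group meets the fixed points in more than the centre. -/
theorem exists_three (hA : HexData m.AThree) : ∃ x ∈ d.fixA m.AThree, x ∉ zpowers z := by
  classical
  obtain ⟨p, hp, -, hgen⟩ := c.exists_gen
  set ι := d.ν ^ 2 with hι
  have hιc : ι ∈ c.cen := pow_mem d.νc 2
  have hιv : c.val ι = m.ν ^ 2 := by rw [hι, c.val_pow (c.cen_le_H0 d.νc), d.νv]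
  have hι2 : ι * ι ∈ zpowers z := by rw [hι, ← pow_add]; exact d.ν4
  have hιQ : ι ∈ c.twoGrp m.AThree hA.1.1 := ⟨hιc, by rw [hιv]; exact m.sqThree, hι2⟩
  have hιZ : ι ∉ zpowers z := by
    intro h
    have h1 : m.ν * m.ν = 1 := by rw [← sq, ← hιv]; exact c.val_E (c.Z_le h)
    have h2 : m.q = m.q ^ 4 := by
      calc m.q = m.ν * m.ν * m.q * (m.ν * m.ν)⁻¹ := by rw [h1]; group
        _ = m.ν * (m.ν * m.q * m.ν⁻¹) * m.ν⁻¹ := by group
        _ = m.q ^ 4 := by rw [m.νq, ← conj_pow, m.νq, ← pow_mul]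
    have h3 : m.q ^ 3 = 1 := mul_left_cancel (a := m.q) (by rw [← pow_succ', mul_one]; exact h2.symm)
    have := orderOf_dvd_of_pow_eq_one h3
    rw [m.q5] at this
    norm_num at this
  set K := c.ker1 hιQ.1.1 with hK
  have hK9 : Nat.card K = 2 ^ 9 := c.rank_two hA hιQ hιZ
  have hFK : c.fixB m.AThree ≤ K := fun e he => c.mem_ker1.mpr ⟨he.1, by
    rw [commutatorElement_def]; exact he.2 ι hιQ⟩
  have hpKn : ∀ e ∈ K, p * e * p⁻¹ ∈ K := c.ker1_P hιc hp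
  have hfix : ∀ A : Subgroup MTwoTwo, HexLike A → m.q ∈ normalizer (A : Set MTwoTwo) →
      (∀ a ∈ A, m.ν ^ 2 * a * (m.ν ^ 2)⁻¹ ∈ A) → d.fixA A ≤ K := by
    intro A hA' hqA hνA
    have hιN : c.val ι ∈ normalizer (A : Set MTwoTwo) := hιv.symm ▸ mem_norm_of hνA
    have hιq : ι * d.q * ι⁻¹ = d.q ^ 4 := by
      rw [hι, sq, show d.ν * d.ν * d.q * (d.ν * d.ν)⁻¹ = d.ν * (d.ν * d.q * d.ν⁻¹) * d.ν⁻¹ by group, d.νq,
        ← conj_pow, d.νq, ← pow_mul]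
    have hιfix : ∀ e ∈ d.fixA A, ι * e * ι⁻¹ ∈ d.fixA A := by
      intro e he
      refine ⟨c.fixB_conj hιc hιN he.1, mem_centralizer_singleton_iff.mpr ?_⟩
      have h0 : Commute d.q e := (mem_centralizer_singleton_iff.mp he.2).symm
      have h4 : Commute (d.q ^ 4) (ι * e * ι⁻¹) := by
        rw [← hιq]
        show ι * d.q * ι⁻¹ * (ι * e * ι⁻¹) = ι * e * ι⁻¹ * (ι * d.q * ι⁻¹)
        rw [show ι * d.q * ι⁻¹ * (ι * e * ι⁻¹) = ι * (d.q * e) * ι⁻¹ by group, h0.eq]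
        group
      exact (commute_of_pow d.q5 (by norm_num : (4 : ℕ) < 5) (by norm_num) h4).eq.symm
    by_contra hnot
    obtain ⟨e, he, heK⟩ := SetLike.not_le_iff_exists.mp hnot
    set δ := ι * e * ι⁻¹ * e⁻¹ with hδ
    have hδF : δ ∈ d.fixA A := mul_mem (hιfix e he) (inv_mem he)
    have heE : e ∈ E := (d.fixA_le A he).1
    have hδZ : δ ∉ zpowers z := fun h => heK (c.mem_ker1.mpr ⟨heE, by rw [commutatorElement_def]; exact h⟩)
    have hδK : δ ∈ K := by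
      refine c.mem_ker1.mpr ⟨(d.fixA_le A hδF).1, ?_⟩
      rw [commutatorElement_def]
      have hab : ∀ a ∈ d.fixA A, ∀ b ∈ d.fixA A, a * b = b * a := fun a ha b hb =>
        mem_centralizer_iff.mp (((c.hex_fix hA').2.1).symm ▸ hb.1 : b ∈ E ⊓ centralizer (c.fixB A : Set G)).2 a ha.1
      have h1 : ι * δ * ι⁻¹ = e * (ι * e * ι⁻¹)⁻¹ := by
        rw [hδ, show ι * (ι * e * ι⁻¹ * e⁻¹) * ι⁻¹ = (ι * ι) * e * (ι * ι)⁻¹ * (ι * e * ι⁻¹)⁻¹ by group,
          ← c.Z_comm (c.Ez heE) hι2, mul_inv_cancel_right]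
      rw [h1, hδ, hab (ι * e * ι⁻¹) (hιfix e he) (e⁻¹) (inv_mem he)]
      rw [show e * (ι * e * ι⁻¹)⁻¹ * (e⁻¹ * (ι * e * ι⁻¹))⁻¹ = (e * (ι * e * ι⁻¹)⁻¹) * ((ι * e * ι⁻¹)⁻¹ * e) by
        group, hab _ (inv_mem (hιfix e he)) e he]
      have hsq : ∀ x ∈ d.fixA A, x * x = 1 := fun x hx => (c.hex_fix hA').2.2.1 x hx.1
      rw [hsq _ (mul_mem he (inv_mem (hιfix e he)))]
      exact one_mem _
    have hle := d.fixA_gen hA' hqA hp hgen hδF hδZ (K := K) (c.Z_le_ker1 _ (mem_zpowers z)) hδK (hpKn δ hδK)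
    exact heK (hle he)
  have hν2 : ∀ A B : Subgroup MTwoTwo, (∀ a ∈ A, m.ν * a * m.ν⁻¹ ∈ B) → (∀ a ∈ B, m.ν * a * m.ν⁻¹ ∈ A) →
      ∀ a ∈ A, m.ν ^ 2 * a * (m.ν ^ 2)⁻¹ ∈ A := fun A B h1 h2 a ha => by
    rw [show m.ν ^ 2 * a * (m.ν ^ 2)⁻¹ = m.ν * (m.ν * a * m.ν⁻¹) * m.ν⁻¹ by rw [sq]; group]
    exact h2 _ (h1 a ha)
  have hDK : d.D ≤ K := by
    rw [← d.D_eq.2]
    exact sup_le (hfix _ m.hexOne m.qAOne (hν2 _ _ m.νOne m.νTwo)) (hfix _ m.hexTwo m.qATwo (hν2 _ _ m.νTwo m.νOne))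
  have hF7 := (c.hex_fix m.hexThree).1
  set F := c.fixB m.AThree
  have e0 : F ⊓ d.D = d.fixA m.AThree := by
    rw [D, fixA, ← inf_assoc, inf_eq_left.mpr (c.fixB_le m.AThree)]
  have e1 : Nat.card ↥(F ⊓ d.D) * F.relIndex d.D = 32 := by
    rw [← Subgroup.inf_relIndex_right, Subgroup.relIndex, ← d.D_eq.1,
      ← Nat.card_congr (subgroupOfEquivOfLe (inf_le_right : F ⊓ d.D ≤ d.D)).toEquiv]
    exact Subgroup.card_mul_index _
  have e2 : F.relIndex K = 4 := by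
    have h := Subgroup.card_mul_index (F.subgroupOf K)
    rw [Nat.card_congr (subgroupOfEquivOfLe hFK).toEquiv, hK9, hF7] at h
    change 2 ^ 7 * F.relIndex K = 2 ^ 9 at h
    omega
  have e3 : F.relIndex d.D ≤ 4 := e2 ▸ Subgroup.relIndex_le_of_le_right hDK Subgroup.index_ne_zero_of_finite
  rw [← e0]
  by_contra hall
  push Not at hall
  have := card_le_of_le (hall : F ⊓ d.D ≤ zpowers z)
  rw [c.card_Z] at this
  nlinarith

/-- Sets of elements outside the centre closed under R and the centre have size divisible by eighteen. -/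
theorem eighteen_dvd {A : Subgroup MTwoTwo} (hA : HexLike A) {R : Subgroup G} (hR : R ≤ c.cen) (hR27 : Nat.card R = 27)
    {S : Set G} (hS : ∀ e ∈ S, e ∈ E ∧ e ∉ zpowers z) (hSR : ∀ r ∈ R, ∀ e ∈ S, r * e * r⁻¹ ∈ S)
    (hSZ : ∀ t ∈ zpowers z, ∀ e ∈ S, e * t ∈ S) : 18 ∣ Nat.card S := by
  classical
  obtain ⟨p, hp, -, hgen⟩ := c.exists_gen
  letI : MulAction (R × zpowers z) S :=
    { smul := fun x e => ⟨x.1 * e * (x.1 : G)⁻¹ * x.2, hSZ _ x.2.2 _ (hSR _ x.1.2 _ e.2)⟩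
      one_smul := fun e => Subtype.ext (by show (1 : G) * e * (1 : G)⁻¹ * (1 : G) = e; group)
      mul_smul := fun x y e => Subtype.ext (by
        show ((x.1 : G) * y.1) * e * ((x.1 : G) * y.1)⁻¹ * ((x.2 : G) * y.2) =
          x.1 * (y.1 * e * (y.1 : G)⁻¹ * y.2) * (x.1 : G)⁻¹ * x.2
        rw [show (x.1 : G) * (y.1 * e * (y.1 : G)⁻¹ * y.2) * (x.1 : G)⁻¹ * x.2 =
          ((x.1 : G) * y.1) * e * ((x.1 : G) * y.1)⁻¹ * ((x.1 * y.2 * (x.1 : G)⁻¹) * x.2) by group,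
          c.Z_conj (hR x.1.2).1 y.2.2, c.Z_comm (c.Ez (c.Z_le y.2.2)) x.2.2]) }
  have hr27 : ∀ r : R, (r : G) ^ 27 = 1 := fun r => by
    have h := pow_card_eq_one' (x := r)
    rw [hR27] at h
    exact congrArg Subtype.val h
  have horb : ∀ e : S, 18 ∣ Nat.card (MulAction.orbit (R × zpowers z) e) := by
    intro e
    obtain ⟨heE, heZ⟩ := hS e e.2
    set St := MulAction.stabilizer (R × zpowers z) e
    have hst : ∀ x : St, (x.1.1 : G) * e * (x.1.1 : G)⁻¹ = e ∧ x.1.2 = 1 := fun x => by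
      have h0 : (x.1.1 : G) * e * (x.1.1 : G)⁻¹ * x.1.2 = e :=
        congrArg Subtype.val (MulAction.mem_stabilizer_iff.mp x.2)
      set t : G := ((x.1.2 : zpowers z) : G) with ht
      set r : G := ((x.1.1 : R) : G) with hr
      have h1 : r * e * r⁻¹ = e * t⁻¹ := eq_mul_inv_of_mul_eq h0
      rw [c.Z_inv x.1.2.2] at h1
      have key : ∀ k : ℕ, r ^ k * e * (r ^ k)⁻¹ = e * t ^ k := by
        intro k
        induction k with
        | zero => simp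
        | succ k ih =>
          calc r ^ (k + 1) * e * (r ^ (k + 1))⁻¹ = r * (r ^ k * e * (r ^ k)⁻¹) * r⁻¹ := by rw [pow_succ']; group
            _ = r * e * r⁻¹ * (r * t ^ k * r⁻¹) := by rw [ih]; group
            _ = e * t ^ (k + 1) := by
              rw [c.Z_conj (hR x.1.1.2).1 (pow_mem x.1.2.2 k), h1, pow_succ', mul_assoc]
      have h27 := key 27
      rw [hr, hr27, one_mul, inv_one, mul_one] at h27
      have t27 : t ^ 27 = 1 := left_eq_mul.mp h27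
      have t1 : t = 1 := by
        rwa [show 27 = 2 * 13 + 1 from rfl, pow_succ, pow_mul, sq, c.Z_sq x.1.2.2, one_pow, one_mul] at t27
      refine ⟨?_, Subtype.ext t1⟩
      rw [h1, ← ht, t1, mul_one]
    let φ : St →* MTwoTwo :=
      { toFun := fun x => c.val x.1.1
        map_one' := (c.val_eq_one (one_mem _)).mpr (one_mem _)
        map_mul' := fun x y => c.val_mul (c.cen_le_H0 (hR x.1.1.2)) (c.cen_le_H0 (hR y.1.1.2)) }
    have hinj : Function.Injective φ := by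
      rw [injective_iff_map_eq_one]
      intro x hx
      obtain ⟨-, -, t, ht, q, hq, he⟩ := c.cen_ker (hR x.1.1.2) hx
      have hc : Commute t q := (c.Z_comm (c.P_le hq) ht).symm
      have h := hr27 x.1.1
      have q3 : q ^ 3 = 1 := by rw [pow_succ, sq]; exact c.P_cube hq
      rw [he, hc.mul_pow, show 27 = 3 * 9 from rfl, pow_mul q, q3, one_pow, mul_one, show 3 * 9 = 2 * 13 + 1 from rfl,
        pow_succ, pow_mul, show t ^ 2 = 1 by rw [sq]; exact c.Z_sq ht, one_pow, one_mul] at h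
      rw [h, one_mul] at he
      have hq1 : q = 1 := by
        by_contra hq1
        refine heZ (c.fixed_mem_Z hp hgen heE ?_)
        have hqe : Commute q (e : G) := mul_inv_eq_iff_eq_mul.mp (he ▸ (hst x).1)
        have hpz : p ∈ zpowers q := by
          rw [eq_of_le_of_card_ge (zpowers_le.mpr hq : zpowers q ≤ P) ?_]
          · exact hp
          · rw [Nat.card_zpowers, c.hP, orderOf_eq_prime (p := 3) (hp := ⟨by norm_num⟩) q3 hq1]
        obtain ⟨i, rfl⟩ := mem_zpowers_iff.mp hpz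
        rw [(hqe.zpow_left i).eq, mul_inv_cancel_right, mul_inv_cancel]
        exact one_mem _
      exact Subtype.ext (Prod.ext (Subtype.ext (by rw [he, hq1]; rfl)) (hst x).2)
    have hle : φ.range ≤ c.image (c.stab (e : G)) := by
      rintro _ ⟨x, rfl⟩
      exact c.mem_image.mpr ⟨x.1.1, hR x.1.1.2, ⟨hR x.1.1.2, by rw [(hst x).1, mul_inv_cancel]; exact one_mem _⟩, rfl⟩
    have h9 : ¬ 9 ∣ Nat.card φ.range := fun h => heZ (c.fixed_nine hA heE (h.trans (card_dvd_of_le hle)))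
    rw [← Nat.card_congr (MonoidHom.ofInjective hinj).toEquiv] at h9
    rw [Nat.card_congr (MulAction.orbitEquivQuotientStabilizer (R × zpowers z) e)]
    have hcard := Subgroup.card_eq_card_quotient_mul_card_subgroup St
    rw [Nat.card_prod, hR27, c.card_Z] at hcard
    obtain ⟨a, ha⟩ : Nat.card St ∣ 2 * 3 ^ 3 := ⟨Nat.card ((R × zpowers z) ⧸ St), by rw [mul_comm]; linarith⟩
    have hd : Nat.card St ∣ 3 := by
      have hodd : Odd (Nat.card St) := by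
        rw [Nat.odd_iff]
        by_contra hev
        haveI : Fact (Nat.Prime 2) := ⟨Nat.prime_two⟩
        obtain ⟨x, hx⟩ := exists_prime_orderOf_dvd_card' (G := St) 2 (Nat.dvd_of_mod_eq_zero (by omega))
        have hr2 : (x.1.1 : G) ^ 2 = 1 := by
          have := pow_orderOf_eq_one x; rw [hx] at this
          exact congrArg (fun y : St => (y.1.1 : G)) this
        have hr1 : (x.1.1 : G) = 1 := by
          have := hr27 x.1.1
          rwa [show 27 = 2 * 13 + 1 from rfl, pow_succ, pow_mul, hr2, one_pow, one_mul] at this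
        have : x = 1 := Subtype.ext (Prod.ext (Subtype.ext hr1) (hst x).2)
        rw [this, orderOf_one] at hx
        norm_num at hx
      have h3 : Nat.card St ∣ 3 ^ 3 :=
        (Nat.Coprime.dvd_mul_left (hodd.coprime_two_right)).mp ⟨a, ha⟩
      obtain ⟨j, hj, hjc⟩ := (Nat.dvd_prime_pow Nat.prime_three).mp h3
      rw [hjc] at h9 ⊢
      interval_cases j <;> first | exact ⟨3, rfl⟩ | exact ⟨1, rfl⟩ | exact absurd ⟨1, rfl⟩ h9 | exact absurd ⟨3, rfl⟩ h9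
    obtain ⟨b, hb⟩ := hd
    refine ⟨b, ?_⟩
    have hpos : 0 < Nat.card St := Nat.card_pos
    nlinarith
  haveI : Fintype (MulAction.orbitRel.Quotient (R × zpowers z) S) := Fintype.ofFinite _
  rw [Nat.card_congr (MulAction.selfEquivSigmaOrbits (R × zpowers z) S), Nat.card_sigma]
  exact Finset.dvd_sum fun _ _ => horb _

/-- An element of E fixed by an element of order five is conjugate into the fixed points of q. -/
theorem into_D {e y : G} (he : e ∈ E) (heZ : e ∉ zpowers z) (hz : c.IsZ e) (hy : y ∈ centralizer ({z} : Set G))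
    (hy5 : y ^ 5 = 1) (hy1 : y ≠ 1) (hye : y * e = e * y) : ∃ u ∈ d.D, u ∉ zpowers z ∧ c.IsZ u := by
  obtain ⟨h, hh, k, hk, hk0, hk'⟩ := d.five_conj hy hy5 hy1
  refine ⟨h * e * h⁻¹, d.mem_D.mpr ⟨c.conj_E hh he, (commute_of_pow d.q5 hk hk0 ?_).eq⟩, fun hc => heZ ?_,
    c.isZ_conj hz h⟩
  · rw [← hk']
    show h * y * h⁻¹ * (h * e * h⁻¹) = h * e * h⁻¹ * (h * y * h⁻¹)
    rw [show h * y * h⁻¹ * (h * e * h⁻¹) = h * (y * e) * h⁻¹ by group, hye]
    group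
  · have h1 := c.Z_conj (inv_mem hh) hc
    rw [← h1] at hc
    rwa [show h⁻¹ * (h * e * h⁻¹) * h⁻¹⁻¹ = e by group] at hc

/-- A conjugate of z other than itself is fixed by q. -/
theorem exists_fused [IsSimpleGroup G] (hG : ¬ IsMulCommutative G) : ∃ u ∈ d.D, u ∉ zpowers z ∧ c.IsZ u := by
  classical
  obtain ⟨A0, hA0, w, hw, hwZ, hwz⟩ := c.exists_w hG
  have hA3 := c.hexData_three m hA0
  obtain ⟨g, hg⟩ := c.hex_conj hA0.1 m.hexThree
  obtain ⟨x, hx, hvx⟩ := c.exists_val g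
  set u := x * w * x⁻¹ with hu
  set F := c.fixB m.AThree with hF
  have huF : u ∈ F := c.fixB_map hx (fun b hb => by
    rw [← hg] at hb
    obtain ⟨a, ha, rfl⟩ := hb
    rw [hvx]
    simp only [MulEquiv.coe_toMonoidHom, MulAut.conj_apply]
    rwa [show g⁻¹ * (g * a * g⁻¹) * g = a by group]) hw
  have huZ : u ∉ zpowers z := fun h => hwZ (by
    have h1 := c.Z_conj (inv_mem hx.1) h
    rw [← h1] at h
    rwa [hu, show x⁻¹ * (x * w * x⁻¹) * x⁻¹⁻¹ = w by group] at h)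
  have huz : c.IsZ u := c.isZ_conj hwz x
  obtain ⟨x0, hx0, hx0Z⟩ := d.exists_three hA3
  obtain ⟨q1, hq1, hq1v, hq15⟩ := c.lift_five (m := m.qOne) (m.qOne5 ▸ pow_orderOf_eq_one m.qOne)
  have hq11 : q1 ≠ 1 := fun h => by
    have h5 := m.qOne5
    rw [← hq1v, h, (c.val_eq_one (one_mem _)).mpr (one_mem _), orderOf_one] at h5
    norm_num at h5
  obtain ⟨n, hn, hnv⟩ := c.exists_val m.nn
  set NA := normalizer (m.AThree : Set MTwoTwo)
  -- the orbits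
  let O : G → Set G := fun v => {e | ∃ y ∈ c.cen, c.val y ∈ NA ∧ ∃ t ∈ zpowers z, e = y * v * y⁻¹ * t}
  have Oconj : ∀ v, ∀ y ∈ c.cen, c.val y ∈ NA → ∀ e ∈ O v, y * e * y⁻¹ ∈ O v := by
    rintro v y hy hyN e ⟨y', hy', hy'N, t, ht, rfl⟩
    refine ⟨y * y', mul_mem hy hy', ?_, t, ht, ?_⟩
    · rw [c.val_mul (c.cen_le_H0 hy) (c.cen_le_H0 hy')]; exact mul_mem hyN hy'N
    · calc y * (y' * v * y'⁻¹ * t) * y⁻¹ = y * y' * v * (y * y')⁻¹ * (y * t * y⁻¹) := by group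
        _ = y * y' * v * (y * y')⁻¹ * t := by rw [c.Z_conj hy.1 ht]
  have Omul : ∀ v, ∀ t ∈ zpowers z, ∀ e ∈ O v, e * t ∈ O v := by
    rintro v t ht e ⟨y, hy, hyN, t', ht', rfl⟩
    exact ⟨y, hy, hyN, t' * t, mul_mem ht' ht, mul_assoc _ _ _⟩
  have OE : ∀ v ∈ F, v ∉ zpowers z → ∀ e ∈ O v, e ∈ F ∧ e ∉ zpowers z := by
    rintro v hv hvZ e ⟨y, hy, hyN, t, ht, rfl⟩
    refine ⟨mul_mem (c.fixB_conj hy hyN hv) (c.Z_le_fixB _ ht), fun h => hvZ ?_⟩
    have h1 : y * v * y⁻¹ ∈ zpowers z := (Subgroup.mul_mem_cancel_right _ ht).mp h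
    have h2 := c.Z_conj (inv_mem hy.1) h1
    rw [← h2] at h1
    rwa [show y⁻¹ * (y * v * y⁻¹) * y⁻¹⁻¹ = v by group] at h1
  have Oself : ∀ v, v ∈ O v := fun v => ⟨1, one_mem _, by rw [(c.val_eq_one (one_mem _)).mpr (one_mem _)]; exact one_mem _,
    1, one_mem _, by simp⟩
  have Otrans : ∀ v, ∀ e ∈ O v, v ∈ O e := by
    rintro v e ⟨y, hy, hyN, t, ht, rfl⟩
    refine ⟨y⁻¹, inv_mem hy, by rw [c.val_inv (c.cen_le_H0 hy)]; exact inv_mem hyN, t, ht, ?_⟩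
    rw [show y⁻¹ * (y * v * y⁻¹ * t) * y⁻¹⁻¹ = v * (y⁻¹ * t * y⁻¹⁻¹) by group, c.Z_conj (inv_mem hy.1) ht, mul_assoc,
      c.Z_sq ht, mul_one]
  have hq1N : c.val q1 ∈ NA := hq1v.symm ▸ m.qOneThree
  have hnN : c.val n ∈ NA := hnv.symm ▸ m.nnThree
  have hC8 := (c.fix_eight m.hexThree hq1 hq15 hq11 hq1N).1
  set C1 : Subgroup G := F ⊓ centralizer ({q1} : Set G) with hC1
  have hmemC : ∀ {e}, e ∈ C1 ↔ e ∈ F ∧ q1 * e = e * q1 := fun {e} => by
    simp only [C1, mem_inf, mem_centralizer_singleton_iff, eq_comm]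
  -- a point of O u fixed by q1 gives the claim
  by_cases hufix : ∃ e ∈ O u, q1 * e = e * q1
  · obtain ⟨e, he, hqe⟩ := hufix
    obtain ⟨heF, heZ⟩ := OE u huF huZ e he
    obtain ⟨y, hy, hyN, t, ht, rfl⟩ := he
    have hzy : c.IsZ (y * u * y⁻¹) := c.isZ_conj huz y
    have hyuZ : y * u * y⁻¹ ∉ zpowers z := fun h => heZ (mul_mem h ht)
    exact d.into_D (c.fixB_le _ heF) heZ (c.isZ_mul_z (c.conj_E hy.1 (c.fixB_le _ huF)) hyuZ hzy ht) hq1.1 hq15 hq11 hqe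
  -- otherwise it is conjugate to x0
  suffices hmain : ∃ e, e ∈ O u ∧ e ∈ O x0 by
    obtain ⟨e, ⟨y, hy, hyN, t, ht, rfl⟩, ⟨y', hy', hy'N, t', ht', he'⟩⟩ := hmain
    have hx0E : x0 ∈ E := (d.fixA_le _ hx0).1
    refine ⟨x0, d.fixA_le _ hx0, hx0Z, ?_⟩
    have h1 : x0 = (y'⁻¹ * y) * u * (y'⁻¹ * y)⁻¹ * (t * t') := by
      have e2 : y' * x0 * y'⁻¹ = y * u * y⁻¹ * t * t' := by
        rw [he', mul_assoc (y' * x0 * y'⁻¹) t' t', c.Z_sq ht', mul_one]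
      calc x0 = y'⁻¹ * (y' * x0 * y'⁻¹) * y' := by group
        _ = (y'⁻¹ * y) * u * (y'⁻¹ * y)⁻¹ * (y'⁻¹ * (t * t') * y'⁻¹⁻¹) := by rw [e2]; group
        _ = (y'⁻¹ * y) * u * (y'⁻¹ * y)⁻¹ * (t * t') := by rw [c.Z_conj (inv_mem hy'.1) (mul_mem ht ht')]
    have hcH : y'⁻¹ * y ∈ centralizer ({z} : Set G) := mul_mem (inv_mem hy'.1) hy.1
    rw [h1]
    refine c.isZ_mul_z (c.conj_E hcH (c.fixB_le _ huF)) (fun h => hx0Z ?_) (c.isZ_conj huz _) (mul_mem ht ht')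
    rw [h1]; exact mul_mem h (mul_mem ht ht')
  push Not at hufix
  obtain ⟨R, hR, -, hR27, -, hRN⟩ := c.exists_R m.hexThree
  have hdvd18 : ∀ v ∈ F, v ∉ zpowers z → ∀ S ⊆ O v, (∀ r ∈ R, ∀ e ∈ S, r * e * r⁻¹ ∈ S) →
      (∀ t ∈ zpowers z, ∀ e ∈ S, e * t ∈ S) → 18 ∣ Nat.card S := fun v hv hvZ S hS h1 h2 =>
    eighteen_dvd m.hexThree hR hR27 (fun e he => ⟨c.fixB_le _ (OE v hv hvZ e (hS he)).1, (OE v hv hvZ e (hS he)).2⟩)
      h1 h2
  have h18 : ∀ v ∈ F, v ∉ zpowers z → 18 ∣ Nat.card (O v) := fun v hv hvZ =>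
    hdvd18 v hv hvZ (O v) subset_rfl (fun r hr e he => Oconj v r (hR hr) (hRN r hr) e he) (Omul v)
  have hq1k : ∀ k ∈ zpowers q1, k ∈ c.cen ∧ c.val k ∈ NA := by
    intro k hk
    obtain ⟨j, -, rfl⟩ := pow_five_range hq15 hk
    exact ⟨pow_mem hq1 j, by rw [c.val_pow (c.cen_le_H0 hq1)]; exact pow_mem hq1N j⟩
  haveI : Fact (Nat.Prime 5) := ⟨by norm_num⟩
  have hK5 : IsPGroup 5 (zpowers q1) := fun k => ⟨1, Subtype.ext (by
    obtain ⟨j, -, hj⟩ := pow_five_range hq15 k.2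
    rw [pow_one, Subgroup.coe_pow, hj, ← pow_mul, mul_comm, pow_mul, hq15, one_pow, Subgroup.coe_one])⟩
  have hfix5 : ∀ v, Nat.card (O v) ≡ (O v ∩ {e | q1 * e = e * q1}).ncard [MOD 5] := by
    intro v
    have h := orbit_mod (zpowers q1) hK5 (O v) fun k hk e he => Oconj v k (hq1k k hk).1 (hq1k k hk).2 e he
    rwa [show {e : G | e ∈ O v ∧ ∀ k ∈ zpowers q1, k * e * k⁻¹ = e} = O v ∩ {e | q1 * e = e * q1} from
      Set.ext fun e => ⟨fun ⟨h1, h2⟩ => ⟨h1, mul_inv_eq_iff_eq_mul.mp (h2 q1 (mem_zpowers q1))⟩, fun ⟨h1, h2⟩ =>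
        ⟨h1, fun k hk => by
          obtain ⟨j, -, rfl⟩ := pow_five_range hq15 hk
          rw [((show Commute q1 e from h2).pow_left j).eq, mul_inv_cancel_right]⟩⟩, Nat.card_coe_set_eq (_ ∩ _)] at h
  set X : Set G := (F : Set G) \ (zpowers z : Set G) with hX
  have hX126 : X.ncard = 126 := by
    rw [hX, Set.ncard_sdiff (show ((zpowers z : Subgroup G) : Set G) ⊆ F from c.Z_le_fixB _), ← Nat.card_coe_set_eq,
      ← Nat.card_coe_set_eq]
    show Nat.card F - Nat.card (zpowers z) = 126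
    rw [(c.hex_fix m.hexThree).1, c.card_Z]; norm_num
  have hOX : ∀ v ∈ F, v ∉ zpowers z → O v ⊆ X := fun v hv hvZ e he => ⟨(OE v hv hvZ e he).1, (OE v hv hvZ e he).2⟩
  have hu90 : 90 ≤ Nat.card (O u) := by
    have h5 : 5 ∣ Nat.card (O u) := by
      have h := hfix5 u
      rw [show O u ∩ {e | q1 * e = e * q1} = ∅ from Set.eq_empty_iff_forall_notMem.mpr fun e he => hufix e he.1 he.2,
        Set.ncard_empty] at h
      exact Nat.modEq_zero_iff_dvd.mp h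
    haveI : Nonempty (O u) := ⟨⟨u, Oself u⟩⟩
    have hpos : 0 < Nat.card (O u) := Nat.card_pos
    exact Nat.le_of_dvd hpos (Nat.Coprime.mul_dvd_of_dvd_of_dvd (by norm_num : Nat.Coprime 18 5)
      (h18 u huF huZ) h5)
  by_contra hdis
  push Not at hdis
  have hx0F : x0 ∈ F := hx0.1
  have hsum : Nat.card (O u) + Nat.card (O x0) ≤ 126 := by
    rw [← hX126, Nat.card_coe_set_eq, Nat.card_coe_set_eq, ← Set.ncard_union_eq
      (Set.disjoint_left.mpr hdis) (Set.toFinite _) (Set.toFinite _)]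
    exact Set.ncard_le_ncard (Set.union_subset (hOX u huF huZ) (hOX x0 hx0F hx0Z)) (Set.toFinite _)
  -- the orbit of x0 is small and has a point fixed by q1
  set T : Set G := O x0 ∩ {e | q1 * e = e * q1} with hT
  have hx0pos : 0 < Nat.card (O x0) := by
    haveI : Nonempty (O x0) := ⟨⟨x0, Oself x0⟩⟩
    exact Nat.card_pos
  have hTle : T.ncard ≤ 6 := by
    have h : T ⊆ (C1 : Set G) \ (zpowers z : Set G) := fun e he =>
      ⟨hmemC.mpr ⟨(OE x0 hx0F hx0Z e he.1).1, he.2⟩, (OE x0 hx0F hx0Z e he.1).2⟩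
    have h' := Set.ncard_le_ncard h (Set.toFinite _)
    rw [Set.ncard_sdiff (show ((zpowers z : Subgroup G) : Set G) ⊆ C1 from fun t ht =>
      hmemC.mpr ⟨c.Z_le_fixB _ ht, c.Z_comm hq1.1 ht⟩), ← Nat.card_coe_set_eq, ← Nat.card_coe_set_eq] at h'
    change T.ncard ≤ Nat.card C1 - Nat.card (zpowers z) at h'
    rwa [hC8, c.card_Z] at h'
  obtain ⟨p, hp, hp1, hgen⟩ := c.exists_gen
  have hpN : ∀ i : ℕ, p ^ i ∈ c.cen ∧ c.val (p ^ i) ∈ NA := fun i =>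
    ⟨pow_mem (c.P_le_cen hp) i, by rw [c.val_P (pow_mem hp i)]; exact one_mem _⟩
  have hcomm : Commute q1 p := c.cen_comm hq1 hp
  have hT0 : T.ncard = 0 ∨ 6 ≤ T.ncard := by
    rcases T.eq_empty_or_nonempty with he | ⟨e, heO, hqe⟩
    · exact Or.inl (by rw [he, Set.ncard_empty])
    refine Or.inr ?_
    obtain ⟨heF, heZ⟩ := OE x0 hx0F hx0Z e heO
    let ψ : Fin 3 × zpowers z → T := fun v => ⟨p ^ (v.1 : ℕ) * e * (p ^ (v.1 : ℕ))⁻¹ * v.2,
      Omul _ _ v.2.2 _ (Oconj _ _ (hpN _).1 (hpN _).2 _ heO),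
      (((hcomm.pow_right _).mul_right hqe).mul_right (hcomm.pow_right _).inv_right).mul_right (c.Z_comm hq1.1 v.2.2)⟩
    have hψ : Function.Injective ψ := by
      rintro ⟨i, t, ht⟩ ⟨j, t', ht'⟩ heq
      have h1 : p ^ (i : ℕ) * e * (p ^ (i : ℕ))⁻¹ * t = p ^ (j : ℕ) * e * (p ^ (j : ℕ))⁻¹ * t' :=
        congrArg Subtype.val heq
      have key : ∀ i j : ℕ, i < j → j < 3 → ∀ t ∈ zpowers z, ∀ t' ∈ zpowers z,
          p ^ i * e * (p ^ i)⁻¹ * t = p ^ j * e * (p ^ j)⁻¹ * t' → False := by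
        intro i j hij hj t ht t' ht' h
        obtain ⟨k, rfl⟩ := Nat.exists_eq_add_of_lt hij
        set r := p ^ (k + 1) with hr
        have hrP : r ∈ P := pow_mem hp _
        have h' : r * e * r⁻¹ * e⁻¹ = t * t'⁻¹ := by
          have hpi := (hpN i).1.1
          calc r * e * r⁻¹ * e⁻¹
              = (p ^ i)⁻¹ * (p ^ (i + k + 1) * e * (p ^ (i + k + 1))⁻¹ * t') * p ^ i *
                  ((p ^ i)⁻¹ * t'⁻¹ * p ^ i) * e⁻¹ := by
                rw [hr, add_assoc, pow_add p i]; group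
            _ = e * ((p ^ i)⁻¹ * t * (p ^ i)⁻¹⁻¹) * ((p ^ i)⁻¹ * t'⁻¹ * (p ^ i)⁻¹⁻¹) * e⁻¹ := by rw [← h]; group
            _ = e * (t * t'⁻¹) * e⁻¹ := by
              rw [c.Z_conj (inv_mem hpi) ht, c.Z_conj (inv_mem hpi) (inv_mem ht'), mul_assoc e t]
            _ = t * t'⁻¹ := c.Z_conj (c.Ez (c.fixB_le _ heF)) (mul_mem ht (inv_mem ht'))
        have hrne : r ≠ 1 := fun h1 => by
          have := orderOf_dvd_of_pow_eq_one h1
          rw [orderOf_eq_prime (p := 3) (hp := ⟨by norm_num⟩) (by rw [pow_succ, sq]; exact c.P_cube hp) hp1] at this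
          exact absurd (Nat.le_of_dvd (by omega) this) (by omega)
        have hgen' : P = zpowers r := (eq_of_le_of_card_ge (zpowers_le.mpr hrP) (by
          rw [Nat.card_zpowers, c.hP, orderOf_eq_prime (p := 3) (hp := ⟨by norm_num⟩)
            (by rw [pow_succ, sq]; exact c.P_cube hrP) hrne])).symm
        exact heZ (c.fixed_mem_Z hrP hgen' (c.fixB_le _ heF) (h' ▸ mul_mem ht (inv_mem ht')))
      rcases lt_trichotomy (i : ℕ) j with hij | hij | hij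
      · exact (key _ _ hij j.2 t ht t' ht' h1).elim
      · obtain rfl : i = j := Fin.ext hij
        obtain rfl := mul_left_cancel h1
        rfl
      · exact (key _ _ hij i.2 t' ht' t ht h1.symm).elim
    have h := Nat.card_le_card_of_injective ψ hψ
    rwa [Nat.card_prod, Nat.card_fin, c.card_Z, Nat.card_coe_set_eq] at h
  have h36 : Nat.card (O x0) = 36 ∧ T.ncard = 6 := by
    have h := hfix5 x0
    rw [← hT] at h
    obtain ⟨j, hj⟩ := h18 x0 hx0F hx0Z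
    rw [hj] at h hsum hx0pos ⊢
    have hj2 : j ≤ 2 := by omega
    unfold Nat.ModEq at h
    interval_cases j <;> omega
  obtain ⟨hO36, hT6⟩ := h36
  obtain ⟨e, heO, hqe⟩ : T.Nonempty := Set.nonempty_of_ncard_ne_zero (by omega)
  obtain ⟨heF, heZ⟩ := OE x0 hx0F hx0Z e heO
  have heE : e ∈ E := c.fixB_le _ heF
  set e0 := n * e * n⁻¹ with he0
  have he0O : e0 ∈ O x0 := Oconj x0 n hn hnN e heO
  obtain ⟨he0F, he0Z⟩ := OE x0 hx0F hx0Z e0 he0O
  have he0E : e0 ∈ E := c.fixB_le _ he0F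
  set y1 := n * q1 * n⁻¹ with hy1
  have hy1c : y1 ∈ c.cen := mul_mem (mul_mem hn hq1) (inv_mem hn)
  have hy1v : c.val y1 = m.nn * m.qOne * m.nn⁻¹ := by
    rw [hy1, c.val_conj (c.cen_le_H0 hn) (c.cen_le_H0 hq1), hnv, hq1v]
  have hy1e : y1 ∈ c.stab e0 := ⟨hy1c, by
    rw [hy1, he0, show n * q1 * n⁻¹ * (n * e * n⁻¹) * (n * q1 * n⁻¹)⁻¹ * (n * e * n⁻¹)⁻¹ =
      n * (q1 * e * q1⁻¹ * e⁻¹) * n⁻¹ by group, hqe, mul_inv_cancel_right, mul_inv_cancel]
    simp⟩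
  -- e0 is moved by q1
  have hmove : q1 ∉ c.stab e0 := fun h => he0Z (c.fixed_nine m.hexThree he0E (m.genBase _
    (c.image_stab_hex m.hexThree he0F) (c.mem_image.mpr ⟨q1, hq1, h, hq1v⟩)
    (c.mem_image.mpr ⟨y1, hy1c, hy1e, hy1v⟩)))
  -- the thirty moved points
  let φ : Fin 5 × Fin 3 × zpowers z → ↥(O x0 \ {e | q1 * e = e * q1}) := fun v =>
    ⟨q1 ^ (v.1 : ℕ) * (p ^ (v.2.1 : ℕ) * e0 * (p ^ (v.2.1 : ℕ))⁻¹) * (q1 ^ (v.1 : ℕ))⁻¹ * v.2.2,
      Omul _ _ v.2.2.2 _ (Oconj _ _ (pow_mem hq1 _) (by rw [c.val_pow (c.cen_le_H0 hq1)]; exact pow_mem hq1N _) _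
        (Oconj _ _ (hpN _).1 (hpN _).2 _ he0O)), fun h => hmove (by
        set g := q1 ^ (v.1 : ℕ) * p ^ (v.2.1 : ℕ) with hg
        have hgc : g ∈ c.cen := mul_mem (pow_mem hq1 _) (hpN _).1
        have hgq : Commute q1 g := (Commute.self_pow q1 _).mul_right (hcomm.pow_right _)
        have h' : q1 * (g * e0 * g⁻¹ * v.2.2) = g * e0 * g⁻¹ * v.2.2 * q1 := by
          rw [hg]
          simp only [Set.mem_setOf_eq] at h
          simpa [mul_assoc] using h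
        refine ⟨hq1, ?_⟩
        have h'' : q1 * (g * e0 * g⁻¹) = g * e0 * g⁻¹ * q1 := by
          refine mul_right_cancel (b := (v.2.2 : G)) ?_
          rw [mul_assoc, h', mul_assoc, ← c.Z_comm hq1.1 v.2.2.2, ← mul_assoc]
        rw [show q1 * e0 * q1⁻¹ * e0⁻¹ = g⁻¹ * (q1 * (g * e0 * g⁻¹)) * q1⁻¹ * g * e0⁻¹ by
          rw [show q1 * (g * e0 * g⁻¹) = (q1 * g) * e0 * g⁻¹ by group, hgq.eq,
            show g⁻¹ * (g * q1 * e0 * g⁻¹) * q1⁻¹ * g = q1 * e0 * (g⁻¹ * q1⁻¹ * g) by group,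
            show g⁻¹ * q1⁻¹ * g = q1⁻¹ by rw [mul_assoc, hgq.inv_left.eq, inv_mul_cancel_left]], h'']
        simp [mul_assoc])⟩
  have hφ : Function.Injective φ := by
    rintro ⟨i, j, t, ht⟩ ⟨i', j', t', ht'⟩ heq
    have hval := congrArg Subtype.val heq
    simp only [φ] at hval
    set g := q1 ^ (i : ℕ) * p ^ (j : ℕ) with hg
    set g' := q1 ^ (i' : ℕ) * p ^ (j' : ℕ) with hg'
    have hgc : g ∈ c.cen := mul_mem (pow_mem hq1 _) (hpN _).1
    have hgc' : g' ∈ c.cen := mul_mem (pow_mem hq1 _) (hpN _).1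
    have h1 : g * e0 * g⁻¹ * t = g' * e0 * g'⁻¹ * t' := by
      rw [hg, hg']; simpa [mul_assoc] using hval
    set y := g⁻¹ * g' with hy
    have hyc : y ∈ c.cen := mul_mem (inv_mem hgc) hgc'
    have hye : y * e0 * y⁻¹ = e0 * (t * t') := by
      calc y * e0 * y⁻¹ = g⁻¹ * (g' * e0 * g'⁻¹ * t') * g⁻¹⁻¹ * (g⁻¹ * t'⁻¹ * g⁻¹⁻¹) := by rw [hy]; group
        _ = g⁻¹ * (g * e0 * g⁻¹ * t) * g⁻¹⁻¹ * (g⁻¹ * t'⁻¹ * g⁻¹⁻¹) := by rw [h1]
        _ = e0 * (g⁻¹ * t * g⁻¹⁻¹) * (g⁻¹ * t'⁻¹ * g⁻¹⁻¹) := by group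
        _ = e0 * (t * t') := by
          rw [c.Z_conj (inv_mem hgc.1) ht, c.Z_conj (inv_mem hgc.1) (inv_mem ht'), c.Z_inv ht', mul_assoc]
    have hys : y ∈ c.stab e0 := ⟨hyc, by
      rw [hye, c.Z_comm (c.Ez he0E) (mul_mem ht ht'), mul_inv_cancel_right]; exact mul_mem ht ht'⟩
    -- split y
    set a : ℕ := 5 - i + i' with ha
    set b : ℕ := 3 - j + j' with hb
    have hcij : Commute (q1 ^ a) (p ^ b) := hcomm.pow_pow _ _
    have p3 : p ^ 3 = 1 := by rw [pow_succ, sq]; exact c.P_cube hp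
    have hi5 : (q1 ^ (i : ℕ))⁻¹ = q1 ^ (5 - (i : ℕ)) := by
      refine inv_eq_of_mul_eq_one_right ?_
      rw [← pow_add, Nat.add_sub_cancel' (le_of_lt i.2), hq15]
    have hj3 : (p ^ (j : ℕ))⁻¹ = p ^ (3 - (j : ℕ)) := by
      refine inv_eq_of_mul_eq_one_right ?_
      rw [← pow_add, Nat.add_sub_cancel' (le_of_lt j.2), p3]
    have hyab : y = q1 ^ a * p ^ b := by
      rw [hy, hg, hg', mul_inv_rev, hi5, hj3, ha, hb, pow_add, pow_add]
      calc p ^ (3 - (j : ℕ)) * q1 ^ (5 - (i : ℕ)) * (q1 ^ (i' : ℕ) * p ^ (j' : ℕ))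
          = p ^ (3 - (j : ℕ)) * (q1 ^ (5 - (i : ℕ)) * q1 ^ (i' : ℕ)) * p ^ (j' : ℕ) := by group
        _ = q1 ^ (5 - (i : ℕ)) * q1 ^ (i' : ℕ) * (p ^ (3 - (j : ℕ)) * p ^ (j' : ℕ)) := by
          rw [← pow_add q1, (hcomm.pow_pow _ _).symm.eq, mul_assoc]
    have hy3 : (q1 ^ a) ^ 3 ∈ c.stab e0 := by
      have h := pow_mem hys 3
      rwa [hyab, hcij.mul_pow, ← pow_mul p, mul_comm b 3, pow_mul, p3, one_pow, mul_one] at h
    have hy5 : (p ^ b) ^ 5 ∈ c.stab e0 := by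
      have h := pow_mem hys 5
      rwa [hyab, hcij.mul_pow, ← pow_mul q1, mul_comm a 5, pow_mul, hq15, one_pow, one_mul] at h
    have ha5 : a % 5 = 0 := by
      by_contra hne
      refine hmove ?_
      obtain ⟨r, hr⟩ : ∃ r, a * 3 * r % 5 = 1 := by
        have : a % 5 < 5 := Nat.mod_lt _ (by norm_num)
        refine ⟨if a % 5 = 1 then 2 else if a % 5 = 2 then 1 else if a % 5 = 3 then 4 else 3, ?_⟩
        rw [Nat.mul_mod, Nat.mul_mod a 3]
        interval_cases h : a % 5 <;> first | exact absurd rfl hne | simp [h]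
      have h := pow_mem hy3 r
      rwa [← pow_mul, ← pow_mul, ← Nat.div_add_mod (a * (3 * r)) 5, pow_add, pow_mul, hq15, one_pow, one_mul,
        ← mul_assoc, hr, pow_one] at h
    have hb3 : b % 3 = 0 := by
      by_contra hne
      refine he0Z (c.fixed_mem_Z hp hgen he0E ?_)
      obtain ⟨r, hr⟩ : ∃ r, b * 5 * r % 3 = 1 := by
        have : b % 3 < 3 := Nat.mod_lt _ (by norm_num)
        refine ⟨if b % 3 = 1 then 2 else 1, ?_⟩
        rw [Nat.mul_mod, Nat.mul_mod b 5]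
        interval_cases h : b % 3 <;> first | exact absurd rfl hne | simp [h]
      have h := pow_mem hy5 r
      rw [← pow_mul, ← pow_mul, ← Nat.div_add_mod (b * (5 * r)) 3, pow_add, pow_mul, p3, one_pow, one_mul,
        ← mul_assoc, hr, pow_one] at h
      exact h.2
    have hi := i.2
    have hi' := i'.2
    have hj := j.2
    have hj' := j'.2
    obtain rfl : i = i' := Fin.ext (by omega)
    obtain rfl : j = j' := Fin.ext (by omega)
    obtain rfl : t = t' := mul_left_cancel h1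
    rfl
  have hcard30 : Nat.card ↥(O x0 \ {e | q1 * e = e * q1}) = 30 := by
    rw [Nat.card_coe_set_eq]
    have h := Set.ncard_inter_add_ncard_sdiff_eq_ncard (O x0) {e | q1 * e = e * q1} (Set.toFinite _)
    rw [← hT, hT6, ← Nat.card_coe_set_eq (O x0), hO36] at h
    omega
  have hφs : Function.Surjective φ := ((Nat.bijective_iff_injective_and_card φ).mpr
    ⟨hφ, by rw [Nat.card_prod, Nat.card_prod, Nat.card_fin, Nat.card_fin, c.card_Z, hcard30]⟩).2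
  -- x0 is none of them, nor fixed
  have hA3le : m.AThree ≤ c.image (c.stab x0) := c.image_stab_hex m.hexThree hx0F
  have hqx0 : m.q ∈ c.image (c.stab x0) := c.mem_image.mpr ⟨d.q, d.qc, ⟨d.qc, by
    rw [(d.mem_D.mp (d.fixA_le _ hx0)).2, mul_inv_cancel_right, mul_inv_cancel]; exact one_mem _⟩, d.qv⟩
  have hx0E : x0 ∈ E := c.fixB_le _ hx0F
  by_cases hx0fix : q1 * x0 = x0 * q1
  · exact hx0Z (c.fixed_nine m.hexThree hx0E (m.genOrb _ hA3le hqx0 (c.mem_image.mpr ⟨q1, hq1, ⟨hq1, by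
      rw [hx0fix, mul_inv_cancel_right, mul_inv_cancel]; exact one_mem _⟩, hq1v⟩)))
  obtain ⟨⟨i, j, t⟩, hv⟩ := hφs ⟨x0, Oself x0, hx0fix⟩
  set g := q1 ^ (i : ℕ) * p ^ (j : ℕ) with hg
  have hx0eq : g * e0 * g⁻¹ * t = x0 := by
    have h := congrArg Subtype.val hv
    simp only [φ] at h
    rw [hg, ← h]; simp [mul_assoc]
  have hgc : g ∈ c.cen := mul_mem (pow_mem hq1 _) (hpN _).1
  set y := q1 ^ (i : ℕ) * y1 * (q1 ^ (i : ℕ))⁻¹ with hy
  have hyg : y = g * y1 * g⁻¹ := by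
    rw [hy, hg, show q1 ^ (i : ℕ) * p ^ (j : ℕ) * y1 * (q1 ^ (i : ℕ) * p ^ (j : ℕ))⁻¹ =
      q1 ^ (i : ℕ) * (p ^ (j : ℕ) * y1 * (p ^ (j : ℕ))⁻¹) * (q1 ^ (i : ℕ))⁻¹ by group,
      ← c.cen_comm hy1c (pow_mem hp _), mul_inv_cancel_right]
  have hyc : y ∈ c.cen := mul_mem (mul_mem (pow_mem hq1 _) hy1c) (inv_mem (pow_mem hq1 _))
  have hys : y ∈ c.stab x0 := by
    refine ⟨hyc, ?_⟩
    set w1 := y1 * e0 * y1⁻¹ * e0⁻¹ with hw1
    have hw1Z : w1 ∈ zpowers z := hy1e.2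
    have e1 : y * x0 * y⁻¹ = w1 * x0 := by
      calc y * x0 * y⁻¹ = g * y1 * g⁻¹ * (g * e0 * g⁻¹ * (t : G)) * (g * y1 * g⁻¹)⁻¹ := by rw [hx0eq, hyg]
        _ = g * (w1 * e0) * g⁻¹ * (g * y1 * g⁻¹ * (t : G) * (g * y1 * g⁻¹)⁻¹) := by rw [hw1]; group
        _ = g * w1 * g⁻¹ * (g * e0 * g⁻¹) * (t : G) := by
          rw [c.Z_conj (hyg ▸ hyc.1) t.2]; group
        _ = w1 * x0 := by rw [c.Z_conj hgc.1 hw1Z, mul_assoc, hx0eq]
    rw [e1, mul_inv_cancel_right]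
    exact hw1Z
  exact hx0Z (c.fixed_nine m.hexThree hx0E (m.genOrbit i i.2 _ hA3le hqx0 (c.mem_image.mpr ⟨y, hyc, hys, by
    rw [hy, c.val_conj (c.cen_le_H0 (pow_mem hq1 _)) (c.cen_le_H0 hy1c), c.val_pow (c.cen_le_H0 hq1), hq1v, hy1v]⟩)))

/-- An element centralizing q moving z into the fixed points. -/
theorem exists_mover [IsSimpleGroup G] (hG : ¬ IsMulCommutative G) :
    ∃ n : G, n * d.q = d.q * n ∧ n * z * n⁻¹ ∈ d.D ∧ n * z * n⁻¹ ≠ z := by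
  obtain ⟨u, hu, huZ, g, hg⟩ := d.exists_fused hG
  set y := g⁻¹ * d.q * g with hy
  have hyH : y ∈ centralizer ({z} : Set G) := mem_centralizer_singleton_iff.mpr (by
    calc y * z = g⁻¹ * (d.q * u) * g := by rw [hy, ← hg]; group
      _ = z * y := by rw [(d.mem_D.mp hu).2, hy, ← hg]; group)
  have hy5 : y ^ 5 = 1 := by
    rw [hy, show g⁻¹ * d.q * g = g⁻¹ * d.q * g⁻¹⁻¹ by group, conj_pow, d.q5, mul_one, mul_inv_cancel]
  have hy1 : y ≠ 1 := fun h => d.q1 (by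
    calc d.q = g * y * g⁻¹ := by rw [hy]; group
      _ = 1 := by rw [h]; group)
  obtain ⟨h, hh, k, hk, hk0, hk'⟩ := d.five_conj hyH hy5 hy1
  set n0 := g * h⁻¹ with hn0
  have hn0z : n0 * z * n0⁻¹ = u := by
    calc n0 * z * n0⁻¹ = g * (h⁻¹ * z * h⁻¹⁻¹) * g⁻¹ := by rw [hn0]; group
      _ = u := by rw [c.Z_conj (inv_mem hh) (mem_zpowers z), hg]
  have hn0q : n0 * d.q ^ k * n0⁻¹ = d.q := by rw [← hk', hn0, hy]; group
  -- a power of ν conjugates q to its k-th power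
  have hν : ∀ j : ℕ, d.ν ^ j * d.q * (d.ν ^ j)⁻¹ = d.q ^ (2 ^ j) := by
    intro j
    induction j with
    | zero => simp
    | succ j ih =>
      calc d.ν ^ (j + 1) * d.q * (d.ν ^ (j + 1))⁻¹ = d.ν * (d.ν ^ j * d.q * (d.ν ^ j)⁻¹) * d.ν⁻¹ := by
            rw [pow_succ']; group
        _ = d.q ^ (2 ^ (j + 1)) := by rw [ih, ← conj_pow, d.νq, ← pow_mul, ← pow_succ']
  obtain ⟨j, hj⟩ : ∃ j, 2 ^ j % 5 = k := by
    interval_cases k
    exacts [absurd rfl hk0, ⟨0, rfl⟩, ⟨1, rfl⟩, ⟨3, rfl⟩, ⟨2, rfl⟩]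
  have hνj : d.ν ^ j * d.q * (d.ν ^ j)⁻¹ = d.q ^ k := by
    rw [hν j, ← Nat.div_add_mod (2 ^ j) 5, pow_add, pow_mul, d.q5, one_pow, one_mul, hj]
  refine ⟨n0 * d.ν ^ j, mul_inv_eq_iff_eq_mul.mp ?_, ?_⟩
  · rw [show n0 * d.ν ^ j * d.q * (n0 * d.ν ^ j)⁻¹ = n0 * (d.ν ^ j * d.q * (d.ν ^ j)⁻¹) * n0⁻¹ by group, hνj, hn0q]
  · have e : n0 * d.ν ^ j * z * (n0 * d.ν ^ j)⁻¹ = u := by
      rw [show n0 * d.ν ^ j * z * (n0 * d.ν ^ j)⁻¹ = n0 * (d.ν ^ j * z * (d.ν ^ j)⁻¹) * n0⁻¹ by group,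
        c.Z_conj (pow_mem d.νc.1 j) (mem_zpowers z), hn0z]
    rw [e]
    exact ⟨hu, fun h => huZ (h ▸ mem_zpowers z)⟩

end FiveData5

end CfsgLib.JankoFour
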