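/-
The fixed points on E of elements of order seven and eleven.
-/
import Cfsg.Agent.Lib.JankoFour.FiveFusion
import Cfsg.Agent.Lib.JankoFour.M22Three

set_option autoImplicit false

namespace CfsgLib.JankoFour

open Cfsg Subgroup
open scoped commutatorElement

universe u

variable {G : Type u} [Group G] [Finite G] {z : G} {P E : Subgroup G}

theorem card_inv_congr {S : Finset G} [DecidableEq G] [Fintype G] {a : G} {p : ℕ} (hp : p.Prime) (ha : a ^ p = 1)
    (hS : ∀ x ∈ S, a * x * a⁻¹ ∈ S) : S.card ≡ (S.filter fun x => a * x * a⁻¹ = x).card [MOD p] :=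
  fix_count (MulAut.conj a).toEquiv S hS hp (by
    ext x
    have h : ∀ n : ℕ, ((MulAut.conj a).toEquiv ^ n) x = a ^ n * x * (a ^ n)⁻¹ := by
      intro n
      induction n with
      | zero => simp
      | succ n ih =>
        rw [pow_succ', Equiv.Perm.mul_apply, ih]
        show a * (a ^ n * x * (a ^ n)⁻¹) * a⁻¹ = _
        rw [pow_succ']; group
    rw [h, ha]; simp)

namespace Ctx

/-- The iterated product over the orbit of an element. -/
def orbProd (e f : G) : ℕ → G
  | 0 => 1
  | n + 1 => f * (e * orbProd e f n * e⁻¹)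

theorem orbProd_mem (c : Ctx z P E) {e f : G} (he : e ∈ centralizer ({z} : Set G)) (hf : f ∈ E) :
    ∀ n, orbProd e f n ∈ E
  | 0 => one_mem _
  | n + 1 => mul_mem hf (c.conj_E he (c.orbProd_mem he hf n))

theorem orbProd_shift (e f : G) : ∀ n, orbProd e f (n + 1) = orbProd e f n * (e ^ n * f * (e ^ n)⁻¹)
  | 0 => by simp [orbProd]
  | n + 1 => by
    conv_lhs => rw [orbProd, orbProd_shift e f n]
    rw [orbProd, pow_succ']
    group

/-- An element commuting with all fixed points of a coprime element and fixed by it is central. -/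
theorem fix_center (c : Ctx z P E) {e : G} {p : ℕ} (hp : Odd p) (he : e ∈ centralizer ({z} : Set G)) (hep : e ^ p = 1)
    {a : G} (ha : a ∈ E) (hea : e * a = a * e) (hc : ∀ b ∈ E, e * b = b * e → b * a = a * b) : a ∈ zpowers z := by
  obtain ⟨hz, hext⟩ := c.extE
  have key : ∀ f ∈ E, ⁅a, f⁆ = 1 := by
    intro f hf
    have hFm := c.orbProd_mem he hf
    set F := orbProd e f p with hF
    set g := e * F * e⁻¹
    have hFE : F ∈ E := hFm p
    -- F is fixed modulo the centre
    have h1 : f * g = F * f := by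
      have h : orbProd e f (p + 1) = F * (e ^ p * f * (e ^ p)⁻¹) := orbProd_shift e f p
      rw [hep, one_mul, inv_one, mul_one] at h
      exact h
    set t := f⁻¹ * F * f * F⁻¹
    have ht : t ∈ zpowers z := by
      have := c.comm_mem_Z (inv_mem hf) hFE
      rwa [inv_inv] at this
    have h2 : g = t * F := by
      calc g = f⁻¹ * (f * g) := by group
        _ = t * F := by rw [h1]; simp only [t]; group
    have hpow : ∀ k : ℕ, e ^ k * F * (e ^ k)⁻¹ = t ^ k * F := by
      intro k
      induction k with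
      | zero => simp
      | succ k ih =>
        calc e ^ (k + 1) * F * (e ^ (k + 1))⁻¹ = e * (e ^ k * F * (e ^ k)⁻¹) * e⁻¹ := by rw [pow_succ']; group
          _ = (e * t ^ k * e⁻¹) * g := by rw [ih]; simp only [g]; group
          _ = t ^ (k + 1) * F := by rw [c.Z_conj he (pow_mem ht k), h2, pow_succ, mul_assoc (t ^ k)]
    have t1 : t = 1 := by
      have h := hpow p
      rw [hep, one_mul, inv_one, mul_one] at h
      obtain ⟨k, hk⟩ := hp
      have h' : t ^ p = 1 := mul_eq_right.mp h.symm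
      rwa [hk, pow_succ, pow_mul, sq, c.Z_sq ht, one_pow, one_mul] at h'
    have hfix : e * F = F * e := mul_inv_eq_iff_eq_mul.mp (by rw [t1, one_mul] at h2; exact h2)
    have hFa : ⁅a, F⁆ = 1 := commutatorElement_eq_one_iff_mul_comm.mpr (hc F hFE hfix).symm
    have hn : ∀ n, ⁅a, orbProd e f n⁆ = ⁅a, f⁆ ^ n := by
      intro n
      induction n with
      | zero => simp [orbProd, commutatorElement_def]
      | succ n ih =>
        rw [orbProd, c.comm_mul_right hf (c.conj_E he (hFm n)) ha, pow_succ']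
        congr 1
        have : e * a * e⁻¹ = a := mul_inv_eq_iff_eq_mul.mpr hea
        conv_lhs => rw [← this]
        rw [c.conj_comm he ha (hFm n), ih]
    have := hn p
    rw [← hF, hFa] at this
    obtain ⟨k, hk⟩ := hp
    rwa [hk, pow_succ, pow_mul, sq, c.Z_sq (c.comm_E ha hf), one_pow, one_mul, eq_comm] at this
  have hcen : (⟨a, ha⟩ : E) ∈ center E := Subgroup.mem_center_iff.mpr fun b => Subtype.ext
    (commutatorElement_eq_one_iff_mul_comm.mp (key b b.2)).symm
  rcases (hext.center_iff _).mp hcen with h | h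
  · rw [show a = 1 from congrArg Subtype.val h]; exact one_mem _
  · rw [show a = z from congrArg Subtype.val h]; exact mem_zpowers _

/-- The fixed points on a subgroup of E invariant under P. -/
theorem fix_card (c : Ctx z P E) {e : G} {p : ℕ} (hp : p.Prime) (he : e ∈ c.cen) (hep : e ^ p = 1) {W : Subgroup G}
    (hWE : W ≤ E) (hZW : zpowers z ≤ W) (hWe : ∀ w ∈ W, e * w * e⁻¹ ∈ W) (hWP : ∀ q ∈ P, ∀ w ∈ W, q * w * q⁻¹ ∈ W) :
    ∃ i ≤ 6, ∃ j ≤ 6, Nat.card W = 2 ^ (2 * i + 1) ∧
      Nat.card ↥(W ⊓ centralizer ({e} : Set G)) = 2 ^ (2 * j + 1) ∧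
      2 ^ (2 * i + 1) ≡ 2 ^ (2 * j + 1) [MOD p] := by
  classical
  haveI : Fintype G := Fintype.ofFinite G
  set C := W ⊓ centralizer ({e} : Set G)
  obtain ⟨i, hi, hiW⟩ := c.card_cases hWE hZW hWP
  obtain ⟨j, hj, hjC⟩ := c.card_cases (inf_le_left.trans hWE : C ≤ E) (le_inf hZW (zpowers_le.mpr
    (mem_centralizer_singleton_iff.mpr (c.Z_comm he.1 (mem_zpowers z)).symm))) (fun q hq w hw =>
      ⟨hWP q hq w hw.1, mem_centralizer_singleton_iff.mpr (by
        have h1 : Commute q e := (c.cen_comm he hq).symm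
        have h2 : Commute w e := mem_centralizer_singleton_iff.mp hw.2
        exact ((h1.mul_left h2).mul_left h1.inv_left).eq)⟩)
  refine ⟨i, hi, j, hj, hiW, hjC, ?_⟩
  set S : Finset G := Finset.univ.filter (fun x => x ∈ W) with hS
  have h := card_inv_congr hp hep (S := S) (fun x hx => by
    simp only [S, Finset.mem_filter, Finset.mem_univ, true_and] at hx ⊢
    exact hWe x hx)
  have h1 : S.card = Nat.card W := by rw [Nat.card_eq_fintype_card, Fintype.card_subtype]
  have h2 : (S.filter fun x => e * x * e⁻¹ = x).card = Nat.card C := by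
    rw [Nat.card_eq_fintype_card, Fintype.card_subtype, Finset.filter_filter]
    congr 1
    ext x
    simp only [C, Finset.mem_filter, Finset.mem_univ, true_and, mem_inf, mem_centralizer_singleton_iff]
    exact and_congr_right fun _ => mul_inv_eq_iff_eq_mul.trans eq_comm
  rwa [h1, h2, hiW, hjC] at h

theorem fix_ne_all (c : Ctx z P E) {e : G} (he : e ∈ c.cen) (he1 : c.val e ≠ 1) :
    Nat.card ↥(E ⊓ centralizer ({e} : Set G)) ≠ 2 ^ 13 := fun h => by
  have heq : E ⊓ centralizer ({e} : Set G) = E := eq_of_le_of_card_ge inf_le_left (by rw [h, c.hE])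
  exact he1 (c.val_E (c.cent e he.1 fun f hf => mem_centralizer_singleton_iff.mp ((SetLike.ext_iff.mp heq f).mpr hf).2))

/-- An element of order eleven fixes at most a quaternion or dihedral group on E. -/
theorem eleven_fix (c : Ctx z P E) {e : G} (he : e ∈ c.cen) (he11 : e ^ 11 = 1) (he1 : c.val e ≠ 1) :
    Nat.card ↥(E ⊓ centralizer ({e} : Set G)) = 8 ∧
      ∃ a ∈ E ⊓ centralizer ({e} : Set G), ∃ b ∈ E ⊓ centralizer ({e} : Set G), a * b ≠ b * a := by
  obtain ⟨i, hi, j, hj, hiW, hjC, hm⟩ := c.fix_card (by norm_num : Nat.Prime 11) he he11 le_rfl c.Z_le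
    (fun w hw => c.conj_E he.1 hw) (fun q hq w hw => c.conj_E (c.P_le hq) hw)
  obtain rfl : i = 6 := by
    rw [c.hE] at hiW
    have := Nat.pow_right_injective le_rfl hiW
    omega
  have hne := c.fix_ne_all he he1
  rw [hjC] at hne
  obtain rfl : j = 1 := by
    unfold Nat.ModEq at hm
    interval_cases j <;> first | rfl | (exfalso; norm_num at hm; done) | exact absurd rfl hne
  refine ⟨hjC, ?_⟩
  by_contra hall
  push Not at hall
  have hle : E ⊓ centralizer ({e} : Set G) ≤ zpowers z := fun a ha =>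
    c.fix_center (p := 11) (by decide) he.1 he11 ha.1 (mem_centralizer_singleton_iff.mp ha.2).symm fun b hb hbe =>
      hall b ⟨hb, mem_centralizer_singleton_iff.mpr hbe.symm⟩ a ha
  have := card_le_of_le hle
  rw [hjC, c.card_Z] at this
  norm_num at this

/-- The signs of the squares on a subgroup with centre Z sum to a square root of twice its order. -/
theorem sign_sum (c : Ctx z P E) [Fintype G] [DecidableEq G] {W : Subgroup G} [DecidablePred (· ∈ W)] (hWE : W ≤ E) (hZW : zpowers z ≤ W)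
    (hcen : ∀ a ∈ W, (∀ b ∈ W, b * a = a * b) → a ∈ zpowers z) :
    (∑ a ∈ Finset.univ.filter (fun x => x ∈ W), (if a * a = 1 then (1 : ℤ) else -1)) ^ 2 = 2 * Nat.card W := by
  classical
  set S : Finset G := Finset.univ.filter fun x => x ∈ W with hS
  have mS : ∀ {x : G}, x ∈ S ↔ x ∈ W := by intro x; simp [hS]
  set σ : G → ℤ := fun t => if t = 1 then 1 else -1
  have σm : ∀ a ∈ zpowers z, ∀ b ∈ zpowers z, σ (a * b) = σ a * σ b := fun a ha b hb => by
    rcases c.mem_Z.mp ha with rfl | rfl <;> rcases c.mem_Z.mp hb with rfl | rfl <;>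
      simp [σ, c.zz, c.z_ne_one]
  have hsq : ∀ a ∈ W, ∀ d ∈ W, σ (a * a) * σ (a * d * (a * d)) = σ (d * d) * σ ⁅a, d⁆ := by
    intro a ha d hd
    have s1 := c.sq_mem_Z (hWE ha)
    have s2 := c.sq_mem_Z (hWE hd)
    have s3 := c.comm_E (hWE ha) (hWE hd)
    have e : a * d * (a * d) = ⁅a, d⁆ * ((d * d) * (a * a)) := by
      have h : (d * a) * (a * d) = (d * d) * (a * a) := by
        rw [show d * a * (a * d) = d * ((a * a) * d) by group, ← c.Z_comm (c.Ez (hWE hd)) s1, ← mul_assoc]
      rw [← h, commutatorElement_def]; group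
    rw [e, σm _ s3 _ (mul_mem s2 s1), σm _ s2 _ s1]
    have hh : σ (a * a) * σ (a * a) = 1 := by simp only [σ]; split <;> norm_num
    calc σ (a * a) * (σ ⁅a, d⁆ * (σ (d * d) * σ (a * a))) = σ (a * a) * σ (a * a) * (σ (d * d) * σ ⁅a, d⁆) := by ring
      _ = σ (d * d) * σ ⁅a, d⁆ := by rw [hh, one_mul]
  have hzero : ∀ d ∈ W, d ∉ zpowers z → ∑ a ∈ S, σ ⁅a, d⁆ = 0 := by
    intro d hd hdZ
    obtain ⟨b, hb, hbd⟩ : ∃ b ∈ W, ⁅b, d⁆ ≠ 1 := by
      by_contra hall
      push Not at hall
      exact hdZ (hcen d hd fun b hb => commutatorElement_eq_one_iff_mul_comm.mp (hall b hb))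
    have hbz : ⁅b, d⁆ = z := (c.mem_Z.mp (c.comm_E (hWE hb) (hWE hd))).resolve_left hbd
    refine Finset.sum_involution (fun a _ => if ⁅a, d⁆ = 1 then b * a else b⁻¹ * a) ?_ ?_ ?_ ?_
    · intro a ha
      have ha' := mS.mp ha
      have hc := c.comm_E (hWE ha') (hWE hd)
      split
      · rw [c.comm_mul_left (hWE hb) (hWE ha') (hWE hd), σm _ (c.comm_E (hWE hb) (hWE hd)) _ hc, hbz]
        simp [σ, c.z_ne_one]; split <;> norm_num
      · rw [c.comm_mul_left (inv_mem (hWE hb)) (hWE ha') (hWE hd), c.comm_inv_left (hWE hb) (hWE hd),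
          σm _ (c.comm_E (hWE hb) (hWE hd)) _ hc, hbz]
        simp [σ, c.z_ne_one]; split <;> norm_num
    · intro a ha _
      have b1 : b ≠ 1 := fun e => hbd (by rw [e]; simp)
      split <;> simp [b1]
    · intro a ha
      have ha' := mS.mp ha
      refine mS.mpr ?_
      split
      exacts [mul_mem hb ha', mul_mem (inv_mem hb) ha']
    · intro a ha
      have ha' := mS.mp ha
      by_cases h : ⁅a, d⁆ = 1
      · simp only [if_pos h]
        rw [c.comm_mul_left (hWE hb) (hWE ha') (hWE hd), h, mul_one, if_neg hbd, inv_mul_cancel_left]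
      · simp only [if_neg h]
        have hz : ⁅a, d⁆ = z := (c.mem_Z.mp (c.comm_E (hWE ha') (hWE hd))).resolve_left h
        rw [c.comm_mul_left (inv_mem (hWE hb)) (hWE ha') (hWE hd), c.comm_inv_left (hWE hb) (hWE hd), hbz, hz, c.zz,
          if_pos rfl, mul_inv_cancel_left]
  calc (∑ a ∈ S, σ (a * a)) ^ 2 = ∑ a ∈ S, ∑ b ∈ S, σ (a * a) * σ (b * b) := by rw [sq, Finset.sum_mul_sum]
    _ = ∑ a ∈ S, ∑ d ∈ S, σ (d * d) * σ ⁅a, d⁆ := by
        refine Finset.sum_congr rfl fun a ha => ?_
        refine Finset.sum_bij' (fun b _ => a⁻¹ * b) (fun d _ => a * d)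
          (fun b hb => mS.mpr (mul_mem (inv_mem (mS.mp ha)) (mS.mp hb)))
          (fun d hd => mS.mpr (mul_mem (mS.mp ha) (mS.mp hd)))
          (fun b _ => by group) (fun d _ => by group) fun b hb => ?_
        rw [← hsq a (mS.mp ha) _ (mul_mem (inv_mem (mS.mp ha)) (mS.mp hb)), mul_inv_cancel_left]
    _ = ∑ d ∈ S, σ (d * d) * ∑ a ∈ S, σ ⁅a, d⁆ := by rw [Finset.sum_comm]; simp only [Finset.mul_sum]
    _ = ∑ d ∈ ({1, z} : Finset G), σ (d * d) * ∑ a ∈ S, σ ⁅a, d⁆ := by
        refine (Finset.sum_subset (fun x hx => mS.mpr (hZW ?_)) fun d hd hd' => ?_).symm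
        · simp only [Finset.mem_insert, Finset.mem_singleton] at hx
          exact c.mem_Z.mpr hx
        · rw [hzero d (mS.mp hd) (fun h => hd' (by simpa using c.mem_Z.mp h)), mul_zero]
    _ = 2 * Nat.card W := by
        have hZ : ∀ a ∈ S, ⁅a, z⁆ = 1 := fun a ha =>
          commutatorElement_eq_one_iff_mul_comm.mpr (c.Z_comm (c.Ez (hWE (mS.mp ha))) (mem_zpowers z))
        have hc : S.card = Nat.card W := by rw [hS, Nat.card_eq_fintype_card, Fintype.card_subtype]
        rw [Finset.sum_pair (Ne.symm c.z_ne_one)]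
        rw [Finset.sum_congr rfl (fun a ha => show σ ⁅a, z⁆ = 1 by rw [hZ a ha]; simp [σ]),
          Finset.sum_congr rfl (fun a _ => show σ ⁅a, (1 : G)⁆ = 1 by simp [σ, commutatorElement_def])]
        simp [σ, c.zz, hc]
        ring

/-- An element of order seven fixes only the centre on E. -/
theorem seven_fix (c : Ctx z P E) {r : G} (hr : r ∈ c.cen) (hr7 : r ^ 7 = 1) (hr1 : c.val r ≠ 1) :
    E ⊓ centralizer ({r} : Set G) = zpowers z := by
  classical
  haveI : Fintype G := Fintype.ofFinite G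
  have h7 : Nat.Prime 7 := by norm_num
  set C := E ⊓ centralizer ({r} : Set G) with hC
  have hZC : zpowers z ≤ C := le_inf c.Z_le (zpowers_le.mpr
    (mem_centralizer_singleton_iff.mpr (c.Z_comm hr.1 (mem_zpowers z)).symm))
  refine le_antisymm ?_ hZC
  obtain ⟨i, hi, j, hj, hiW, hjC, hm⟩ := c.fix_card h7 hr hr7 le_rfl c.Z_le
    (fun w hw => c.conj_E hr.1 hw) (fun q hq w hw => c.conj_E (c.P_le hq) hw)
  obtain rfl : i = 6 := by
    rw [c.hE] at hiW
    have := Nat.pow_right_injective le_rfl hiW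
    omega
  have hne := c.fix_ne_all hr hr1
  rw [hjC] at hne
  rcases Nat.eq_zero_or_pos j with rfl | hj0
  · exact (eq_of_le_of_card_ge hZC (by rw [c.card_Z, hjC]; norm_num)).ge
  exfalso
  have hcC : ∀ {x : G}, x ∈ C ↔ x ∈ E ∧ r * x = x * r := fun {x} => by
    rw [hC, mem_inf, mem_centralizer_singleton_iff]; exact and_congr_right fun _ => eq_comm
  set W := E ⊓ centralizer (C : Set G)
  have hrC : ∀ x ∈ C, r * x * r⁻¹ = x := fun x hx => mul_inv_eq_iff_eq_mul.mpr (hcC.mp hx).2
  have hmove : ∀ {g : G}, g ∈ centralizer ({z} : Set G) → (∀ x ∈ C, g⁻¹ * x * g ∈ C) → ∀ w ∈ W, g * w * g⁻¹ ∈ W :=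
    fun {g} hg hgC w hw => c.cent_conj hg hgC hw
  have hWr : ∀ w ∈ W, r * w * r⁻¹ ∈ W := hmove hr.1 fun x hx => by
    have h := (hcC.mp hx).2
    rw [mul_assoc, ← h, inv_mul_cancel_left]; exact hx
  have hCP : ∀ q ∈ P, ∀ x ∈ C, q * x * q⁻¹ ∈ C := fun q hq x hx => hcC.mpr ⟨c.conj_E (c.P_le hq) (hcC.mp hx).1, by
    have h1 : Commute r q := c.cen_comm hr hq
    have h2 : Commute r x := (hcC.mp hx).2
    exact ((h1.mul_right h2).mul_right h1.inv_right).eq⟩
  have hWP : ∀ q ∈ P, ∀ w ∈ W, q * w * q⁻¹ ∈ W := fun q hq => hmove (c.P_le hq) fun x hx => by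
    have := hCP q⁻¹ (inv_mem hq) x hx
    rwa [inv_inv] at this
  have hZW : zpowers z ≤ W := fun t ht => ⟨c.Z_le ht, mem_centralizer_iff.mpr fun x hx =>
    c.Z_comm (c.Ez (hcC.mp hx).1) ht⟩
  have hWC : ∀ w ∈ W, r * w = w * r → w ∈ zpowers z := fun w hw hwr =>
    c.fix_center (p := 7) (by decide) hr.1 hr7 hw.1 hwr fun b hb hbr =>
      mem_centralizer_iff.mp hw.2 b (hcC.mpr ⟨hb, hbr⟩)
  obtain ⟨a, ha, b, hb, hWa, hWb, hm'⟩ := c.fix_card h7 hr hr7 inf_le_left hZW hWr hWP
  have hWb2 : W ⊓ centralizer ({r} : Set G) = zpowers z := le_antisymm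
    (fun w hw => hWC w hw.1 (mem_centralizer_singleton_iff.mp hw.2).symm)
    (le_inf hZW (zpowers_le.mpr (mem_centralizer_singleton_iff.mpr (c.Z_comm hr.1 (mem_zpowers z)).symm)))
  rw [hWb2, c.card_Z] at hWb
  obtain rfl : b = 0 := by
    have := Nat.pow_right_injective le_rfl (show 2 ^ 1 = 2 ^ (2 * b + 1) by rw [pow_one]; exact hWb)
    omega
  -- the shifts lie in W
  have hshift : ∀ f ∈ E, f⁻¹ * (r * f * r⁻¹) ∈ W := fun f hf =>
    mem_inf.mpr ⟨E.mul_mem (E.inv_mem hf) (c.conj_E hr.1 hf), mem_centralizer_iff.mpr fun x hx =>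
      c.comm_shift hr.1 (hcC.mp hx).1 hf (hcC.mp hx).2⟩
  have hWbig : Nat.card W ≠ 2 := by
    intro h
    have hWZ : W = zpowers z := (eq_of_le_of_card_ge hZW (by rw [h, c.card_Z])).symm
    have hall : ∀ f ∈ E, r * f = f * r := by
      intro f hf
      have ht : f⁻¹ * (r * f * r⁻¹) ∈ zpowers z := hWZ ▸ hshift f hf
      set t := f⁻¹ * (r * f * r⁻¹)
      have hft : r * f * r⁻¹ = f * t := by simp only [t]; group
      have hpow : ∀ k : ℕ, r ^ k * f * (r ^ k)⁻¹ = f * t ^ k := by
        intro k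
        induction k with
        | zero => simp
        | succ k ih =>
          calc r ^ (k + 1) * f * (r ^ (k + 1))⁻¹ = r * (r ^ k * f * (r ^ k)⁻¹) * r⁻¹ := by rw [pow_succ']; group
            _ = (r * f * r⁻¹) * (r * t ^ k * r⁻¹) := by rw [ih]; group
            _ = f * t ^ (k + 1) := by rw [hft, c.Z_conj hr.1 (pow_mem ht k), pow_succ', mul_assoc]
      have h7' := hpow 7
      rw [hr7, one_mul, inv_one, mul_one] at h7'
      have t1 : t ^ 7 = 1 := mul_eq_left.mp h7'.symm
      rw [show (7 : ℕ) = 2 * 3 + 1 from rfl, pow_succ, pow_mul, sq, c.Z_sq ht, one_pow, one_mul] at t1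
      rw [t1, mul_one] at hft
      exact mul_inv_eq_iff_eq_mul.mp hft
    exact hr1 (c.val_E (c.cent r hr.1 fun f hf => (hall f hf).symm))
  have hWcard : Nat.card W = 128 := by
    rw [hWa] at hWbig ⊢
    unfold Nat.ModEq at hm'
    interval_cases a <;> first | (exfalso; norm_num at hm'; done) | (exfalso; exact hWbig rfl) | skip
    · norm_num
    · exfalso
      -- W is everything: then C is central
      have hWE : W = E := eq_of_le_of_card_ge inf_le_left (by rw [hWa, c.hE])
      have : C ≤ zpowers z := fun x hx => hWC x (hWE.symm ▸ (hcC.mp hx).1) (hcC.mp hx).2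
      have h2 := card_le_of_le this
      rw [hjC, c.card_Z] at h2
      have : 2 ^ 3 ≤ 2 ^ (2 * j + 1) := Nat.pow_le_pow_right (by norm_num) (by omega)
      omega
  have hcen : ∀ x ∈ W, (∀ y ∈ W, y * x = x * y) → x ∈ zpowers z := by
    intro x hx hxc
    -- x commutes with the fixed points and with the shifts
    refine hWC x hx ?_
    by_contra hne'
    obtain ⟨hz0, hext⟩ := c.extE
    have key : ∀ f ∈ E, f * x = x * f := fun f hf => by
      have hc1 : ∀ y ∈ C, y * x = x * y := fun y hy => mem_centralizer_iff.mp hx.2 y hy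
      set T := centralizer ({x} : Set G)
      have hC_T : C ≤ T := fun y hy => mem_centralizer_singleton_iff.mpr (hc1 y hy)
      have hW_T : W ≤ T := fun y hy => mem_centralizer_singleton_iff.mpr (hxc y hy)
      have hF := c.orbProd_mem hr.1 hf
      -- the orbit product is fixed by r, and differs from f by shifts
      have hstep : ∀ n, (f ^ n)⁻¹ * Ctx.orbProd r f n ∈ W := by
        intro n
        induction n with
        | zero => simp [orbProd]
        | succ n ih =>
          have hfn : f ^ n ∈ E := pow_mem hf n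
          have h1 := hshift _ hfn
          have h2 := hWr _ ih
          have e : (f ^ (n + 1))⁻¹ * Ctx.orbProd r f (n + 1) =
              ((f ^ n)⁻¹ * (r * f ^ n * r⁻¹)) * (r * ((f ^ n)⁻¹ * Ctx.orbProd r f n) * r⁻¹) := by
            rw [orbProd, pow_succ']; group
          rw [e]; exact mul_mem h1 h2
      have h7F : Ctx.orbProd r f 7 ∈ E := hF 7
      have hfix : Ctx.orbProd r f 7 ∈ T := by
        have hsh : Ctx.orbProd r f 8 = Ctx.orbProd r f 7 * f := by
          rw [orbProd_shift, hr7, one_mul, inv_one, mul_one]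
        set F := Ctx.orbProd r f 7
        have hs2 : f * (r * F * r⁻¹) = F * f := hsh
        have e : F⁻¹ * (r * F * r⁻¹) = F⁻¹ * (f⁻¹ * F * f) := by
          calc F⁻¹ * (r * F * r⁻¹) = F⁻¹ * (f⁻¹ * (f * (r * F * r⁻¹))) := by group
            _ = F⁻¹ * (f⁻¹ * F * f) := by rw [hs2]; group
        have ht : F⁻¹ * (r * F * r⁻¹) ∈ zpowers z := by
          rw [e]
          have := c.comm_mem_Z (inv_mem h7F) (inv_mem hf)
          rwa [inv_inv, inv_inv, mul_assoc F⁻¹ f⁻¹ F, mul_assoc] at this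
        have hFfix : F⁻¹ * (r * F * r⁻¹) = 1 := by
          set t := F⁻¹ * (r * F * r⁻¹)
          have hft : r * F * r⁻¹ = F * t := by simp only [t]; group
          have hpow : ∀ k : ℕ, r ^ k * F * (r ^ k)⁻¹ = F * t ^ k := by
            intro k
            induction k with
            | zero => simp
            | succ k ih =>
              calc r ^ (k + 1) * F * (r ^ (k + 1))⁻¹ = r * (r ^ k * F * (r ^ k)⁻¹) * r⁻¹ := by rw [pow_succ']; group
                _ = (r * F * r⁻¹) * (r * t ^ k * r⁻¹) := by rw [ih]; group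
                _ = F * t ^ (k + 1) := by rw [hft, c.Z_conj hr.1 (pow_mem ht k), pow_succ', mul_assoc]
          have h' := hpow 7
          rw [hr7, one_mul, inv_one, mul_one] at h'
          have t7 : t ^ 7 = 1 := mul_eq_left.mp h'.symm
          rwa [show (7 : ℕ) = 2 * 3 + 1 from rfl, pow_succ, pow_mul, sq, c.Z_sq ht, one_pow, one_mul] at t7
        exact hC_T (hcC.mpr ⟨h7F, mul_inv_eq_iff_eq_mul.mp (inv_mul_eq_one.mp hFfix).symm⟩)
      have h7T : f ^ 7 ∈ T := by
        have := mul_mem hfix (inv_mem (hW_T (hstep 7)))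
        rwa [mul_inv_rev, inv_inv, mul_inv_cancel_left] at this
      have hs := c.sq_mem_Z hf
      have hs' : f ^ 6 ∈ T := mem_centralizer_singleton_iff.mpr (c.Z_comm (c.Ez hx.1) (by
        rw [show (6 : ℕ) = 2 * 3 from rfl, pow_mul, sq]; exact pow_mem hs 3)).symm
      have := mul_mem (inv_mem hs') h7T
      rw [show f ^ 7 = f ^ 6 * f from pow_succ f 6, inv_mul_cancel_left] at this
      exact mem_centralizer_singleton_iff.mp this
    have hx' : (⟨x, hx.1⟩ : E) ∈ center E := Subgroup.mem_center_iff.mpr fun y => Subtype.ext (key y y.2)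
    rcases (hext.center_iff _).mp hx' with h | h <;> refine hne' ?_
    · rw [show x = 1 from congrArg Subtype.val h, mul_one, one_mul]
    · rw [show x = z from congrArg Subtype.val h, c.Z_comm hr.1 (mem_zpowers z)]
  have hsum := c.sign_sum inf_le_left hZW hcen
  set S : Finset G := Finset.univ.filter fun x => x ∈ W with hS
  set I := S.filter fun x => x * x = 1 ∧ x ∉ zpowers z
  have hinv : ∀ g : G, g ∈ centralizer ({z} : Set G) → (∀ w ∈ W, g * w * g⁻¹ ∈ W) → ∀ x ∈ I, g * x * g⁻¹ ∈ I := by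
    intro g hg hgW x hx
    simp only [I, hS, Finset.mem_filter, Finset.mem_univ, true_and] at hx ⊢
    refine ⟨hgW x hx.1, by rw [show g * x * g⁻¹ * (g * x * g⁻¹) = g * (x * x) * g⁻¹ by group, hx.2.1]; simp,
      fun h => hx.2.2 ?_⟩
    have := c.Z_conj (inv_mem hg) h
    rw [show g⁻¹ * (g * x * g⁻¹) * g⁻¹⁻¹ = x by group] at this
    rwa [this]
  obtain ⟨p, hp, -, hgen⟩ := c.exists_gen
  have m7 : I.card % 7 = 0 := by
    have h := card_inv_congr h7 hr7 (hinv r hr.1 hWr)
    have h0 : (I.filter fun x => r * x * r⁻¹ = x) = ∅ := Finset.filter_eq_empty_iff.mpr fun x hx hfx => by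
      simp only [I, hS, Finset.mem_filter, Finset.mem_univ, true_and] at hx
      exact hx.2.2 (hWC x hx.1 (mul_inv_eq_iff_eq_mul.mp hfx))
    rw [h0, Finset.card_empty] at h
    exact h
  have m3 : I.card % 3 = 0 := by
    have h := card_inv_congr Nat.prime_three (by rw [pow_succ, sq]; exact c.P_cube hp) (hinv p (c.P_le hp) (hWP p hp))
    have h0 : (I.filter fun x => p * x * p⁻¹ = x) = ∅ := Finset.filter_eq_empty_iff.mpr fun x hx hfx => by
      simp only [I, hS, Finset.mem_filter, Finset.mem_univ, true_and] at hx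
      exact hx.2.2 (c.fixed_mem_Z hp hgen hx.1.1 (by rw [hfx, mul_inv_cancel]; exact one_mem _))
    rw [h0, Finset.card_empty] at h
    exact h
  have hpos : S.filter (fun x => x * x = 1) = I ∪ {1, z} := by
    ext x
    simp only [I, hS, Finset.mem_filter, Finset.mem_univ, true_and, Finset.mem_union, Finset.mem_insert,
      Finset.mem_singleton, ← c.mem_Z]
    constructor
    · intro h
      by_cases hx : x ∈ zpowers z
      · exact Or.inr hx
      · exact Or.inl ⟨h.1, h.2, hx⟩
    · rintro (h | h)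
      exacts [⟨h.1, h.2.1⟩, ⟨hZW h, c.Z_sq h⟩]
  have hdis : Disjoint I ({1, z} : Finset G) := Finset.disjoint_left.mpr fun x hx hx' => by
    simp only [I, Finset.mem_filter] at hx
    simp only [Finset.mem_insert, Finset.mem_singleton] at hx'
    exact hx.2.2 (c.mem_Z.mpr hx')
  have hcS : S.card = 128 := by
    rw [← hWcard, hS, Nat.card_eq_fintype_card, Fintype.card_subtype]
  have hsplit := Finset.card_filter_add_card_filter_not (s := S) (fun x => x * x = 1)
  rw [hpos, Finset.card_union_of_disjoint hdis, Finset.card_pair (Ne.symm c.z_ne_one), hcS] at hsplit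
  rw [Finset.sum_ite, Finset.sum_const, Finset.sum_const, hWcard, hpos, Finset.card_union_of_disjoint hdis,
    Finset.card_pair (Ne.symm c.z_ne_one)] at hsum
  simp only [nsmul_eq_mul, mul_one, mul_neg] at hsum
  set n := I.card
  set k := (S.filter fun x => ¬ x * x = 1).card
  have hk : (k : ℤ) = 126 - n := by omega
  rw [hk] at hsum
  push_cast at hsum
  have hn : n ≤ 126 := by omega
  interval_cases n <;> first | omega | (norm_num at hsum)

end Ctx

end CfsgLib.JankoFour
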