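/-
The lengths of the orbits on an elementary abelian group of order 2^11.
-/
import Cfsg.Agent.Lib.JankoFour.OrbBase
import Cfsg.Agent.Lib.JankoFour.SevenFix

set_option autoImplicit false

namespace CfsgLib.JankoFour

open Cfsg Subgroup
open scoped commutatorElement

universe u

/-- The possible orbit lengths. -/
theorem arith_count : ∀ j ≤ 7, ∀ k ∈ [16, 32, 112, 128], 1 + 18 * j + 15 * k = 1771 ∧ j = 5 ∧ k = 112 ∨
    1 + 18 * j + 15 * k = 2047 ∨
    ∃ q ∈ [241, 37, 277, 59, 313, 331, 349, 367, 13, 499, 47, 107, 79, 571, 19, 607, 41, 1699, 101, 347, 1753, 1789,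
      113, 103, 1993, 2011, 2029], q ∣ 1 + 18 * j + 15 * k := by
  decide +kernel

theorem arith_primes : ∀ q ∈ [241, 37, 277, 59, 313, 331, 349, 367, 13, 499, 47, 107, 79, 571, 19, 607, 41, 1699, 101,
    347, 1753, 1789, 113, 103, 1993, 2011, 2029], Nat.Prime q ∧ q ≠ 2 ∧ ∀ k < 11, ¬ q ∣ 2 ^ (k + 1) - 1 := by
  intro q hq
  fin_cases hq <;> exact ⟨by norm_num, by norm_num, by decide⟩

variable {G : Type u} [Group G] [Finite G] {z : G} {P E : Subgroup G}

namespace Ctx

/-- An invariant set outside the centre has size divisible by nine. -/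
theorem nine_dvd_set (c : Ctx z P E) {R : Subgroup G} (hR : R ≤ centralizer ({z} : Set G) ⊓ centralizer (P : Set G))
    (hPR : P ≤ R) (hR27 : Nat.card R = 27) (hnab : ∃ a ∈ R, ∃ b ∈ R, a * b ≠ b * a)
    (T : Set G) (hTE : ∀ e ∈ T, e ∈ E ∧ e ∉ zpowers z) (hT : ∀ r ∈ R, ∀ e ∈ T, r * e * r⁻¹ ∈ T) :
    9 ∣ Nat.card T := by
  classical
  obtain ⟨p, hp, hp1, hgen⟩ := c.exists_gen
  haveI : Fact (Nat.Prime 3) := ⟨by norm_num⟩
  have hRp : IsPGroup 3 R := IsPGroup.of_card (n := 3) (by rw [hR27]; norm_num)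
  have hcen : (center R).map R.subtype = P := by
    refine (eq_of_le_of_card_ge (show P ≤ (center R).map R.subtype from fun q hq =>
      mem_map.mpr ⟨⟨q, hPR hq⟩, Subgroup.mem_center_iff.mpr fun r => Subtype.ext
      (mem_centralizer_iff.mp (hR r.2).2 q hq).symm, rfl⟩) ?_).symm
    rw [card_map_of_injective R.subtype_injective, c.hP]
    obtain ⟨k, hk⟩ := (IsPGroup.iff_card).mp (hRp.to_subgroup (center R))
    have hk3 : k ≤ 3 := (Nat.pow_dvd_pow_iff_le_right (show 1 < 3 by norm_num)).mp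
      (show 3 ^ k ∣ 3 ^ 3 by rw [← hk]; simpa [hR27] using card_subgroup_dvd_card (center R))
    have hncyc : ¬ IsCyclic (R ⧸ center R) := fun hcy => by
      obtain ⟨a, ha, b, hb, hab⟩ := hnab
      exact hab (congrArg Subtype.val (commutative_of_cyclic_center_quotient (QuotientGroup.mk' (center R))
        (by rw [QuotientGroup.ker_mk']) ⟨a, ha⟩ ⟨b, hb⟩))
    have hidx := Subgroup.card_mul_index (center R)
    rw [hk, hR27] at hidx
    rw [hk]
    interval_cases k
    · norm_num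
    · norm_num
    · exfalso
      refine hncyc (isCyclic_of_prime_card (p := 3) ?_)
      rw [← Subgroup.index_eq_card]
      norm_num at hidx ⊢
      omega
    · exfalso
      refine hncyc ?_
      haveI : Subsingleton (R ⧸ center R) := (Nat.card_eq_one_iff_unique.mp (by
        rw [← Subgroup.index_eq_card]; norm_num at hidx ⊢; omega)).1
      exact isCyclic_of_subsingleton
  let X := ↥T
  letI : MulAction R X :=
    { smul := fun r e => ⟨r * e.1 * (r : G)⁻¹, hT r r.2 _ e.2⟩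
      one_smul := fun e => Subtype.ext (by show (1 : G) * e.1 * (1 : G)⁻¹ = e.1; group)
      mul_smul := fun r s e => Subtype.ext (by
        show ((r : G) * s) * e.1 * ((r : G) * s)⁻¹ = r * (s * e.1 * (s : G)⁻¹) * (r : G)⁻¹
        group) }
  have horb : ∀ x : X, 9 ∣ Nat.card (MulAction.orbit R x) := by
    intro x
    set S := MulAction.stabilizer R x
    have hpS : (⟨p, hPR hp⟩ : R) ∉ S := fun h => (hTE _ x.2).2 (c.fixed_mem_Z hp hgen (hTE _ x.2).1 (by
      have h' : p * x.1 * p⁻¹ = x.1 := congrArg Subtype.val (MulAction.mem_stabilizer_iff.mp h)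
      rw [h', mul_inv_cancel]; exact one_mem _))
    obtain ⟨k, hk⟩ := (IsPGroup.iff_card).mp (hRp.to_subgroup S)
    have hk3 : k ≤ 3 := (Nat.pow_dvd_pow_iff_le_right (show 1 < 3 by norm_num)).mp
      (show 3 ^ k ∣ 3 ^ 3 by rw [← hk]; simpa [hR27] using card_subgroup_dvd_card S)
    have hidx := Subgroup.card_mul_index S
    rw [hk, hR27] at hidx
    have hk1 : k ≤ 1 := by
      by_contra hk1
      have hidx3 : S.index = 1 ∨ S.index = 3 := by
        interval_cases k <;> simp only [pow_succ, pow_zero, one_mul] at hidx <;> omega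
      rcases hidx3 with h1 | h3
      · exact hpS (by rw [Subgroup.index_eq_one.mp h1]; exact mem_top _)
      · haveI : S.Normal := Subgroup.normal_of_index_eq_minFac_card (by rw [h3, hR27]; norm_num)
        haveI : Nontrivial S := Finite.one_lt_card_iff_nontrivial.mp (by
          rw [hk]; exact Nat.one_lt_pow (by omega) (by norm_num))
        haveI := hRp.isNilpotent
        have hne : S ⊓ center R ≠ ⊥ := CfsgLib.inf_center_ne_bot_of_nilpotent (N := S)
          ((Subgroup.nontrivial_iff_ne_bot _).mp inferInstance)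
        haveI : Nontrivial ↥(S ⊓ center R) := (Subgroup.nontrivial_iff_ne_bot _).mpr hne
        obtain ⟨⟨s, hs⟩, hsc⟩ := exists_ne (1 : ↥(S ⊓ center R))
        have hsP : (s : G) ∈ P := hcen ▸ ⟨s, hs.2, rfl⟩
        have hs1 : (s : G) ≠ 1 := fun h => hsc (Subtype.ext (Subtype.ext h))
        have hgen' : zpowers (s : G) = P := by
          refine eq_of_le_of_card_ge (zpowers_le.mpr hsP) ?_
          rw [Nat.card_zpowers, c.hP, orderOf_eq_prime (p := 3) (hp := ⟨by norm_num⟩) (by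
            rw [pow_succ, sq]; exact c.P_cube hsP) hs1]
        obtain ⟨i, hi⟩ := mem_zpowers_iff.mp (hgen'.symm ▸ hp : p ∈ zpowers (s : G))
        exact hpS (by
          rw [show (⟨p, hPR hp⟩ : R) = s ^ i from Subtype.ext (by rw [Subgroup.coe_zpow]; exact hi.symm)]
          exact S.zpow_mem hs.1 i)
    rw [Nat.card_congr (MulAction.orbitEquivQuotientStabilizer R x), ← Subgroup.index_eq_card]
    change 9 ∣ S.index
    interval_cases k
    · exact ⟨3, by norm_num at hidx; omega⟩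
    · exact ⟨1, by norm_num at hidx; omega⟩
  haveI : Fintype (MulAction.orbitRel.Quotient R X) := Fintype.ofFinite _
  show 9 ∣ Nat.card X
  rw [Nat.card_congr (MulAction.selfEquivSigmaOrbits R X), Nat.card_sigma]
  exact Finset.dvd_sum fun _ _ => horb _

/-- Twice the inner part. -/
theorem out_double (c : Ctx z P E) {K : Subgroup G} (hK : K ≤ centralizer ({z} : Set G)) {f : G} (hf : f ∈ K)
    (hf0 : f ∉ c.H0) : Nat.card K = 2 * Nat.card ↥(K ⊓ c.H0) := by
  have hi : ((K ⊓ c.H0).subgroupOf K).index = 2 := by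
    refine Subgroup.index_eq_two_iff.mpr ⟨⟨f, hf⟩, fun b => ?_⟩
    by_cases hb : (b : G) ∈ c.H0
    · refine Or.inr ⟨mem_subgroupOf.mpr ⟨b.2, hb⟩, fun hbf => hf0 ?_⟩
      have := mul_mem (inv_mem hb) (mem_subgroupOf.mp hbf).2
      simpa using this
    · exact Or.inl ⟨mem_subgroupOf.mpr ⟨mul_mem b.2 hf, c.H0two _ (hK b.2) hb _ (hK hf) hf0⟩,
        fun h => hb (mem_subgroupOf.mp h).2⟩
  have := Subgroup.card_mul_index ((K ⊓ c.H0).subgroupOf K)
  rw [hi, Nat.card_congr (subgroupOfEquivOfLe inf_le_left).toEquiv] at this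
  omega

variable (c : Ctx z P E) {A : Subgroup MTwoTwo}

theorem z_mem_vGrp (hA : HexData A) : z ∈ c.vGrp A hA.1.1 := mem_sup_left (c.Z_le_fixB A (mem_zpowers z))

theorem vGrp_le_cent (hA : HexData A) : c.vGrp A hA.1.1 ≤ centralizer ({z} : Set G) := fun _ hv =>
  mem_centralizer_singleton_iff.mpr (c.vGrp_comm hA.1 hv (c.z_mem_vGrp hA))

theorem cen_mem_vGrp (hA : HexData A) {v : G} (hv : v ∈ c.vGrp A hA.1.1) (hvc : v ∈ c.cen) :
    v ∈ c.twoGrp A hA.1.1 := by
  obtain ⟨w, hw, y, hy, rfl⟩ := c.mem_vGrp hA.1 hv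
  have hwc : w ∈ c.cen := by
    have := mul_mem hvc (inv_mem hy.1)
    rwa [mul_inv_cancel_right] at this
  exact mul_mem (c.Z_mem_twoGrp hA.1 (c.E_inf_cen (c.fixB_le A hw) hwc)) hy

/-- The inner part of the normalizer. -/
theorem norm_H0 (hA : HexData A) {h : G} (h0 : h ∈ c.H0) :
    h ∈ normalizer (c.vGrp A hA.1.1 : Set G) ↔ c.val h ∈ normalizer (A : Set MTwoTwo) := by
  obtain ⟨e, he, y, hy, rfl⟩ := c.decomp h h0
  rw [c.val_mul (c.NH0 (c.EN he)) (c.cen_le_H0 hy), c.val_E he, one_mul]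
  refine ⟨fun hn => ?_, fun hn => mul_mem (c.E_norm_V hA he) (c.cen_norm_V hA.1 hy hn)⟩
  have hyN : y ∈ normalizer (c.vGrp A hA.1.1 : Set G) := by
    have := mul_mem (inv_mem (c.E_norm_V hA he)) hn
    rwa [inv_mul_cancel_left] at this
  refine mem_norm_of fun a ha => ?_
  obtain ⟨x, hx, hxa⟩ := c.twoGrp_lift hA.1.1 ha
  have hy' : y ∈ c.cen := hy
  have h1 : y * x * y⁻¹ ∈ c.twoGrp A hA.1.1 :=
    c.cen_mem_vGrp hA ((mem_normalizer_iff.mp hyN x).mp (mem_sup_right hx))
      (mul_mem (mul_mem hy' hx.1) (inv_mem hy'))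
  have h2 := h1.2.1
  rwa [c.val_mul (c.cen_le_H0 (mul_mem hy' hx.1)) (c.cen_le_H0 (inv_mem hy')), c.val_mul (c.cen_le_H0 hy')
    (c.cen_le_H0 hx.1), c.val_inv (c.cen_le_H0 hy'), hxa] at h2

/-- An element outside the inner part normalizes the group. -/
theorem exists_out_norm (hA : HexData A) (hinv : ∃ n ∈ centralizer ({z} : Set G), ∀ q ∈ P, n * q * n⁻¹ = q⁻¹) :
    ∃ f ∈ normalizer (c.vGrp A hA.1.1 : Set G), f ∈ centralizer ({z} : Set G) ∧ f ∉ c.H0 := by
  classical
  haveI : Fact (Nat.Prime 2) := ⟨Nat.prime_two⟩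
  obtain ⟨n, hn, hn0⟩ := c.exists_out hinv
  obtain ⟨T, hT, hET⟩ := c.exists_sylow
  obtain ⟨t, ht, ht0⟩ : ∃ t ∈ (T : Subgroup G), t ∉ c.H0 := by
    refine SetLike.not_le_iff_exists.mp fun hle => ?_
    have h2 : (c.H0.subgroupOf (centralizer ({z} : Set G))).index = 2 := by
      refine Subgroup.index_eq_two_iff.mpr ⟨⟨n, hn⟩, fun b => ?_⟩
      by_cases hb : (b : G) ∈ c.H0
      · exact Or.inr ⟨hb, fun h => hn0 (by
          have := mul_mem (inv_mem hb) (mem_subgroupOf.mp h)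
          simpa using this)⟩
      · exact Or.inl ⟨mem_subgroupOf.mpr (c.H0two _ b.2 hb _ hn hn0), fun h => hb h⟩
    have hd := Subgroup.index_dvd_of_le
      (show (T.subtype hT : Subgroup (centralizer ({z} : Set G))) ≤ c.H0.subgroupOf _ from fun x hx =>
        mem_subgroupOf.mpr (hle (by rwa [Sylow.coe_subtype, mem_subgroupOf] at hx)))
    rw [h2] at hd
    exact Sylow.not_dvd_index (T.subtype hT) hd
  obtain ⟨hVel, hVc⟩ := c.vGrp_facts hA.1
  obtain ⟨h, hh, hin⟩ := c.into_T T hT (IsPGroup.of_card hVc) (c.vGrp_le_cent hA)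
  have hhf : h⁻¹ * t * h ∈ centralizer ({z} : Set G) := mul_mem (mul_mem (inv_mem hh) (hT ht)) hh
  refine ⟨h⁻¹ * t * h, ?_, hhf, fun h0 => ht0 ?_⟩
  · set V1 := (c.vGrp A hA.1.1).map (MulAut.conj h).toMonoidHom with hV1
    have hV1T : V1 ≤ (T : Subgroup G) := by rintro _ ⟨x, hx, rfl⟩; exact hin x hx
    have hV1c : Nat.card V1 = 2 ^ 11 := by rw [hV1, card_map_of_injective (MulAut.conj h).injective, hVc]
    have e : V1.map (MulAut.conj t).toMonoidHom = V1 := by
      refine c.eq_of_two T.isPGroup' (elem_map _ (elem_map _ hVel)) (elem_map _ hVel)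
        (by rw [card_map_of_injective (MulAut.conj t).injective, hV1c]) hV1c ?_ hV1T
      rintro _ ⟨x, hx, rfl⟩
      exact mul_mem (mul_mem ht (hV1T hx)) (inv_mem ht)
    refine mem_norm_of fun v hv => ?_
    obtain ⟨v', hv', e'⟩ : t * (h * v * h⁻¹) * t⁻¹ ∈ V1 := e ▸ ⟨h * v * h⁻¹, ⟨v, hv, rfl⟩, rfl⟩
    have e'' : h * v' * h⁻¹ = t * (h * v * h⁻¹) * t⁻¹ := e'
    rw [show h⁻¹ * t * h * v * (h⁻¹ * t * h)⁻¹ = h⁻¹ * (t * (h * v * h⁻¹) * t⁻¹) * h by group, ← e'']
    simpa [mul_assoc] using hv'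
  · have := c.H0_conj hh h0
    rwa [show h * (h⁻¹ * t * h) * h⁻¹ = t by group] at this

/-- The normalizer inside the centralizer of z. -/
theorem card_norm_cent (hA : HexData A) (hinv : ∃ n ∈ centralizer ({z} : Set G), ∀ q ∈ P, n * q * n⁻¹ = q⁻¹) :
    Nat.card ↥(normalizer (c.vGrp A hA.1.1 : Set G) ⊓ centralizer ({z} : Set G)) = 2 ^ 21 * 135 := by
  classical
  obtain ⟨f, hfN, hfH, hf0⟩ := c.exists_out_norm hA hinv
  set NV := normalizer (c.vGrp A hA.1.1 : Set G) with hNV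
  rw [c.out_double inf_le_right (show f ∈ NV ⊓ centralizer ({z} : Set G) from ⟨hfN, hfH⟩) hf0]
  set NA := normalizer (A : Set MTwoTwo) with hNA
  have hsurj : Function.Surjective c.ψ := fun m => by
    obtain ⟨x, -, hx⟩ := c.ψC m; exact ⟨x, hx⟩
  have e : (NV ⊓ centralizer ({z} : Set G) ⊓ c.H0).subgroupOf c.H0 = NA.comap c.ψ := by
    ext x
    rw [mem_subgroupOf, mem_comap, ← c.val_eq x.2]
    constructor
    · exact fun h => (c.norm_H0 hA x.2).mp h.1.1
    · exact fun h => ⟨⟨(c.norm_H0 hA x.2).mpr h, c.H0le x.2⟩, x.2⟩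
  have h1 : Nat.card ↥(NV ⊓ centralizer ({z} : Set G) ⊓ c.H0) = Nat.card (NA.comap c.ψ) := by
    rw [← e, Nat.card_congr (subgroupOfEquivOfLe inf_le_right).toEquiv]
  have hk : Nat.card c.ψ.ker = 3 * 2 ^ 13 := by
    rw [← c.hN]
    exact Nat.card_congr ⟨fun x => ⟨x.1, (c.ψker x.1).mp x.2⟩, fun x => ⟨⟨x.1, c.NH0 x.2⟩, (c.ψker _).mpr x.2⟩,
      fun x => rfl, fun x => rfl⟩
  have h2 := Subgroup.card_mul_index (NA.comap c.ψ)
  rw [Subgroup.index_comap_of_surjective NA hsurj, ← Subgroup.card_mul_index c.ψ.ker, Subgroup.index_ker,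
    MonoidHom.range_eq_top.mpr hsurj, card_top, hk, ← Subgroup.card_mul_index NA, ← mul_assoc] at h2
  obtain ⟨o, ho⟩ := c.exists_octHex hA
  have h3 := Nat.eq_of_mul_eq_mul_right (Nat.pos_of_ne_zero Subgroup.index_ne_zero_of_finite) h2
  rw [h1, h3, show Nat.card NA = 5760 from ho.card_norm]
  norm_num

/-- The group is its own centralizer. -/
theorem cent_vGrp (hA : HexData A) {x : G} (hx : ∀ v ∈ c.vGrp A hA.1.1, x * v = v * x) :
    x ∈ c.vGrp A hA.1.1 := by
  obtain ⟨hF7, hFc, hFsq, hFQ⟩ := c.hex_fix hA.1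
  obtain ⟨o, ho⟩ := c.exists_octHex hA
  obtain ⟨p, hp, -, hgen⟩ := c.exists_gen
  have hxH : x ∈ centralizer ({z} : Set G) := mem_centralizer_singleton_iff.mpr (hx z (c.z_mem_vGrp hA))
  have hxW : ∀ w ∈ c.fixB A, x * w = w * x := fun w hw => hx w (mem_sup_left hw)
  by_cases h0 : x ∈ c.H0
  · obtain ⟨e, he, y, hy', rfl⟩ := c.decomp x h0
    have hy : y ∈ c.cen := hy'
    have hvy : c.val y ∈ A := by
      refine ho.self_centralizing hA.1 fun a ha => ?_
      obtain ⟨q, hq, rfl⟩ := c.twoGrp_lift hA.1.1 ha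
      have h := congrArg c.val (hx q (mem_sup_right hq))
      rwa [c.val_mul h0 (c.cen_le_H0 hq.1), c.val_mul (c.cen_le_H0 hq.1) h0, c.val_mul (c.NH0 (c.EN he))
        (c.cen_le_H0 hy), c.val_E he, one_mul] at h
    obtain ⟨q, hq, hqv⟩ := c.twoGrp_lift hA.1.1 hvy
    obtain ⟨t, ht, k, hk, hk'⟩ := c.cen_N (mul_mem (inv_mem hq.1) hy)
      (c.val_eq_val (c.cen_le_H0 hy) (c.cen_le_H0 hq.1) hqv.symm)
    have hye : y = q * (t * k) := by rw [← hk', mul_inv_cancel_left]
    have hk1 : k = 1 := by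
      by_contra hne
      obtain ⟨w, hw, hwZ⟩ : ∃ w ∈ c.fixB A, w ∉ zpowers z := SetLike.not_le_iff_exists.mp fun h => by
        have := card_le_of_le h; rw [hF7, c.card_Z] at this; norm_num at this
      refine hwZ (c.fixed_mem_Z hk ?_ (c.fixB_le A hw) ?_)
      · refine (eq_of_le_of_card_ge (zpowers_le.mpr hk) ?_).symm
        rw [Nat.card_zpowers, c.hP, orderOf_eq_prime (p := 3) (hp := ⟨by norm_num⟩) (by
          rw [pow_succ, sq]; exact c.P_cube hk) hne]
      · -- the factor in E acts trivially modulo the centre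
        have hkw := c.fixB_P (B := A) hk hw
        have h1 : e * (k * w * k⁻¹) * e⁻¹ = w := by
          have h2 : e * y * w * (e * y)⁻¹ = w := by rw [hxW w hw, mul_inv_cancel_right]
          have h3 : q * (k * w * k⁻¹) * q⁻¹ = k * w * k⁻¹ := by rw [hFQ _ hkw q hq, mul_inv_cancel_right]
          have h4 : t * w * t⁻¹ = w := by rw [← c.Z_comm (c.Ez (c.fixB_le A hw)) ht, mul_inv_cancel_right]
          have hkt : t * k = k * t := (c.Z_comm (c.P_le hk) ht).symm
          rw [hye, hkt, show e * (q * (k * t)) * w * (e * (q * (k * t)))⁻¹ =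
            e * (q * (k * (t * w * t⁻¹) * k⁻¹) * q⁻¹) * e⁻¹ by group, h4, h3] at h2
          exact h2
        have h5 := c.comm_E he (c.fixB_le A hkw)
        rw [commutatorElement_def, h1] at h5
        have h6 := inv_mem h5
        rwa [show (w * (k * w * k⁻¹)⁻¹)⁻¹ = k * w * k⁻¹ * w⁻¹ by group] at h6
    rw [hk1, mul_one] at hye
    have hyQ : y ∈ c.twoGrp A hA.1.1 := hye ▸ mul_mem hq (c.Z_mem_twoGrp hA.1 ht)
    refine mul_mem (mem_sup_left ?_) (mem_sup_right hyQ)
    rw [← hFc]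
    refine ⟨he, mem_centralizer_iff.mpr fun w hw => ?_⟩
    have h := hxW w hw
    rw [mul_assoc e y w, hFQ w hw y hyQ, ← mul_assoc, ← mul_assoc] at h
    exact (mul_right_cancel h).symm
  · exfalso
    have h := c.outer_fix hxH h0 (c.fixB_le A) (c.Z_le_fixB A) (fun q hq e he => c.fixB_P hq he) le_rfl
      (c.Z_le_fixB A) (fun e he => by
        rw [commutatorElement_eq_one_iff_mul_comm.mpr (hxW e he)]; exact one_mem _)
    rw [hF7] at h
    norm_num at h

/-- The number of elements above y giving conjugates of z. -/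
theorem fib_card (hA : HexData A) {y : G} (hy : y ∈ c.twoGrp A hA.1.1) (hyZ : y ∉ zpowers z) :
    ({w : G | w ∈ c.fixB A ∧ c.IsZ (w * y)}).ncard =
      (letI := Classical.propDecidable (c.IsZ y); if c.IsZ y then 16 else 0) +
      (letI := Classical.propDecidable (c.IsZ (z * y)); if c.IsZ (z * y) then 16 else 0) +
      (letI := Classical.propDecidable
        (∃ w ∈ c.fixB A, w ∉ E ⊓ centralizer (c.ker1 hy.1.1 : Set G) ∧ c.IsZ (w * y));
      if ∃ w ∈ c.fixB A, w ∉ E ⊓ centralizer (c.ker1 hy.1.1 : Set G) ∧ c.IsZ (w * y) then 96 else 0) := by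
  classical
  obtain ⟨hS32, hSW, -, -⟩ := c.kernel_facts hA hy hyZ
  obtain ⟨hF7, -, hFsq, -⟩ := c.hex_fix hA.1
  set S := E ⊓ centralizer (c.ker1 hy.1.1 : Set G) with hS
  set X : Set G := {w | w ∈ c.fixB A ∧ c.IsZ (w * y)} with hX
  have hzS : zpowers z ≤ S := zpowers_le.mpr ⟨c.zE, mem_centralizer_iff.mpr fun f hf =>
    mem_centralizer_singleton_iff.mp (c.Ez (c.ker1_le _ hf))⟩
  have hR : ∀ v ∈ c.cR y, c.IsZ (v * y) ↔ c.IsZ y := by
    rintro _ ⟨f, hf, rfl⟩
    have e : ⁅f, y⁆ * y = f * y * f⁻¹ := by rw [commutatorElement_def, inv_mul_cancel_right]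
    rw [e]
    refine ⟨fun h => ?_, fun h => c.isZ_conj h f⟩
    have := c.isZ_conj h f⁻¹
    rwa [show f⁻¹ * (f * y * f⁻¹) * f⁻¹⁻¹ = y by group] at this
  have hzR : ∀ v ∈ c.cR y, c.IsZ (z * v * y) ↔ c.IsZ (z * y) := by
    rintro _ ⟨f, hf, rfl⟩
    have e : z * ⁅f, y⁆ * y = f * (z * y) * f⁻¹ := by
      rw [show f * (z * y) * f⁻¹ = f * z * f⁻¹ * (f * y * f⁻¹) by group, c.Z_conj (c.Ez hf) (mem_zpowers z),
        commutatorElement_def, mul_assoc z, inv_mul_cancel_right]
    rw [e]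
    refine ⟨fun h => ?_, fun h => c.isZ_conj h f⟩
    have := c.isZ_conj h f⁻¹
    rwa [show f⁻¹ * (f * (z * y) * f⁻¹) * f⁻¹⁻¹ = z * y by group] at this
  set R1 : Set G := if c.IsZ y then c.cR y else ∅ with hR1
  set R2 : Set G := if c.IsZ (z * y) then (fun v => z * v) '' c.cR y else ∅ with hR2
  set R3 : Set G := if ∃ w ∈ c.fixB A, w ∉ S ∧ c.IsZ (w * y) then (c.fixB A : Set G) \ (S : Set G) else ∅ with hR3
  have hXeq : X = R1 ∪ R2 ∪ R3 := by
    ext w
    constructor
    · rintro ⟨hw, hwz⟩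
      by_cases hwS : w ∈ S
      · obtain ⟨t, ht, htw⟩ := c.cR_cover hA hy hyZ hwS
        rcases c.mem_Z.mp ht with et | et
        · rw [et, one_mul] at htw
          refine Or.inl (Or.inl ?_)
          rw [hR1, if_pos ((hR w htw).mp hwz)]; exact htw
        · rw [et] at htw
          refine Or.inl (Or.inr ?_)
          have e : w = z * (z * w) := by rw [← mul_assoc, c.zz, one_mul]
          rw [e] at hwz
          rw [hR2, if_pos ((hzR _ htw).mp hwz)]
          exact ⟨z * w, htw, e.symm⟩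
      · refine Or.inr ?_
        rw [hR3, if_pos ⟨w, hw, hwS, hwz⟩]; exact ⟨hw, hwS⟩
    · rintro ((h | h) | h)
      · rw [hR1] at h; split_ifs at h with hz
        · exact ⟨(c.cR_sub hA hy hyZ h).2.1, (hR w h).mpr hz⟩
        · exact h.elim
      · rw [hR2] at h; split_ifs at h with hz
        · obtain ⟨v, hv, rfl⟩ := h
          exact ⟨mul_mem (c.Z_le_fixB A (mem_zpowers z)) (c.cR_sub hA hy hyZ hv).2.1, (hzR v hv).mpr hz⟩
        · exact h.elim
      · rw [hR3] at h; split_ifs at h with hz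
        · obtain ⟨w0, hw0, hw0S, hw0z⟩ := hz
          obtain ⟨n, -, -, hn⟩ := c.big_conj hA hy hyZ hw0 h.1 hw0S h.2
          exact ⟨h.1, hn ▸ c.isZ_conj hw0z n⟩
        · exact h.elim
  have d12 : Disjoint R1 R2 := by
    rw [Set.disjoint_left, hR1, hR2]
    intro w h1 h2
    split_ifs at h1 h2 <;> try simp at h1
    · obtain ⟨v, hv, rfl⟩ := h2
      have e := c.cR_uniq hA hy hyZ hv h1 (by
        show v⁻¹ * (z * v) ∈ zpowers z
        rw [c.Z_comm (c.Ez (c.fixB_le A (c.cR_sub hA hy hyZ hv).2.1)) (mem_zpowers z) |>.symm, inv_mul_cancel_left]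
        exact mem_zpowers z)
      exact c.z_ne_one (mul_eq_right.mp e.symm)
    · exact h2.elim
  have d3 : Disjoint (R1 ∪ R2) R3 := by
    rw [Set.disjoint_left, hR3]
    intro w h1 h2
    split_ifs at h2
    · refine h2.2 ?_
      rcases h1 with h1 | h1
      · rw [hR1] at h1; split_ifs at h1
        · exact (c.cR_sub hA hy hyZ h1).1
        · exact h1.elim
      · rw [hR2] at h1; split_ifs at h1
        · obtain ⟨v, hv, rfl⟩ := h1
          exact mul_mem (hzS (mem_zpowers z)) (c.cR_sub hA hy hyZ hv).1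
        · exact h1.elim
    · exact h2.elim
  have hbig : ((c.fixB A : Set G) \ (S : Set G)).ncard = 96 := by
    rw [Set.ncard_sdiff (show (S : Set G) ⊆ c.fixB A from hSW), ← Nat.card_coe_set_eq, ← Nat.card_coe_set_eq]
    show Nat.card (c.fixB A) - Nat.card S = 96
    rw [hF7, hS32]; norm_num
  rw [hXeq, Set.ncard_union_eq d3 (Set.toFinite _) (Set.toFinite _),
    Set.ncard_union_eq d12 (Set.toFinite _) (Set.toFinite _), hR1, hR2, hR3]
  congr 1
  · congr 1
    · split_ifs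
      · exact c.cR_card hA hy hyZ
      · simp
    · split_ifs
      · rw [Set.ncard_image_of_injective _ (mul_right_injective z)]; exact c.cR_card hA hy hyZ
      · simp
  · split_ifs
    · exact hbig
    · simp

end Ctx

end CfsgLib.JankoFour
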