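/-
The two orbits on an elementary abelian group of order 2^11 and their lengths.
-/
import Cfsg.Agent.Lib.JankoFour.OrbCount

set_option autoImplicit false

namespace CfsgLib.JankoFour

open Cfsg Subgroup
open scoped commutatorElement

universe u

theorem arith_89 : ∀ c ∈ [89, 2047], ∀ e ∈ [1, 2, 4, 8],
    2047 * (2 ^ 21 * 135) / (c * e) % 89 ≠ 1 := by decide +kernel

variable {G : Type u} [Group G] [Finite G] {z : G} {P E : Subgroup G}

namespace Ctx

/-- The conjugates of z in a subgroup. -/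
def Oset (c : Ctx z P E) (V : Subgroup G) : Set G := {v | v ∈ V ∧ c.IsZ v}

/-- The other involutions of an elementary abelian subgroup. -/
def Tset (c : Ctx z P E) (V : Subgroup G) : Set G := {v | v ∈ V ∧ v ≠ 1 ∧ ¬ c.IsZ v}

theorem isZ_z (c : Ctx z P E) : c.IsZ z := ⟨1, by group⟩

theorem isZ_ne (c : Ctx z P E) {x : G} (hx : c.IsZ x) : x ≠ 1 := fun h => by
  obtain ⟨g, hg⟩ := hx
  exact c.z_ne_one (conj_eq_one_iff.mp (hg.trans h))

theorem isZ_iff (c : Ctx z P E) (n x : G) : c.IsZ (n * x * n⁻¹) ↔ c.IsZ x := by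
  refine ⟨fun h => ?_, fun h => c.isZ_conj h n⟩
  have := c.isZ_conj h n⁻¹
  rwa [show n⁻¹ * (n * x * n⁻¹) * n⁻¹⁻¹ = x by group] at this

variable (c : Ctx z P E) {A : Subgroup MTwoTwo}

theorem norm_T {V : Subgroup G} {n v : G} (hn : n ∈ normalizer (V : Set G)) (hv : v ∈ c.Tset V) :
    n * v * n⁻¹ ∈ c.Tset V :=
  ⟨(mem_normalizer_iff.mp hn v).mp hv.1, fun h => hv.2.1 (conj_eq_one_iff.mp h), fun h => hv.2.2 ((c.isZ_iff n v).mp h)⟩

theorem norm_O {V : Subgroup G} {n v : G} (hn : n ∈ normalizer (V : Set G)) (hv : v ∈ c.Oset V) :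
    n * v * n⁻¹ ∈ c.Oset V :=
  ⟨(mem_normalizer_iff.mp hn v).mp hv.1, (c.isZ_iff n v).mpr hv.2⟩

/-- The orbit of z and the order of the normalizer. -/
theorem card_norm_V (hA : HexData A) (hinv : ∃ n ∈ centralizer ({z} : Set G), ∀ q ∈ P, n * q * n⁻¹ = q⁻¹) :
    Nat.card ↥(normalizer (c.vGrp A hA.1.1 : Set G)) = (c.Oset (c.vGrp A hA.1.1)).ncard * (2 ^ 21 * 135) := by
  classical
  set V := c.vGrp A hA.1.1
  set NV := normalizer (V : Set G)
  letI : MulAction NV G :=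
    { smul := fun n x => (n : G) * x * (n : G)⁻¹
      one_smul := fun x => by show ((1 : NV) : G) * x * ((1 : NV) : G)⁻¹ = x; simp
      mul_smul := fun a b x => by
        show ((a * b : NV) : G) * x * ((a * b : NV) : G)⁻¹ = (a : G) * ((b : G) * x * (b : G)⁻¹) * (a : G)⁻¹
        simp [mul_assoc] }
  have horb : MulAction.orbit NV z = c.Oset V := by
    ext x
    constructor
    · rintro ⟨n, rfl⟩; exact c.norm_O n.2 ⟨c.z_mem_vGrp hA, c.isZ_z⟩
    · rintro ⟨hx, hxz⟩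
      obtain ⟨n, hn, hnz⟩ := c.weak_closure hA.1 hx hxz
      exact ⟨⟨n, hn⟩, hnz⟩
  have hst : MulAction.stabilizer NV z = (NV ⊓ centralizer ({z} : Set G)).subgroupOf NV := by
    ext n
    rw [MulAction.mem_stabilizer_iff, mem_subgroupOf]
    show (n : G) * z * (n : G)⁻¹ = z ↔ _
    rw [mul_inv_eq_iff_eq_mul]
    exact ⟨fun h => ⟨n.2, mem_centralizer_singleton_iff.mpr h⟩, fun h => mem_centralizer_singleton_iff.mp h.2⟩
  have h := Nat.card_congr (MulAction.orbitProdStabilizerEquivGroup NV z)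
  rw [Nat.card_prod, horb, hst, Nat.card_congr (subgroupOfEquivOfLe inf_le_left).toEquiv, c.card_norm_cent hA hinv,
    Nat.card_coe_set_eq] at h
  exact h.symm

/-- The fibres are permuted transitively. -/
theorem to_fibre (hA : HexData A) {y y' : G} (hy : y ∈ c.twoGrp A hA.1.1) (hyZ : y ∉ zpowers z)
    (hy' : y' ∈ c.twoGrp A hA.1.1) (hyZ' : y' ∉ zpowers z) :
    ∃ n ∈ c.cen, c.val n ∈ normalizer (A : Set MTwoTwo) ∧ ∃ t ∈ zpowers z, n * y * n⁻¹ = t * y' := by
  obtain ⟨m, hm, hmy⟩ := hA.1.2.2.2 _ hy.2.1 _ hy'.2.1 (c.val_ne hA hy hyZ) (c.val_ne hA hy' hyZ')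
  obtain ⟨n, hn, hnm⟩ := c.exists_val m
  have hnN : c.val n ∈ normalizer (A : Set MTwoTwo) := by rw [hnm]; exact hm
  have h1 : n * y * n⁻¹ ∈ c.twoGrp A hA.1.1 := c.two_conj hn hnN hy
  have ht := c.twoGrp_val_eq h1 hy' (by
    rw [c.val_mul (c.cen_le_H0 (mul_mem hn hy.1)) (c.cen_le_H0 (inv_mem hn)), c.val_mul (c.cen_le_H0 hn)
      (c.cen_le_H0 hy.1), c.val_inv (c.cen_le_H0 hn), hnm, hmy])
  refine ⟨n, hn, hnN, _, ht, ?_⟩
  rw [← c.Z_comm (c.cen_le_H0 hy'.1 |> c.H0le) ht, mul_inv_cancel_left]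

theorem fib_eq (hA : HexData A) {y y' : G} (hy : y ∈ c.twoGrp A hA.1.1) (hyZ : y ∉ zpowers z)
    (hy' : y' ∈ c.twoGrp A hA.1.1) (hyZ' : y' ∉ zpowers z) :
    ({w : G | w ∈ c.fixB A ∧ c.IsZ (w * y)}).ncard ≤ ({w : G | w ∈ c.fixB A ∧ c.IsZ (w * y')}).ncard := by
  obtain ⟨n, hn, hnN, t, ht, he⟩ := c.to_fibre hA hy hyZ hy' hyZ'
  refine Set.ncard_le_ncard_of_injOn (fun w => n * w * n⁻¹ * t) ?_ ?_ (Set.toFinite _)
  · rintro w ⟨hw, hwz⟩
    refine ⟨mul_mem (c.fixB_conj hn hnN hw) (c.Z_le_fixB A ht), ?_⟩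
    show c.IsZ (n * w * n⁻¹ * t * y')
    rw [mul_assoc (n * w * n⁻¹), ← he, show n * w * n⁻¹ * (n * y * n⁻¹) = n * (w * y) * n⁻¹ by group]
    exact c.isZ_conj hwz n
  · intro w _ w' _ e
    exact mul_left_cancel (mul_right_cancel (mul_right_cancel (e : n * w * n⁻¹ * t = n * w' * n⁻¹ * t)))

/-- The number of conjugates of z in V. -/
theorem card_O_sum (hA : HexData A) {u : G} (hu : u ∈ c.twoGrp A hA.1.1) (huZ : u ∉ zpowers z) :
    (c.Oset (c.vGrp A hA.1.1)).ncard = 1 + ({x : G | x ∈ c.fixB A ∧ c.IsZ x ∧ x ≠ z}).ncard +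
      15 * ({w : G | w ∈ c.fixB A ∧ c.IsZ (w * u)}).ncard := by
  classical
  set V := c.vGrp A hA.1.1
  set W := c.fixB A
  set Q := c.twoGrp A hA.1.1
  set k := ({w : G | w ∈ c.fixB A ∧ c.IsZ (w * u)}).ncard
  let ι := {a : MTwoTwo // a ∈ A ∧ a ≠ 1}
  have hι : Nat.card ι = 15 := by
    have e : Nat.card ι = Nat.card ↥((A : Set MTwoTwo) \ {1}) := Nat.card_congr
      ⟨fun x => ⟨x.1, x.2.1, x.2.2⟩, fun x => ⟨x.1, x.2.1, x.2.2⟩, fun x => rfl, fun x => rfl⟩
    rw [e, Nat.card_coe_set_eq, Set.ncard_sdiff (Set.singleton_subset_iff.mpr (one_mem A)), Set.ncard_singleton,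
      ← Nat.card_coe_set_eq, SetLike.coe_sort_coe, hA.1.2.1]
  have lift : ∀ i : ι, ∃ x, x ∈ Q ∧ x ∉ zpowers z ∧ c.val x = i.1 := fun i => by
    obtain ⟨x, hx, hv⟩ := c.twoGrp_lift hA.1.1 i.2.1
    exact ⟨x, hx, fun h => i.2.2 (by rw [← hv]; exact c.val_E (c.Z_le h)), hv⟩
  choose yl hyl hylZ hylv using lift
  have hval : ∀ {w y}, w ∈ W → y ∈ Q → c.val (w * y) = c.val y := fun {w y} hw hy => by
    rw [c.val_mul (c.NH0 (c.EN (c.fixB_le A hw))) (c.cen_le_H0 hy.1), c.val_E (c.fixB_le A hw), one_mul]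
  let g : (Σ i : ι, ↥({w : G | w ∈ W ∧ c.IsZ (w * yl i)})) → ↥(c.Oset V \ (W : Set G)) := fun x =>
    ⟨x.2.1 * yl x.1, ⟨mul_mem (mem_sup_left x.2.2.1) (mem_sup_right (hyl x.1)), x.2.2.2⟩,
      c.twoGrp_not_W hA x.2.2.1 (hyl x.1) (hylZ x.1)⟩
  have hg : Function.Bijective g := by
    constructor
    · rintro ⟨i, w, hw⟩ ⟨j, w', hw'⟩ hxy
      have e : w * yl i = w' * yl j := congrArg Subtype.val hxy
      have hij : i = j := Subtype.ext (by
        rw [← hylv i, ← hylv j, ← hval hw.1 (hyl i), ← hval hw'.1 (hyl j), e])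
      subst hij
      obtain rfl : w = w' := mul_right_cancel e
      rfl
    · rintro ⟨t, ⟨htV, htz⟩, htW⟩
      obtain ⟨w, hw, y, hy, rfl⟩ := c.mem_vGrp hA.1 htV
      have hyZ : y ∉ zpowers z := fun h => htW (mul_mem hw (c.Z_le_fixB A h))
      let i : ι := ⟨c.val y, hy.2.1, c.val_ne hA hy hyZ⟩
      have hd := c.twoGrp_val_eq hy (hyl i) (hylv i).symm
      have hey : w * y = w * ((yl i)⁻¹ * y) * yl i := by
        rw [mul_assoc w, ← c.Z_comm (c.H0le (c.cen_le_H0 (hyl i).1)) hd, mul_inv_cancel_left]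
      refine ⟨⟨i, w * ((yl i)⁻¹ * y), mul_mem hw (c.Z_le_fixB A hd), ?_⟩, Subtype.ext hey.symm⟩
      show c.IsZ (w * ((yl i)⁻¹ * y) * yl i)
      rw [← hey]; exact htz
  have hT : (c.Oset V \ (W : Set G)).ncard = 15 * k := by
    rw [← Nat.card_coe_set_eq, ← Nat.card_eq_of_bijective g hg, Nat.card_sigma]
    rw [Finset.sum_congr rfl (fun i _ => show Nat.card ↥({w : G | w ∈ W ∧ c.IsZ (w * yl i)}) = k by
      rw [Nat.card_coe_set_eq]
      exact le_antisymm (c.fib_eq hA (hyl i) (hylZ i) hu huZ) (c.fib_eq hA hu huZ (hyl i) (hylZ i))),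
      Finset.sum_const, Finset.card_univ, ← Nat.card_eq_fintype_card, hι, smul_eq_mul]
  have h1 := Set.ncard_inter_add_ncard_sdiff_eq_ncard (c.Oset V) (W : Set G) (Set.toFinite _)
  have h2 : c.Oset V ∩ (W : Set G) = insert z {x : G | x ∈ W ∧ c.IsZ x ∧ x ≠ z} := by
    ext x
    constructor
    · rintro ⟨⟨-, hz⟩, hW⟩
      by_cases h : x = z
      · exact Or.inl h
      · exact Or.inr ⟨hW, hz, h⟩
    · rintro (h | ⟨hW, hz, -⟩)
      · rw [h]; exact ⟨⟨c.z_mem_vGrp hA, c.isZ_z⟩, c.Z_le_fixB A (mem_zpowers z)⟩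
      · exact ⟨⟨mem_sup_left hW, hz⟩, hW⟩
  rw [h2, Set.ncard_insert_of_notMem (fun h => h.2.2 rfl) (Set.toFinite _), hT] at h1
  omega

/-- The conjugates of z in W other than z. -/
theorem card_S0 (hA : HexData A) :
    ∃ j ≤ 7, ({x : G | x ∈ c.fixB A ∧ c.IsZ x ∧ x ≠ z}).ncard = 18 * j := by
  classical
  set W := c.fixB A
  set S0 : Set G := {x : G | x ∈ W ∧ c.IsZ x ∧ x ≠ z} with hS0
  obtain ⟨hF7, hFc, -, -⟩ := c.hex_fix hA.1
  have hS0E : ∀ x ∈ S0, x ∈ E ∧ x ∉ zpowers z := fun x hx =>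
    ⟨c.fixB_le A hx.1, fun h => (c.mem_Z.mp h).elim (c.isZ_ne hx.2.1) hx.2.2⟩
  obtain ⟨R, hR, hPR, hR27, hnab, hRN⟩ := c.exists_R hA.1
  have h9 : 9 ∣ Nat.card S0 := c.nine_dvd_set hR hPR hR27 hnab S0 hS0E fun r hr x hx =>
    ⟨c.fixB_conj (hR hr) (hRN r hr) hx.1, c.isZ_conj hx.2.1 r, fun h => hx.2.2 (by
      have h2 := c.Z_conj (inv_mem (hR hr).1) (mem_zpowers z)
      rw [← h] at h2 ⊢
      calc x = r⁻¹ * (r * x * r⁻¹) * r⁻¹⁻¹ := by group
        _ = r * x * r⁻¹ := h2)⟩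
  have hzx : ∀ x ∈ S0, z * x ∈ S0 := by
    intro x hx
    obtain ⟨hxE, hxZ⟩ := hS0E x hx
    obtain ⟨f, hf, hfx⟩ : ∃ f ∈ E, ⁅f, x⁆ = z := by
      by_contra hh
      push Not at hh
      have hx' : (⟨x, hxE⟩ : E) ∈ center E := Subgroup.mem_center_iff.mpr fun e => Subtype.ext
        (commutatorElement_eq_one_iff_mul_comm.mp ((c.mem_Z.mp (c.comm_E e.2 hxE)).resolve_right (hh e e.2)))
      exact hxZ (c.center_E.mp hx')
    have e : f * x * f⁻¹ = z * x := by rw [← hfx, commutatorElement_def, inv_mul_cancel_right]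
    exact ⟨mul_mem (c.Z_le_fixB A (mem_zpowers z)) hx.1, e ▸ c.isZ_conj hx.2.1 f,
      fun h => c.isZ_ne hx.2.1 (mul_eq_left.mp h)⟩
  have h2 : 2 ∣ Nat.card S0 := by
    let π : G → G ⧸ zpowers z := QuotientGroup.mk
    have e : π ⁻¹' (π '' S0) = S0 := by
      refine Set.Subset.antisymm ?_ (Set.subset_preimage_image π S0)
      rintro x ⟨v, hv, hvx⟩
      rcases c.mem_Z.mp (QuotientGroup.eq.mp hvx) with e | e
      · rwa [← inv_mul_eq_one.mp e]
      · have hx : x = v * z := by rw [← e, mul_inv_cancel_left]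
        rw [hx, c.Z_comm (c.Ez (hS0E v hv).1) (mem_zpowers z)]
        exact hzx v hv
    have h := Nat.card_congr (QuotientGroup.preimageMkEquivSubgroupProdSet (zpowers z) (π '' S0))
    rw [Nat.card_prod, c.card_Z] at h
    change Nat.card ↥(π ⁻¹' (π '' S0)) = _ at h
    rw [e] at h
    exact ⟨_, h⟩
  have hle : Nat.card S0 ≤ 126 := by
    rw [Nat.card_coe_set_eq]
    refine (Set.ncard_le_ncard (t := (W : Set G) \ (zpowers z : Set G)) (fun x hx => ⟨hx.1, (hS0E x hx).2⟩)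
      (Set.toFinite _)).trans (le_of_eq ?_)
    rw [Set.ncard_sdiff (show ((zpowers z : Subgroup G) : Set G) ⊆ W from c.Z_le_fixB A), ← Nat.card_coe_set_eq,
      ← Nat.card_coe_set_eq]
    show Nat.card W - Nat.card (zpowers z) = 126
    rw [hF7, c.card_Z]; norm_num
  obtain ⟨j, hj⟩ : 18 ∣ Nat.card S0 := by omega
  exact ⟨j, by omega, by rw [← Nat.card_coe_set_eq]; exact hj⟩

/-- An element of the normalizer of odd prime order which centralizes V is trivial. -/
theorem norm_prime_moves (hA : HexData A) {q : ℕ} (hq : q.Prime) (hq2 : q ≠ 2) {g : G} (hg : orderOf g = q) :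
    ∃ v ∈ c.vGrp A hA.1.1, g * v ≠ v * g := by
  by_contra hall
  push Not at hall
  have hgV := c.cent_vGrp hA hall
  have h2 : g ^ 2 = 1 := by rw [sq]; exact c.vGrp_sq hA.1 hgV
  have hd := orderOf_dvd_of_pow_eq_one h2
  rw [hg] at hd
  exact hq2 ((Nat.prime_dvd_prime_iff_eq hq Nat.prime_two).mp hd)

/-- The conjugation action of an element of prime order. -/
theorem fixed_count {p : ℕ} [Fact p.Prime] {g : G} (hg : g ^ p = 1) (U : Subgroup G)
    (hU : g ∈ normalizer (U : Set G)) :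
    Nat.card U ≡ Nat.card ↥(U ⊓ centralizer ({g} : Set G)) [MOD p] := by
  have hK : IsPGroup p (zpowers g) := by
    rintro ⟨k, hk⟩
    obtain ⟨i, rfl⟩ := mem_zpowers_iff.mp hk
    exact ⟨1, Subtype.ext (by
      rw [pow_one, coe_pow]
      show (g ^ i) ^ p = 1
      rw [← zpow_natCast, ← zpow_mul, mul_comm, zpow_mul, zpow_natCast, hg, one_zpow])⟩
  have h := orbit_mod (zpowers g) hK (U : Set G) fun k hk v hv =>
    (mem_normalizer_iff.mp (zpowers_le.mpr hU hk) v).mp hv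
  refine h.trans (congrArg (· % p) ?_)
  refine Nat.card_congr ⟨fun x => ⟨x.1, x.2.1, mem_centralizer_singleton_iff.mpr
    (mul_inv_eq_iff_eq_mul.mp (x.2.2 g (mem_zpowers g))).symm⟩, fun x => ⟨x.1, x.2.1, fun k hk => ?_⟩,
    fun x => rfl, fun x => rfl⟩
  obtain ⟨i, rfl⟩ := mem_zpowers_iff.mp hk
  rw [((show Commute g x.1 from (mem_centralizer_singleton_iff.mp x.2.2).symm).zpow_left i).eq, mul_inv_cancel_right]

/-- An element of order 23 or 89 normalizing V acts without invariant proper subgroups. -/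
theorem irreducible (hA : HexData A) {q : ℕ} (hq : q = 23 ∨ q = 89) {g : G} (hg : orderOf g = q)
    (hN : g ∈ normalizer (c.vGrp A hA.1.1 : Set G)) {U : Subgroup G} (hU : U ≤ c.vGrp A hA.1.1)
    (hUN : g ∈ normalizer (U : Set G)) : U = ⊥ ∨ U = c.vGrp A hA.1.1 := by
  have hqp : q.Prime := by rcases hq with rfl | rfl <;> norm_num
  haveI : Fact q.Prime := ⟨hqp⟩
  set V := c.vGrp A hA.1.1
  have hVc : Nat.card V = 2 ^ 11 := (c.vGrp_facts hA.1).2
  have hgq : g ^ q = 1 := hg ▸ pow_orderOf_eq_one g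
  have hmodu : ∀ j ≤ 11, 2 ^ 11 ≡ 2 ^ j [MOD q] → j = 0 ∨ j = 11 := by
    rcases hq with rfl | rfl <;> decide
  have h1 := fixed_count hgq V hN
  obtain ⟨j, hj, hjc⟩ := (Nat.dvd_prime_pow Nat.prime_two).mp
    (hVc ▸ card_dvd_of_le (inf_le_left : V ⊓ centralizer ({g} : Set G) ≤ V))
  rw [hVc, hjc] at h1
  have hfix : Nat.card ↥(V ⊓ centralizer ({g} : Set G)) = 1 := by
    rcases hmodu j hj h1 with rfl | rfl
    · rw [hjc]; rfl
    · exfalso
      have hVe : V ⊓ centralizer ({g} : Set G) = V := eq_of_le_of_card_ge inf_le_left (by rw [hjc, hVc])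
      obtain ⟨v, hv, hne⟩ := c.norm_prime_moves hA hqp (by rcases hq with rfl | rfl <;> norm_num) hg
      exact hne (mem_centralizer_singleton_iff.mp (hVe.symm ▸ hv : v ∈ V ⊓ centralizer ({g} : Set G)).2).symm
  have h2 := fixed_count hgq U hUN
  obtain ⟨i, hi, hic⟩ := (Nat.dvd_prime_pow Nat.prime_two).mp (hVc ▸ card_dvd_of_le hU)
  have hUfix : Nat.card ↥(U ⊓ centralizer ({g} : Set G)) = 1 := by
    have := card_le_of_le (inf_le_inf_right (centralizer ({g} : Set G)) hU)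
    have := Nat.card_pos (α := ↥(U ⊓ centralizer ({g} : Set G)))
    omega
  rw [hic, hUfix] at h2
  rw [← hjc, hfix] at h1
  rcases hmodu i hi (h1.trans h2.symm) with rfl | rfl
  · exact Or.inl (eq_bot_of_card_eq U (by rw [hic]; rfl))
  · exact Or.inr (eq_of_le_of_card_ge hU (by rw [hic, hVc]))

/-- The conjugates of z in V do not fill it. -/
theorem card_O_ne (hA : HexData A) (hinv : ∃ n ∈ centralizer ({z} : Set G), ∀ q ∈ P, n * q * n⁻¹ = q⁻¹) :
    (c.Oset (c.vGrp A hA.1.1)).ncard ≠ 2047 := by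
  classical
  intro h2047
  haveI : Fact (Nat.Prime 89) := ⟨by norm_num⟩
  set V := c.vGrp A hA.1.1
  have hVc : Nat.card V = 2 ^ 11 := (c.vGrp_facts hA.1).2
  set NV := normalizer (V : Set G)
  have hK : Nat.card NV = 2047 * (2 ^ 21 * 135) := by rw [c.card_norm_V hA hinv, h2047]
  obtain ⟨S⟩ := (inferInstance : Nonempty (Sylow 89 NV))
  have hS : Nat.card S = 89 := by
    rw [Sylow.card_eq_multiplicity, hK, show 2047 * (2 ^ 21 * 135) = 89 ^ 1 * (23 * (2 ^ 21 * 135)) from rfl,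
      Nat.factorization_mul (by norm_num) (by norm_num), Finsupp.add_apply,
      Nat.Prime.factorization_pow (by norm_num), Finsupp.single_eq_same,
      Nat.factorization_eq_zero_of_not_dvd (by norm_num)]
    rfl
  haveI : IsCyclic (S : Subgroup NV) := isCyclic_of_prime_card (p := 89) hS
  obtain ⟨σ, hσ⟩ := IsCyclic.exists_generator (α := (S : Subgroup NV))
  set g : G := ((σ : NV) : G) with hgdef
  have hog : orderOf g = 89 := by
    rw [hgdef, Subgroup.orderOf_coe, Subgroup.orderOf_coe, orderOf_eq_card_of_forall_mem_zpowers hσ, hS]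
  have hgN : g ∈ NV := (σ : NV).2
  set C := centralizer ((S : Subgroup NV) : Set NV) with hC
  set N := normalizer ((S : Subgroup NV) : Set NV) with hN
  have hgS : ∀ x : NV, x ∈ C → (x : G) * g = g * (x : G) := fun x hx =>
    congrArg Subtype.val (mem_centralizer_iff.mp hx (σ : NV) σ.2).symm
  have hVel := (c.vGrp_facts hA.1).1
  have hsemi : ∀ x : NV, x ∈ C → ∀ v ∈ V, v ≠ 1 → (x : G) * v = v * (x : G) → x = 1 := by
    intro x hx v hv hv1 hxv
    have hU : g ∈ normalizer ((V ⊓ centralizer ({(x : G)} : Set G) : Subgroup G) : Set G) := by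
      refine mem_norm_of fun w hw => ⟨(mem_normalizer_iff.mp hgN w).mp hw.1, mem_centralizer_singleton_iff.mpr ?_⟩
      have h1 : Commute (x : G) g := hgS x hx
      have h2 : Commute (x : G) w := (mem_centralizer_singleton_iff.mp hw.2).symm
      exact ((h1.mul_right h2).mul_right h1.inv_right).eq.symm
    rcases c.irreducible hA (Or.inr rfl) hog hgN inf_le_left hU with e | e
    · exact absurd (Subgroup.mem_bot.mp (e ▸ ⟨hv, mem_centralizer_singleton_iff.mpr hxv.symm⟩ : v ∈ (⊥ : Subgroup G)))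
        hv1
    · have hxV : (x : G) ∈ V := c.cent_vGrp hA fun w hw =>
        (mem_centralizer_singleton_iff.mp (e.symm ▸ hw : w ∈ V ⊓ centralizer ({(x : G)} : Set G)).2).symm
      by_contra hne
      have hx1 : (x : G) ≠ 1 := fun h => hne (Subtype.ext h)
      have hU1 : g ∈ normalizer ((V ⊓ centralizer ({g} : Set G) : Subgroup G) : Set G) :=
        mem_norm_of fun w hw => by
          rw [← mem_centralizer_singleton_iff.mp hw.2, mul_inv_cancel_right]; exact hw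
      rcases c.irreducible hA (Or.inr rfl) hog hgN inf_le_left hU1 with e' | e'
      · exact hx1 (Subgroup.mem_bot.mp (e' ▸ ⟨hxV, mem_centralizer_singleton_iff.mpr (hgS x hx)⟩ :
          (x : G) ∈ (⊥ : Subgroup G)))
      · obtain ⟨w, hw, hne'⟩ := c.norm_prime_moves hA (by norm_num) (by norm_num) hog
        exact hne' (mem_centralizer_singleton_iff.mp (e'.symm ▸ hw : w ∈ V ⊓ centralizer ({g} : Set G)).2).symm
  have hCdvd : Nat.card C ∣ 2047 := by
    let X := {v : G // v ∈ V ∧ v ≠ 1}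
    letI : MulAction C X :=
      { smul := fun x v => ⟨((x : NV) : G) * v.1 * ((x : NV) : G)⁻¹, (mem_normalizer_iff.mp (x : NV).2 v.1).mp v.2.1,
          fun h => v.2.2 (conj_eq_one_iff.mp h)⟩
        one_smul := fun v => Subtype.ext (by
          show ((1 : C) : NV).1 * v.1 * ((1 : C) : NV).1⁻¹ = v.1
          simp)
        mul_smul := fun a b v => Subtype.ext (by
          show (((a * b : C) : NV) : G) * v.1 * (((a * b : C) : NV) : G)⁻¹ =
            ((a : NV) : G) * (((b : NV) : G) * v.1 * ((b : NV) : G)⁻¹) * ((a : NV) : G)⁻¹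
          simp [mul_assoc]) }
    have hX : Nat.card X = 2047 := by
      have e : Nat.card X = Nat.card ↥((V : Set G) \ {1}) := Nat.card_congr
        ⟨fun x => ⟨x.1, x.2.1, x.2.2⟩, fun x => ⟨x.1, x.2.1, x.2.2⟩, fun x => rfl, fun x => rfl⟩
      rw [e, Nat.card_coe_set_eq, Set.ncard_sdiff (Set.singleton_subset_iff.mpr (one_mem V)), Set.ncard_singleton,
        ← Nat.card_coe_set_eq, SetLike.coe_sort_coe, hVc]
      rfl
    haveI : Fintype (MulAction.orbitRel.Quotient C X) := Fintype.ofFinite _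
    rw [← hX, Nat.card_congr (MulAction.selfEquivSigmaOrbits C X), Nat.card_sigma]
    refine Finset.dvd_sum fun ω _ => ?_
    rw [Nat.card_congr (MulAction.orbitEquivQuotientStabilizer C ω.out), ← Subgroup.index_eq_card]
    have hbot : MulAction.stabilizer C ω.out = ⊥ := (Subgroup.eq_bot_iff_forall _).mpr fun x hx => by
      have h1 : ((x : NV) : G) * ω.out.1 * ((x : NV) : G)⁻¹ = ω.out.1 :=
        congrArg Subtype.val (MulAction.mem_stabilizer_iff.mp hx)
      exact Subtype.ext (hsemi x x.2 _ ω.out.2.1 ω.out.2.2 (mul_inv_eq_iff_eq_mul.mp h1))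
    rw [hbot, Subgroup.index_bot]
  have hSC : (S : Subgroup NV) ≤ C := fun x hx => mem_centralizer_iff.mpr fun y hy => by
    obtain ⟨i, hi⟩ := mem_zpowers_iff.mp (hσ ⟨x, hx⟩)
    obtain ⟨k, hk⟩ := mem_zpowers_iff.mp (hσ ⟨y, hy⟩)
    have := congrArg Subtype.val ((Commute.zpow_zpow (Commute.refl σ) k i).eq)
    rw [hi, hk] at this
    exact this
  have h89 : 89 ∣ Nat.card C := hS ▸ card_dvd_of_le hSC
  have hCc : Nat.card C = 89 ∨ Nat.card C = 2047 := by
    obtain ⟨d, hd⟩ := h89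
    have hd23 : d ∣ 23 := by
      have := hCdvd
      rw [hd, show 2047 = 89 * 23 from rfl] at this
      exact Nat.dvd_of_mul_dvd_mul_left (by norm_num) this
    rcases (Nat.dvd_prime (by norm_num)).mp hd23 with rfl | rfl
    · exact Or.inl hd
    · exact Or.inr hd
  obtain ⟨e, hNC, he88⟩ : ∃ e, Nat.card N = Nat.card C * e ∧ e ∣ 88 := by
    let φ := (S : Subgroup NV).normalizerMonoidHom
    refine ⟨Nat.card φ.range, ?_, ?_⟩
    · have h := Subgroup.card_mul_index φ.ker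
      rw [Subgroup.index_ker, Subgroup.normalizerMonoidHom_ker,
        Nat.card_congr (subgroupOfEquivOfLe (centralizer_le_normalizer _)).toEquiv] at h
      exact h.symm
    · refine (card_subgroup_dvd_card _).trans ?_
      rw [IsCyclic.card_mulAut, hS, Nat.totient_prime (by norm_num)]
  have he8 : e ∣ 8 := by
    have hd := card_subgroup_dvd_card N
    rw [hK, hNC] at hd
    have h11 : Nat.Coprime e 11 := by
      rw [Nat.coprime_comm, (show Nat.Prime 11 by norm_num).coprime_iff_not_dvd]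
      intro h
      have := (h.trans (dvd_mul_left e _)).trans hd
      norm_num at this
    exact h11.dvd_of_dvd_mul_right (show e ∣ 8 * 11 from he88)
  have hn : Nat.card (Sylow 89 NV) = 2047 * (2 ^ 21 * 135) / (Nat.card C * e) := by
    rw [S.card_eq_index_normalizer, ← hNC, ← hK, ← Subgroup.card_mul_index N, Nat.mul_div_cancel_left _ Nat.card_pos]; rfl
  have hmod := card_sylow_modEq_one 89 NV
  rw [hn] at hmod
  refine arith_89 (Nat.card C) ?_ e ?_ hmod
  · rcases hCc with h | h <;> simp [h]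
  · obtain ⟨i, hi, rfl⟩ := (Nat.dvd_prime_pow Nat.prime_two).mp (show e ∣ 2 ^ 3 from he8)
    interval_cases i <;> simp

/-- The facts on the orbits. -/
structure Orb (c : Ctx z P E) (A : Subgroup MTwoTwo) : Prop where
  hA : HexData A
  hinv : ∃ n ∈ centralizer ({z} : Set G), ∀ q ∈ P, n * q * n⁻¹ = q⁻¹
  twin : ∀ y ∈ c.twoGrp A hA.1.1, y ∉ zpowers z → (c.IsZ (z * y) ↔ ¬ c.IsZ y)
  fibre : ∀ y ∈ c.twoGrp A hA.1.1, y ∉ zpowers z → ¬ c.IsZ y → ∀ w ∈ c.fixB A, (c.IsZ (w * y) ↔ w ∉ c.cR y)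
  cardO : (c.Oset (c.vGrp A hA.1.1)).ncard = 1771
  cardT : (c.Tset (c.vGrp A hA.1.1)).ncard = 276
  cardTW : (c.Tset (c.vGrp A hA.1.1) ∩ (c.fixB A : Set G)).ncard = 36

theorem exists_orb [IsSimpleGroup G] (hG : ¬ IsMulCommutative G)
    (hinv : ∃ n ∈ centralizer ({z} : Set G), ∀ q ∈ P, n * q * n⁻¹ = q⁻¹) : ∃ A, c.Orb A := by
  classical
  obtain ⟨A, hA, u, hu, huZ, huz⟩ := c.exists_u hG
  refine ⟨A, ?_⟩
  set V := c.vGrp A hA.1.1 with hV
  set W := c.fixB A with hW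
  obtain ⟨hVel, hVc⟩ := c.vGrp_facts hA.1
  obtain ⟨hF7, -, -, -⟩ := c.hex_fix hA.1
  have hsum := c.card_O_sum hA hu huZ
  obtain ⟨j, hj, hjc⟩ := c.card_S0 hA
  set k := ({w : G | w ∈ W ∧ c.IsZ (w * u)}).ncard with hk
  have hk4 : k ∈ [16, 32, 112, 128] := by
    rw [hk, c.fib_card hA hu huZ, if_pos huz]
    split_ifs <;> simp
  rw [hjc, ← hV] at hsum
  have hNc := c.card_norm_V hA hinv
  rw [← hV] at hNc
  have hdone : 1 + 18 * j + 15 * k = 1771 ∧ j = 5 ∧ k = 112 := by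
    rcases arith_count j hj k hk4 with h | h | ⟨q, hq, hqd⟩
    · exact h
    · exact absurd (hsum.trans h) (c.card_O_ne hA hinv)
    · exfalso
      obtain ⟨hqp, hq2, hqk⟩ := arith_primes q hq
      haveI : Fact q.Prime := ⟨hqp⟩
      obtain ⟨g, hg⟩ := exists_prime_orderOf_dvd_card' (G := ↥(normalizer (V : Set G))) q
        (by rw [hNc, hsum]; exact dvd_mul_of_dvd_left hqd _)
      have hgo : orderOf (g : G) = q := by rw [Subgroup.orderOf_coe]; exact hg
      have hgq : (g : G) ^ q = 1 := hgo ▸ pow_orderOf_eq_one _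
      let σ : MulAut V :=
        { toFun := fun x => ⟨(g : G) * x * (g : G)⁻¹, (mem_normalizer_iff.mp g.2 x).mp x.2⟩
          invFun := fun x => ⟨(g : G)⁻¹ * x * g, by
            have := (mem_normalizer_iff.mp (inv_mem g.2) x).mp x.2
            rwa [inv_inv] at this⟩
          left_inv := fun x => Subtype.ext (by simp [mul_assoc])
          right_inv := fun x => Subtype.ext (by simp [mul_assoc])
          map_mul' := fun x y => Subtype.ext (by simp [mul_assoc]) }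
      have hpow : ∀ (n : ℕ) (x : V), (((σ ^ n) x : V) : G) = (g : G) ^ n * x * ((g : G) ^ n)⁻¹ := by
        intro n
        induction n with
        | zero => simp
        | succ n ih =>
          intro x
          rw [pow_succ', MulAut.mul_apply]
          show (g : G) * (((σ ^ n) x : V) : G) * (g : G)⁻¹ = _
          rw [ih x, pow_succ']; group
      have hσ : σ ^ q = 1 := MulEquiv.ext fun x => Subtype.ext (by rw [hpow, hgq]; simp)
      have h1 := no_aut hVc hqp hq2 hqk σ hσ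
      obtain ⟨v, hv, hne⟩ := c.norm_prime_moves hA hqp hq2 hgo
      apply hne
      have h2 : (g : G) * v * (g : G)⁻¹ = v :=
        congrArg (fun f : MulAut V => ((f ⟨v, hv⟩ : V) : G)) h1
      exact mul_inv_eq_iff_eq_mul.mp h2
  obtain ⟨hO, rfl, hk112⟩ := hdone
  rw [hO] at hsum
  have hfib : ∀ y ∈ c.twoGrp A hA.1.1, y ∉ zpowers z → ({w : G | w ∈ W ∧ c.IsZ (w * y)}).ncard = 112 :=
    fun y hy hyZ => le_antisymm ((c.fib_eq hA hy hyZ hu huZ).trans hk112.le)
      (hk112.ge.trans (c.fib_eq hA hu huZ hy hyZ))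
  have htwin : ∀ y ∈ c.twoGrp A hA.1.1, y ∉ zpowers z → (c.IsZ (z * y) ↔ ¬ c.IsZ y) := by
    intro y hy hyZ
    have h := hfib y hy hyZ
    rw [c.fib_card hA hy hyZ] at h
    by_cases h1 : c.IsZ y <;> by_cases h2 : c.IsZ (z * y) <;> simp only [h1, h2, if_true, if_false] at h <;>
      first
        | exact ⟨fun _ => h1, fun _ => h2⟩
        | exact ⟨fun hh => absurd hh h2, fun hh => absurd h1 hh⟩
        | (exfalso; split_ifs at h <;> omega)
  refine ⟨hA, hinv, htwin, fun y hy hyZ hny w hw => ?_, hsum, ?_, ?_⟩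
  · obtain ⟨-, hSW, -, -⟩ := c.kernel_facts hA hy hyZ
    have hRy : ∀ v ∈ c.cR y, ¬ c.IsZ (v * y) := by
      rintro _ ⟨f, hf, rfl⟩
      rw [commutatorElement_def, inv_mul_cancel_right, c.isZ_iff]; exact hny
    refine ⟨fun h hR => hRy w hR h, fun hR => ?_⟩
    by_cases hwS : w ∈ E ⊓ centralizer (c.ker1 hy.1.1 : Set G)
    · obtain ⟨t, ht, htw⟩ := c.cR_cover hA hy hyZ hwS
      rcases c.mem_Z.mp ht with et | et
      · rw [et, one_mul] at htw; exact absurd htw hR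
      · rw [et] at htw
        obtain ⟨f, hf, hfe⟩ := htw
        have e : w * y = f * (z * y) * f⁻¹ := by
          rw [show f * (z * y) * f⁻¹ = f * z * f⁻¹ * (⁅f, y⁆ * y) by rw [commutatorElement_def]; group,
            c.Z_conj (c.Ez hf) (mem_zpowers z), hfe, ← mul_assoc, ← mul_assoc, c.zz, one_mul]
        rw [e]
        exact c.isZ_conj ((htwin y hy hyZ).mpr hny) f
    · have h := hfib y hy hyZ
      rw [c.fib_card hA hy hyZ, if_neg hny, if_pos ((htwin y hy hyZ).mpr hny)] at h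
      obtain ⟨w0, hw0, hw0S, hw0z⟩ : ∃ w0 ∈ W, w0 ∉ E ⊓ centralizer (c.ker1 hy.1.1 : Set G) ∧ c.IsZ (w0 * y) := by
        by_contra hne
        rw [if_neg hne] at h
        omega
      obtain ⟨n, -, -, hn⟩ := c.big_conj hA hy hyZ hw0 hw hw0S hwS
      exact hn ▸ c.isZ_conj hw0z n
  · have e : c.Tset V = ((V : Set G) \ {1}) \ c.Oset V := by
      ext v
      exact ⟨fun h => ⟨⟨h.1, h.2.1⟩, fun h' => h.2.2 h'.2⟩, fun h => ⟨h.1.1, h.1.2, fun h' => h.2 ⟨h.1.1, h'⟩⟩⟩
    rw [e, Set.ncard_sdiff (show c.Oset V ⊆ (V : Set G) \ {1} from fun v hv => ⟨hv.1, c.isZ_ne hv.2⟩), hsum,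
      Set.ncard_sdiff (Set.singleton_subset_iff.mpr (one_mem V)), Set.ncard_singleton, ← Nat.card_coe_set_eq,
      SetLike.coe_sort_coe, hVc]
    rfl
  · have e : c.Tset V ∩ (W : Set G) = ((W : Set G) \ (zpowers z : Set G)) \
        {x : G | x ∈ W ∧ c.IsZ x ∧ x ≠ z} := by
      ext v
      constructor
      · rintro ⟨⟨hv, h1, hz⟩, hW⟩
        refine ⟨⟨hW, fun h => ?_⟩, fun h => hz h.2.1⟩
        rcases c.mem_Z.mp h with e | e
        · exact h1 e
        · exact hz (e ▸ c.isZ_z)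
      · rintro ⟨⟨hW, hZ⟩, hS⟩
        exact ⟨⟨mem_sup_left hW, fun h => hZ (h ▸ one_mem _), fun h => hS ⟨hW, h, fun e => hZ (e ▸ mem_zpowers z)⟩⟩,
          hW⟩
    rw [e, Set.ncard_sdiff, hjc,
      Set.ncard_sdiff (show ((zpowers z : Subgroup G) : Set G) ⊆ W from c.Z_le_fixB A), ← Nat.card_coe_set_eq,
      ← Nat.card_coe_set_eq]
    · show Nat.card W - Nat.card (zpowers z) - 18 * 5 = 36
      rw [hF7, c.card_Z]; norm_num
    · exact fun v hv => ⟨hv.1, fun h => (c.mem_Z.mp h).elim (c.isZ_ne hv.2.1) hv.2.2⟩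

/-- Every element of T moves to a chosen lift. -/
theorem Orb.T_to {c : Ctx z P E} {A : Subgroup MTwoTwo} (o : c.Orb A) {v y : G}
    (hv : v ∈ c.Tset (c.vGrp A o.hA.1.1)) (hy : y ∈ c.twoGrp A o.hA.1.1) (hyZ : y ∉ zpowers z)
    (hny : ¬ c.IsZ y) : ∃ n ∈ normalizer (c.vGrp A o.hA.1.1 : Set G), n * v * n⁻¹ = y := by
  classical
  set V := c.vGrp A o.hA.1.1 with hV
  set NV := normalizer (V : Set G) with hNV
  have hNc := c.card_norm_V o.hA o.hinv
  rw [o.cardO] at hNc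
  haveI : Fact (Nat.Prime 23) := ⟨by norm_num⟩
  obtain ⟨g, hg⟩ := exists_prime_orderOf_dvd_card' (G := ↥NV) 23 (by rw [hNc]; norm_num)
  obtain ⟨n, hn, hnW⟩ : ∃ n ∈ NV, n * v * n⁻¹ ∉ c.fixB A := by
    by_contra hall
    push Not at hall
    set U := Subgroup.closure {x : G | ∃ n ∈ NV, n * v * n⁻¹ = x} with hU
    have hUW : U ≤ c.fixB A := (closure_le _).mpr (by rintro _ ⟨n, hn, rfl⟩; exact hall n hn)
    have hgN : (g : G) ∈ normalizer (U : Set G) := by
      refine mem_norm_of fun x hx => ?_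
      refine Subgroup.closure_induction (p := fun x _ => (g : G) * x * (g : G)⁻¹ ∈ U) ?_ (by simp) ?_ ?_ hx
      · rintro _ ⟨n, hn, rfl⟩
        exact subset_closure ⟨g * n, mul_mem g.2 hn, by group⟩
      · intro a b _ _ ha hb
        rw [show (g : G) * (a * b) * (g : G)⁻¹ = g * a * (g : G)⁻¹ * (g * b * (g : G)⁻¹) by group]
        exact mul_mem ha hb
      · intro a _ ha
        rw [show (g : G) * a⁻¹ * (g : G)⁻¹ = (g * a * (g : G)⁻¹)⁻¹ by group]
        exact inv_mem ha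
    rcases c.irreducible o.hA (Or.inl rfl) (show orderOf (g : G) = 23 by rw [Subgroup.orderOf_coe]; exact hg) g.2
      (hUW.trans le_sup_left) hgN with e | e
    · exact hv.2.1 (Subgroup.mem_bot.mp (e ▸ subset_closure ⟨1, one_mem _, by group⟩))
    · have := card_le_of_le (e ▸ hUW)
      rw [(c.hex_fix o.hA.1).1, (c.vGrp_facts o.hA.1).2] at this
      norm_num at this
  have hv' := c.norm_T hn hv
  obtain ⟨w, hw, x, hx, he⟩ := c.mem_vGrp o.hA.1 hv'.1
  have hxZ : x ∉ zpowers z := fun h => hnW (he ▸ mul_mem hw (c.Z_le_fixB A h))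
  obtain ⟨k, hk, hkN, t, ht, hke⟩ := c.to_fibre o.hA hx hxZ hy hyZ
  have hw' : k * w * k⁻¹ * t ∈ c.fixB A := mul_mem (c.fixB_conj hk hkN hw) (c.Z_le_fixB A ht)
  have hkn : k * n * v * (k * n)⁻¹ = k * w * k⁻¹ * t * y := by
    rw [show k * n * v * (k * n)⁻¹ = k * (n * v * n⁻¹) * k⁻¹ by group, he,
      show k * (w * x) * k⁻¹ = k * w * k⁻¹ * (k * x * k⁻¹) by group, hke, mul_assoc (k * w * k⁻¹)]
  have hkNV : k ∈ NV := c.cen_norm_V o.hA.1 hk hkN
  have hT2 := c.norm_T (mul_mem hkNV hn) hv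
  rw [hkn] at hT2
  obtain ⟨f, hf, hfe⟩ : k * w * k⁻¹ * t ∈ c.cR y := by
    by_contra hR
    exact hT2.2.2 ((o.fibre y hy hyZ hny _ hw').mpr hR)
  refine ⟨f⁻¹ * (k * n), mul_mem (inv_mem (c.E_norm_V o.hA hf)) (mul_mem hkNV hn), ?_⟩
  rw [show f⁻¹ * (k * n) * v * (f⁻¹ * (k * n))⁻¹ = f⁻¹ * (k * n * v * (k * n)⁻¹) * f by group, hkn, ← hfe,
    commutatorElement_def]
  group

end Ctx

end CfsgLib.JankoFour
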