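/-
The common centralizer of a conjugate of z and another involution of the group of order 2^11.
-/
import Cfsg.Agent.Lib.JankoFour.OrbOne

set_option autoImplicit false

namespace CfsgLib.JankoFour

open Cfsg Subgroup
open scoped commutatorElement

universe u

variable {G : Type u} [Group G] [Finite G] {z : G} {P E : Subgroup G}

namespace Ctx

/-- The line through an element of E. -/
def lineOf (_c : Ctx z P E) (p s : G) : Subgroup G := Subgroup.closure {z, s, p * s * p⁻¹}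

theorem mem_lineOf_left (c : Ctx z P E) (p s : G) :
    z ∈ c.lineOf p s ∧ s ∈ c.lineOf p s ∧ p * s * p⁻¹ ∈ c.lineOf p s :=
  ⟨subset_closure (by simp), subset_closure (by simp), subset_closure (by simp)⟩

theorem lineOf_le (c : Ctx z P E) {p s : G} {U : Subgroup G} (hz : z ∈ U) (hs : s ∈ U) (hs' : p * s * p⁻¹ ∈ U) :
    c.lineOf p s ≤ U :=
  (closure_le _).mpr (by rintro x (rfl | rfl | rfl) <;> assumption)

theorem lineOf_map (c : Ctx z P E) {p s n : G} (hn : n ∈ c.cen) (hp : p ∈ P) :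
    (c.lineOf p s).map (MulAut.conj n).toMonoidHom = c.lineOf p (n * s * n⁻¹) := by
  rw [lineOf, lineOf, MonoidHom.map_closure, Set.image_insert_eq, Set.image_insert_eq, Set.image_singleton]
  congr 1
  simp only [MulEquiv.coe_toMonoidHom, MulAut.conj_apply]
  have e1 : n * z * n⁻¹ = z := c.Z_conj hn.1 (mem_zpowers z)
  have e2 : n * (p * s * p⁻¹) * n⁻¹ = p * (n * s * n⁻¹) * p⁻¹ := by
    rw [show n * (p * s * p⁻¹) * n⁻¹ = (n * p) * s * (n * p)⁻¹ by group, c.cen_comm hn hp]; group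
  rw [e1, e2]

variable (c : Ctx z P E) {A : Subgroup MTwoTwo}

/-- The facts on a line. -/
theorem line_facts (hA : HexData A) {p s : G} (hp : p ∈ P) (hgen : P = zpowers p) (hs : s ∈ c.fixB A)
    (hsZ : s ∉ zpowers z) :
    c.lineOf p s ≤ c.fixB A ∧ Nat.card (c.lineOf p s) = 8 ∧
      (∀ x ∈ c.lineOf p s, x ∉ zpowers z → ∃ t ∈ zpowers z,
        x = t * s ∨ x = t * (p * s * p⁻¹) ∨ x = t * (p * (p * s * p⁻¹) * p⁻¹)) ∧
      (∀ q ∈ P, ∀ x ∈ c.lineOf p s, q * x * q⁻¹ ∈ c.lineOf p s) := by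
  obtain ⟨hF7, -, hFsq, -⟩ := c.hex_fix hA.1
  set W := c.fixB A
  have hcomm : ∀ a ∈ W, ∀ b ∈ W, a * b = b * a := fun a ha b hb =>
    c.vGrp_comm hA.1 (mem_sup_left ha) (mem_sup_left hb)
  set s1 := p * s * p⁻¹ with hs1
  set s2 := p * s1 * p⁻¹ with hs2
  have hs1W : s1 ∈ W := c.fixB_P hp hs
  have hs2W : s2 ∈ W := c.fixB_P hp hs1W
  have hprod : s * s1 * s2 ∈ zpowers z := c.orbit_prod_Z hA.1 hp hgen hs
  have hzW : zpowers z ≤ W := c.Z_le_fixB A
  obtain ⟨U1, h1, h1W, hsU1, h1c, h1mem⟩ := exists_adj hFsq hcomm hzW hs hsZ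
  have hs1U : s1 ∉ U1 := fun h => by
    rcases (h1mem s1).mp h with h | h
    · refine hsZ ?_
      have h2 := c.Z_conj (inv_mem (c.P_le hp)) h
      rw [hs1, show p⁻¹ * (p * s * p⁻¹) * p⁻¹⁻¹ = s by group] at h2
      rw [h2]; exact h
    · refine hsZ (c.fixed_mem_Z hp hgen (c.fixB_le A hs) ?_)
      rw [inv_eq_of_mul_eq_one_left (hFsq s hs), hcomm _ hs1W s hs]; exact h
  obtain ⟨L, h2, h2W, hs1L, h2c, h2mem⟩ := exists_adj hFsq hcomm h1W hs1W hs1U
  have hle : c.lineOf p s ≤ L := c.lineOf_le (h2 (h1 (mem_zpowers z))) (h2 hsU1) hs1L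
  have hm := c.mem_lineOf_left p s
  have hge : L ≤ c.lineOf p s := by
    have hU1 : U1 ≤ c.lineOf p s := fun x hx => by
      rcases (h1mem x).mp hx with h | h
      · exact zpowers_le.mpr hm.1 h
      · have := mul_mem (inv_mem hm.2.1) (zpowers_le.mpr hm.1 h)
        rwa [inv_mul_cancel_left] at this
    intro x hx
    rcases (h2mem x).mp hx with h | h
    · exact hU1 h
    · have := mul_mem (inv_mem hm.2.2) (hU1 h)
      rwa [inv_mul_cancel_left] at this
  have hL : c.lineOf p s = L := le_antisymm hle hge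
  have henum : ∀ x ∈ c.lineOf p s, x ∉ zpowers z →
      ∃ t ∈ zpowers z, x = t * s ∨ x = t * s1 ∨ x = t * s2 := by
    intro x hx hxZ
    have hxW : x ∈ W := h2W (hL ▸ hx)
    have hshift : ∀ {a}, a ∈ W → a * x ∈ zpowers z → x = a * x * a := fun {a} ha _ => by
      rw [hcomm a ha x hxW, mul_assoc, hFsq a ha, mul_one]
    rcases (h2mem x).mp (hL ▸ hx) with h | h
    · rcases (h1mem x).mp h with h | h
      · exact absurd h hxZ
      · exact ⟨_, h, Or.inl (hshift hs h)⟩
    · rcases (h1mem _).mp h with h | h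
      · exact ⟨_, h, Or.inr (Or.inl (hshift hs1W h))⟩
      · refine ⟨_, mul_mem h hprod, Or.inr (Or.inr ?_)⟩
        rw [mul_assoc (s * (s1 * x)), mul_assoc (s * s1), hFsq s2 hs2W, mul_one, ← mul_assoc s,
          hcomm _ (mul_mem hs hs1W) x hxW, mul_assoc x, hFsq _ (mul_mem hs hs1W), mul_one]
  refine ⟨hL ▸ h2W, by rw [hL, h2c, h1c, c.card_Z], henum, fun q hq x hx => ?_⟩
  have hpinv : ∀ x ∈ c.lineOf p s, p * x * p⁻¹ ∈ c.lineOf p s := by
    intro x hx
    have hle2 : c.lineOf p (p * s * p⁻¹) ≤ c.lineOf p s := by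
      refine c.lineOf_le hm.1 hm.2.2 ?_
      show s2 ∈ c.lineOf p s
      have e : s2 = (s * s1)⁻¹ * (s * s1 * s2) := by rw [inv_mul_cancel_left]
      rw [e]
      exact mul_mem (inv_mem (mul_mem hm.2.1 hm.2.2)) (zpowers_le.mpr hm.1 hprod)
    exact hle2 (c.lineOf_map (c.P_le_cen hp) hp ▸ ⟨x, hx, rfl⟩)
  have key : q ∈ normalizer (c.lineOf p s : Set G) := zpowers_le.mpr (mem_norm_of hpinv) (hgen ▸ hq)
  exact (mem_normalizer_iff.mp key x).mp hx

theorem T_not_Z {V : Subgroup G} {v : G} (hv : v ∈ c.Tset V) : v ∉ zpowers z := fun h =>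
  (c.mem_Z.mp h).elim hv.2.1 fun e => hv.2.2 (e ▸ c.isZ_z)

/-- The T part of W is invariant under z. -/
theorem T_zmul (hA : HexData A) {v : G} (hv : v ∈ c.Tset (c.vGrp A hA.1.1)) (hvW : v ∈ c.fixB A) :
    z * v ∈ c.Tset (c.vGrp A hA.1.1) := by
  have hvE := c.fixB_le A hvW
  obtain ⟨f, hf, hfx⟩ : ∃ f ∈ E, ⁅f, v⁆ = z := by
    by_contra hh
    push Not at hh
    have hx' : (⟨v, hvE⟩ : E) ∈ center E := Subgroup.mem_center_iff.mpr fun e => Subtype.ext
      (commutatorElement_eq_one_iff_mul_comm.mp ((c.mem_Z.mp (c.comm_E e.2 hvE)).resolve_right (hh e e.2)))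
    exact c.T_not_Z hv (c.center_E.mp hx')
  have e : f * v * f⁻¹ = z * v := by rw [← hfx, commutatorElement_def, inv_mul_cancel_right]
  exact e ▸ c.norm_T (c.E_norm_V hA hf) hv

theorem line_T (hA : HexData A) {p s : G} (hp : p ∈ P) (hgen : P = zpowers p)
    (hs : s ∈ c.Tset (c.vGrp A hA.1.1)) (hsW : s ∈ c.fixB A) {x : G} (hx : x ∈ c.lineOf p s)
    (hxZ : x ∉ zpowers z) : x ∈ c.Tset (c.vGrp A hA.1.1) ∧ x ∈ c.fixB A ∧ c.lineOf p x = c.lineOf p s := by
  have hsZ := c.T_not_Z hs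
  obtain ⟨hLW, hLc, henum, hLP⟩ := c.line_facts hA hp hgen hsW hsZ
  have hxW := hLW hx
  refine ⟨?_, hxW, ?_⟩
  · have hpN : p ∈ normalizer (c.vGrp A hA.1.1 : Set G) :=
      c.cen_norm_V hA.1 (c.P_le_cen hp) (by rw [c.val_P hp]; exact one_mem _)
    have hs1 := c.norm_T hpN hs
    have hs2 := c.norm_T hpN hs1
    obtain ⟨t, ht, h⟩ := henum x hx hxZ
    rcases c.mem_Z.mp ht with et | et <;> rcases h with h | h | h <;> rw [h, et] <;>
      (try rw [one_mul])
    exacts [hs, hs1, hs2, c.T_zmul hA hs hsW, c.T_zmul hA hs1 (c.fixB_P hp hsW),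
      c.T_zmul hA hs2 (c.fixB_P hp (c.fixB_P hp hsW))]
  · exact eq_of_le_of_card_ge (c.lineOf_le (c.mem_lineOf_left p s).1 hx (hLP p hp x hx))
      (by rw [hLc, (c.line_facts hA hp hgen hxW hxZ).2.1])

/-- There are six lines in the T part of W. -/
theorem six_lines {A : Subgroup MTwoTwo} (o : c.Orb A) {p : G} (hp : p ∈ P) (hgen : P = zpowers p) :
    ((fun v => c.lineOf p v) '' (c.Tset (c.vGrp A o.hA.1.1) ∩ (c.fixB A : Set G))).ncard = 6 := by
  classical
  set S := c.Tset (c.vGrp A o.hA.1.1) ∩ (c.fixB A : Set G) with hS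
  let F := (Set.toFinite S).toFinset
  have himg : ((fun v => c.lineOf p v) '' S) = ((F.image fun v => c.lineOf p v : Finset (Subgroup G)) : Set _) := by
    simp [F]
  rw [himg, Set.ncard_coe_finset]
  have hF : F.card = 36 := by rw [← Set.ncard_eq_toFinset_card S]; exact o.cardTW
  have h := Finset.card_eq_sum_card_image (fun v => c.lineOf p v) F
  have hfib : ∀ L ∈ F.image (fun v => c.lineOf p v), (F.filter fun v => c.lineOf p v = L).card = 6 := by
    intro L hL
    obtain ⟨s, hs, rfl⟩ := Finset.mem_image.mp hL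
    obtain ⟨hsT, hsW⟩ := (Set.Finite.mem_toFinset _).mp hs
    obtain ⟨hLW, hLc, -, -⟩ := c.line_facts o.hA hp hgen hsW (c.T_not_Z hsT)
    have e : ((F.filter fun v => c.lineOf p v = c.lineOf p s : Finset G) : Set G) =
        (c.lineOf p s : Set G) \ (zpowers z : Set G) := by
      ext v
      simp only [Finset.coe_filter, Set.mem_setOf_eq, Set.mem_sdiff, SetLike.mem_coe, F, Set.Finite.mem_toFinset]
      constructor
      · rintro ⟨hv, he⟩
        exact ⟨he ▸ (c.mem_lineOf_left p v).2.1, c.T_not_Z hv.1⟩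
      · rintro ⟨hv, hvZ⟩
        obtain ⟨h1, h2, h3⟩ := c.line_T o.hA hp hgen hsT hsW hv hvZ
        exact ⟨⟨h1, h2⟩, h3⟩
    rw [← Set.ncard_coe_finset, e, Set.ncard_sdiff (show ((zpowers z : Subgroup G) : Set G) ⊆ c.lineOf p s from
      (zpowers_le.mpr (c.mem_lineOf_left p s).1 : zpowers z ≤ c.lineOf p s)), ← Nat.card_coe_set_eq,
      ← Nat.card_coe_set_eq]
    show Nat.card (c.lineOf p s) - Nat.card (zpowers z) = 6
    rw [hLc, c.card_Z]
  rw [Finset.sum_congr rfl hfib, Finset.sum_const, hF, smul_eq_mul] at h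
  omega

/-- The stabilizer in M22 of a line of the T part lies in the normalizer of A. -/
theorem line_stab {A : Subgroup MTwoTwo} (o : c.Orb A) {p s : G} (hp : p ∈ P) (hgen : P = zpowers p)
    (hs : s ∈ c.Tset (c.vGrp A o.hA.1.1)) (hsW : s ∈ c.fixB A) :
    ((normalizer (c.lineOf p s : Set G)).subgroupOf c.cen).map c.valHom ≤ normalizer (A : Set MTwoTwo) := by
  classical
  have hA := o.hA
  set W := c.fixB A
  set L := c.lineOf p s with hL
  obtain ⟨hLW, hLc, -, hLP⟩ := c.line_facts hA hp hgen hsW (c.T_not_Z hs)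
  have hzL : zpowers z ≤ L := zpowers_le.mpr (c.mem_lineOf_left p s).1
  obtain ⟨hF7, -, -, hFQ⟩ := c.hex_fix hA.1
  obtain ⟨oct, ho⟩ := c.exists_octHex hA
  set KX := (normalizer (L : Set G)).subgroupOf c.cen with hKX
  set NA := normalizer (A : Set MTwoTwo) with hNA
  set X := KX.map c.valHom with hX
  set KA := NA.comap c.valHom with hKA
  have hkerX : c.valHom.ker ≤ KX := by
    intro x hx
    obtain ⟨t, ht, q, hq, e⟩ := c.cen_N x.2 ((c.val_eq_one (c.cen_le_H0 x.2)).mp (MonoidHom.mem_ker.mp hx))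
    rw [hKX, mem_subgroupOf, e]
    exact mul_mem (le_normalizer (hzL ht)) (mem_norm_of (hLP q hq))
  -- the part normalizing A
  have hidx : Nat.card KA ≤ 6 * Nat.card ↥(KA ⊓ KX) := by
    let φ : KA ⧸ (KX.subgroupOf KA) → ↥((fun v => c.lineOf p v) '' (c.Tset (c.vGrp A hA.1.1) ∩ (W : Set G))) :=
      Quotient.lift (fun h : KA => ⟨L.map (MulAut.conj ((h : c.cen) : G)).toMonoidHom, by
        refine ⟨((h : c.cen) : G) * s * ((h : c.cen) : G)⁻¹, ⟨c.norm_T (c.cen_norm_V hA.1 (h : c.cen).2 h.2) hs,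
          c.fixB_conj (h : c.cen).2 h.2 hsW⟩, ?_⟩
        exact (c.lineOf_map (h : c.cen).2 hp).symm⟩) (by
        intro a b hab
        have hm : ((a⁻¹ * b : KA) : c.cen) ∈ KX := mem_subgroupOf.mp (QuotientGroup.leftRel_apply.mp hab)
        rw [hKX, mem_subgroupOf] at hm
        refine Subtype.ext ?_
        show L.map _ = L.map _
        ext v
        constructor
        · rintro ⟨w, hw, rfl⟩
          refine ⟨((a⁻¹ * b : KA) : c.cen).1⁻¹ * w * ((a⁻¹ * b : KA) : c.cen).1, ?_, ?_⟩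
          · have := (mem_normalizer_iff.mp (inv_mem hm) w).mp hw
            rwa [inv_inv] at this
          · simp [mul_assoc]
        · rintro ⟨w, hw, rfl⟩
          exact ⟨((a⁻¹ * b : KA) : c.cen).1 * w * ((a⁻¹ * b : KA) : c.cen).1⁻¹,
            (mem_normalizer_iff.mp hm w).mp hw, by simp [mul_assoc]⟩)
    have hφ : Function.Injective φ := by
      intro a b
      induction a using Quotient.inductionOn with | h a => ?_
      induction b using Quotient.inductionOn with | h b => ?_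
      intro e
      have e' : L.map (MulAut.conj ((a : c.cen) : G)).toMonoidHom = L.map (MulAut.conj ((b : c.cen) : G)).toMonoidHom :=
        congrArg Subtype.val e
      refine QuotientGroup.eq.mpr (mem_subgroupOf.mpr ?_)
      rw [hKX, mem_subgroupOf]
      refine mem_norm_of fun w hw => ?_
      obtain ⟨v, hv, hve⟩ : ((b : c.cen) : G) * w * ((b : c.cen) : G)⁻¹ ∈ L.map (MulAut.conj ((a : c.cen) : G)).toMonoidHom :=
        e' ▸ ⟨w, hw, rfl⟩
      have hve' : ((a : c.cen) : G) * v * ((a : c.cen) : G)⁻¹ = ((b : c.cen) : G) * w * ((b : c.cen) : G)⁻¹ := hve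
      simp only [Subgroup.coe_mul, Subgroup.coe_inv]
      rw [show ((a : c.cen) : G)⁻¹ * (b : c.cen) * w * (((a : c.cen) : G)⁻¹ * (b : c.cen))⁻¹ =
        ((a : c.cen) : G)⁻¹ * (((b : c.cen) : G) * w * ((b : c.cen) : G)⁻¹) * (a : c.cen) by group, ← hve']
      simpa [mul_assoc] using hv
    have h6 := Nat.card_le_card_of_injective φ hφ
    rw [Nat.card_coe_set_eq, c.six_lines o hp hgen] at h6
    have h := Subgroup.card_mul_index (KX.subgroupOf KA)
    have e : Nat.card ↥(KX.subgroupOf KA) = Nat.card ↥(KA ⊓ KX) := by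
      rw [← inf_subgroupOf_left KX KA, Nat.card_congr (subgroupOfEquivOfLe inf_le_left).toEquiv, inf_comm]
    rw [e, Subgroup.index_eq_card] at h
    rw [← h, mul_comm]
    exact Nat.mul_le_mul_right _ h6
  have hKAc : Nat.card KA = 6 * 5760 := by
    have h2 := Subgroup.card_mul_index (NA.comap c.valHom)
    rw [Subgroup.index_comap_of_surjective NA c.valHom_surj, c.card_cen,
      show (443520 : ℕ) = Nat.card MTwoTwo from CfsgGolay.card_sporM22.symm, ← Subgroup.card_mul_index NA,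
      ← mul_assoc] at h2
    rw [hKA, Nat.eq_of_mul_eq_mul_right (Nat.pos_of_ne_zero Subgroup.index_ne_zero_of_finite) h2,
      show Nat.card NA = 5760 from ho.card_norm]
  have hXA : 960 ≤ Nat.card ↥(X ⊓ NA) := by
    let f : ↥(KA ⊓ KX) →* MTwoTwo := c.valHom.comp (KA ⊓ KX).subtype
    have h1 := Subgroup.card_mul_index f.ker
    rw [Subgroup.index_ker] at h1
    have hk : Nat.card f.ker ≤ 6 := by
      rw [← c.card_valKer, ← card_map_of_injective (KA ⊓ KX).subtype_injective]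
      exact card_le_of_le (by rintro _ ⟨x, hx, rfl⟩; exact hx)
    have hr : Nat.card f.range ≤ Nat.card ↥(X ⊓ NA) := card_le_of_le (by
      rintro _ ⟨x, rfl⟩; exact ⟨⟨x.1, x.2.2, rfl⟩, x.2.1⟩)
    have := Nat.mul_le_mul hk hr
    omega
  -- the order of the stabilizer
  have hXdvd : Nat.card X ∣ 443520 := CfsgGolay.card_sporM22 ▸ card_subgroup_dvd_card X
  have hsmall : ∀ q, q = 7 ∨ q = 11 → ¬ q ∣ Nat.card X := by
    intro q hq hd
    have hqp : q.Prime := by rcases hq with rfl | rfl <;> norm_num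
    haveI : Fact q.Prime := ⟨hqp⟩
    obtain ⟨m, hm⟩ := exists_prime_orderOf_dvd_card' (G := X) q hd
    have hmo : orderOf (m : MTwoTwo) = q := by rw [Subgroup.orderOf_coe]; exact hm
    have hmq : (m : MTwoTwo) ^ q = 1 := hmo ▸ pow_orderOf_eq_one _
    obtain ⟨x, hx, hxm⟩ := m.2
    set r : G := ((x ^ 6 : c.cen) : G) with hr
    have hrc : r ∈ c.cen := (x ^ 6 : c.cen).2
    have hrq : r ^ q = 1 := by
      have hker : x ^ q ∈ c.valHom.ker := MonoidHom.mem_ker.mpr (by rw [map_pow, hxm, hmq])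
      have h6 := pow_card_eq_one' (x := (⟨_, hker⟩ : c.valHom.ker))
      rw [c.card_valKer] at h6
      have h6' : (x ^ q) ^ 6 = 1 := congrArg Subtype.val h6
      rw [hr, ← SubmonoidClass.coe_pow, ← pow_mul, mul_comm, pow_mul, h6']; rfl
    have hrv : c.val r ≠ 1 := by
      rw [hr, ← valHom_apply, map_pow, hxm]
      intro h
      have hd6 := orderOf_dvd_of_pow_eq_one h
      rw [hmo] at hd6
      rcases hq with rfl | rfl <;> norm_num at hd6
    have hrL : r ∈ normalizer (L : Set G) := mem_subgroupOf.mp (pow_mem hx 6 : x ^ 6 ∈ KX)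
    have hmod := fixed_count hrq L hrL
    rw [hLc] at hmod
    obtain ⟨i, hi, hic⟩ := (Nat.dvd_prime_pow Nat.prime_two).mp
      (show Nat.card ↥(L ⊓ centralizer ({r} : Set G)) ∣ 2 ^ 3 by
        rw [show (2 : ℕ) ^ 3 = 8 from rfl, ← hLc]; exact card_dvd_of_le inf_le_left)
    rw [hic] at hmod
    rcases hq with rfl | rfl
    · have hle : L ⊓ centralizer ({r} : Set G) ≤ zpowers z := fun v hv => by
        rw [← c.seven_fix hrc hrq hrv]; exact ⟨c.fixB_le A (hLW hv.1), hv.2⟩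
      have hzm : zpowers z ≤ L ⊓ centralizer ({r} : Set G) := le_inf hzL (zpowers_le.mpr
        (mem_centralizer_singleton_iff.mpr (mem_centralizer_singleton_iff.mp hrc.1).symm))
      have e := card_le_of_le hle
      have e' := card_le_of_le hzm
      rw [hic, c.card_Z] at e e'
      have : i = 1 := by
        interval_cases i <;> simp_all
      subst this
      exact absurd hmod (by decide)
    · obtain ⟨h8, a, ha, b, hb, hab⟩ := c.eleven_fix hrc hrq hrv
      have hi3 : i = 3 := by interval_cases i <;> first | rfl | exact absurd hmod (by decide)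
      subst hi3
      have hLr : L ⊓ centralizer ({r} : Set G) = E ⊓ centralizer ({r} : Set G) :=
        eq_of_le_of_card_ge (fun v hv => ⟨c.fixB_le A (hLW hv.1), hv.2⟩) (by rw [h8, hic]; norm_num)
      rw [← hLr] at ha hb
      exact hab (c.vGrp_comm hA.1 (mem_sup_left (hLW ha.1)) (mem_sup_left (hLW hb.1)))
  have h9 : ¬ 9 ∣ Nat.card X := by
    intro h9
    haveI : Fact (Nat.Prime 3) := ⟨Nat.prime_three⟩
    obtain ⟨R, hR⟩ := Sylow.exists_subgroup_card_pow_prime (G := X) 3 (n := 2) (by simpa using h9)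
    set R9 := R.map X.subtype
    have hR9 : Nat.card R9 = 9 := by rw [card_map_of_injective X.subtype_injective, hR]; norm_num
    obtain ⟨S, hSc, hPS, hS27, hnab, hSR, -, -⟩ := c.cen_nine hR9
    have h := c.card_mod_nine (show S ≤ centralizer ({z} : Set G) ⊓ centralizer (P : Set G) from hSc) hPS hS27 hnab
      (hLW.trans (c.fixB_le A)) hzL (fun r hr e he => by
        have hv : c.val r ∈ X := (map_subtype_le R) (hSR r hr)
        obtain ⟨x, hx, hxe⟩ := hv
        have hk : x⁻¹ * ⟨r, hSc hr⟩ ∈ c.valHom.ker := MonoidHom.mem_ker.mpr (by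
          rw [map_mul, map_inv, hxe, valHom_apply, inv_mul_cancel])
        have hr' : (⟨r, hSc hr⟩ : c.cen) ∈ KX := by
          have := mul_mem hx (hkerX hk)
          rwa [mul_inv_cancel_left] at this
        exact (mem_normalizer_iff.mp (mem_subgroupOf.mp hr' : r ∈ normalizer (L : Set G)) e).mp he)
    rw [hLc] at h
    norm_num at h
  have hX1920 : Nat.card X ∣ 1920 := by
    have h1 : Nat.Coprime (Nat.card X) 7 := by
      rw [Nat.coprime_comm, (show Nat.Prime 7 by norm_num).coprime_iff_not_dvd]; exact hsmall 7 (Or.inl rfl)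
    have h2 : Nat.Coprime (Nat.card X) 11 := by
      rw [Nat.coprime_comm, (show Nat.Prime 11 by norm_num).coprime_iff_not_dvd]; exact hsmall 11 (Or.inr rfl)
    have h3 : Nat.card X ∣ 5760 :=
      (h1.mul_right h2).dvd_of_dvd_mul_right (show Nat.card X ∣ 5760 * (7 * 11) from hXdvd)
    have h45 : ∀ d ∈ Nat.divisors 5760, ¬ 9 ∣ d → d ∣ 1920 := by decide +kernel
    exact h45 _ (Nat.mem_divisors.mpr ⟨h3, by norm_num⟩) h9
  -- so A is normal in it
  have hAX : A ≤ X := by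
    intro a ha
    obtain ⟨q, hq, hqa⟩ := c.twoGrp_lift hA.1.1 ha
    refine ⟨⟨q, hq.1⟩, mem_subgroupOf.mpr (mem_norm_of fun v hv => ?_), hqa⟩
    rw [hFQ v (hLW hv) q hq, mul_inv_cancel_right]; exact hv
  set Y := (X ⊓ NA).subgroupOf X with hY
  have hYi : Y.index = 1 ∨ Y.index = 2 := by
    have h := Subgroup.card_mul_index Y
    rw [Nat.card_congr (subgroupOfEquivOfLe inf_le_left).toEquiv] at h
    have hle := Nat.le_of_dvd (by norm_num) hX1920
    have hpos : 0 < Y.index := Nat.pos_of_ne_zero Subgroup.index_ne_zero_of_finite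
    by_contra hne
    push Not at hne
    have := Nat.mul_le_mul hXA (show 3 ≤ Y.index by omega)
    omega
  intro x hx
  have hxY : ∀ a ∈ A, x * a * x⁻¹ ∈ NA := by
    intro a ha
    haveI : Y.Normal := hYi.elim (fun h => by rw [Subgroup.index_eq_one.mp h]; infer_instance)
      Subgroup.normal_of_index_eq_two
    have haY : (⟨a, hAX ha⟩ : X) ∈ Y := mem_subgroupOf.mpr ⟨hAX ha, le_normalizer ha⟩
    exact (mem_subgroupOf.mp ((inferInstance : Y.Normal).conj_mem _ haY ⟨x, hx⟩)).2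
  have e := hex_eq_of_norm (A' := A.map (MulAut.conj x).toMonoidHom) (c.not_duad hA) (c.not_duad (hA.map _))
    hA.1.1 (elem_map _ hA.1.1) hA.1.2.1
    (by rw [card_map_of_injective (MulAut.conj x).injective, hA.1.2.1]) (by rintro _ ⟨a, ha, rfl⟩; exact hxY a ha)
  exact mem_norm_of fun a ha => e ▸ ⟨a, ha, rfl⟩

/-- An element of H centralizing an element of T normalizes V. -/
theorem cent_zt {A : Subgroup MTwoTwo} (o : c.Orb A) {s g : G} (hs : s ∈ c.Tset (c.vGrp A o.hA.1.1))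
    (hg : g ∈ centralizer ({z} : Set G)) (hgs : g * s = s * g) : g ∈ normalizer (c.vGrp A o.hA.1.1 : Set G) := by
  classical
  have hA := o.hA
  set V := c.vGrp A hA.1.1 with hV
  obtain ⟨f, hfN, hfH, hf0⟩ := c.exists_out_norm hA o.hinv
  obtain ⟨h0, hh0, k, hk, rfl⟩ : ∃ h0 ∈ c.H0, ∃ k ∈ normalizer (V : Set G), g = h0 * k := by
    by_cases hg0 : g ∈ c.H0
    · exact ⟨g, hg0, 1, one_mem _, (mul_one g).symm⟩
    · exact ⟨g * f⁻¹, c.H0two g hg hg0 f⁻¹ (inv_mem hfH) (fun h => hf0 (by simpa using inv_mem h)), f, hfN,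
        (inv_mul_cancel_right g f).symm⟩
  obtain ⟨e, he, y, hy, rfl⟩ := c.decomp h0 hh0
  set A' := A.map (MulAut.conj (c.val y)).toMonoidHom with hA'def
  have hA' : HexData A' := hA.map _
  have hyV := c.vGrp_map hA.1 hA'.1 hy rfl
  -- s lies in both
  have hsV' : s ∈ c.vGrp A' hA'.1.1 := by
    have h1 : k * s * k⁻¹ ∈ V := (mem_normalizer_iff.mp hk s).mp hs.1
    have h2 : y * (k * s * k⁻¹) * y⁻¹ ∈ c.vGrp A' hA'.1.1 := hyV ▸ ⟨_, h1, rfl⟩
    have h3 := (mem_normalizer_iff.mp (c.E_norm_V hA' he) _).mp h2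
    rwa [show e * (y * (k * s * k⁻¹) * y⁻¹) * e⁻¹ = e * y * k * s * (e * y * k)⁻¹ by group, hgs,
      mul_inv_cancel_right] at h3
  have hAA : A' = A := by
    by_cases hsW : s ∈ c.fixB A
    · obtain ⟨p, hp, -, hgen⟩ := c.exists_gen
      refine hex_eq_of_norm (c.not_duad hA) (c.not_duad hA') hA.1.1 hA'.1.1 hA.1.2.1 hA'.1.2.1 ?_
      refine le_trans ?_ (c.line_stab o hp hgen hs hsW)
      intro a ha
      obtain ⟨q, hq, hqa⟩ := c.twoGrp_lift hA'.1.1 ha
      have hsF := c.vGrp_inf_E hA'.1 hsV' (c.fixB_le A hsW)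
      obtain ⟨-, -, -, hFQ'⟩ := c.hex_fix hA'.1
      refine ⟨⟨q, hq.1⟩, mem_subgroupOf.mpr (mem_norm_of fun v hv => ?_), hqa⟩
      have hvF : v ∈ c.fixB A' :=
        c.lineOf_le (c.Z_le_fixB A' (mem_zpowers z)) hsF (c.fixB_P hp hsF) hv
      rw [hFQ' v hvF q hq, mul_inv_cancel_right]; exact hv
    · obtain ⟨w, hw, q, hq, hs1⟩ := c.mem_vGrp hA.1 hs.1
      obtain ⟨w', hw', q', hq', hs2⟩ := c.mem_vGrp hA'.1 hsV'
      have hqZ : q ∉ zpowers z := fun h => hsW (hs1 ▸ mul_mem hw (c.Z_le_fixB A h))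
      have hv1 : c.val s = c.val q := by
        rw [hs1, c.val_mul (c.NH0 (c.EN (c.fixB_le A hw))) (c.cen_le_H0 hq.1), c.val_E (c.fixB_le A hw), one_mul]
      have hv2 : c.val s = c.val q' := by
        rw [hs2, c.val_mul (c.NH0 (c.EN (c.fixB_le A' hw'))) (c.cen_le_H0 hq'.1), c.val_E (c.fixB_le A' hw'),
          one_mul]
      obtain ⟨o1, ho1⟩ := c.exists_octHex hA
      obtain ⟨o2, ho2⟩ := c.exists_octHex hA'
      exact (ho1.unique ho2 hq.2.1 (show c.val q ∈ A' by rw [← hv1, hv2]; exact hq'.2.1) (c.val_ne hA hq hqZ)).symm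
  have hyN : y ∈ normalizer (V : Set G) :=
    c.cen_norm_V hA.1 hy (mem_norm_of fun a ha => hAA ▸ (⟨a, ha, rfl⟩ : c.val y * a * (c.val y)⁻¹ ∈ A'))
  exact mul_mem (mul_mem (c.E_norm_V hA he) hyN) hk

/-- The common centralizer of a conjugate of z and an element of T normalizes V. -/
theorem cent_ot {A : Subgroup MTwoTwo} (o : c.Orb A) {a s g : G} (ha : a ∈ c.Oset (c.vGrp A o.hA.1.1))
    (hs : s ∈ c.Tset (c.vGrp A o.hA.1.1)) (hga : g * a = a * g) (hgs : g * s = s * g) :
    g ∈ normalizer (c.vGrp A o.hA.1.1 : Set G) := by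
  obtain ⟨n, hn, hnz⟩ := c.weak_closure o.hA.1 ha.1 ha.2
  subst hnz
  have hn' := inv_mem hn
  have hs' := c.norm_T hn' hs
  rw [inv_inv] at hs'
  have h1 : n⁻¹ * g * n ∈ centralizer ({z} : Set G) := mem_centralizer_singleton_iff.mpr (by
    calc n⁻¹ * g * n * z = n⁻¹ * (g * (n * z * n⁻¹)) * n := by group
      _ = z * (n⁻¹ * g * n) := by rw [hga]; group)
  have h2 := c.cent_zt o hs' h1 (by
    calc n⁻¹ * g * n * (n⁻¹ * s * n) = n⁻¹ * (g * s) * n := by group
      _ = n⁻¹ * s * n * (n⁻¹ * g * n) := by rw [hgs]; group)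
  have := mul_mem (mul_mem hn h2) hn'
  rwa [show n * (n⁻¹ * g * n) * n⁻¹ = g by group] at this

end Ctx

end CfsgLib.JankoFour
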