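/-
The six lines of the T part of W.
-/
import Cfsg.Agent.Lib.JankoFour.OrbStab

set_option autoImplicit false

namespace CfsgLib.JankoFour

open Cfsg Subgroup
open scoped commutatorElement

universe u

theorem shift_five : ∀ I : Finset (Fin 5), 3 ≤ I.card →
    ∃ d : Fin 5, d ≠ 0 ∧ ∃ i ∈ I, ∃ j ∈ I, i ≠ j ∧ i + d ∈ I ∧ j + d ∈ I := by decide +kernel

theorem inv_five : ∀ d : Fin 5, d ≠ 0 → ∃ e : Fin 5, d * e = 1 := by decide +kernel

variable {G : Type u} [Group G] [Finite G] {z : G} {P E : Subgroup G}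

namespace Ctx

theorem comm_three (c : Ctx z P E) {x a : G} (hx : x ∈ centralizer ({z} : Set G)) (x3 : x ^ 3 = 1)
    (h : ⁅x, a⁆ ∈ zpowers z) : x * a = a * x := by
  set t := ⁅x, a⁆ with ht
  have h1 : x * a * x⁻¹ = t * a := by rw [ht, commutatorElement_def, inv_mul_cancel_right]
  have hxt := c.Z_conj hx h
  have h2 : x * x * a * (x * x)⁻¹ = a := by
    rw [show x * x * a * (x * x)⁻¹ = x * (x * a * x⁻¹) * x⁻¹ by group, h1,
      show x * (t * a) * x⁻¹ = x * t * x⁻¹ * (x * a * x⁻¹) by group, hxt, h1, ← mul_assoc, c.Z_sq h, one_mul]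
  have h3 : x * x * x = 1 := by rw [← x3, pow_succ, sq]
  have e : x⁻¹ = x * x := by rw [inv_eq_iff_mul_eq_one, ← mul_assoc, h3]
  rw [← e, inv_inv] at h2
  calc x * a = x * (x⁻¹ * a * x) := by rw [h2]
    _ = a * x := by group

/-- An element of order five normalizing A fixing exactly eight elements of W. -/
theorem exists_five_elt (c : Ctx z P E) {A : Subgroup MTwoTwo} (hA : HexData A) :
    ∃ g ∈ c.cen, c.val g ∈ normalizer (A : Set MTwoTwo) ∧ g ^ 5 = 1 ∧
      Nat.card ↥(c.fixB A ⊓ centralizer ({g} : Set G)) = 8 := by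
  obtain ⟨hF7, hFc, hFsq, hFQ⟩ := c.hex_fix hA.1
  obtain ⟨g, hgN, g5, g1⟩ := hA.2.1
  obtain ⟨x, hx, hvx⟩ := c.exists_val g
  set g' := x ^ 6 with hg'
  have hg'c : g' ∈ c.cen := pow_mem hx 6
  have hvg : c.val g' = g := by
    rw [hg', c.val_pow (c.cen_le_H0 hx), hvx, show 6 = 5 + 1 from rfl, pow_succ, g5, one_mul]
  have hg'5 : g' ^ 5 = 1 := by
    have hker : (⟨x, hx⟩ : c.cen) ^ 5 ∈ c.valHom.ker := MonoidHom.mem_ker.mpr (by
      show c.val (x ^ 5) = 1
      rw [c.val_pow (c.cen_le_H0 hx), hvx, g5])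
    have h6 := pow_card_eq_one' (x := (⟨_, hker⟩ : c.valHom.ker))
    rw [c.card_valKer] at h6
    have h6' : (x ^ 5) ^ 6 = 1 := congrArg (fun k : c.valHom.ker => ((k : c.cen) : G)) h6
    rw [hg', ← pow_mul, show 6 * 5 = 5 * 6 from rfl, pow_mul, h6']
  refine ⟨g', hg'c, by rw [hvg]; exact hgN, hg'5, ?_⟩
  set W := c.fixB A with hW
  set C := W ⊓ centralizer ({g'} : Set G) with hC
  haveI : Fact (Nat.Prime 5) := ⟨by norm_num⟩
  have hW5 := fixed_count hg'5 W (mem_norm_of fun w hw => c.fixB_conj hg'c (by rw [hvg]; exact hgN) hw)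
  obtain ⟨j, hj, hjc⟩ := (Nat.dvd_prime_pow Nat.prime_two).mp (hF7 ▸ card_dvd_of_le (inf_le_left : C ≤ W))
  rw [hF7, hjc] at hW5
  have h7 : j ≠ 7 := by
    rintro rfl
    have hCW : C = W := eq_of_le_of_card_ge inf_le_left (by rw [hjc, hF7])
    have hcw : ∀ v ∈ W, g' * v * g'⁻¹ = v := fun v hv => by
      have h : v ∈ centralizer ({g'} : Set G) := (hCW.symm ▸ hv : v ∈ C).2
      rw [← mem_centralizer_singleton_iff.mp h, mul_inv_cancel_right]
    have hd : ∀ e ∈ E, g' * e * g'⁻¹ * e⁻¹ ∈ W := fun e he => by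
      rw [← hFc]
      refine ⟨c.delta_E hg'c.1 he, mem_centralizer_iff.mpr fun v hv => ?_⟩
      have h1 := c.conj_comm hg'c.1 (c.fixB_le A hv) he
      rw [hcw v hv] at h1
      have h2 : ⁅v, g' * e * g'⁻¹ * e⁻¹⁆ = 1 := by
        rw [c.comm_mul_right (c.conj_E hg'c.1 he) (inv_mem he) (c.fixB_le A hv), h1,
          c.comm_swap (c.fixB_le A hv) (inv_mem he), c.comm_inv_left he (c.fixB_le A hv),
          c.comm_swap he (c.fixB_le A hv), c.Z_sq (c.comm_E (c.fixB_le A hv) he)]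
      exact commutatorElement_eq_one_iff_mul_comm.mp h2
    have hcE : ∀ e ∈ E, g' * e * g'⁻¹ = e := fun e he => by
      set w := g' * e * g'⁻¹ * e⁻¹ with hw
      have hw2 : w * w = 1 := hFsq w (hd e he)
      have hwW : w ∈ W := hd e he
      have he' : g' * e * g'⁻¹ = w * e := by rw [hw]; group
      clear_value w
      have hpow : ∀ n : ℕ, g' ^ n * e * (g' ^ n)⁻¹ = w ^ n * e := by
        intro n
        induction n with
        | zero => simp
        | succ n ih =>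
          rw [pow_succ' g', show g' * g' ^ n * e * (g' * g' ^ n)⁻¹ = g' * (g' ^ n * e * (g' ^ n)⁻¹) * g'⁻¹ by
            group, ih, show g' * (w ^ n * e) * g'⁻¹ = g' * w ^ n * g'⁻¹ * (g' * e * g'⁻¹) by group,
            hcw _ (pow_mem hwW n), he', ← mul_assoc, ← pow_succ]
      have h5 := hpow 5
      rw [hg'5, one_mul, inv_one, mul_one, show w ^ 5 = (w * w) * (w * w) * w by
        simp only [pow_succ, pow_zero, one_mul, mul_assoc], hw2, one_mul, one_mul] at h5
      have : w = 1 := right_eq_mul.mp h5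
      rw [he', this, one_mul]
    have := c.cent g' hg'c.1 fun e he => (mul_inv_eq_iff_eq_mul.mp (hcE e he)).symm
    exact g1 (hvg ▸ c.val_E this)
  rw [hjc]
  interval_cases j <;> first | rfl | (exfalso; revert hW5; decide) | (exfalso; exact h7 rfl)

variable (c : Ctx z P E) {A : Subgroup MTwoTwo}

/-- Two distinct lines span their group of order 32. -/
theorem span_two (hA : HexData A) {p : G} (hp : p ∈ P) (hgen : P = zpowers p) {U U' L L' : Subgroup G}
    (hUW : U ≤ c.fixB A) (hzU : z ∈ U) (hzU' : z ∈ U') (hc : Nat.card U ≤ 32) (hc' : Nat.card U' ≤ 32)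
    (hP : ∀ q ∈ P, ∀ x ∈ U, q * x * q⁻¹ ∈ U) (hP' : ∀ q ∈ P, ∀ x ∈ U', q * x * q⁻¹ ∈ U') (hL : L ≤ U) (hL' : L' ≤ U)
    (hM : L ≤ U') (hM' : L' ≤ U') (h8 : Nat.card L = 8) (h8' : Nat.card L' = 8) (hne : L ≠ L') : U = U' := by
  obtain ⟨m, hm, hmc⟩ := c.card_cases (W := U ⊓ U') ((inf_le_left.trans hUW).trans (c.fixB_le A))
    (le_inf (zpowers_le.mpr hzU) (zpowers_le.mpr hzU')) fun q hq x hx => ⟨hP q hq x hx.1, hP' q hq x hx.2⟩
  have h1 : L ⊓ U ⊓ U' = L := by
    rw [inf_assoc]; exact inf_eq_left.mpr (le_inf hL hM)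
  have hgt : 8 < Nat.card ↥(U ⊓ U') := by
    by_contra hle
    push Not at hle
    refine hne ((eq_of_le_of_card_ge (le_inf hL hM) ?_).trans (eq_of_le_of_card_ge (le_inf hL' hM') ?_).symm)
    · rw [h8]; exact hle
    · rw [h8']; exact hle
  have h32 : 32 ≤ Nat.card ↥(U ⊓ U') := by
    rw [hmc] at hgt ⊢
    have : 3 < 2 * m + 1 := (Nat.pow_lt_pow_iff_right (le_refl 2)).mp (show 2 ^ 3 < 2 ^ (2 * m + 1) from hgt)
    calc 32 = 2 ^ 5 := by norm_num
      _ ≤ _ := Nat.pow_le_pow_right (by norm_num) (by omega)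
  exact (eq_of_le_of_card_ge inf_le_left (hc.trans h32)).symm.trans (eq_of_le_of_card_ge inf_le_right (hc'.trans h32))

/-- At most two lines of the T part lie in a P-invariant group of order at most 32. -/
theorem T_in_small {A : Subgroup MTwoTwo} (o : c.Orb A) {U : Subgroup G} (hUW : U ≤ c.fixB A) (hzU : z ∈ U)
    (hc : Nat.card U ≤ 32) (hP : ∀ q ∈ P, ∀ x ∈ U, q * x * q⁻¹ ∈ U) :
    (c.Tset (c.vGrp A o.hA.1.1) ∩ (U : Set G)).ncard ≤ 12 := by
  classical
  have hA := o.hA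
  haveI : Fact (Nat.Prime 5) := ⟨by norm_num⟩
  obtain ⟨p, hp, -, hgen⟩ := c.exists_gen
  set V := c.vGrp A hA.1.1 with hV
  set W := c.fixB A with hW
  set S := c.Tset V ∩ (W : Set G) with hS
  obtain ⟨g, hgc, hgN, g5, hC8⟩ := c.exists_five_elt hA
  set C := W ⊓ centralizer ({g} : Set G) with hC
  have hzC : z ∈ C := ⟨c.Z_le_fixB A (mem_zpowers z),
    mem_centralizer_singleton_iff.mpr (mem_centralizer_singleton_iff.mp hgc.1).symm⟩
  have hgV : g ∈ normalizer (V : Set G) := c.cen_norm_V hA.1 hgc hgN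
  have hgS : ∀ v ∈ S, g * v * g⁻¹ ∈ S := fun v hv => ⟨c.norm_T hgV hv.1, c.fixB_conj hgc hgN hv.2⟩
  -- the fixed line
  obtain ⟨s0, hs0, hs0g⟩ : ∃ s0 ∈ S, g * s0 = s0 * g := by
    by_contra hno
    push Not at hno
    have hK : IsPGroup 5 (zpowers g) := by
      rintro ⟨k, hk⟩
      obtain ⟨i, rfl⟩ := mem_zpowers_iff.mp hk
      exact ⟨1, Subtype.ext (by
        rw [pow_one, coe_pow]
        show (g ^ i) ^ 5 = 1
        rw [← zpow_natCast, ← zpow_mul, mul_comm, zpow_mul, zpow_natCast, g5, one_zpow])⟩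
    have h := orbit_mod (zpowers g) hK S fun k hk v hv =>
      ⟨c.norm_T (zpowers_le.mpr hgV hk) hv.1, by
        have hkN : k ∈ normalizer (W : Set G) :=
          zpowers_le.mpr (mem_norm_of fun w hw => c.fixB_conj hgc hgN hw) hk
        exact (mem_normalizer_iff.mp hkN v).mp hv.2⟩
    have h0 : Nat.card ↥{x : G | x ∈ S ∧ ∀ k ∈ zpowers g, k * x * k⁻¹ = x} = 0 := by
      rw [Nat.card_eq_zero]
      exact Or.inl ⟨fun x => hno x.1 x.2.1 (mul_inv_eq_iff_eq_mul.mp (x.2.2 g (mem_zpowers g)))⟩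
    rw [h0, Nat.card_coe_set_eq, o.cardTW] at h
    exact absurd h (by decide)
  have hlineC : ∀ {s}, s ∈ S → g * s = s * g → c.lineOf p s = C := fun {s} hs hsg => by
    refine eq_of_le_of_card_ge (c.lineOf_le hzC ⟨hs.2, mem_centralizer_singleton_iff.mpr hsg.symm⟩
      ⟨c.fixB_P hp hs.2, mem_centralizer_singleton_iff.mpr ?_⟩) (by
        rw [hC8, (c.line_facts hA hp hgen hs.2 (c.T_not_Z hs.1)).2.1])
    have h1 : Commute g p := c.cen_comm hgc hp
    exact ((h1.mul_right hsg).mul_right h1.inv_right).eq.symm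
  -- the other five
  let h : Fin 5 → G := fun i => g ^ i.val
  have hadd : ∀ i d : Fin 5, h (i + d) = h d * h i := fun i d => by
    simp only [h]; rw [← pow_add, pow_eq_pow_mod (d.val + i.val) g5, Fin.val_add, add_comm i.val]
  have hhV : ∀ i, h i ∈ normalizer (V : Set G) := fun i => pow_mem hgV _
  have hhc : ∀ i, h i ∈ c.cen := fun i => pow_mem hgc _
  have hhN : ∀ i, c.val (h i) ∈ normalizer (A : Set MTwoTwo) := fun i => by
    show c.val (g ^ i.val) ∈ _
    rw [c.val_pow (c.cen_le_H0 hgc)]; exact pow_mem hgN _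
  have hgen_d : ∀ d : Fin 5, d ≠ 0 → ∀ H : Subgroup G, h d ∈ H → g ∈ H := by
    intro d hd H hH
    obtain ⟨e, he⟩ := inv_five d hd
    have h1 := pow_mem hH e.val
    simp only [h] at h1
    rw [← pow_mul, pow_eq_pow_mod (d.val * e.val) g5,
      show d.val * e.val % 5 = 1 by rw [← Fin.val_mul, he]; rfl, pow_one] at h1
    exact h1
  obtain ⟨s1, hs1, hs1C⟩ : ∃ s1 ∈ S, s1 ∉ C := by
    by_contra hall
    push Not at hall
    have h1 := Set.ncard_le_ncard (show S ⊆ (C : Set G) from hall) (Set.toFinite _)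
    rw [o.cardTW, ← Nat.card_coe_set_eq] at h1
    change 36 ≤ Nat.card C at h1
    omega
  let M : Fin 5 → Subgroup G := fun i => c.lineOf p (h i * s1 * (h i)⁻¹)
  have hMS : ∀ i, h i * s1 * (h i)⁻¹ ∈ S := fun i => ⟨c.norm_T (hhV i) hs1.1, c.fixB_conj (hhc i) (hhN i) hs1.2⟩
  have hMmap : ∀ i d, M (i + d) = (M i).map (MulAut.conj (h d)).toMonoidHom := fun i d => by
    show c.lineOf p _ = (c.lineOf p _).map _
    rw [c.lineOf_map (hhc d) hp, hadd]; congr 1; group
  have hMinj : Function.Injective M := by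
    intro i j hij
    by_contra hne
    have hd : j - i ≠ 0 := sub_ne_zero.mpr (Ne.symm hne)
    have hfix : (M i).map (MulAut.conj (h (j - i))).toMonoidHom = M i := by
      rw [← hMmap, add_sub_cancel, ← hij]
    have hn : h (j - i) ∈ normalizer (M i : Set G) := mem_norm_of fun x hx => hfix ▸ ⟨x, hx, rfl⟩
    have hgn := hgen_d _ hd _ hn
    have hM8 : Nat.card (M i) = 8 := (c.line_facts hA hp hgen (hMS i).2 (c.T_not_Z (hMS i).1)).2.1
    have hm := fixed_count g5 (M i) hgn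
    obtain ⟨k, hk, hkc⟩ := (Nat.dvd_prime_pow Nat.prime_two).mp (show Nat.card ↥(M i ⊓ centralizer ({g} : Set G)) ∣ 2 ^ 3 by
      rw [show (2 : ℕ) ^ 3 = 8 from rfl, ← hM8]; exact card_dvd_of_le inf_le_left)
    rw [hM8, hkc] at hm
    have hk3 : k = 3 := by interval_cases k <;> first | rfl | exact absurd hm (by decide)
    have heq : M i ⊓ centralizer ({g} : Set G) = M i := eq_of_le_of_card_ge inf_le_left (by rw [hkc, hk3, hM8]; rfl)
    have hci : g * (h i * s1 * (h i)⁻¹) = h i * s1 * (h i)⁻¹ * g :=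
      (mem_centralizer_singleton_iff.mp (heq.symm ▸ (c.mem_lineOf_left p (h i * s1 * (h i)⁻¹)).2.1 :
        h i * s1 * (h i)⁻¹ ∈ M i ⊓ centralizer ({g} : Set G)).2).symm
    refine hs1C ⟨hs1.2, mem_centralizer_singleton_iff.mpr ?_⟩
    have hgh : Commute g (h i) := Commute.self_pow g _
    calc s1 * g = (h i)⁻¹ * (h i * s1 * (h i)⁻¹) * (h i * g) := by group
      _ = (h i)⁻¹ * (h i * s1 * (h i)⁻¹) * (g * h i) := by rw [hgh.eq]
      _ = (h i)⁻¹ * (g * (h i * s1 * (h i)⁻¹)) * h i := by rw [hci]; group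
      _ = (h i)⁻¹ * g * h i * s1 := by group
      _ = g * s1 := by rw [mul_assoc (h i)⁻¹ g, hgh.eq, inv_mul_cancel_left]
  have hMC : ∀ i, M i ≠ C := fun i e => by
    have hsi : h i * s1 * (h i)⁻¹ ∈ C := e ▸ (c.mem_lineOf_left p _).2.1
    refine hs1C ⟨hs1.2, mem_centralizer_singleton_iff.mpr ?_⟩
    have hgh : Commute g (h i) := Commute.self_pow g _
    have h1 : Commute g (h i * s1 * (h i)⁻¹) := (mem_centralizer_singleton_iff.mp hsi.2).symm
    have h2 := (hgh.inv_right.mul_right h1).mul_right hgh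
    rw [show (h i)⁻¹ * (h i * s1 * (h i)⁻¹) * h i = s1 by group] at h2
    exact h2.eq.symm
  -- every line is one of the six
  have hall : ∀ v ∈ S, c.lineOf p v = C ∨ ∃ i, c.lineOf p v = M i := by
    let f := fun v => c.lineOf p v
    have hsub : insert C (Set.range M) ⊆ f '' S := by
      rintro L (rfl | ⟨i, rfl⟩)
      · exact ⟨s0, hs0, hlineC hs0 hs0g⟩
      · exact ⟨_, hMS i, rfl⟩
    have hcard : (insert C (Set.range M)).ncard = 6 := by
      rw [Set.ncard_insert_of_notMem (show C ∉ Set.range M from fun ⟨i, hi⟩ => hMC i hi) (Set.toFinite _),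
        ← Nat.card_coe_set_eq, Nat.card_range_of_injective hMinj, Nat.card_fin]
    have heq := Set.eq_of_subset_of_ncard_le hsub (by rw [hcard]; exact (c.six_lines o hp hgen).le) (Set.toFinite _)
    intro v hv
    have : f v ∈ insert C (Set.range M) := heq.symm ▸ Set.mem_image_of_mem f hv
    rcases this with e | ⟨i, e⟩
    · exact Or.inl e
    · exact Or.inr ⟨i, e.symm⟩
  by_contra hbig
  push Not at hbig
  -- case of a group containing the fixed line
  have caseA : ∀ U : Subgroup G, U ≤ W → z ∈ U → Nat.card U ≤ 32 → (∀ q ∈ P, ∀ x ∈ U, q * x * q⁻¹ ∈ U) →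
      C ≤ U → 12 < (c.Tset V ∩ (U : Set G)).ncard → False := by
    intro U hUW hzU hc hP hCU hbig
    set I : Finset (Fin 5) := Finset.univ.filter fun i => M i ≤ U with hI
    obtain ⟨i, hi, j, hj, hij⟩ : ∃ i, M i ≤ U ∧ ∃ j, M j ≤ U ∧ i ≠ j := by
      by_contra hno
      push Not at hno
      have hsub : c.Tset V ∩ (U : Set G) ⊆
          ((C : Set G) \ (zpowers z : Set G)) ∪ {v | v ∈ S ∧ v ∈ U ∧ c.lineOf p v ≠ C} := by
        rintro v ⟨hv, hvU⟩
        by_cases he : c.lineOf p v = C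
        · exact Or.inl ⟨he ▸ (c.mem_lineOf_left p v).2.1, c.T_not_Z hv⟩
        · exact Or.inr ⟨⟨hv, hUW hvU⟩, hvU, he⟩
      have hC6 : ((C : Set G) \ (zpowers z : Set G)).ncard = 6 := by
        rw [Set.ncard_sdiff (show ((zpowers z : Subgroup G) : Set G) ⊆ C from (zpowers_le.mpr hzC : zpowers z ≤ C)),
          ← Nat.card_coe_set_eq, ← Nat.card_coe_set_eq]
        show Nat.card C - Nat.card (zpowers z) = 6
        rw [hC8, c.card_Z]
      have h2 : {v | v ∈ S ∧ v ∈ U ∧ c.lineOf p v ≠ C}.ncard ≤ 6 := by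
        rcases Set.eq_empty_or_nonempty {v | v ∈ S ∧ v ∈ U ∧ c.lineOf p v ≠ C} with e | ⟨v, hv, hvU, hvC⟩
        · rw [e]; simp
        obtain ⟨i, hi⟩ := (hall v hv).resolve_left hvC
        have hvle : ∀ w ∈ S, w ∈ U → c.lineOf p w ≤ U := fun w _ hwU => c.lineOf_le hzU hwU (hP p hp w hwU)
        refine (Set.ncard_le_ncard (t := (M i : Set G) \ (zpowers z : Set G)) ?_ (Set.toFinite _)).trans (le_of_eq ?_)
        · rintro w ⟨hw, hwU, hwC⟩
          obtain ⟨j, hj⟩ := (hall w hw).resolve_left hwC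
          have hij : i = j := hno i (hi ▸ hvle v hv hvU) j (hj ▸ hvle w hw hwU)
          subst hij
          exact ⟨hj ▸ (c.mem_lineOf_left p w).2.1, c.T_not_Z hw.1⟩
        · have hM8 : Nat.card (M i) = 8 := (c.line_facts hA hp hgen (hMS i).2 (c.T_not_Z (hMS i).1)).2.1
          have hzM : ((zpowers z : Subgroup G) : Set G) ⊆ M i :=
            (zpowers_le.mpr (c.mem_lineOf_left p _).1 : zpowers z ≤ M i)
          rw [Set.ncard_sdiff hzM, ← Nat.card_coe_set_eq, ← Nat.card_coe_set_eq]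
          show Nat.card (M i) - Nat.card (zpowers z) = 6
          rw [hM8, c.card_Z]
      have := (Set.ncard_le_ncard hsub (Set.toFinite _)).trans (Set.ncard_union_le _ _)
      omega
    set d := j - i with hd
    set U' := U.map (MulAut.conj (h d)).toMonoidHom with hU'
    have hCd : C ≤ U' := fun x hx => ⟨x, hCU hx, by
      show h d * x * (h d)⁻¹ = x
      have : Commute g x := (mem_centralizer_singleton_iff.mp hx.2).symm
      rw [show h d * x = x * h d from (this.pow_left d.val).eq, mul_inv_cancel_right]⟩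
    have hMj : M j ≤ U' := by
      have e : M j = (M i).map (MulAut.conj (h d)).toMonoidHom := by rw [← hMmap, hd, add_sub_cancel]
      rw [e]; exact Subgroup.map_mono hi
    have hP' : ∀ q ∈ P, ∀ x ∈ U', q * x * q⁻¹ ∈ U' := by
      rintro q hq _ ⟨x, hx, rfl⟩
      refine ⟨q * x * q⁻¹, hP q hq x hx, ?_⟩
      show h d * (q * x * q⁻¹) * (h d)⁻¹ = q * (h d * x * (h d)⁻¹) * q⁻¹
      rw [show h d * (q * x * q⁻¹) * (h d)⁻¹ = (h d * q) * x * (h d * q)⁻¹ by group, c.cen_comm (hhc d) hq]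
      group
    have heq : U = U' := c.span_two hA hp hgen hUW hzU (hCd hzC) hc
      (by rw [hU', card_map_of_injective (MulAut.conj (h d)).injective]; exact hc) hP hP' hCU hj hCd hMj hC8
      (c.line_facts hA hp hgen (hMS j).2 (c.T_not_Z (hMS j).1)).2.1 (hMC j).symm
    have hgU : g ∈ normalizer (U : Set G) :=
      hgen_d d (sub_ne_zero.mpr hij.symm) _ (mem_norm_of fun x hx => heq.symm ▸ ⟨x, hx, rfl⟩)
    have hMU : ∀ k, M k ≤ U := fun k => by
      have e : M k = (M i).map (MulAut.conj (h (k - i))).toMonoidHom := by rw [← hMmap, add_sub_cancel]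
      rw [e]
      rintro _ ⟨x, hx, rfl⟩
      exact (mem_normalizer_iff.mp (pow_mem hgU _) x).mp (hi hx)
    have h36 := Set.ncard_le_ncard (show S ⊆ (U : Set G) from fun v hv => by
      rcases hall v hv with e | ⟨k, e⟩
      · exact hCU (e ▸ (c.mem_lineOf_left p v).2.1)
      · exact hMU k (e ▸ (c.mem_lineOf_left p v).2.1)) (Set.toFinite _)
    rw [o.cardTW, ← Nat.card_coe_set_eq] at h36
    change 36 ≤ Nat.card U at h36
    omega
  by_cases hCU : C ≤ U
  · exact caseA U hUW hzU hc hP hCU hbig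
  set I : Finset (Fin 5) := Finset.univ.filter fun i => M i ≤ U with hI
  have hI3 : 3 ≤ I.card := by
    by_contra hI2
    push Not at hI2
    have hsub : c.Tset V ∩ (U : Set G) ⊆ ↑(I.biUnion fun i => ((Set.toFinite ((M i : Set G) \ (zpowers z : Set G))).toFinset)) := by
      rintro v ⟨hv, hvU⟩
      have hle : c.lineOf p v ≤ U := c.lineOf_le hzU hvU (hP p hp v hvU)
      rcases hall v ⟨hv, hUW hvU⟩ with e | ⟨i, e⟩
      · exact absurd (e ▸ hle) hCU
      · simp only [Finset.coe_biUnion, Set.mem_iUnion, Set.Finite.coe_toFinset, exists_prop]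
        exact ⟨i, by simp [I, ← e, hle], e ▸ (c.mem_lineOf_left p v).2.1, c.T_not_Z hv⟩
    have h1 := Set.ncard_le_ncard hsub (Finset.finite_toSet _)
    rw [Set.ncard_coe_finset] at h1
    have h2 := h1.trans (Finset.card_biUnion_le_card_mul _ _ 6 fun i _ => by
      rw [← Set.ncard_eq_toFinset_card]
      have hM8 : Nat.card (M i) = 8 := (c.line_facts hA hp hgen (hMS i).2 (c.T_not_Z (hMS i).1)).2.1
      have hzM : ((zpowers z : Subgroup G) : Set G) ⊆ M i :=
        (zpowers_le.mpr (c.mem_lineOf_left p _).1 : zpowers z ≤ M i)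
      rw [Set.ncard_sdiff hzM, ← Nat.card_coe_set_eq, ← Nat.card_coe_set_eq]
      show Nat.card (M i) - Nat.card (zpowers z) ≤ 6
      rw [hM8, c.card_Z])
    have := Nat.mul_le_mul_right 6 (show I.card ≤ 2 by omega)
    omega
  obtain ⟨d, hd, i, hi, j, hj, hij, hid, hjd⟩ := shift_five I hI3
  simp only [I, Finset.mem_filter, Finset.mem_univ, true_and] at hi hj hid hjd
  set U' := U.map (MulAut.conj (h d)).toMonoidHom with hU'
  have hP' : ∀ q ∈ P, ∀ x ∈ U', q * x * q⁻¹ ∈ U' := by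
    rintro q hq _ ⟨x, hx, rfl⟩
    refine ⟨q * x * q⁻¹, hP q hq x hx, ?_⟩
    show h d * (q * x * q⁻¹) * (h d)⁻¹ = q * (h d * x * (h d)⁻¹) * q⁻¹
    rw [show h d * (q * x * q⁻¹) * (h d)⁻¹ = (h d * q) * x * (h d * q)⁻¹ by group, c.cen_comm (hhc d) hq]
    group
  have hm8 : ∀ k, Nat.card (M k) = 8 := fun k => (c.line_facts hA hp hgen (hMS k).2 (c.T_not_Z (hMS k).1)).2.1
  have heq : U = U' := c.span_two hA hp hgen hUW hzU (⟨z, hzU, c.Z_conj (hhc d).1 (mem_zpowers z)⟩) hc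
    (by rw [hU', card_map_of_injective (MulAut.conj (h d)).injective]; exact hc) hP hP' hid hjd
    (by rw [hMmap]; exact Subgroup.map_mono hi) (by rw [hMmap]; exact Subgroup.map_mono hj) (hm8 _) (hm8 _)
    (fun e => hij (add_right_cancel (hMinj e)))
  have hgU : g ∈ normalizer (U : Set G) := hgen_d d hd _ (mem_norm_of fun x hx => heq.symm ▸ ⟨x, hx, rfl⟩)
  have hMU : ∀ k, M k ≤ U := fun k => by
    have e : M k = (M i).map (MulAut.conj (h (k - i))).toMonoidHom := by rw [← hMmap, add_sub_cancel]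
    rw [e]
    rintro _ ⟨x, hx, rfl⟩
    exact (mem_normalizer_iff.mp (pow_mem hgU _) x).mp (hi hx)
  -- move the fixed line into U
  obtain ⟨R, hR, hPR, hR27, hnab, hRN⟩ := c.exists_R hA.1
  obtain ⟨r, hr, hrC⟩ : ∃ r ∈ R, C.map (MulAut.conj r).toMonoidHom ≠ C := by
    by_contra hall'
    push Not at hall'
    have h9 := c.card_mod_nine (show R ≤ centralizer ({z} : Set G) ⊓ centralizer (P : Set G) from hR) hPR hR27 hnab
      (inf_le_left.trans (c.fixB_le A) : C ≤ E) (zpowers_le.mpr hzC) fun r hr e he => (SetLike.ext_iff.mp (hall' r hr) _).mp ⟨e, he, rfl⟩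
    rw [hC8] at h9
    norm_num at h9
  have hrline : C.map (MulAut.conj r).toMonoidHom = c.lineOf p (r * s0 * r⁻¹) := by
    rw [← c.lineOf_map (hR hr) hp, hlineC hs0 hs0g]
  obtain ⟨k, hk⟩ := (hall _ ⟨c.norm_T (c.cen_norm_V hA.1 (hR hr) (hRN r hr)) hs0.1,
    c.fixB_conj (hR hr) (hRN r hr) hs0.2⟩).resolve_left (fun e => hrC (hrline.trans e))
  set n := r⁻¹ with hn
  have hnc : n ∈ c.cen := inv_mem (hR hr)
  have hnN : c.val n ∈ normalizer (A : Set MTwoTwo) := by
    rw [c.val_inv (c.cen_le_H0 (hR hr))]; exact inv_mem (hRN r hr)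
  refine caseA (U.map (MulAut.conj n).toMonoidHom) ?_ ⟨z, hzU, c.Z_conj hnc.1 (mem_zpowers z)⟩
    (by rw [card_map_of_injective (MulAut.conj n).injective]; exact hc) ?_ ?_ ?_
  · rintro _ ⟨x, hx, rfl⟩; exact c.fixB_conj hnc hnN (hUW hx)
  · rintro q hq _ ⟨x, hx, rfl⟩
    refine ⟨q * x * q⁻¹, hP q hq x hx, ?_⟩
    show n * (q * x * q⁻¹) * n⁻¹ = q * (n * x * n⁻¹) * q⁻¹
    rw [show n * (q * x * q⁻¹) * n⁻¹ = (n * q) * x * (n * q)⁻¹ by group, c.cen_comm hnc hq]
    group
  · intro x hx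
    refine ⟨r * x * r⁻¹, hMU k (hk ▸ hrline ▸ ⟨x, hx, rfl⟩), ?_⟩
    show n * (r * x * r⁻¹) * n⁻¹ = x
    rw [hn]; group
  · refine lt_of_lt_of_le hbig (Set.ncard_le_ncard_of_injOn (fun v => n * v * n⁻¹) ?_
      (fun a _ b _ e => mul_left_cancel (mul_right_cancel e)) (Set.toFinite _))
    rintro v ⟨hv, hvU⟩
    exact ⟨c.norm_T (c.cen_norm_V hA.1 hnc hnN) hv, v, hvU, rfl⟩

end Ctx

end CfsgLib.JankoFour
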