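/-
The kernels above a hexad group and the product rule on the T part.
-/
import Cfsg.Agent.Lib.JankoFour.OrbLines

set_option autoImplicit false

namespace CfsgLib.JankoFour

open Cfsg Subgroup
open scoped commutatorElement

universe u

variable {G : Type u} [Group G] [Finite G] {z : G} {P E : Subgroup G}

namespace Ctx

variable (c : Ctx z P E) {A : Subgroup MTwoTwo}

/-- Elements above A with the same kernel have the same image. -/
theorem ker_inj (hA : HexData A) {x y : G} (hx : x ∈ c.twoGrp A hA.1.1) (hxZ : x ∉ zpowers z)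
    (hy : y ∈ c.twoGrp A hA.1.1) (hyZ : y ∉ zpowers z) (h : c.ker1 hx.1.1 = c.ker1 hy.1.1) : c.val x = c.val y := by
  classical
  haveI : Fact (Nat.Prime 3) := ⟨Nat.prime_three⟩
  obtain ⟨R, hR, hPR, hR27, hnab, hRN⟩ := c.exists_R hA.1
  set Q := c.twoGrp A hA.1.1
  have h32 : Nat.card Q = 32 := c.twoGrp_card hA.1
  have hcard : ∀ (v : G) (hv : v ∈ Q), v ∉ zpowers z → Nat.card (c.ker1 hv.1.1) = 2 ^ 9 :=
    fun v hv hvZ => c.rank_two hA hv hvZ
  have hzQ : zpowers z ≤ Q := fun t ht => c.Z_mem_twoGrp hA.1 ht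
  let kf : G → Set G := fun v => {e | e ∈ E ∧ ⁅v, e⁆ ∈ zpowers z}
  have hkf : ∀ (v : G) (hv : v ∈ Q), kf v = (c.ker1 hv.1.1 : Set G) := fun v hv =>
    Set.ext fun e => c.mem_ker1.symm
  -- the elements sharing a kernel
  let B : G → Subgroup G := fun v =>
    { carrier := {q | q ∈ Q ∧ ∀ e ∈ kf v, ⁅q, e⁆ ∈ zpowers z}
      one_mem' := ⟨one_mem _, fun e _ => by simp⟩
      mul_mem' := by
        rintro a b ⟨ha, ha'⟩ ⟨hb, hb'⟩
        refine ⟨mul_mem ha hb, fun e he => ?_⟩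
        rw [commutatorElement_mul_left_eq_conj_mul, c.Z_conj ha.1.1 (hb' e he)]
        exact mul_mem (hb' e he) (ha' e he)
      inv_mem' := by
        rintro a ⟨ha, ha'⟩
        refine ⟨inv_mem ha, fun e he => ?_⟩
        rw [show ⁅a⁻¹, e⁆ = a⁻¹ * ⁅a, e⁆⁻¹ * a⁻¹⁻¹ by simp only [commutatorElement_def]; group,
          c.Z_conj (inv_mem ha.1.1) (inv_mem (ha' e he))]
        exact inv_mem (ha' e he) }
  have hBQ : ∀ v, B v ≤ Q := fun v q hq => hq.1
  have hzB : ∀ v, zpowers z ≤ B v := fun v t ht => ⟨hzQ ht, fun e he => by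
    rw [c.comm_Z_left ht he.1]; exact one_mem _⟩
  have hself : ∀ v ∈ Q, v ∈ B v := fun v hv => ⟨hv, fun e he => he.2⟩
  have hfib : ∀ v ∈ Q, v ∉ zpowers z → ∀ q ∈ Q, q ∉ zpowers z → (q ∈ B v ↔ kf q = kf v) := by
    intro v hv hvZ q hq hqZ
    refine ⟨fun hqB => ?_, fun e => ⟨hq, fun f hf => (show f ∈ kf q from e ▸ hf).2⟩⟩
    rw [hkf q hq, hkf v hv, SetLike.coe_set_eq]
    exact (eq_of_le_of_card_ge (fun e he => c.mem_ker1.mpr ⟨c.ker1_le _ he, hqB.2 e ((hkf v hv).symm ▸ he)⟩)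
      (by rw [hcard q hq hqZ, hcard v hv hvZ])).symm
  have hconj : ∀ v ∈ Q, ∀ n ∈ c.cen, c.val n ∈ normalizer (A : Set MTwoTwo) →
      kf (n * v * n⁻¹) = (fun e => n * e * n⁻¹) '' kf v := by
    intro v hv n hn hnN
    ext e
    constructor
    · rintro ⟨heE, he⟩
      refine ⟨n⁻¹ * e * n, ⟨?_, ?_⟩, by group⟩
      · have := c.conj_E (inv_mem hn.1) heE
        rwa [inv_inv] at this
      · have h2 := c.Z_conj (inv_mem hn.1) he
        rw [show n⁻¹ * ⁅n * v * n⁻¹, e⁆ * n⁻¹⁻¹ = ⁅v, n⁻¹ * e * n⁆ by simp only [commutatorElement_def]; group] at h2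
        rw [h2]; exact he
    · rintro ⟨f, ⟨hfE, hf⟩, rfl⟩
      refine ⟨c.conj_E hn.1 hfE, ?_⟩
      rw [show ⁅n * v * n⁻¹, n * f * n⁻¹⁆ = n * ⁅v, f⁆ * n⁻¹ by simp only [commutatorElement_def]; group,
        c.Z_conj hn.1 hf]
      exact hf
  have hBcard : ∀ v ∈ Q, v ∉ zpowers z → ∀ w ∈ Q, w ∉ zpowers z → Nat.card (B v) ≤ Nat.card (B w) := by
    intro v hv hvZ w hw hwZ
    obtain ⟨n, hn, hnN, t, ht, he⟩ := c.to_fibre hA hv hvZ hw hwZ
    refine Nat.card_le_card_of_injective (fun q => (⟨n * q * n⁻¹, c.two_conj hn hnN q.2.1, fun e hew => ?_⟩ : B w))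
      fun a b e => Subtype.ext (by simpa using congrArg Subtype.val e)
    have hkw : kf (n * v * n⁻¹) = kf w := by
      rw [he]
      ext f
      refine and_congr_right fun hf => ?_
      rw [commutatorElement_mul_left_eq_conj_mul, c.comm_Z_left ht hf, mul_one]
      refine ⟨fun h => ?_, fun h => by rw [c.Z_conj (c.mem_ZH ht) h]; exact h⟩
      have h2 := c.Z_conj (inv_mem (c.mem_ZH ht)) h
      rw [show t⁻¹ * (t * ⁅w, f⁆ * t⁻¹) * t⁻¹⁻¹ = ⁅w, f⁆ by group] at h2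
      rw [h2]; exact h
    rw [← hkw, hconj v hv n hn hnN] at hew
    obtain ⟨f, hf, rfl⟩ := hew
    rw [show ⁅n * (q : G) * n⁻¹, n * f * n⁻¹⁆ = n * ⁅(q : G), f⁆ * n⁻¹ by
      simp only [commutatorElement_def]; group, c.Z_conj hn.1 (q.2.2 f hf)]
    exact q.2.2 f hf
  set S : Set G := (Q : Set G) \ (zpowers z : Set G) with hS
  let F := (Set.toFinite S).toFinset
  have hF : F.card = 30 := by
    rw [← Set.ncard_eq_toFinset_card S, hS, Set.ncard_sdiff (show ((zpowers z : Subgroup G) : Set G) ⊆ Q from hzQ),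
      ← Nat.card_coe_set_eq, ← Nat.card_coe_set_eq]
    show Nat.card Q - Nat.card (zpowers z) = 30
    rw [h32, c.card_Z]
  set n0 := Nat.card (B x) with hn0
  have hfibc : ∀ L ∈ F.image kf, (F.filter fun v => kf v = L).card = n0 - 2 := by
    intro L hL
    obtain ⟨v, hv, rfl⟩ := Finset.mem_image.mp hL
    obtain ⟨hvQ, hvZ⟩ := (Set.Finite.mem_toFinset _).mp hv
    have e : ((F.filter fun q => kf q = kf v : Finset G) : Set G) = (B v : Set G) \ (zpowers z : Set G) := by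
      ext q
      simp only [Finset.coe_filter, Set.mem_setOf_eq, F, Set.Finite.mem_toFinset]
      constructor
      · rintro ⟨⟨hq, hqZ⟩, e⟩
        exact ⟨(hfib v hvQ hvZ q hq hqZ).mpr e, hqZ⟩
      · rintro ⟨hq, hqZ⟩
        exact ⟨⟨hq.1, hqZ⟩, (hfib v hvQ hvZ q hq.1 hqZ).mp hq⟩
    rw [← Set.ncard_coe_finset, e, Set.ncard_sdiff (show ((zpowers z : Subgroup G) : Set G) ⊆ B v from hzB v),
      ← Nat.card_coe_set_eq, ← Nat.card_coe_set_eq]
    show Nat.card (B v) - Nat.card (zpowers z) = n0 - 2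
    rw [c.card_Z, le_antisymm (hBcard v hvQ hvZ x hx hxZ) (hBcard x hx hxZ v hvQ hvZ)]
  have hcount := Finset.card_eq_sum_card_image kf F
  rw [Finset.sum_congr rfl hfibc, Finset.sum_const, hF, smul_eq_mul] at hcount
  -- R fixes no kernel
  have h3 : (F.image kf).card % 3 = 0 := by
    let T := {L : Set G // L ∈ F.image kf}
    have hclo : ∀ r ∈ R, ∀ L ∈ F.image kf, (fun e => r * e * r⁻¹) '' L ∈ F.image kf := by
      intro r hr L hL
      obtain ⟨v, hv, rfl⟩ := Finset.mem_image.mp hL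
      obtain ⟨hvQ, hvZ⟩ := (Set.Finite.mem_toFinset _).mp hv
      refine Finset.mem_image.mpr ⟨r * v * r⁻¹, (Set.Finite.mem_toFinset _).mpr
        ⟨c.two_conj (hR hr) (hRN r hr) hvQ, fun h => hvZ ?_⟩, hconj v hvQ r (hR hr) (hRN r hr)⟩
      have h2 := c.Z_conj (inv_mem (hR hr).1) h
      rw [show r⁻¹ * (r * v * r⁻¹) * r⁻¹⁻¹ = v by group] at h2
      rw [h2]; exact h
    letI : MulAction R T :=
      { smul := fun r L => ⟨(fun e => (r : G) * e * (r : G)⁻¹) '' L.1, hclo r r.2 L.1 L.2⟩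
        one_smul := fun L => Subtype.ext (by
          show (fun e => ((1 : R) : G) * e * ((1 : R) : G)⁻¹) '' L.1 = L.1
          simp)
        mul_smul := fun a b L => Subtype.ext (by
          show (fun e => ((a * b : R) : G) * e * ((a * b : R) : G)⁻¹) '' L.1 =
            (fun e => (a : G) * e * (a : G)⁻¹) '' ((fun e => (b : G) * e * (b : G)⁻¹) '' L.1)
          rw [Set.image_image]; simp [mul_assoc]) }
    have h := (IsPGroup.of_card (p := 3) (n := 3) (by rw [hR27]; norm_num) : IsPGroup 3 R).card_modEq_card_fixedPoints T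
    have h0 : Nat.card (MulAction.fixedPoints R T) = 0 := by
      rw [Nat.card_eq_zero]
      refine Or.inl ⟨fun ⟨⟨L, hL⟩, hfix⟩ => ?_⟩
      obtain ⟨v, hv, rfl⟩ := Finset.mem_image.mp hL
      obtain ⟨hvQ, hvZ⟩ := (Set.Finite.mem_toFinset _).mp hv
      have h9 := c.card_mod_nine (show R ≤ centralizer ({z} : Set G) ⊓ centralizer (P : Set G) from hR) hPR hR27 hnab
        (c.ker1_le hvQ.1.1) (c.Z_le_ker1 _) fun r hr e he => by
          have h1 : (fun e => r * e * r⁻¹) '' kf v = kf v := congrArg Subtype.val (hfix ⟨r, hr⟩)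
          rw [← SetLike.mem_coe, ← hkf v hvQ] at he ⊢
          exact h1.subset ⟨e, he, rfl⟩
      rw [hcard v hvQ hvZ] at h9
      norm_num at h9
    rw [h0] at h
    rw [show (F.image kf).card = Nat.card T by rw [Nat.card_eq_fintype_card, Fintype.card_coe]]
    exact h
  obtain ⟨i, hi, hic⟩ := (Nat.dvd_prime_pow Nat.prime_two).mp
    (show n0 ∣ 2 ^ 5 by rw [show (2 : ℕ) ^ 5 = 32 from rfl, ← h32]; exact card_dvd_of_le (hBQ x))
  have hn4 : n0 = 4 := by
    rw [hic] at hcount ⊢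
    interval_cases i <;> simp at hcount ⊢ <;> omega
  obtain ⟨U', -, hU'B, -, hU'c, hmem⟩ := exists_adj (fun v hv => c.twoGrp_sq hA.1 v (hBQ x hv))
    (fun a ha b hb => c.vGrp_comm hA.1 (mem_sup_right (hBQ x ha)) (mem_sup_right (hBQ x hb))) (hzB x)
    (hself x hx) hxZ
  have hU'eq : U' = B x := eq_of_le_of_card_ge hU'B (by rw [hU'c, c.card_Z]; exact hn4.le)
  have hyB : y ∈ B x := (hfib x hx hxZ y hy hyZ).mpr (by rw [hkf x hx, hkf y hy, h])
  rw [← hU'eq] at hyB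
  rcases (hmem y).mp hyB with h1 | h1
  · exact absurd h1 hyZ
  · have h2 := congrArg c.val (mul_inv_cancel_left x y)
    have hxy : c.val (x * y) = 1 := c.val_E (c.Z_le h1)
    rw [c.val_mul (c.cen_le_H0 hx.1) (c.cen_le_H0 hy.1)] at hxy
    rw [eq_comm, ← inv_eq_of_mul_eq_one_right hxy, inv_eq_of_mul_eq_one_left]
    rw [← sq]; exact hA.1.1.2 _ hx.2.1

/-- Two kernels meet in W. -/
theorem ker_inter (hA : HexData A) {x y : G} (hx : x ∈ c.twoGrp A hA.1.1) (hxZ : x ∉ zpowers z)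
    (hy : y ∈ c.twoGrp A hA.1.1) (hyZ : y ∉ zpowers z) (hne : c.val x ≠ c.val y) :
    c.ker1 hx.1.1 ⊓ c.ker1 hy.1.1 = c.fixB A := by
  obtain ⟨-, -, hWx, -⟩ := c.kernel_facts hA hx hxZ
  obtain ⟨-, -, hWy, -⟩ := c.kernel_facts hA hy hyZ
  have hle : c.fixB A ≤ c.ker1 hx.1.1 ⊓ c.ker1 hy.1.1 := le_inf hWx hWy
  obtain ⟨m, hm, hmc⟩ := c.card_cases (W := c.ker1 hx.1.1 ⊓ c.ker1 hy.1.1) (inf_le_left.trans (c.ker1_le _))
    (le_inf (c.Z_le_ker1 _) (c.Z_le_ker1 _)) fun q hq e he => ⟨c.ker1_P hx.1 hq e he.1, c.ker1_P hy.1 hq e he.2⟩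
  refine (eq_of_le_of_card_ge hle ?_).symm
  rw [(c.hex_fix hA.1).1, hmc]
  by_contra hlt
  push Not at hlt
  have hge : 2 ^ 9 ≤ Nat.card ↥(c.ker1 hx.1.1 ⊓ c.ker1 hy.1.1) := by
    rw [hmc]
    exact Nat.pow_le_pow_right (by norm_num)
      (by have := (Nat.pow_lt_pow_iff_right (le_refl 2)).mp hlt; omega)
  have e1 := eq_of_le_of_card_ge (inf_le_left : c.ker1 hx.1.1 ⊓ c.ker1 hy.1.1 ≤ _)
    (by rw [c.rank_two hA hx hxZ]; exact hge)
  have e2 := eq_of_le_of_card_ge (inf_le_right : c.ker1 hx.1.1 ⊓ c.ker1 hy.1.1 ≤ _)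
    (by rw [c.rank_two hA hy hyZ]; exact hge)
  exact hne (c.ker_inj hA hx hxZ hy hyZ (e1.symm.trans e2))

/-- The group orthogonal to an element and its conjugate. -/
theorem perp_group (hA : HexData A) {p f : G} (hp : p ∈ P) (hgen : P = zpowers p) (hf : f ∈ E)
    (hfW : f ∉ c.fixB A) :
    ∃ U : Subgroup G, U ≤ c.fixB A ∧ z ∈ U ∧ Nat.card U ≤ 32 ∧ (∀ q ∈ P, ∀ x ∈ U, q * x * q⁻¹ ∈ U) ∧
      ∀ v ∈ c.fixB A, ⁅f, v⁆ = 1 → ⁅p * f * p⁻¹, v⁆ = 1 → v ∈ U := by
  obtain ⟨hF7, hFc, -, -⟩ := c.hex_fix hA.1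
  set W := c.fixB A
  set f1 := p * f * p⁻¹ with hf1
  set f2 := p * f1 * p⁻¹ with hf2
  have hf1E : f1 ∈ E := c.conj_E (c.P_le hp) hf
  set J := W ⊔ closure {f, f1} with hJ
  have hcl : closure {f, f1} ≤ E := (closure_le _).mpr (by rintro x (rfl | rfl) <;> assumption)
  have hJE : J ≤ E := sup_le (c.fixB_le A) hcl
  have hWJ : W ≤ J := le_sup_left
  have hfJ : f ∈ J := mem_sup_right (subset_closure (by simp))
  have hf1J : f1 ∈ J := mem_sup_right (subset_closure (by simp))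
  have hf2J : f2 ∈ J := by
    have hprod : f * f1 * f2 ∈ zpowers z := by
      refine c.fixed_mem_Z hp hgen (mul_mem (mul_mem hf hf1E) (c.conj_E (c.P_le hp) hf1E)) ?_
      have e3 : p * f2 * p⁻¹ = f := by
        rw [hf2, hf1, show p * (p * (p * f * p⁻¹) * p⁻¹) * p⁻¹ = (p * p * p) * f * (p * p * p)⁻¹ by group,
          c.P_cube hp]
        group
      rw [show p * (f * f1 * f2) * p⁻¹ = (p * f * p⁻¹) * (p * f1 * p⁻¹) * (p * f2 * p⁻¹) by group, ← hf1, ← hf2, e3,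
        show f1 * f2 * f * (f * f1 * f2)⁻¹ = ⁅f1 * f2, f⁆ by simp only [commutatorElement_def]; group]
      exact c.comm_E (mul_mem hf1E (c.conj_E (c.P_le hp) hf1E)) hf
    have e : f2 = (f * f1)⁻¹ * (f * f1 * f2) := by rw [inv_mul_cancel_left]
    rw [e]
    exact mul_mem (inv_mem (mul_mem hfJ hf1J)) (hWJ (c.Z_le_fixB A hprod))
  have hpN : p ∈ normalizer (J : Set G) := by
    refine mem_norm_of fun x hx => ?_
    have hmap : J.map (MulAut.conj p).toMonoidHom ≤ J := by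
      rw [hJ, Subgroup.map_sup, MonoidHom.map_closure]
      refine sup_le ?_ ((closure_le _).mpr ?_)
      · rintro _ ⟨w, hw, rfl⟩; exact mem_sup_left (c.fixB_P hp hw)
      · rintro _ ⟨v, (rfl | rfl), rfl⟩
        exacts [hf1J, hf2J]
    exact hmap ⟨x, hx, rfl⟩
  have hPJ : ∀ q ∈ P, ∀ x ∈ J, q * x * q⁻¹ ∈ J := fun q hq x hx =>
    (mem_normalizer_iff.mp (show q ∈ normalizer (J : Set G) from zpowers_le.mpr hpN (hgen ▸ hq)) x).mp hx
  refine ⟨E ⊓ centralizer (J : Set G), ?_, ⟨c.zE, mem_centralizer_iff.mpr fun v hv =>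
    mem_centralizer_singleton_iff.mp (c.Ez (hJE hv))⟩, ?_, fun q hq x hx => ?_, fun v hv h1 h2 => ?_⟩
  · intro v hv
    rw [← hFc]
    exact ⟨hv.1, mem_centralizer_iff.mpr fun w hw => mem_centralizer_iff.mp hv.2 w (hWJ hw)⟩
  · have hcard := c.cent_card hJE (hWJ (c.Z_le_fixB A (mem_zpowers z)))
    obtain ⟨m, hm, hmc⟩ := c.card_cases hJE ((c.Z_le_fixB A).trans hWJ) hPJ
    have hgt : 2 ^ 7 < Nat.card J := by
      rw [← hF7]
      exact lt_of_le_of_ne (card_le_of_le hWJ) fun e => hfW ((eq_of_le_of_card_ge hWJ e.ge).symm ▸ hfJ : f ∈ W)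
    rw [hmc] at hgt
    have h9 : 2 ^ 9 ≤ Nat.card J := by
      rw [hmc]
      exact Nat.pow_le_pow_right (by norm_num)
        (by have := (Nat.pow_lt_pow_iff_right (le_refl 2)).mp hgt; omega)
    by_contra hlt
    push Not at hlt
    have := Nat.mul_le_mul h9 (show 33 ≤ Nat.card ↥(E ⊓ centralizer (J : Set G)) by omega)
    rw [hcard] at this
    norm_num at this
  · exact c.cent_conj (c.P_le hq) (fun w hw => by
      have := hPJ _ (inv_mem hq) w hw
      rwa [inv_inv] at this) hx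
  · refine ⟨c.fixB_le A hv, mem_centralizer_iff.mpr fun w hw => ?_⟩
    have hle : J ≤ centralizer ({v} : Set G) := by
      rw [hJ]
      refine sup_le (fun w hw => mem_centralizer_singleton_iff.mpr
        (c.vGrp_comm hA.1 (mem_sup_left hw) (mem_sup_left hv))) ((closure_le _).mpr ?_)
      rintro _ (rfl | rfl)
      exacts [mem_centralizer_singleton_iff.mpr (commutatorElement_eq_one_iff_mul_comm.mp h1),
        mem_centralizer_singleton_iff.mpr (commutatorElement_eq_one_iff_mul_comm.mp h2)]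
    exact mem_centralizer_singleton_iff.mp (hle hw)

/-- The rule on the three lifts of a line of the T part above one involution. -/
theorem eps_rule {A : Subgroup MTwoTwo} (o : c.Orb A) {p y x : G} (hp : p ∈ P) (hgen : P = zpowers p)
    (hy : y ∈ c.twoGrp A o.hA.1.1) (hyZ : y ∉ zpowers z) (hny : ¬ c.IsZ y) (hxR : x ∈ c.cR y)
    (hxT : x ∈ c.Tset (c.vGrp A o.hA.1.1)) :
    x * (p * x * p⁻¹) = z * (p * (p * x * p⁻¹) * p⁻¹) := by
  classical
  have hA := o.hA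
  obtain ⟨r, s, p0, F, hrN, hsN, hr1, a, ha, b, hb, a1, b1, hab, hra, hrb⟩ := c.exists_frame hA
  obtain ⟨hF7, hFc, hFsq, hFQ⟩ := c.hex_fix hA.1
  set W := c.fixB A with hW
  -- reduce to an element centralized by the frame
  suffices key : ∀ y x, y ∈ c.twoGrp A hA.1.1 → y ∉ zpowers z → ¬ c.IsZ y → c.val y = a → x ∈ c.cR y →
      x ∈ c.Tset (c.vGrp A hA.1.1) → x * (p * x * p⁻¹) = z * (p * (p * x * p⁻¹) * p⁻¹) by
    obtain ⟨y0, hy0, hy0v⟩ := c.twoGrp_lift hA.1.1 ha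
    have hy0Z : y0 ∉ zpowers z := fun h => a1 (hy0v ▸ c.val_E (c.Z_le h))
    obtain ⟨y1, hy1, hy1Z, hy1v, hy1n⟩ : ∃ y1, y1 ∈ c.twoGrp A hA.1.1 ∧ y1 ∉ zpowers z ∧ c.val y1 = a ∧
        ¬ c.IsZ y1 := by
      by_cases h : c.IsZ y0
      · refine ⟨z * y0, mul_mem (c.Z_mem_twoGrp hA.1 (mem_zpowers z)) hy0, fun hh => hy0Z ?_, ?_, fun hh =>
          (o.twin y0 hy0 hy0Z).mp hh h⟩
        · have := mul_mem (inv_mem (mem_zpowers z)) hh
          rwa [inv_mul_cancel_left] at this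
        · rw [c.val_mul c.z_H0 (c.cen_le_H0 hy0.1), c.val_E c.zE, one_mul, hy0v]
      · exact ⟨y0, hy0, hy0Z, hy0v, h⟩
    obtain ⟨n, hn, hnN, t, ht, he⟩ := c.to_fibre hA hy hyZ hy1 hy1Z
    have ht1 : t = 1 := (c.mem_Z.mp ht).resolve_right fun et => by
      have h1 : ¬ c.IsZ (n * y * n⁻¹) := fun h => hny ((c.isZ_iff n y).mp h)
      rw [he, et] at h1
      exact h1 ((o.twin y1 hy1 hy1Z).mpr hy1n)
    rw [ht1, one_mul] at he
    have h := key y1 (n * x * n⁻¹) hy1 hy1Z hy1n hy1v (he ▸ c.cR_conj hn.1 hxR)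
      (c.norm_T (c.cen_norm_V hA.1 hn hnN) hxT)
    have e1 : ∀ u : G, p * (n * u * n⁻¹) * p⁻¹ = n * (p * u * p⁻¹) * n⁻¹ := fun u => by
      rw [show p * (n * u * n⁻¹) * p⁻¹ = (p * n) * u * (p * n)⁻¹ by group, ← c.cen_comm hn hp]; group
    rw [e1, e1, ← c.Z_conj hn.1 (mem_zpowers z)] at h
    have h2 : n * (x * (p * x * p⁻¹)) * n⁻¹ = n * (z * (p * (p * x * p⁻¹) * p⁻¹)) * n⁻¹ := by
      rw [show n * (x * (p * x * p⁻¹)) * n⁻¹ = n * x * n⁻¹ * (n * (p * x * p⁻¹) * n⁻¹) by group, h]; group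
    exact mul_left_cancel (mul_right_cancel h2)
  intro y x hy hyZ hny hya hxR hxT
  obtain ⟨hS32, hSW, hWK, -⟩ := c.kernel_facts hA hy hyZ
  obtain ⟨hxS, hxW, hx2⟩ := c.cR_sub hA hy hyZ hxR
  set K := c.ker1 hy.1.1 with hK
  set S := E ⊓ centralizer (K : Set G) with hS
  have hzS : z ∈ S := ⟨c.zE, mem_centralizer_iff.mpr fun f hf =>
    mem_centralizer_singleton_iff.mp (c.Ez (c.ker1_le _ hf))⟩
  have hSP : ∀ q ∈ P, ∀ v ∈ S, q * v * q⁻¹ ∈ S := fun q hq v hv => c.cent_conj (c.P_le hq) (fun f hf => by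
    have h := c.ker1_P hy.1 (inv_mem hq) f hf
    rwa [inv_inv] at h) hv
  have hry : r * y = y * r := by
    have h1 : ⁅y, r⁆ ∈ zpowers z := c.twoGrp_comm hy F.hr hrN (by rw [hya, hra])
    refine c.comm_three F.hr.1 F.r3 ?_
    rw [← commutatorElement_inv]; exact inv_mem h1
  have hrS : ∀ v ∈ S, r * v * r⁻¹ ∈ S := by
    intro v hv
    refine c.cent_conj F.hr.1 (fun f hf => ?_) hv
    obtain ⟨hfE, hfy⟩ := c.mem_ker1.mp hf
    refine c.mem_ker1.mpr ⟨by simpa using c.conj_E (inv_mem F.hr.1) hfE, ?_⟩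
    have h1 := c.Z_conj (inv_mem F.hr.1) hfy
    rw [show r⁻¹ * ⁅y, f⁆ * r⁻¹⁻¹ = ⁅r⁻¹ * y * r, r⁻¹ * f * r⁆ by simp only [commutatorElement_def]; group,
      mul_assoc r⁻¹ y r, ← hry, inv_mul_cancel_left] at h1
    rw [h1]; exact hfy
  set L := c.lineOf p x with hL
  obtain ⟨hLW, hL8, henum, hLP⟩ := c.line_facts hA hp hgen hxW (c.T_not_Z hxT)
  have hzL := (c.mem_lineOf_left p x).1
  have hLS : L ≤ S := c.lineOf_le hzS hxS (hSP p hp x hxS)
  -- r fixes the line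
  set x1 := r * x * r⁻¹ with hx1
  set x2 := r * x1 * r⁻¹ with hx2'
  have hrV : r ∈ normalizer (c.vGrp A hA.1.1 : Set G) := c.cen_norm_V hA.1 F.hr hrN
  have hx1T := c.norm_T hrV hxT
  have hx2T := c.norm_T hrV hx1T
  have hx1W : x1 ∈ W := c.fixB_conj F.hr hrN hxW
  have hx2W : x2 ∈ W := c.fixB_conj F.hr hrN hx1W
  have hr3x : r * x2 * r⁻¹ = x := by
    rw [hx2', hx1, show r * (r * (r * x * r⁻¹) * r⁻¹) * r⁻¹ = r ^ 3 * x * (r ^ 3)⁻¹ by
      simp only [pow_succ, pow_zero, one_mul]; group, F.r3]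
    group
  have hrline : c.lineOf p x1 = L := by
    by_contra hne
    have hl1 : c.lineOf p x1 = L.map (MulAut.conj r).toMonoidHom := (c.lineOf_map F.hr hp).symm
    have hl2 : c.lineOf p x2 = (c.lineOf p x1).map (MulAut.conj r).toMonoidHom := (c.lineOf_map F.hr hp).symm
    have hl3 : L = (c.lineOf p x2).map (MulAut.conj r).toMonoidHom := by
      rw [c.lineOf_map F.hr hp, hr3x]
    have hne2 : c.lineOf p x2 ≠ L := fun e => hne (by rw [hl1]; conv_rhs => rw [hl3, e])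
    have hne12 : c.lineOf p x2 ≠ c.lineOf p x1 := fun e => hne
      (Subgroup.map_injective (MulAut.conj r).injective (by rw [← hl2, e, hl1]))
    let six : G → Set G := fun v => (c.lineOf p v : Set G) \ (zpowers z : Set G)
    have hsix : ∀ v ∈ c.Tset (c.vGrp A hA.1.1), v ∈ W → (six v).ncard = 6 := fun v hv hvW => by
      rw [Set.ncard_sdiff (show ((zpowers z : Subgroup G) : Set G) ⊆ c.lineOf p v from
        (zpowers_le.mpr (c.mem_lineOf_left p v).1 : zpowers z ≤ c.lineOf p v)), ← Nat.card_coe_set_eq,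
        ← Nat.card_coe_set_eq]
      show Nat.card (c.lineOf p v) - Nat.card (zpowers z) = 6
      rw [(c.line_facts hA hp hgen hvW (c.T_not_Z hv)).2.1, c.card_Z]
    have hdis : ∀ u v, u ∈ c.Tset (c.vGrp A hA.1.1) → u ∈ W → v ∈ c.Tset (c.vGrp A hA.1.1) → v ∈ W →
        c.lineOf p u ≠ c.lineOf p v → Disjoint (six u) (six v) := by
      intro u v hu huW hv hvW hne
      rw [Set.disjoint_left]
      rintro w ⟨hw, hwZ⟩ ⟨hw', -⟩
      exact hne ((c.line_T hA hp hgen hu huW hw hwZ).2.2.symm.trans (c.line_T hA hp hgen hv hvW hw' hwZ).2.2)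
    have hsub : six x ∪ six x1 ∪ six x2 ⊆ c.Tset (c.vGrp A hA.1.1) ∩ (S : Set G) := by
      have hk : ∀ v, v ∈ c.Tset (c.vGrp A hA.1.1) → v ∈ W → v ∈ S → six v ⊆ c.Tset (c.vGrp A hA.1.1) ∩ (S : Set G) :=
        fun v hv hvW hvS w hw => ⟨(c.line_T hA hp hgen hv hvW hw.1 hw.2).1,
          c.lineOf_le hzS hvS (hSP p hp v hvS) hw.1⟩
      exact Set.union_subset (Set.union_subset (hk x hxT hxW hxS) (hk x1 hx1T hx1W (hrS x hxS)))
        (hk x2 hx2T hx2W (hrS _ (hrS x hxS)))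
    have h1 := Set.ncard_le_ncard hsub (Set.toFinite _)
    rw [Set.ncard_union_eq (Set.disjoint_union_left.mpr ⟨hdis x x2 hxT hxW hx2T hx2W (fun e => hne2 e.symm),
      hdis x1 x2 hx1T hx1W hx2T hx2W (fun e => hne12 e.symm)⟩) (Set.toFinite _) (Set.toFinite _),
      Set.ncard_union_eq (hdis x x1 hxT hxW hx1T hx1W (fun e => hne e.symm)) (Set.toFinite _) (Set.toFinite _),
      hsix x hxT hxW, hsix x1 hx1T hx1W, hsix x2 hx2T hx2W] at h1
    have h2 := c.T_in_small o hSW hzS hS32.le hSP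
    omega
  -- adjust r to fix x modulo the centre
  have hx1L : x1 ∈ L := hrline ▸ (c.mem_lineOf_left p x1).2.1
  obtain ⟨q, hq, hqx⟩ : ∃ q ∈ P, (q * x * q⁻¹)⁻¹ * x1 ∈ zpowers z := by
    obtain ⟨t, ht, h⟩ := henum x1 hx1L (c.T_not_Z hx1T)
    have hxH : ∀ q ∈ P, q * x * q⁻¹ ∈ centralizer ({z} : Set G) := fun q hq =>
      c.Ez (c.conj_E (c.P_le hq) (c.fixB_le A hxW))
    rcases h with h | h | h
    · exact ⟨1, one_mem _, by rw [h, ← c.Z_comm (c.Ez (c.fixB_le A hxW)) ht]; simpa using ht⟩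
    · exact ⟨p, hp, by rw [h, ← c.Z_comm (hxH p hp) ht, inv_mul_cancel_left]; exact ht⟩
    · refine ⟨p * p, mul_mem hp hp, ?_⟩
      rw [h, show p * p * x * (p * p)⁻¹ = p * (p * x * p⁻¹) * p⁻¹ by group,
        ← c.Z_comm (c.Ez (c.conj_E (c.P_le hp) (c.conj_E (c.P_le hp) (c.fixB_le A hxW)))) ht, inv_mul_cancel_left]
      exact ht
  obtain ⟨i, hi, hqi⟩ : ∃ i < 3, q⁻¹ = p0 ^ i := by
    obtain ⟨k, hk⟩ := mem_zpowers_iff.mp (F.hgen ▸ inv_mem hq : q⁻¹ ∈ zpowers p0)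
    refine ⟨(k % 3).toNat, by omega, ?_⟩
    rw [← zpow_natCast, Int.toNat_of_nonneg (Int.emod_nonneg _ (by norm_num)), ← hk]
    have h3 : p0 ^ (3 : ℤ) = 1 := by rw [show (3 : ℤ) = ((3 : ℕ) : ℤ) from rfl, zpow_natCast]; exact F.p3
    conv_lhs => rw [← Int.emod_add_mul_ediv k 3, zpow_add, zpow_mul, h3, one_zpow, mul_one]
  set r' := r * p0 ^ i with hr'
  have hr'c : r' ∈ c.cen := F.t_mem i
  have hr'x : r' * x = x * r' := by
    refine c.comm_three hr'c.1 (F.t3 i) ?_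
    have e : r' * x * r'⁻¹ = q⁻¹ * x1 * q := by
      rw [hr', ← hqi, c.cen_comm F.hr (inv_mem hq), hx1]; group
    have h2 := c.Z_conj (inv_mem (c.P_le hq)) hqx
    rw [show q⁻¹ * ((q * x * q⁻¹)⁻¹ * x1) * q⁻¹⁻¹ = x⁻¹ * (q⁻¹ * x1 * q) by group, ← e] at h2
    rw [← h2] at hqx
    rw [commutatorElement_def]
    rwa [c.vGrp_comm hA.1 (mem_sup_left (inv_mem hxW)) (mem_sup_left (c.fixB_conj hr'c ?_ hxW))] at hqx
    rw [c.val_mul (c.cen_le_H0 F.hr) (c.cen_le_H0 (c.P_le_cen (pow_mem F.hp i))), c.val_P (pow_mem F.hp i), mul_one]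
    exact hrN
  have hr'y : r' * y = y * r' :=
    (Commute.mul_left (show Commute r y from hry)
      (show Commute (p0 ^ i) y from (c.cen_comm hy.1 (pow_mem F.hp i)).symm)).eq
  obtain ⟨f, hf, hfx⟩ := hxR
  have hxp : p * x * p⁻¹ = ⁅p * f * p⁻¹, y⁆ := by
    rw [← hfx, show p * ⁅f, y⁆ * p⁻¹ = ⁅p * f * p⁻¹, p * y * p⁻¹⁆ by simp only [commutatorElement_def]; group,
      show p * y * p⁻¹ = y by rw [← c.cen_comm hy.1 hp, mul_inv_cancel_right]]
  -- the value of the pairing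
  have hpair : ⁅f, p * x * p⁻¹⁆ = z := by
    refine (c.mem_Z.mp (c.comm_E hf (c.fixB_le A (c.fixB_P hp hxW)))).resolve_left fun h1 => ?_
    have hk : ∀ m ∈ S, ⁅f, r' * m * r'⁻¹⁆ = ⁅f, m⁆ := by
      intro m hm
      set k := f⁻¹ * (r' * f * r'⁻¹) with hk
      have hkE : k ∈ E := mul_mem (inv_mem hf) (c.conj_E hr'c.1 hf)
      have hky : ⁅r' * f * r'⁻¹, y⁆ = x := by
        have h := congrArg (fun u => r' * u * r'⁻¹) hfx
        skip
        rwa [show r' * ⁅f, y⁆ * r'⁻¹ = ⁅r' * f * r'⁻¹, r' * y * r'⁻¹⁆ by simp only [commutatorElement_def]; group,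
          hr'y, mul_inv_cancel_right, hr'x, mul_inv_cancel_right] at h
      have hk1 : ⁅k, y⁆ = 1 := by
        have e : r' * f * r'⁻¹ = f * k := by rw [hk, mul_inv_cancel_left]
        rw [e, commutatorElement_mul_left_eq_conj_mul, hfx, mul_eq_right, conj_eq_one_iff] at hky
        exact hky
      have hkK : k ∈ K := c.mem_ker1.mpr ⟨hkE, by rw [← commutatorElement_inv, hk1, inv_one]; exact one_mem _⟩
      have hm' : r' * m * r'⁻¹ ∈ S := by
        have h1 := hrS _ (hSP _ (pow_mem F.hp i) m hm)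
        rwa [show r * (p0 ^ i * m * (p0 ^ i)⁻¹) * r⁻¹ = r' * m * r'⁻¹ by rw [hr']; group] at h1
      have e1 := c.conj_comm hr'c.1 hf hm.1
      rw [show r' * f * r'⁻¹ = f * k by rw [hk, mul_inv_cancel_left],
        c.comm_mul_left hf hkE hm'.1,
        commutatorElement_eq_one_iff_mul_comm.mpr (mem_centralizer_iff.mp hm'.2 k hkK), mul_one] at e1
      exact e1
    set U := S ⊓ centralizer ({f} : Set G) with hU
    have hmemU : ∀ {m}, m ∈ S → (m ∈ U ↔ ⁅f, m⁆ = 1) := fun {m} hm =>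
      ⟨fun h => commutatorElement_eq_one_iff_mul_comm.mpr (mem_centralizer_singleton_iff.mp h.2).symm,
        fun h => ⟨hm, mem_centralizer_singleton_iff.mpr (commutatorElement_eq_one_iff_mul_comm.mp h).symm⟩⟩
    have hxU : x ∈ U := (hmemU hxS).mpr (by
      have h := c.delta_diag hy.1 hy.2.2 f hf
      rw [← commutatorElement_inv f y, hfx, inv_eq_of_mul_eq_one_left hx2, c.comm_swap (c.fixB_le A hxW) hf] at h
      exact h)
    have hx'U : p * x * p⁻¹ ∈ U := (hmemU (hSP p hp x hxS)).mpr h1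
    have hzU : z ∈ U := (hmemU hzS).mpr (by rw [c.comm_swap hf c.zE, c.comm_Z_left (mem_zpowers z) hf])
    have hLU : L ≤ U := c.lineOf_le hzU hxU hx'U
    obtain ⟨m0, hm0, hm0U⟩ : ∃ m0 ∈ S, m0 ∉ U := by
      by_contra hall
      push Not at hall
      have hle : K ≤ E ⊓ centralizer (S : Set G) := fun k hk => ⟨c.ker1_le _ hk, mem_centralizer_iff.mpr
        fun m hm => (mem_centralizer_iff.mp hm.2 k hk).symm⟩
      have hcS := c.cent_card (inf_le_left : S ≤ E) hzS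
      rw [hS32] at hcS
      have hcS' : 32 * Nat.card ↥(E ⊓ centralizer (S : Set G)) = 16384 := hcS
      have heq : K = E ⊓ centralizer (S : Set G) := eq_of_le_of_card_ge hle (by
        rw [c.rank_two hA hy hyZ]; omega)
      have hfK : f ∈ K := by
        rw [heq]
        exact ⟨hf, mem_centralizer_iff.mpr fun m hm => mem_centralizer_singleton_iff.mp (hall m hm).2⟩
      have hxZ : x ∈ zpowers z := by
        rw [← hfx, ← commutatorElement_inv]; exact inv_mem (c.mem_ker1.mp hfK).2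
      exact c.T_not_Z hxT hxZ
    have hcomm : ∀ a ∈ S, ∀ b ∈ S, a * b = b * a := fun a ha b hb =>
      c.vGrp_comm hA.1 (mem_sup_left (hSW ha)) (mem_sup_left (hSW hb))
    obtain ⟨U2, hU2, hU2S, -, hU2c, hU2mem⟩ := exists_adj (fun v hv => hFsq v (hSW hv)) hcomm inf_le_left hm0 hm0U
    have hU2eq : U2 = S := le_antisymm hU2S fun m hm => (hU2mem m).mpr (by
      by_cases hmU : m ∈ U
      · exact Or.inl hmU
      · refine Or.inr ((hmemU (mul_mem hm0 hm)).mpr ?_)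
        have ne1 : ⁅f, m0⁆ = z := (c.mem_Z.mp (c.comm_E hf hm0.1)).resolve_left fun h => hm0U ((hmemU hm0).mpr h)
        have ne2 : ⁅f, m⁆ = z := (c.mem_Z.mp (c.comm_E hf hm.1)).resolve_left fun h => hmU ((hmemU hm).mpr h)
        rw [c.comm_mul_right hm0.1 hm.1 hf, ne1, ne2, c.zz])
    have hU16 : Nat.card U = 16 := by
      rw [hU2eq, hS32] at hU2c
      have e1 : 32 = 2 * Nat.card U := hU2c
      omega
    obtain ⟨u, hu, huL⟩ : ∃ u ∈ U, u ∉ L := SetLike.not_le_iff_exists.mp fun h => by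
      have e1 : Nat.card U ≤ Nat.card L := card_le_of_le h
      have e2 : Nat.card L = 8 := hL8
      omega
    set u' := r' * u * r'⁻¹ with hu'
    have hLr : ∀ v ∈ L, r' * v = v * r' := by
      intro v hv
      have hle : L ≤ centralizer ({r'} : Set G) := c.lineOf_le
        (mem_centralizer_singleton_iff.mpr (mem_centralizer_singleton_iff.mp hr'c.1).symm)
        (mem_centralizer_singleton_iff.mpr hr'x.symm)
        (mem_centralizer_singleton_iff.mpr (by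
          have h1 : Commute r' p := c.cen_comm hr'c hp
          exact ((h1.mul_right (show Commute r' x from hr'x)).mul_right h1.inv_right).eq.symm))
      exact (mem_centralizer_singleton_iff.mp (hle hv)).symm
    have hu'S : u' ∈ S := by
      have h1 := hrS _ (hSP _ (pow_mem F.hp i) u hu.1)
      rwa [show r * (p0 ^ i * u * (p0 ^ i)⁻¹) * r⁻¹ = u' by rw [hu', hr']; group] at h1
    have hu'U : u' ∈ U := (hmemU hu'S).mpr (by rw [hu', hk u hu.1]; exact (hmemU hu.1).mp hu)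
    have hu'L : u' ∉ L := fun h => huL (by
      have e : u = u' := by
        have h2 := hLr _ h
        rw [hu'] at h2
        have h3 : r' * u = u * r' := by
          calc r' * u = r'⁻¹ * (r' * (r' * u * r'⁻¹)) * r' := by group
            _ = r'⁻¹ * (r' * u * r'⁻¹ * r') * r' := by rw [h2]
            _ = u * r' := by group
        rw [hu', h3, mul_inv_cancel_right]
      rw [e]; exact h)
    have hcd : u * u' ∈ L := half_mul hLU (by rw [hU16, hL8]) hu huL hu'U hu'L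
    set d := u * u' with hd
    have hud : u' = u * d := by rw [hd, ← mul_assoc, hFsq u (hSW hu.1), one_mul]
    have hrd : r' * d * r'⁻¹ = d := by rw [hLr d hcd, mul_inv_cancel_right]
    have h3 : u = u * d * d * d := by
      have e1 : r' ^ 3 * u * (r' ^ 3)⁻¹ = u * d * d * d := by
        rw [show r' ^ 3 * u * (r' ^ 3)⁻¹ = r' * (r' * (r' * u * r'⁻¹) * r'⁻¹) * r'⁻¹ by
          simp only [pow_succ, pow_zero, one_mul]; group, ← hu', hud,
          show r' * (u * d) * r'⁻¹ = r' * u * r'⁻¹ * (r' * d * r'⁻¹) by group, hrd, ← hu', hud,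
          show r' * (u * d * d) * r'⁻¹ = r' * u * r'⁻¹ * (r' * d * r'⁻¹) * (r' * d * r'⁻¹) by group, hrd, ← hu', hud]
      rw [F.t3 i, one_mul, inv_one, mul_one] at e1
      exact e1
    rw [mul_assoc (u * d), hFsq d (hLW hcd), mul_one] at h3
    have hd1 : d = 1 := mul_eq_left.mp h3.symm
    rw [hd1, mul_one] at hud
    -- u is fixed by the frame element
    have hD : W ⊓ c.ker1 (F.t_mem i).1 = L := by
      have hle : L ≤ W ⊓ c.ker1 (F.t_mem i).1 := fun v hv => ⟨hLW hv, c.mem_ker1.mpr ⟨c.fixB_le A (hLW hv), by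
        rw [commutatorElement_eq_one_iff_mul_comm.mpr (hLr v hv)]; exact one_mem _⟩⟩
      refine (eq_of_le_of_card_ge hle ?_).symm
      · obtain ⟨h1', h2'⟩ := F.split (c.fixB_le A) (c.Z_le_fixB A) (c.fixB_conj' F.hr hrN)
          (fun e he => c.fixB_P F.hp he)
        have h2'' := h2' (c.fixB_conj' F.hs hsN)
        obtain ⟨m, hm, hme⟩ := c.card_two_pow (inf_le_left.trans (c.fixB_le A) : W ⊓ c.ker1 (F.t_mem i).1 ≤ E)
        rw [← h2'' i hi 0 (by norm_num), ← h2'' i hi 1 (by norm_num), ← h2'' i hi 2 (by norm_num), hF7, hme, ← pow_add,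
          ← pow_add, show 2 ^ 7 * 4 = 2 ^ 9 from rfl] at h1'
        have := Nat.pow_right_injective (le_refl 2) h1'
        rw [hme, hL8, show m = 3 by omega]; norm_num
    refine huL (hD ▸ ⟨hSW hu.1, c.mem_ker1.mpr ⟨hu.1.1, ?_⟩⟩)
    show ⁅r * p0 ^ i, u⁆ ∈ zpowers z
    rw [← hr', commutatorElement_def, ← hu', hud, mul_inv_cancel]
    exact one_mem _
  -- conclude by uniqueness in the coset
  set x' := p * x * p⁻¹ with hx'def
  set x'' := p * x' * p⁻¹ with hx''def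
  have hR2 : ⁅f * (p * f * p⁻¹), y⁆ = z * x' * x := by
    have hc1 : f * x' * f⁻¹ = z * x' := by rw [← hpair, commutatorElement_def, inv_mul_cancel_right]
    rw [commutatorElement_mul_left_eq_conj_mul, hfx, ← hxp, hc1]
  have hpy : p * y * p⁻¹ = y := by rw [← c.cen_comm hy.1 hp, mul_inv_cancel_right]
  have hx'R : x' ∈ c.cR y := ⟨_, c.conj_E (c.P_le hp) hf, hxp.symm⟩
  have hx''R : x'' ∈ c.cR y := hpy ▸ c.cR_conj (c.P_le hp) hx'R
  have hx'W : x' ∈ W := c.fixB_P hp hxW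
  have hx''W : x'' ∈ W := c.fixB_P hp hx'W
  have hcW : ∀ a ∈ W, ∀ b ∈ W, a * b = b * a := fun a ha b hb =>
    c.vGrp_comm hA.1 (mem_sup_left ha) (mem_sup_left hb)
  have hzW : z ∈ W := c.Z_le_fixB A (mem_zpowers z)
  have he := c.cR_uniq hA hy hyZ hx''R ⟨_, mul_mem hf (c.conj_E (c.P_le hp) hf), hR2⟩ (by
    have hprod := c.orbit_prod_Z hA.1 hp hgen hxW
    rw [← hx'def, ← hx''def] at hprod
    rw [inv_eq_of_mul_eq_one_left (hFsq _ hx''W), hcW x'' hx''W _ (mul_mem (mul_mem hzW hx'W) hxW),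
      mul_assoc z, hcW x' hx'W x hxW, mul_assoc z]
    exact mul_mem (mem_zpowers z) hprod)
  rw [he, mul_assoc z, ← mul_assoc z z, c.zz, one_mul, hcW x' hx'W x hxW]

end Ctx

end CfsgLib.JankoFour
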