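/-
Subgroups of the group of order 2^11 without conjugates of z.
-/
import Cfsg.Agent.Lib.JankoFour.OrbKer

set_option autoImplicit false

namespace CfsgLib.JankoFour

open Cfsg Subgroup
open scoped commutatorElement

universe u

variable {G : Type u} [Group G] [Finite G] {z : G} {P E : Subgroup G}

namespace Ctx

variable (c : Ctx z P E) {A : Subgroup MTwoTwo}

/-- The kernel is the centralizer of its centralizer. -/
theorem ker_of_cent (hA : HexData A) {y : G} (hy : y ∈ c.twoGrp A hA.1.1) (hyZ : y ∉ zpowers z) {f : G}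
    (hf : f ∈ E) (h : ∀ m ∈ E ⊓ centralizer (c.ker1 hy.1.1 : Set G), m * f = f * m) : f ∈ c.ker1 hy.1.1 := by
  obtain ⟨hS32, -, -, -⟩ := c.kernel_facts hA hy hyZ
  set K := c.ker1 hy.1.1
  set S := E ⊓ centralizer (K : Set G) with hS
  have hle : K ≤ E ⊓ centralizer (S : Set G) := fun k hk => ⟨c.ker1_le _ hk, mem_centralizer_iff.mpr
    fun m hm => (mem_centralizer_iff.mp hm.2 k hk).symm⟩
  have hzS : z ∈ S := ⟨c.zE, mem_centralizer_iff.mpr fun g hg =>
    mem_centralizer_singleton_iff.mp (c.Ez (c.ker1_le _ hg))⟩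
  have hcS := c.cent_card (inf_le_left : S ≤ E) hzS
  rw [hS32] at hcS
  have hcS' : 32 * Nat.card ↥(E ⊓ centralizer (S : Set G)) = 16384 := hcS
  have heq : K = E ⊓ centralizer (S : Set G) := eq_of_le_of_card_ge hle (by
    rw [c.rank_two hA hy hyZ]; omega)
  rw [heq]
  exact ⟨hf, mem_centralizer_iff.mpr fun m hm => h m hm⟩

/-- An element of T outside W is moved by E to a lift. -/
theorem Orb.T_fibre {c : Ctx z P E} {A : Subgroup MTwoTwo} (o : c.Orb A) {v : G}
    (hv : v ∈ c.Tset (c.vGrp A o.hA.1.1)) (hvW : v ∉ c.fixB A) :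
    ∃ y ∈ c.twoGrp A o.hA.1.1, y ∉ zpowers z ∧ ¬ c.IsZ y ∧ ∃ f ∈ E, f * y * f⁻¹ = v := by
  obtain ⟨w, hw, q, hq, rfl⟩ := c.mem_vGrp o.hA.1 hv.1
  have hqZ : q ∉ zpowers z := fun h => hvW (mul_mem hw (c.Z_le_fixB A h))
  have key : ∀ y w', y ∈ c.twoGrp A o.hA.1.1 → y ∉ zpowers z → ¬ c.IsZ y → w' ∈ c.fixB A → w' * y = w * q →
      ∃ y ∈ c.twoGrp A o.hA.1.1, y ∉ zpowers z ∧ ¬ c.IsZ y ∧ ∃ f ∈ E, f * y * f⁻¹ = w * q := by
    intro y w' hy hyZ hny hw' he
    obtain ⟨f, hf, hfe⟩ : w' ∈ c.cR y := by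
      by_contra hR
      exact hv.2.2 (he ▸ (o.fibre y hy hyZ hny w' hw').mpr hR)
    exact ⟨y, hy, hyZ, hny, f, hf, by rw [← he, ← hfe, commutatorElement_def, inv_mul_cancel_right]⟩
  by_cases h : c.IsZ q
  · refine key (z * q) (w * z) (mul_mem (c.Z_mem_twoGrp o.hA.1 (mem_zpowers z)) hq) (fun hh => hqZ ?_)
      (fun hh => (o.twin q hq hqZ).mp hh h) (mul_mem hw (c.Z_le_fixB A (mem_zpowers z))) ?_
    · have := mul_mem (inv_mem (mem_zpowers z)) hh
      rwa [inv_mul_cancel_left] at this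
    · rw [mul_assoc, ← mul_assoc z z, c.zz, one_mul]
  · exact key q w hq hqZ h hw rfl

/-- An element of T outside W times z is a conjugate of z. -/
theorem Orb.W_of_zT {c : Ctx z P E} {A : Subgroup MTwoTwo} (o : c.Orb A) {v : G}
    (hv : v ∈ c.Tset (c.vGrp A o.hA.1.1)) (hzv : ¬ c.IsZ (z * v)) : v ∈ c.fixB A := by
  by_contra hvW
  obtain ⟨y, hy, hyZ, hny, f, hf, rfl⟩ := o.T_fibre hv hvW
  apply hzv
  have e : z * (f * y * f⁻¹) = f * (z * y) * f⁻¹ := by
    rw [show f * (z * y) * f⁻¹ = f * z * f⁻¹ * (f * y * f⁻¹) by group, c.Z_conj (c.Ez hf) (mem_zpowers z)]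
  rw [e]
  exact c.isZ_conj ((o.twin y hy hyZ).mpr hny) f

/-- A chosen lift outside the conjugates of z. -/
theorem Orb.exists_lift {c : Ctx z P E} {A : Subgroup MTwoTwo} (o : c.Orb A) {a : MTwoTwo} (ha : a ∈ A)
    (ha1 : a ≠ 1) : ∃ y ∈ c.twoGrp A o.hA.1.1, y ∉ zpowers z ∧ c.val y = a ∧ ¬ c.IsZ y := by
  obtain ⟨y, hy, hv⟩ := c.twoGrp_lift o.hA.1.1 ha
  have hyZ : y ∉ zpowers z := fun h => ha1 (hv ▸ c.val_E (c.Z_le h))
  by_cases h : c.IsZ y
  · refine ⟨z * y, mul_mem (c.Z_mem_twoGrp o.hA.1 (mem_zpowers z)) hy, fun hh => hyZ ?_, ?_,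
      fun hh => (o.twin y hy hyZ).mp hh h⟩
    · have := mul_mem (inv_mem (mem_zpowers z)) hh
      rwa [inv_mul_cancel_left] at this
    · rw [c.val_mul c.z_H0 (c.cen_le_H0 hy.1), c.val_E c.zE, one_mul, hv]
  · exact ⟨y, hy, hyZ, hv, h⟩

/-- Membership of products in a subgroup of index two. -/
theorem half_iff {V K : Subgroup G} (hK : K ≤ V) (hc : Nat.card V = 2 * Nat.card K) {a b : G} (ha : a ∈ V)
    (hb : b ∈ V) : a * b ∈ K ↔ (a ∈ K ↔ b ∈ K) := by
  have hi : (K.subgroupOf V).index = 2 := by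
    have h := Subgroup.card_mul_index (K.subgroupOf V)
    rw [Nat.card_congr (subgroupOfEquivOfLe hK).toEquiv, hc, mul_comm 2] at h
    exact Nat.eq_of_mul_eq_mul_left Nat.card_pos h
  exact Subgroup.mul_mem_iff_of_index_two hi (a := ⟨a, ha⟩) (b := ⟨b, hb⟩)

/-- A hyperplane through z. -/
theorem Orb.hyper_z {c : Ctx z P E} {A : Subgroup MTwoTwo} (o : c.Orb A) {K : Subgroup G}
    (hK : K ≤ c.vGrp A o.hA.1.1) (hKc : Nat.card ↥(c.vGrp A o.hA.1.1) = 2 * Nat.card K) (hzK : z ∈ K) :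
    (c.Tset (c.vGrp A o.hA.1.1) ∩ (K : Set G)).ncard ≤ 148 := by
  classical
  have hA := o.hA
  set V := c.vGrp A hA.1.1 with hV
  set W := c.fixB A with hW
  set T := c.Tset V with hT
  obtain ⟨hF7, hFc, hFsq, hFQ⟩ := c.hex_fix hA.1
  obtain ⟨p, hp, -, hgen⟩ := c.exists_gen
  let ι := {a : MTwoTwo // a ∈ A ∧ a ≠ 1}
  have hι : Fintype.card ι = 15 := by
    have e : Nat.card ι = Nat.card ↥((A : Set MTwoTwo) \ {1}) := Nat.card_congr
      ⟨fun x => ⟨x.1, x.2.1, x.2.2⟩, fun x => ⟨x.1, x.2.1, x.2.2⟩, fun x => rfl, fun x => rfl⟩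
    rw [← Nat.card_eq_fintype_card, e, Nat.card_coe_set_eq, Set.ncard_sdiff (Set.singleton_subset_iff.mpr (one_mem A)),
      Set.ncard_singleton, ← Nat.card_coe_set_eq, SetLike.coe_sort_coe, hA.1.2.1]
  have lift : ∀ i : ι, ∃ y ∈ c.twoGrp A hA.1.1, y ∉ zpowers z ∧ c.val y = i.1 ∧ ¬ c.IsZ y :=
    fun i => o.exists_lift i.2.1 i.2.2
  choose yl hyl hylZ hylv hyln using lift
  let fib : ι → Set G := fun i => {r | r ∈ c.cR (yl i) ∧ r * yl i ∈ K}
  -- T in K splits into the part in W and the fibres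
  have hsplit : (T ∩ (K : Set G)).ncard ≤ (T ∩ (W : Set G) ∩ (K : Set G)).ncard + ∑ i, (fib i).ncard := by
    have h1 := Set.ncard_inter_add_ncard_sdiff_eq_ncard (T ∩ (K : Set G)) (W : Set G) (Set.toFinite _)
    have e : T ∩ (K : Set G) ∩ (W : Set G) = T ∩ (W : Set G) ∩ (K : Set G) := by
      rw [Set.inter_right_comm]
    rw [e] at h1
    rw [← h1]
    refine Nat.add_le_add_left ?_ _
    have hsub : (T ∩ (K : Set G)) \ (W : Set G) ⊆ ⋃ i ∈ (Finset.univ : Finset ι), (fun r => r * yl i) '' fib i := by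
      rintro v ⟨⟨hvT, hvK⟩, hvW⟩
      obtain ⟨y, hy, hyZ, hny, f, hf, hfe⟩ := o.T_fibre hvT hvW
      let i : ι := ⟨c.val y, hy.2.1, c.val_ne hA hy hyZ⟩
      have hd := c.twoGrp_val_eq hy (hyl i) (hylv i).symm
      have hyy : y = yl i := by
        rcases c.mem_Z.mp hd with e | e
        · exact (inv_mul_eq_one.mp e).symm
        · exfalso
          have e2 : y = z * yl i := by
            rw [← c.Z_comm (c.H0le (c.cen_le_H0 (hyl i).1)) (mem_zpowers z), ← e, mul_inv_cancel_left]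
          exact hny (e2 ▸ (o.twin _ (hyl i) (hylZ i)).mpr (hyln i))
      have hfe' : ⁅f, yl i⁆ * yl i = v := by
        rw [← hyy, commutatorElement_def, inv_mul_cancel_right, hfe]
      simp only [Set.mem_iUnion, Finset.mem_univ, exists_true_left]
      exact ⟨i, ⁅f, yl i⁆, ⟨⟨f, hf, rfl⟩, hfe'.symm ▸ hvK⟩, hfe'⟩
    refine (Set.ncard_le_ncard hsub (Set.toFinite _)).trans ((Finset.set_ncard_biUnion_le _ _).trans
      (Finset.sum_le_sum fun i _ => ?_))
    exact (Set.ncard_image_le (Set.toFinite _))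
  have hRc : ∀ i, (fib i).ncard ≤ 16 := fun i => by
    rw [← c.cR_card hA (hyl i) (hylZ i)]
    exact Set.ncard_le_ncard (fun r hr => hr.1) (Set.toFinite _)
  have hRV : ∀ i, ∀ r ∈ c.cR (yl i), r ∈ V := fun i r hr => mem_sup_left (c.cR_sub hA (hyl i) (hylZ i) hr).2.1
  by_cases hWK : W ≤ K
  · -- all of W lies in K
    let J : Finset ι := Finset.univ.filter fun i => yl i ∈ K
    have hJ : 2 * J.card ≤ 14 := by
      set Q := c.twoGrp A hA.1.1
      obtain ⟨q0, hq0, hq0K⟩ : ∃ q ∈ Q, q ∉ K := SetLike.not_le_iff_exists.mp fun h => by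
        have := card_le_of_le (show V ≤ K from sup_le hWK h)
        have hpos := Nat.card_pos (α := K)
        omega
      have hQc : Nat.card Q = 32 := c.twoGrp_card hA.1
      have hQK : Nat.card ↥(Q ⊓ K) ≤ 16 := by
        by_contra hlt
        have hd := card_dvd_of_le (inf_le_left : Q ⊓ K ≤ Q)
        obtain ⟨k, hk, hkc⟩ := (Nat.dvd_prime_pow Nat.prime_two).mp (show Nat.card ↥(Q ⊓ K) ∣ 2 ^ 5 by
          rw [show (2 : ℕ) ^ 5 = 32 from rfl, ← hQc]; exact hd)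
        rw [hkc] at hlt
        have hk5 : k = 5 := by
          by_contra hne
          exact hlt (Nat.pow_le_pow_right (by norm_num) (show k ≤ 4 by omega))
        have e : Q ⊓ K = Q := eq_of_le_of_card_ge inf_le_left (by rw [hkc, hk5, hQc]; rfl)
        exact hq0K (e.symm ▸ hq0 : q0 ∈ Q ⊓ K).2
      have hzQ : zpowers z ≤ Q ⊓ K := le_inf (fun t ht => c.Z_mem_twoGrp hA.1 ht) (zpowers_le.mpr hzK)
      let g : ↥J × zpowers z → ↥(((Q ⊓ K : Subgroup G) : Set G) \ (zpowers z : Set G)) := fun x =>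
        ⟨(x.2 : G) * yl x.1.1, ⟨mul_mem (c.Z_mem_twoGrp hA.1 x.2.2) (hyl _),
          mul_mem (zpowers_le.mpr hzK x.2.2) (Finset.mem_filter.mp x.1.2).2⟩, fun h => hylZ x.1.1 (by
          have := mul_mem (inv_mem x.2.2) h
          rwa [inv_mul_cancel_left] at this)⟩
      have hg : Function.Injective g := by
        rintro ⟨⟨i, hi⟩, ⟨t, ht⟩⟩ ⟨⟨j, hj⟩, ⟨t', ht'⟩⟩ e
        have e' : t * yl i = t' * yl j := congrArg Subtype.val e
        have hv := congrArg c.val e'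
        rw [c.val_mul (c.NH0 (c.EN (c.Z_le ht))) (c.cen_le_H0 (hyl i).1), c.val_E (c.Z_le ht),
          c.val_mul (c.NH0 (c.EN (c.Z_le ht'))) (c.cen_le_H0 (hyl j).1), c.val_E (c.Z_le ht'), one_mul, one_mul,
          hylv, hylv] at hv
        obtain rfl : i = j := Subtype.ext hv
        obtain rfl : t = t' := mul_right_cancel e'
        rfl
      have h := Nat.card_le_card_of_injective g hg
      rw [Nat.card_prod, c.card_Z, Nat.card_eq_fintype_card, Fintype.card_coe, Nat.card_coe_set_eq,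
        Set.ncard_sdiff (show ((zpowers z : Subgroup G) : Set G) ⊆ ((Q ⊓ K : Subgroup G) : Set G) from hzQ),
        ← Nat.card_coe_set_eq, ← Nat.card_coe_set_eq] at h
      change J.card * 2 ≤ Nat.card ↥(Q ⊓ K) - Nat.card (zpowers z) at h
      rw [c.card_Z] at h
      omega
    have hfib : ∀ i, (fib i).ncard ≤ if i ∈ J then 16 else 0 := fun i => by
      split_ifs with h
      · exact hRc i
      · rw [Nat.le_zero, Set.ncard_eq_zero]
        refine Set.eq_empty_iff_forall_notMem.mpr fun r hr => h (Finset.mem_filter.mpr ⟨Finset.mem_univ _, ?_⟩)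
        exact ((half_iff hK hKc (hRV i r hr.1) (mem_sup_right (hyl i))).mp hr.2).mp
          (hWK (c.cR_sub hA (hyl i) (hylZ i) hr.1).2.1)
    have hsum : ∑ i, (fib i).ncard ≤ J.card * 16 := (Finset.sum_le_sum fun i _ => hfib i).trans (by
      rw [Finset.sum_ite_mem, Finset.univ_inter, Finset.sum_const, smul_eq_mul])
    have hW36 : (T ∩ (W : Set G) ∩ (K : Set G)).ncard ≤ 36 :=
      (Set.ncard_le_ncard Set.inter_subset_left (Set.toFinite _)).trans o.cardTW.le
    omega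
  · -- K meets W in the centralizer of an element of E
    set WK := W ⊓ K with hWKdef
    obtain ⟨w0, hw0, hw0K⟩ := SetLike.not_le_iff_exists.mp hWK
    have hWK64 : 64 ≤ Nat.card WK := by
      obtain ⟨U, hU, hUW, -, hUc, hUmem⟩ := exists_adj hFsq
        (fun a ha b hb => c.vGrp_comm hA.1 (mem_sup_left ha) (mem_sup_left hb)) (inf_le_left : WK ≤ W) hw0
        (fun h => hw0K h.2)
      have hle : W ≤ U := fun w hw => by
        by_cases hwK : w ∈ K
        · exact hU ⟨hw, hwK⟩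
        · refine (hUmem w).mpr (Or.inr ⟨mul_mem hw0 hw, ?_⟩)
          exact (half_iff hK hKc (mem_sup_left hw0) (mem_sup_left hw)).mpr (iff_of_false hw0K hwK)
      have h7 := card_le_of_le hle
      have hUc' : Nat.card U = 2 * Nat.card WK := hUc
      rw [hF7, hUc'] at h7
      omega
    have hzWK : z ∈ WK := ⟨c.Z_le_fixB A (mem_zpowers z), hzK⟩
    have hcent := c.cent_card (inf_le_left.trans (c.fixB_le A) : WK ≤ E) hzWK
    have hWK64' : Nat.card WK = 64 := by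
      obtain ⟨k, hk, hkc⟩ := (Nat.dvd_prime_pow Nat.prime_two).mp (hF7 ▸ card_dvd_of_le (inf_le_left : WK ≤ W))
      have hk7 : k ≠ 7 := fun e => hw0K ((eq_of_le_of_card_ge (inf_le_left : WK ≤ W)
        (by rw [hkc, e, hF7]) ).symm ▸ hw0 : w0 ∈ W ⊓ K).2
      rw [hkc] at hWK64 ⊢
      have : 6 ≤ k := (Nat.pow_le_pow_iff_right (le_refl 2)).mp hWK64
      rw [show k = 6 by omega]; norm_num
    obtain ⟨f, hf, hfW⟩ : ∃ f ∈ E ⊓ centralizer (WK : Set G), f ∉ W := SetLike.not_le_iff_exists.mp fun h => by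
      have h1 := card_le_of_le h
      rw [hF7] at h1
      rw [hWK64'] at hcent
      have hcent' : 64 * Nat.card ↥(E ⊓ centralizer (WK : Set G)) = 16384 := hcent
      have h1' : Nat.card ↥(E ⊓ centralizer (WK : Set G)) ≤ 128 := h1
      omega
    have hWKf : ∀ v ∈ WK, ⁅f, v⁆ = 1 := fun v hv =>
      commutatorElement_eq_one_iff_mul_comm.mpr (mem_centralizer_iff.mp hf.2 v hv).symm
    obtain ⟨U, hUW, hzU, hUc, hUP, hUmem⟩ := c.perp_group hA hp hgen hf.1 hfW
    -- the part in W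
    have hW20 : (T ∩ (W : Set G) ∩ (K : Set G)).ncard ≤ 20 := by
      set X := (T ∩ (W : Set G) ∩ (K : Set G)) \ (U : Set G) with hX
      have hpU : ∀ v, p * v * p⁻¹ ∈ U → v ∈ U := fun v hv => by
        have := hUP _ (inv_mem hp) _ hv
        rwa [show p⁻¹ * (p * v * p⁻¹) * p⁻¹⁻¹ = v by group] at this
      have hpV : p ∈ normalizer (V : Set G) := c.cen_norm_V hA.1 (c.P_le_cen hp) (by rw [c.val_P hp]; exact one_mem _)
      let π : G → G := fun v => p * v * p⁻¹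
      have hπ : Function.Injective π := fun a b e => mul_left_cancel (mul_right_cancel e)
      have hπS : ∀ v, v ∈ (T ∩ (W : Set G)) \ (U : Set G) → π v ∈ (T ∩ (W : Set G)) \ (U : Set G) :=
        fun v hv => ⟨⟨c.norm_T hpV hv.1.1, c.fixB_P hp hv.1.2⟩, fun h => hv.2 (hpU v h)⟩
      have hXS : X ⊆ (T ∩ (W : Set G)) \ (U : Set G) := fun v hv => ⟨hv.1.1, hv.2⟩
      have hnot : ∀ v ∈ X, π v ∉ X := by
        intro v hv hv'
        refine hv.2 (hpU v (hUmem _ (c.fixB_P hp hv.1.1.2) (hWKf _ ⟨hv'.1.1.2, hv'.1.2⟩) ?_))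
        rw [c.conj_comm (c.P_le hp) hf.1 (c.fixB_le A hv.1.1.2)]
        exact hWKf v ⟨hv.1.1.2, hv.1.2⟩
      have hp3 : ∀ v, π (π (π v)) = v := fun v => by
        show p * (p * (p * v * p⁻¹) * p⁻¹) * p⁻¹ = v
        rw [show p * (p * (p * v * p⁻¹) * p⁻¹) * p⁻¹ = (p * p * p) * v * (p * p * p)⁻¹ by group, c.P_cube hp]
        group
      have d01 : Disjoint X (π '' X) := Set.disjoint_left.mpr fun v hv ⟨u, hu, e⟩ => hnot u hu (e ▸ hv)
      have d12 : Disjoint (π '' X) (π '' (π '' X)) := Set.disjoint_image_of_injective hπ d01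
      have d02 : Disjoint X (π '' (π '' X)) := Set.disjoint_left.mpr fun v hv ⟨_, ⟨u, hu, e1⟩, e⟩ => by
        subst e1
        refine hnot v hv ?_
        rw [← e, hp3]; exact hu
      have hsub : X ∪ π '' X ∪ π '' (π '' X) ⊆ (T ∩ (W : Set G)) \ (U : Set G) := by
        rintro v ((hv | ⟨u, hu, rfl⟩) | ⟨_, ⟨u, hu, rfl⟩, rfl⟩)
        exacts [hXS hv, hπS u (hXS hu), hπS _ (hπS u (hXS hu))]
      have h3 := Set.ncard_le_ncard hsub (Set.toFinite _)
      rw [Set.ncard_union_eq (Set.disjoint_union_left.mpr ⟨d02, d12⟩) (Set.toFinite _) (Set.toFinite _),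
        Set.ncard_union_eq d01 (Set.toFinite _) (Set.toFinite _), Set.ncard_image_of_injective _ hπ,
        Set.ncard_image_of_injective _ hπ, Set.ncard_image_of_injective _ hπ] at h3
      have h4 := Set.ncard_inter_add_ncard_sdiff_eq_ncard (T ∩ (W : Set G)) (U : Set G) (Set.toFinite _)
      have h5 := Set.ncard_inter_add_ncard_sdiff_eq_ncard (T ∩ (W : Set G) ∩ (K : Set G)) (U : Set G) (Set.toFinite _)
      have h6 : (T ∩ (W : Set G) ∩ (K : Set G) ∩ (U : Set G)).ncard ≤ (T ∩ (W : Set G) ∩ (U : Set G)).ncard :=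
        Set.ncard_le_ncard (fun v hv => ⟨hv.1.1, hv.2⟩) (Set.toFinite _)
      have h7 : (T ∩ (W : Set G) ∩ (U : Set G)).ncard ≤ 12 :=
        (Set.ncard_le_ncard (fun v hv => (⟨hv.1.1, hv.2⟩ : v ∈ T ∩ (U : Set G))) (Set.toFinite _)).trans
          (c.T_in_small o hUW hzU hUc hUP)
      rw [o.cardTW] at h4
      rw [← hX] at h5
      omega
    -- the fibres
    have h8 : ∀ i, f ∉ c.ker1 (hyl i).1.1 → (fib i).ncard ≤ 8 := by
      intro i hfi
      set y := yl i
      obtain ⟨hS32, hSW, -, -⟩ := c.kernel_facts hA (hyl i) (hylZ i)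
      set S := E ⊓ centralizer (c.ker1 (hyl i).1.1 : Set G)
      obtain ⟨m0, hm0, hm0K⟩ : ∃ m ∈ S, m ∉ K := by
        by_contra hall
        push Not at hall
        exact hfi (c.ker_of_cent hA (hyl i) (hylZ i) hf.1 fun m hm =>
          mem_centralizer_iff.mp hf.2 m ⟨hSW hm, hall m hm⟩)
      obtain ⟨t, ht, htm⟩ := c.cR_cover hA (hyl i) (hylZ i) hm0
      have hzS : zpowers z ≤ S := zpowers_le.mpr ⟨c.zE, mem_centralizer_iff.mpr fun g hg =>
        mem_centralizer_singleton_iff.mp (c.Ez (c.ker1_le _ hg))⟩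
      set R1 := {r | r ∈ c.cR y ∧ r ∈ K} with hR1
      set R0 := {r | r ∈ c.cR y ∧ r ∉ K} with hR0
      have hcompl : R1.ncard + R0.ncard = 16 := by
        rw [← c.cR_card hA (hyl i) (hylZ i), ← Set.ncard_union_eq (Set.disjoint_left.mpr fun r h h' => h'.2 h.2)
          (Set.toFinite _) (Set.toFinite _)]
        congr 1
        ext r
        exact ⟨fun h => h.elim (·.1) (·.1), fun h => (em (r ∈ K)).imp (⟨h, ·⟩) (⟨h, ·⟩)⟩
      have hR1c : R1.ncard = 8 := by
        obtain ⟨S1, -, hS1S, -, hS1c, hS1mem⟩ := exists_adj (fun v hv => hFsq v (hSW hv))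
          (fun a ha b hb => c.vGrp_comm hA.1 (mem_sup_left (hSW ha)) (mem_sup_left (hSW hb)))
          (inf_le_left : S ⊓ K ≤ S) hm0 (fun h => hm0K h.2)
        have hS1 : S1 = S := le_antisymm hS1S fun m hm => (hS1mem m).mpr (by
          by_cases hmK : m ∈ K
          · exact Or.inl ⟨hm, hmK⟩
          · exact Or.inr ⟨mul_mem hm0 hm, (half_iff hK hKc (mem_sup_left (hSW hm0)) (mem_sup_left (hSW hm))).mpr
              (iff_of_false hm0K hmK)⟩)
        rw [hS1, hS32] at hS1c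
        have hbij : Nat.card (zpowers z × R1) = Nat.card ↥(S ⊓ K) := by
          refine Nat.card_eq_of_bijective (fun x => (⟨(x.1 : G) * x.2,
            mul_mem (hzS x.1.2) (c.cR_sub hA (hyl i) (hylZ i) x.2.2.1).1,
            mul_mem (zpowers_le.mpr hzK x.1.2) x.2.2.2⟩ : ↥(S ⊓ K))) ⟨?_, ?_⟩
          · rintro ⟨⟨t, ht⟩, ⟨v, hv⟩⟩ ⟨⟨t', ht'⟩, ⟨v', hv'⟩⟩ h
            have h' : t * v = t' * v' := congrArg Subtype.val h
            have e : v' = t'⁻¹ * t * v := by rw [mul_assoc, h', inv_mul_cancel_left]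
            have hd : v⁻¹ * v' ∈ zpowers z := by
              rw [e, ← mul_assoc, c.Z_comm (inv_mem (c.Ez (c.cR_sub hA (hyl i) (hylZ i) hv.1).1.1))
                (mul_mem (inv_mem ht') ht), inv_mul_cancel_right]
              exact mul_mem (inv_mem ht') ht
            obtain rfl := c.cR_uniq hA (hyl i) (hylZ i) hv.1 hv'.1 hd
            obtain rfl := mul_right_cancel h'
            rfl
          · rintro ⟨s, hs, hsK⟩
            obtain ⟨t, ht, hts⟩ := c.cR_cover hA (hyl i) (hylZ i) hs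
            exact ⟨⟨⟨t⁻¹, inv_mem ht⟩, ⟨t * s, hts, mul_mem (zpowers_le.mpr hzK ht) hsK⟩⟩,
              Subtype.ext (inv_mul_cancel_left t s)⟩
        rw [Nat.card_prod, c.card_Z, Nat.card_coe_set_eq] at hbij
        omega
      by_cases hyK : y ∈ K
      · refine (Set.ncard_le_ncard (t := R1) (fun r hr => ⟨hr.1, ?_⟩) (Set.toFinite _)).trans hR1c.le
        exact ((half_iff hK hKc (hRV i r hr.1) (mem_sup_right (hyl i))).mp hr.2).mpr hyK
      · refine (Set.ncard_le_ncard (t := R0) (fun r hr => ⟨hr.1, ?_⟩) (Set.toFinite _)).trans (by omega)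
        exact fun h => hyK (((half_iff hK hKc (hRV i r hr.1) (mem_sup_right (hyl i))).mp hr.2).mp h)
    let bad : Finset ι := Finset.univ.filter fun i => f ∈ c.ker1 (hyl i).1.1
    have hbad : bad.card ≤ 1 := Finset.card_le_one.mpr fun i hi j hj => by
      simp only [bad, Finset.mem_filter, Finset.mem_univ, true_and] at hi hj
      by_contra hne
      have hv : c.val (yl i) ≠ c.val (yl j) := fun e => hne (Subtype.ext (by rw [← hylv i, ← hylv j, e]))
      exact hfW ((c.ker_inter hA (hyl i) (hylZ i) (hyl j) (hylZ j) hv).le ⟨hi, hj⟩)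
    have hsum : ∑ i, (fib i).ncard ≤ 15 * 8 + bad.card * 8 := by
      refine (Finset.sum_le_sum (g := fun i => 8 + if i ∈ bad then 8 else 0) fun i _ => ?_).trans ?_
      · show (fib i).ncard ≤ 8 + if i ∈ bad then 8 else 0
        split_ifs with h
        · exact hRc i
        · exact h8 i fun hh => h (Finset.mem_filter.mpr ⟨Finset.mem_univ _, hh⟩)
      · rw [Finset.sum_add_distrib, Finset.sum_ite_mem, Finset.univ_inter, Finset.sum_const, Finset.sum_const,
          Finset.card_univ, hι, smul_eq_mul, smul_eq_mul]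
    omega

/-- The bound on the T part of a subgroup. -/
theorem Orb.T_bound {c : Ctx z P E} {A : Subgroup MTwoTwo} (o : c.Orb A) :
    ∀ U : Subgroup G, U ≤ c.vGrp A o.hA.1.1 →
      8 * (c.Tset (c.vGrp A o.hA.1.1) ∩ (U : Set G)).ncard ≤ Nat.card U + 160 := by
  classical
  have hA := o.hA
  set V := c.vGrp A hA.1.1 with hV
  set T := c.Tset V with hT
  obtain ⟨hVel, hVc⟩ := c.vGrp_facts hA.1
  have hVsq : ∀ v ∈ V, v * v = 1 := fun v hv => c.vGrp_sq hA.1 hv
  have hVcomm : ∀ v ∈ V, ∀ w ∈ V, v * w = w * v := fun v hv w hw => c.vGrp_comm hA.1 hv hw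
  have hTV : (T ∩ (V : Set G)).ncard = 276 := by
    rw [Set.inter_eq_left.mpr fun v hv => hv.1]; exact o.cardT
  have h148 : ∀ K : Subgroup G, K ≤ V → Nat.card V = 2 * Nat.card K →
      2 * (T ∩ (K : Set G)).ncard ≤ (T ∩ (V : Set G)).ncard + 20 := by
    intro K hK hKc
    rw [hTV]
    obtain ⟨v, hvK, hv1, hvT⟩ : ∃ v ∈ K, v ≠ 1 ∧ v ∉ T := by
      by_contra hall
      push Not at hall
      have h := Set.ncard_le_ncard (show (K : Set G) \ {1} ⊆ T from fun v hv => hall v hv.1 hv.2) (Set.toFinite _)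
      rw [o.cardT, Set.ncard_sdiff (Set.singleton_subset_iff.mpr (one_mem K)), Set.ncard_singleton,
        ← Nat.card_coe_set_eq] at h
      change Nat.card K - 1 ≤ 276 at h
      rw [hVc] at hKc
      omega
    have hvz : c.IsZ v := by
      by_contra h
      exact hvT ⟨hK hvK, hv1, h⟩
    obtain ⟨n, hn, hnz⟩ := c.weak_closure hA.1 (hK hvK) hvz
    set K' := K.map (MulAut.conj n⁻¹).toMonoidHom with hK'
    have hK'V : K' ≤ V := by
      rintro _ ⟨x, hx, rfl⟩
      exact (mem_normalizer_iff.mp (inv_mem hn) x).mp (hK hx)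
    have hzK' : z ∈ K' := ⟨v, hvK, by show n⁻¹ * v * n⁻¹⁻¹ = z; rw [← hnz]; group⟩
    have h := o.hyper_z hK'V (by rw [hK', card_map_of_injective (MulAut.conj n⁻¹).injective]; exact hKc) hzK'
    have hle : (T ∩ (K : Set G)).ncard ≤ (T ∩ (K' : Set G)).ncard :=
      Set.ncard_le_ncard_of_injOn (fun x => n⁻¹ * x * n⁻¹⁻¹)
        (fun x hx => ⟨c.norm_T (inv_mem hn) hx.1, x, hx.2, rfl⟩)
        (fun a _ b _ e => mul_left_cancel (mul_right_cancel e)) (Set.toFinite _)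
    have h' : (T ∩ (K' : Set G)).ncard ≤ 148 := h
    omega
  have hpair := hyper_bound hVsq hVcomm T 20 h148
  suffices h : ∀ n : ℕ, ∀ U : Subgroup G, U ≤ V → Nat.card V - Nat.card U ≤ n →
      8 * (T ∩ (U : Set G)).ncard ≤ Nat.card U + 160 from fun U hU => h _ U hU le_rfl
  intro n
  induction n with
  | zero =>
    intro U hU hn
    obtain rfl : U = V := eq_of_le_of_card_ge hU (by omega)
    rw [hTV, hVc]; norm_num
  | succ n ih =>
    intro U hU hn
    by_cases hUV : U = V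
    · subst hUV; rw [hTV, hVc]; norm_num
    obtain ⟨a, haV, haU⟩ := SetLike.not_le_iff_exists.mp fun h => hUV (le_antisymm hU h)
    obtain ⟨U2, hU2, hU2V, -, hU2c, -⟩ := exists_adj hVsq hVcomm hU haV haU
    have := ih U2 hU2V (by
      have := card_le_of_le hU2V; have := Nat.card_pos (α := U); omega)
    have := hpair U2 U hU2V hU2 hU2c
    omega

/-- In a subgroup of order at least 64 containing t some conjugate of z gives one with t. -/
theorem Orb.exists_pair {c : Ctx z P E} {A : Subgroup MTwoTwo} (o : c.Orb A) {U : Subgroup G}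
    (hU : U ≤ c.vGrp A o.hA.1.1) (h64 : 64 ≤ Nat.card U) {t : G} (ht : t ∈ U)
    (htT : t ∈ c.Tset (c.vGrp A o.hA.1.1)) : ∃ a ∈ U, c.IsZ a ∧ c.IsZ (a * t) := by
  by_contra hno
  push Not at hno
  set T := c.Tset (c.vGrp A o.hA.1.1) with hT
  have hsub : (U : Set G) ⊆ (T ∩ (U : Set G)) ∪ (fun x => x * t) '' (T ∩ (U : Set G)) := by
    intro v hv
    by_cases hvT : v ∈ T
    · exact Or.inl ⟨hvT, hv⟩
    refine Or.inr ⟨v * t, ⟨?_, mul_mem hv ht⟩, ?_⟩
    · by_cases hv1 : v = 1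
      · rw [hv1, one_mul]; exact htT
      have hvz : c.IsZ v := by
        by_contra h
        exact hvT ⟨hU hv, hv1, h⟩
      refine ⟨hU (mul_mem hv ht), fun h => hvT ?_, hno v hv hvz⟩
      rw [show v = t from by rw [← mul_one v, ← c.vGrp_sq o.hA.1 (hU ht), ← mul_assoc, h, one_mul]]
      exact htT
    · show v * t * t = v
      rw [mul_assoc, c.vGrp_sq o.hA.1 (hU ht), mul_one]
  have h1 := ((Set.ncard_le_ncard hsub (Set.toFinite _)).trans (Set.ncard_union_le _ _)).trans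
    (Nat.add_le_add_left (Set.ncard_image_le (Set.toFinite _)) _)
  rw [← Nat.card_coe_set_eq (U : Set G)] at h1
  change Nat.card U ≤ _ at h1
  have h2 : 8 * (T ∩ (U : Set G)).ncard ≤ Nat.card U + 160 := o.T_bound U hU
  omega

/-- Three elements of T in one group lie in W after a move. -/
theorem Orb.triangle_W {c : Ctx z P E} {A : Subgroup MTwoTwo} (o : c.Orb A) {t s : G}
    (ht : t ∈ c.Tset (c.vGrp A o.hA.1.1)) (hs : s ∈ c.Tset (c.vGrp A o.hA.1.1))
    (hts : t * s ∈ c.Tset (c.vGrp A o.hA.1.1)) :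
    ∃ n ∈ normalizer (c.vGrp A o.hA.1.1 : Set G), n * t * n⁻¹ ∈ c.fixB A ∧ n * s * n⁻¹ ∈ c.fixB A := by
  classical
  have hA := o.hA
  set V := c.vGrp A hA.1.1 with hV
  set T := c.Tset V with hT
  obtain ⟨hF7, hFc, hFsq, hFQ⟩ := c.hex_fix hA.1
  obtain ⟨t0, ht0⟩ : (T ∩ (c.fixB A : Set G)).Nonempty := Set.nonempty_of_ncard_ne_zero (by rw [o.cardTW]; norm_num)
  obtain ⟨a, ha, a1⟩ : ∃ a ∈ A, a ≠ 1 := by
    obtain ⟨a, ha, -, -, -, -, a1, -⟩ := exists_three hA.1.2.1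
    exact ⟨a, ha, a1⟩
  obtain ⟨y0, hy0, hy0Z, -, hy0n⟩ := o.exists_lift ha a1
  obtain ⟨n1, hn1, e1⟩ := o.T_to ht hy0 hy0Z hy0n
  obtain ⟨n2, hn2, e2⟩ := o.T_to ht0.1 hy0 hy0Z hy0n
  set n := n2⁻¹ * n1 with hn
  have hnN : n ∈ normalizer (V : Set G) := mul_mem (inv_mem hn2) hn1
  have hnt : n * t * n⁻¹ = t0 := by
    rw [hn, show n2⁻¹ * n1 * t * (n2⁻¹ * n1)⁻¹ = n2⁻¹ * (n1 * t * n1⁻¹) * n2 by group, e1, ← e2]; group
  by_cases hsW : n * s * n⁻¹ ∈ c.fixB A
  · exact ⟨n, hnN, hnt ▸ ht0.2, hsW⟩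
  obtain ⟨y, hy, hyZ, hny, f, hf, hfe⟩ := o.T_fibre (c.norm_T hnN hs) hsW
  set m := f⁻¹ * n with hm
  have hfN : f⁻¹ ∈ normalizer (V : Set G) := inv_mem (c.E_norm_V hA hf)
  have hmN : m ∈ normalizer (V : Set G) := mul_mem hfN hnN
  have hms : m * s * m⁻¹ = y := by
    rw [hm, show f⁻¹ * n * s * (f⁻¹ * n)⁻¹ = f⁻¹ * (n * s * n⁻¹) * f by group, ← hfe]; group
  set x := m * t * m⁻¹ with hx
  have hxT : x ∈ T := c.norm_T hmN ht
  have hxW : x ∈ c.fixB A := by
    have h2 : f⁻¹ * t0 * f⁻¹⁻¹ = ⁅f⁻¹, t0⁆ * t0 := by rw [commutatorElement_def, inv_mul_cancel_right]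
    have e : x = f⁻¹ * t0 * f⁻¹⁻¹ := by rw [hx, hm, ← hnt]; group
    rw [e, h2]
    exact mul_mem (c.Z_le_fixB A (c.comm_E (inv_mem hf) (c.fixB_le A ht0.2))) ht0.2
  have hxy : x * y ∈ T := by
    have h := c.norm_T hmN hts
    rwa [show m * (t * s) * m⁻¹ = (m * t * m⁻¹) * (m * s * m⁻¹) by group, hms] at h
  have hxR : x ∈ c.cR y := by
    by_contra hR
    exact hxy.2.2 ((o.fibre y hy hyZ hny x hxW).mpr hR)
  obtain ⟨p, hp, -, hgen⟩ := c.exists_gen
  have heps := c.eps_rule o hp hgen hy hyZ hny hxR hxT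
  set x' := p * x * p⁻¹ with hx'
  set x'' := p * x' * p⁻¹ with hx''
  have hpy : p * y * p⁻¹ = y := by rw [← c.cen_comm hy.1 hp, mul_inv_cancel_right]
  have hpN : p ∈ normalizer (V : Set G) := c.cen_norm_V hA.1 (c.P_le_cen hp) (by rw [c.val_P hp]; exact one_mem _)
  have hx'R : x' ∈ c.cR y := hpy ▸ c.cR_conj (c.P_le hp) hxR
  have hx''R : x'' ∈ c.cR y := hpy ▸ c.cR_conj (c.P_le hp) hx'R
  have hx'W : x' ∈ c.fixB A := c.fixB_P hp hxW
  have hx''W : x'' ∈ c.fixB A := c.fixB_P hp hx'W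
  have hzW : z ∈ c.fixB A := c.Z_le_fixB A (mem_zpowers z)
  set u := z * x' * y with hu
  have huz : c.IsZ u := by
    refine (o.fibre y hy hyZ hny _ (mul_mem hzW hx'W)).mpr fun hR => ?_
    have e := c.cR_uniq hA hy hyZ hx'R hR (by
      rw [← c.Z_comm (c.Ez (c.fixB_le A hx'W)) (mem_zpowers z), inv_mul_cancel_left]; exact mem_zpowers z)
    exact c.z_ne_one (mul_eq_right.mp e.symm)
  have huV : u ∈ V := mul_mem (mem_sup_left (mul_mem hzW hx'W)) (mem_sup_right hy)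
  have huy : u * y = z * x' := by rw [hu, mul_assoc, c.twoGrp_sq hA.1 y hy, mul_one]
  have hux : u * x = x'' * y := by
    rw [hu, mul_assoc (z * x'), c.vGrp_comm hA.1 (mem_sup_right hy) (mem_sup_left hxW), ← mul_assoc,
      mul_assoc z x', c.vGrp_comm hA.1 (mem_sup_left hx'W) (mem_sup_left hxW), heps, ← mul_assoc z z, c.zz, one_mul]
  have huyT : ¬ c.IsZ (u * y) := by
    rw [huy]; exact (c.T_zmul hA (c.norm_T hpN hxT) hx'W).2.2
  have huxT : ¬ c.IsZ (u * x) := by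
    rw [hux]; exact fun h => (o.fibre y hy hyZ hny _ hx''W).mp h hx''R
  obtain ⟨k, hk, hkz⟩ := c.weak_closure hA.1 huV huz
  refine ⟨k⁻¹ * m, mul_mem (inv_mem hk) hmN, ?_, ?_⟩
  · refine o.W_of_zT (c.norm_T (mul_mem (inv_mem hk) hmN) ht) fun h => huxT ?_
    have e : u * x = k * (z * (k⁻¹ * m * t * (k⁻¹ * m)⁻¹)) * k⁻¹ := by rw [← hkz, hx]; group
    rw [e]; exact c.isZ_conj h k
  · refine o.W_of_zT (c.norm_T (mul_mem (inv_mem hk) hmN) hs) fun h => huyT ?_
    have e : u * y = k * (z * (k⁻¹ * m * s * (k⁻¹ * m)⁻¹)) * k⁻¹ := by rw [← hkz, ← hms]; group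
    rw [e]; exact c.isZ_conj h k

/-- A subgroup free of conjugates of z has order at most four. -/
theorem Orb.free_small {c : Ctx z P E} {A : Subgroup MTwoTwo} (o : c.Orb A) {U : Subgroup G}
    (hU : U ≤ c.vGrp A o.hA.1.1) (hfree : ∀ v ∈ U, ¬ c.IsZ v) : Nat.card U ≤ 4 := by
  classical
  have hA := o.hA
  set V := c.vGrp A hA.1.1 with hV
  set T := c.Tset V with hT
  set W := c.fixB A with hW
  obtain ⟨hF7, hFc, hFsq, hFQ⟩ := c.hex_fix hA.1
  by_contra hbig
  push Not at hbig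
  have pick : ∀ F : Finset G, F.card ≤ 4 → ∃ a ∈ U, a ∉ F := fun F hF => by
    by_contra hall
    push Not at hall
    have : (U : Set G).ncard ≤ (F : Set G).ncard := Set.ncard_le_ncard hall F.finite_toSet
    rw [← Nat.card_coe_set_eq, Set.ncard_coe_finset] at this
    change Nat.card U ≤ _ at this
    omega
  obtain ⟨t, ht, ht1⟩ := pick {1} (by simp)
  obtain ⟨s, hs, hs1⟩ := pick {1, t} (Finset.card_le_two.trans (by norm_num))
  simp only [Finset.mem_insert, Finset.mem_singleton, not_or] at ht1 hs1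
  have hT' : ∀ v ∈ U, v ≠ 1 → v ∈ T := fun v hv hv1 => ⟨hU hv, hv1, hfree v hv⟩
  have hts1 : t * s ≠ 1 := fun h => hs1.2 (by
    rw [← mul_one t, ← h, ← mul_assoc, c.vGrp_sq hA.1 (hU ht), one_mul])
  obtain ⟨n, hn, hnt, hns⟩ := o.triangle_W (hT' t ht ht1) (hT' s hs hs1.1) (hT' _ (mul_mem ht hs) hts1)
  -- move the group
  set U1 := U.map (MulAut.conj n).toMonoidHom with hU1
  have hU1c : 4 < Nat.card U1 := by rw [hU1, card_map_of_injective (MulAut.conj n).injective]; exact hbig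
  have hU1T : ∀ v ∈ U1, v ≠ 1 → v ∈ T := by
    rintro _ ⟨v, hv, rfl⟩ h1
    exact c.norm_T hn (hT' v hv fun e => h1 (by rw [e, map_one]))
  set a := n * t * n⁻¹ with ha
  set b := n * s * n⁻¹ with hb
  have haU : a ∈ U1 := ⟨t, ht, rfl⟩
  have hbU : b ∈ U1 := ⟨s, hs, rfl⟩
  have ha1 : a ≠ 1 := fun h => ht1 (conj_eq_one_iff.mp h)
  have hb1 : b ≠ 1 := fun h => hs1.1 (conj_eq_one_iff.mp h)
  have hab : a ≠ b := fun h => hs1.2 (mul_left_cancel (mul_right_cancel h)).symm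
  have hzU1 : z ∉ U1 := fun h => (hU1T z h c.z_ne_one).2.2 c.isZ_z
  obtain ⟨p, hp, -, hgen⟩ := c.exists_gen
  have hcW : ∀ a ∈ W, ∀ b ∈ W, a * b = b * a := fun a ha b hb => c.vGrp_comm hA.1 (mem_sup_left ha) (mem_sup_left hb)
  -- two elements of the group in W lie on one line
  have hline : ∀ v ∈ U1, v ∈ W → v ∈ c.lineOf p a := by
    intro v hv hvW
    by_contra hvL
    have hv1 : v ≠ 1 := fun h => hvL (h ▸ one_mem _)
    have hva : a * v ≠ 1 := fun h => hvL (by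
      rw [show v = a from by rw [← one_mul v, ← c.vGrp_sq hA.1 (mem_sup_left hnt : a ∈ V), mul_assoc, h, mul_one]]
      exact (c.mem_lineOf_left p a).2.1)
    have haT := hU1T a haU ha1
    have hvT := hU1T v hv hv1
    have hwT := hU1T _ (mul_mem haU hv) hva
    have hwW : a * v ∈ W := mul_mem hnt hvW
    have hne1 : c.lineOf p v ≠ c.lineOf p a := fun e => hvL (e ▸ (c.mem_lineOf_left p v).2.1)
    have hne2 : c.lineOf p (a * v) ≠ c.lineOf p a := fun e => hvL (by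
      have h := mul_mem (inv_mem (c.mem_lineOf_left p a).2.1) (e ▸ (c.mem_lineOf_left p (a * v)).2.1 :
        a * v ∈ c.lineOf p a)
      rwa [inv_mul_cancel_left] at h)
    have hne3 : c.lineOf p (a * v) ≠ c.lineOf p v := fun e => hne1 (by
      have h := mul_mem (e ▸ (c.mem_lineOf_left p (a * v)).2.1 : a * v ∈ c.lineOf p v)
        (inv_mem (c.mem_lineOf_left p v).2.1)
      rw [mul_inv_cancel_right] at h
      exact ((c.line_T hA hp hgen hvT hvW h (c.T_not_Z haT)).2.2).symm)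
    obtain ⟨hLW, hL8, -, hLP⟩ := c.line_facts hA hp hgen hnt (c.T_not_Z haT)
    obtain ⟨hMW, hM8, -, hMP⟩ := c.line_facts hA hp hgen hvW (c.T_not_Z hvT)
    set U32 := c.lineOf p a ⊔ c.lineOf p v with hU32
    have hc32 : Nat.card U32 ≤ 32 := by
      obtain ⟨B1, h1, h1W, hvB, h1c, -⟩ := exists_adj hFsq hcW hLW hvW hvL
      by_cases h : p * v * p⁻¹ ∈ B1
      · have : U32 ≤ B1 := sup_le h1 (c.lineOf_le (h1 (c.mem_lineOf_left p a).1) hvB h)
        have := card_le_of_le this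
        omega
      · obtain ⟨B2, h2, -, hvB2, h2c, -⟩ := exists_adj hFsq hcW h1W (c.fixB_P hp hvW) h
        have : U32 ≤ B2 :=
          sup_le (h1.trans h2) (c.lineOf_le (h2 (h1 (c.mem_lineOf_left p a).1)) (h2 hvB) hvB2)
        have := card_le_of_le this
        omega
    have hP32 : ∀ q ∈ P, ∀ x ∈ U32, q * x * q⁻¹ ∈ U32 := by
      intro q hq x hx
      have hmap : U32.map (MulAut.conj q).toMonoidHom ≤ U32 := by
        rw [hU32, Subgroup.map_sup]
        refine sup_le ?_ ?_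
        · rintro _ ⟨w, hw, rfl⟩; exact mem_sup_left (hLP q hq w hw)
        · rintro _ ⟨w, hw, rfl⟩; exact mem_sup_right (hMP q hq w hw)
      exact hmap ⟨x, hx, rfl⟩
    let six : G → Set G := fun v => (c.lineOf p v : Set G) \ (zpowers z : Set G)
    have hsix : ∀ u ∈ T, u ∈ W → (six u).ncard = 6 := fun u hu huW => by
      rw [Set.ncard_sdiff (show ((zpowers z : Subgroup G) : Set G) ⊆ c.lineOf p u from
        (zpowers_le.mpr (c.mem_lineOf_left p u).1 : zpowers z ≤ c.lineOf p u)), ← Nat.card_coe_set_eq,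
        ← Nat.card_coe_set_eq]
      show Nat.card (c.lineOf p u) - Nat.card (zpowers z) = 6
      rw [(c.line_facts hA hp hgen huW (c.T_not_Z hu)).2.1, c.card_Z]
    have hdis : ∀ u u', u ∈ T → u ∈ W → u' ∈ T → u' ∈ W → c.lineOf p u ≠ c.lineOf p u' →
        Disjoint (six u) (six u') := by
      intro u u' hu huW hu' huW' hne
      rw [Set.disjoint_left]
      rintro w ⟨hw, hwZ⟩ ⟨hw', -⟩
      exact hne ((c.line_T hA hp hgen hu huW hw hwZ).2.2.symm.trans (c.line_T hA hp hgen hu' huW' hw' hwZ).2.2)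
    have hsub : six a ∪ six v ∪ six (a * v) ⊆ T ∩ (U32 : Set G) := by
      have hk : ∀ u, u ∈ T → u ∈ W → u ∈ U32 → six u ⊆ T ∩ (U32 : Set G) := fun u hu huW huU w hw =>
        ⟨(c.line_T hA hp hgen hu huW hw.1 hw.2).1,
          c.lineOf_le (mem_sup_left (c.mem_lineOf_left p a).1) huU (hP32 p hp u huU) hw.1⟩
      have hav : a ∈ U32 := mem_sup_left (c.mem_lineOf_left p a).2.1
      have hvv : v ∈ U32 := mem_sup_right (c.mem_lineOf_left p v).2.1
      exact Set.union_subset (Set.union_subset (hk a haT hnt hav) (hk v hvT hvW hvv))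
        (hk _ hwT hwW (mul_mem hav hvv))
    have h1 := Set.ncard_le_ncard hsub (Set.toFinite _)
    rw [Set.ncard_union_eq (Set.disjoint_union_left.mpr ⟨hdis a _ haT hnt hwT hwW hne2.symm,
      hdis v _ hvT hvW hwT hwW hne3.symm⟩) (Set.toFinite _) (Set.toFinite _),
      Set.ncard_union_eq (hdis a v haT hnt hvT hvW hne1.symm) (Set.toFinite _) (Set.toFinite _),
      hsix a haT hnt, hsix v hvT hvW, hsix _ hwT hwW] at h1
    have h2 : (T ∩ (U32 : Set G)).ncard ≤ 12 :=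
      c.T_in_small o (sup_le hLW hMW) (mem_sup_left (c.mem_lineOf_left p a).1) hc32 hP32
    omega
  -- so some element is outside W
  obtain ⟨hLW, hL8, henum, hLP⟩ := c.line_facts hA hp hgen hnt (c.T_not_Z (hU1T a haU ha1))
  obtain ⟨w, hw, hwW⟩ : ∃ w ∈ U1, w ∉ W := SetLike.not_le_iff_exists.mp fun hle => by
    have h1 : U1 ≤ c.lineOf p a := fun v hv => hline v hv (hle hv)
    obtain ⟨k, hk, hkc⟩ := (Nat.dvd_prime_pow Nat.prime_two).mp (show Nat.card U1 ∣ 2 ^ 3 by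
      rw [show (2 : ℕ) ^ 3 = 8 from rfl, ← hL8]; exact card_dvd_of_le h1)
    rw [hkc] at hU1c
    have hk3 : k = 3 := by
      by_contra hne
      have := Nat.pow_le_pow_right (show 1 ≤ 2 by norm_num) (show k ≤ 2 by omega)
      omega
    have e := eq_of_le_of_card_ge h1 (by rw [hkc, hk3, hL8]; rfl)
    exact hzU1 (e.symm ▸ (c.mem_lineOf_left p a).1)
  obtain ⟨y, hy, hyZ, hny, f, hf, hfe⟩ := o.T_fibre (hU1T w hw fun h => hwW (h ▸ one_mem _)) hwW
  set a' := f⁻¹ * a * f⁻¹⁻¹ with ha'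
  set b' := f⁻¹ * b * f⁻¹⁻¹ with hb'
  have hfN := inv_mem (c.E_norm_V hA hf)
  have hmv : ∀ v, v ∈ W → f⁻¹ * v * f⁻¹⁻¹ ∈ W ∧ (f⁻¹ * v * f⁻¹⁻¹) * v⁻¹ ∈ zpowers z := fun v hv => by
    have h := c.comm_E (inv_mem hf) (c.fixB_le A hv)
    rw [commutatorElement_def] at h
    refine ⟨?_, h⟩
    have := mul_mem (c.Z_le_fixB A h) hv
    rwa [inv_mul_cancel_right] at this
  have hR : ∀ v ∈ U1, v ∈ W → v ≠ 1 → f⁻¹ * v * f⁻¹⁻¹ ∈ c.cR y := by
    intro v hv hvW hv1
    by_contra hR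
    have h := (o.fibre y hy hyZ hny _ (hmv v hvW).1).mpr hR
    have hvw : v * w ≠ 1 := fun e => hwW (by rw [← inv_eq_of_mul_eq_one_right e]; exact inv_mem hvW)
    refine (c.norm_T hfN (hU1T _ (mul_mem hv hw) hvw)).2.2 ?_
    have e : f⁻¹ * (v * w) * f⁻¹⁻¹ = f⁻¹ * v * f⁻¹⁻¹ * y := by rw [← hfe]; group
    rw [e]; exact h
  have ha'R := hR a haU hnt ha1
  have hb'R := hR b hbU hns hb1
  have habW : a * b ∈ W := mul_mem hnt hns
  have hab1 : a * b ≠ 1 := fun e => hab (by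
    rw [← mul_one a, ← c.vGrp_sq hA.1 (mem_sup_left hns : b ∈ V), ← mul_assoc, e, one_mul])
  have hab'R : a' * b' ∈ c.cR y := by
    have h := hR _ (mul_mem haU hbU) habW hab1
    rwa [show f⁻¹ * (a * b) * f⁻¹⁻¹ = a' * b' by rw [ha', hb']; group] at h
  have ha'T : a' ∈ T := c.norm_T hfN (hU1T a haU ha1)
  have ha'W : a' ∈ W := (hmv a hnt).1
  have hb'W : b' ∈ W := (hmv b hns).1
  have hb'ne : b' ≠ a' := fun e => hab (mul_left_cancel (mul_right_cancel e)).symm
  -- both lie on one line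
  have hLeq : c.lineOf p a' = c.lineOf p a := by
    refine (c.line_T hA hp hgen (hU1T a haU ha1) hnt ?_ (c.T_not_Z ha'T)).2.2
    have := mul_mem (zpowers_le.mpr (c.mem_lineOf_left p a).1 (hmv a hnt).2) (c.mem_lineOf_left p a).2.1
    rwa [inv_mul_cancel_right] at this
  have hb'L : b' ∈ c.lineOf p a' := by
    rw [hLeq]
    have := mul_mem (zpowers_le.mpr (c.mem_lineOf_left p a).1 (hmv b hns).2) (hline b hbU hns)
    rwa [inv_mul_cancel_right] at this
  have hpy : p * y * p⁻¹ = y := by rw [← c.cen_comm hy.1 hp, mul_inv_cancel_right]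
  set a2 := p * a' * p⁻¹ with ha2
  set a3 := p * a2 * p⁻¹ with ha3
  have ha2R : a2 ∈ c.cR y := hpy ▸ c.cR_conj (c.P_le hp) ha'R
  have ha3R : a3 ∈ c.cR y := hpy ▸ c.cR_conj (c.P_le hp) ha2R
  have ha2W : a2 ∈ W := c.fixB_P hp ha'W
  have ha3W : a3 ∈ W := c.fixB_P hp ha2W
  have hpN : p ∈ normalizer (V : Set G) := c.cen_norm_V hA.1 (c.P_le_cen hp) (by rw [c.val_P hp]; exact one_mem _)
  have hb'Z : b' ∉ zpowers z := c.T_not_Z (c.norm_T hfN (hU1T b hbU hb1))
  obtain ⟨-, -, henum', -⟩ := c.line_facts hA hp hgen ha'W (c.T_not_Z ha'T)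
  have hzne : ∀ v, v ∈ c.cR y → v ∈ W → z * v ∉ c.cR y := fun v hv hvW h => by
    have e := c.cR_uniq hA hy hyZ hv h (by
      rw [← c.Z_comm (c.Ez (c.fixB_le A hvW)) (mem_zpowers z), inv_mul_cancel_left]; exact mem_zpowers z)
    exact c.z_ne_one (mul_eq_right.mp e.symm)
  obtain ⟨u, hu, hub⟩ := henum' b' hb'L hb'Z
  have hu1 : ∀ v, v ∈ c.cR y → v ∈ W → b' = u * v → b' = v := fun v hv hvW e => by
    rcases c.mem_Z.mp hu with h | h
    · rw [e, h, one_mul]
    · have h2 : b' ∈ c.cR y := hb'R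
      rw [e, h] at h2
      exact absurd h2 (hzne v hv hvW)
  rw [← ha2, ← ha3] at hub
  rcases hub with e | e | e
  · exact hb'ne (hu1 a' ha'R ha'W e)
  · have hb := hu1 a2 ha2R ha2W e
    have heps := c.eps_rule o hp hgen hy hyZ hny ha'R ha'T
    rw [hb, ha2, heps] at hab'R
    exact hzne a3 ha3R ha3W hab'R
  · have hb := hu1 a3 ha3R ha3W e
    have heps := c.eps_rule o hp hgen hy hyZ hny ha3R (c.norm_T hpN (c.norm_T hpN ha'T))
    have e4 : p * a3 * p⁻¹ = a' := by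
      rw [ha3, ha2, show p * (p * (p * a' * p⁻¹) * p⁻¹) * p⁻¹ = (p * p * p) * a' * (p * p * p)⁻¹ by group,
        c.P_cube hp]
      group
    rw [e4, ← ha2, hcW a3 ha3W a' ha'W] at heps
    rw [hb, heps] at hab'R
    exact hzne a2 ha2R ha2W hab'R

end Ctx

end CfsgLib.JankoFour
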