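/-
A conjugate of the group of order 2^11 which shares an element outside the class of z and an element of the
normalizer inside the class is the group itself.
-/
import Cfsg.Agent.Lib.JankoFour.OrbFree

set_option autoImplicit false

namespace CfsgLib.JankoFour

open Cfsg Subgroup
open scoped commutatorElement

universe u

variable {G : Type u} [Group G] [Finite G] {z : G} {P E : Subgroup G}

/-- The conjugate of a subgroup. -/
def conjSub (V : Subgroup G) (g : G) : Subgroup G := V.map (MulAut.conj g).toMonoidHom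

omit [Finite G] in
theorem mem_conjSub {V : Subgroup G} {g x : G} : x ∈ conjSub V g ↔ g⁻¹ * x * g ∈ V := by
  constructor
  · rintro ⟨v, hv, rfl⟩
    show g⁻¹ * (g * v * g⁻¹) * g ∈ V
    rwa [show g⁻¹ * (g * v * g⁻¹) * g = v by group]
  · exact fun h => ⟨_, h, show g * (g⁻¹ * x * g) * g⁻¹ = x by group⟩

omit [Finite G] in
theorem card_conjSub (V : Subgroup G) (g : G) : Nat.card (conjSub V g) = Nat.card V :=
  card_map_of_injective (MulAut.conj g).injective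

omit [Finite G] in
theorem conjSub_conjSub (V : Subgroup G) (g h : G) : conjSub (conjSub V g) h = conjSub V (h * g) := by
  ext x
  rw [mem_conjSub, mem_conjSub, mem_conjSub, show g⁻¹ * (h⁻¹ * x * h) * g = (h * g)⁻¹ * x * (h * g) by group]

/-- The normalizer of a conjugate. -/
theorem norm_conjSub {V : Subgroup G} {g u : G} (h : g⁻¹ * u * g ∈ normalizer (V : Set G)) :
    u ∈ normalizer (conjSub V g : Set G) := mem_norm_of fun e he => mem_conjSub.mpr (by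
  rw [show g⁻¹ * (u * e * u⁻¹) * g = (g⁻¹ * u * g) * (g⁻¹ * e * g) * (g⁻¹ * u * g)⁻¹ by group]
  exact (mem_normalizer_iff.mp h _).mp (mem_conjSub.mp he))

omit [Finite G] in
theorem mem_zpowers_two {s x : G} (hs : s * s = 1) (hx : x ∈ zpowers s) : x = 1 ∨ x = s := by
  obtain ⟨k, rfl⟩ := hx
  obtain ⟨m, rfl⟩ | ⟨m, rfl⟩ := Int.even_or_odd k
  · left
    show s ^ (m + m) = 1
    rw [← two_mul, zpow_mul, zpow_two, hs, one_zpow]
  · right
    show s ^ (2 * m + 1) = s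
    rw [zpow_add_one, zpow_mul, zpow_two, hs, one_zpow, one_mul]

namespace Ctx

variable {c : Ctx z P E} {A : Subgroup MTwoTwo}

theorem Orb.Vsq (o : c.Orb A) : ∀ v ∈ c.vGrp A o.hA.1.1, v * v = 1 := fun _ hv => c.vGrp_sq o.hA.1 hv

theorem Orb.Vcomm (o : c.Orb A) :
    ∀ v ∈ c.vGrp A o.hA.1.1, ∀ w ∈ c.vGrp A o.hA.1.1, v * w = w * v := fun _ hv _ hw => c.vGrp_comm o.hA.1 hv hw

theorem Orb.conj_sq (o : c.Orb A) {g : G} : ∀ v ∈ conjSub (c.vGrp A o.hA.1.1) g, v * v = 1 := fun v hv => by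
  have h := o.Vsq _ (mem_conjSub.mp hv)
  rwa [show g⁻¹ * v * g * (g⁻¹ * v * g) = g⁻¹ * (v * v) * g⁻¹⁻¹ by group, conj_eq_one_iff] at h

theorem Orb.conj_comm' (o : c.Orb A) {g : G} : ∀ v ∈ conjSub (c.vGrp A o.hA.1.1) g,
    ∀ w ∈ conjSub (c.vGrp A o.hA.1.1) g, v * w = w * v := fun v hv w hw => by
  have h := o.Vcomm _ (mem_conjSub.mp hv) _ (mem_conjSub.mp hw)
  calc v * w = g * ((g⁻¹ * v * g) * (g⁻¹ * w * g)) * g⁻¹ := by group
    _ = w * v := by rw [h]; group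

theorem Orb.z_mem (o : c.Orb A) : z ∈ c.vGrp A o.hA.1.1 := c.z_mem_vGrp o.hA

/-- Two elements of a conjugate, one in each orbit: their common centralizer normalizes it. -/
theorem Orb.cent_ot_conj (o : c.Orb A) {g a u t : G} (hu : u ∈ conjSub (c.vGrp A o.hA.1.1) g) (huz : c.IsZ u)
    (ht : t ∈ conjSub (c.vGrp A o.hA.1.1) g) (ht1 : t ≠ 1) (htz : ¬ c.IsZ t) (hau : a * u = u * a)
    (hat : a * t = t * a) : a ∈ normalizer (conjSub (c.vGrp A o.hA.1.1) g : Set G) := by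
  have hcm : ∀ {x : G}, a * x = x * a → g⁻¹ * a * g * (g⁻¹ * x * g) = g⁻¹ * x * g * (g⁻¹ * a * g) :=
    fun {x} h => by
      calc g⁻¹ * a * g * (g⁻¹ * x * g) = g⁻¹ * (a * x) * g := by group
        _ = g⁻¹ * x * g * (g⁻¹ * a * g) := by rw [h]; group
  refine norm_conjSub (c.cent_ot o (a := g⁻¹ * u * g) (s := g⁻¹ * t * g) ⟨mem_conjSub.mp hu, ?_⟩
    ⟨mem_conjSub.mp ht, ?_, ?_⟩ (hcm hau) (hcm hat))
  · have h := (c.isZ_iff g⁻¹ u).mpr huz
    rwa [inv_inv] at h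
  · intro h
    refine ht1 ?_
    calc t = g * (g⁻¹ * t * g) * g⁻¹ := by group
      _ = 1 := by rw [h]; group
  · intro h
    refine htz ((c.isZ_iff g⁻¹ t).mp ?_)
    rwa [inv_inv]

/-- A subgroup of a conjugate without conjugates of z has order at most four. -/
theorem Orb.free_conj (o : c.Orb A) {g : G} {U : Subgroup G} (hU : U ≤ conjSub (c.vGrp A o.hA.1.1) g)
    (hfree : ∀ v ∈ U, ¬ c.IsZ v) : Nat.card U ≤ 4 := by
  rw [← card_conjSub U g⁻¹]
  refine o.free_small (fun x hx => ?_) fun x hx hxz => ?_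
  · have h := mem_conjSub.mp (hU (mem_conjSub.mp hx))
    rwa [show g⁻¹ * (g⁻¹⁻¹ * x * g⁻¹) * g = x by group] at h
  · refine hfree _ (mem_conjSub.mp hx) ?_
    have h := (c.isZ_iff g x).mpr hxz
    rwa [inv_inv]

/-- A different conjugate meets the group in elements outside the class of z. -/
theorem Orb.meet_free (o : c.Orb A) {g t : G} (hg : g ∉ normalizer (c.vGrp A o.hA.1.1 : Set G))
    (ht : t ∈ c.Tset (c.vGrp A o.hA.1.1)) (ht' : t ∈ conjSub (c.vGrp A o.hA.1.1) g) :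
    ∀ x ∈ c.vGrp A o.hA.1.1 ⊓ conjSub (c.vGrp A o.hA.1.1) g, ¬ c.IsZ x := by
  intro x hx hxz
  obtain ⟨hel, hcard⟩ := c.vGrp_facts o.hA.1
  have hle : conjSub (c.vGrp A o.hA.1.1) g ≤ normalizer (c.vGrp A o.hA.1.1 : Set G) := fun v hv =>
    c.cent_ot o ⟨hx.1, hxz⟩ ht (o.conj_comm' v hv x hx.2) (o.conj_comm' v hv t ht')
  have e := c.eq_of_norm hel hcard (elem_map _ hel) ((card_conjSub _ g).trans hcard) hle
  refine hg (mem_norm_of fun v hv => ?_)
  have h : g * v * g⁻¹ ∈ conjSub (c.vGrp A o.hA.1.1) g :=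
    mem_conjSub.mpr (by rwa [show g⁻¹ * (g * v * g⁻¹) * g = v by group])
  exact e.le h

theorem vGrp_le_H0 (c : Ctx z P E) {A : Subgroup MTwoTwo} (hA : IsElementaryAbelian 2 A) : c.vGrp A hA ≤ c.H0 :=
  sup_le ((c.fixB_le A).trans (c.EN.trans c.NH0)) fun _ hq => c.cen_le_H0 hq.1

theorem Orb.val_vGrp (o : c.Orb A) {v : G} (hv : v ∈ c.vGrp A o.hA.1.1) : c.val v ∈ A := by
  obtain ⟨w, hw, q, hq, rfl⟩ := c.mem_vGrp o.hA.1 hv
  rw [c.val_mul (c.NH0 (c.EN (c.fixB_le A hw))) (c.cen_le_H0 hq.1), c.val_E (c.fixB_le A hw), one_mul]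
  exact hq.2.1

/-- The part over A of the centralizer of z in a conjugate normalized by z, and the elements of E it gives. -/
theorem Orb.frame (o : c.Orb A) {g y : G} (hzN : z ∈ normalizer (conjSub (c.vGrp A o.hA.1.1) g : Set G))
    (hy : y ∈ c.twoGrp A o.hA.1.1) (hyZ : y ∉ zpowers z) (hny : ¬ c.IsZ y)
    (hy' : y ∈ conjSub (c.vGrp A o.hA.1.1) g) :
    ∃ BQ : Subgroup G, c.vGrp A o.hA.1.1 ⊓ conjSub (c.vGrp A o.hA.1.1) g ≤ BQ ∧
      BQ ≤ conjSub (c.vGrp A o.hA.1.1) g ∧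
      (∀ x ∈ BQ, ∃ e ∈ c.ker1 hy.1.1, ∃ q ∈ c.twoGrp A o.hA.1.1,
        x = e * q ∧ e * y = y * e ∧ (e ∈ c.fixB A → x ∈ c.vGrp A o.hA.1.1)) ∧
      8 ≤ Nat.card BQ ∧
      (Nat.card BQ < 16 → ∃ f ∈ conjSub (c.vGrp A o.hA.1.1) g, f ∈ centralizer ({z} : Set G) ∧
        f ∈ normalizer (c.vGrp A o.hA.1.1 : Set G) ∧ f ∉ c.H0) := by
  classical
  have hA := o.hA
  set V := c.vGrp A hA.1.1 with hV
  set V' := conjSub V g with hV'
  obtain ⟨hel, hcard⟩ := c.vGrp_facts hA.1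
  have hyT : y ∈ c.Tset V := ⟨mem_sup_right hy, fun h => hyZ (h ▸ one_mem _), hny⟩
  set B := V' ⊓ centralizer ({z} : Set G) with hB
  have hBN : B ≤ normalizer (V : Set G) := fun b hb => c.cent_zt o hyT hb.2 (o.conj_comm' b hb.1 y hy')
  have hB64 : 64 ≤ Nat.card B := by
    have h : Nat.card V' ≤ Nat.card B * Nat.card B := inv_fix_card o.conj_sq o.conj_comm' c.zz hzN
    have h11 : Nat.card V' = 2 ^ 11 := (card_conjSub V g).trans hcard
    obtain ⟨k, -, hk⟩ := (Nat.dvd_prime_pow Nat.prime_two).mp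
      (h11 ▸ card_dvd_of_le (inf_le_left : B ≤ V'))
    rw [h11, hk] at h
    by_contra hlt
    push Not at hlt
    rw [hk] at hlt
    have : k < 6 := (Nat.pow_lt_pow_iff_right (le_refl 2)).mp hlt
    interval_cases k <;> norm_num at h
  set B0 := B ⊓ c.H0 with hB0
  have hB0H : B0 ≤ c.H0 := inf_le_right
  have hB0sq : ∀ x ∈ B0, x ^ 2 ^ 1 = 1 := fun x hx => by rw [pow_one, sq]; exact o.conj_sq x hx.1.1
  obtain ⟨X, -, hinX, hXof, hB0card⟩ := c.image_card hB0H 1 hB0sq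
  have hXel : IsElementaryAbelian 2 X := by
    refine ⟨⟨⟨fun a b => Subtype.ext ?_⟩⟩, fun a ha => ?_⟩
    · obtain ⟨x, hx, hxv⟩ := hXof a a.2
      obtain ⟨x', hx', hxv'⟩ := hXof b b.2
      rw [Subgroup.coe_mul, Subgroup.coe_mul, ← hxv, ← hxv', ← c.val_mul (hB0H hx) (hB0H hx'),
        ← c.val_mul (hB0H hx') (hB0H hx), o.conj_comm' x hx.1.1 x' hx'.1.1]
    · obtain ⟨x, hx, rfl⟩ := hXof a ha
      rw [← c.val_pow (hB0H hx), show x ^ 2 = 1 by rw [sq]; exact o.conj_sq x hx.1.1, c.val_E (one_mem _)]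
  have hXN : X ≤ normalizer (A : Set MTwoTwo) := fun a ha => by
    obtain ⟨x, hx, rfl⟩ := hXof a ha
    exact (c.norm_H0 hA (hB0H hx)).mp (hBN hx.1)
  obtain ⟨o8, ho8⟩ := c.exists_octHex hA
  have hrank := oct_rank ho8 (c.not_duad hA) hA.1.1 hXel hXN
  let BQ : Subgroup G :=
    { carrier := {x | x ∈ B0 ∧ c.val x ∈ A}
      one_mem' := ⟨one_mem _, by rw [c.val_E (one_mem _)]; exact one_mem _⟩
      mul_mem' := fun {a b} ha hb => ⟨mul_mem ha.1 hb.1, by
        rw [c.val_mul (hB0H ha.1) (hB0H hb.1)]; exact mul_mem ha.2 hb.2⟩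
      inv_mem' := fun {a} ha => ⟨inv_mem ha.1, by rw [c.val_inv (hB0H ha.1)]; exact inv_mem ha.2⟩ }
  have hBQ0 : BQ ≤ B0 := fun x hx => hx.1
  obtain ⟨X', -, hinX', hXof', hBQcard⟩ := c.image_card (hBQ0.trans hB0H) 1 fun x hx => hB0sq x hx.1
  have eX : X' = X ⊓ A := by
    refine le_antisymm (fun a ha => ?_) fun a ha => ?_
    · obtain ⟨x, hx, rfl⟩ := hXof' a ha
      exact ⟨hinX x hx.1, hx.2⟩
    · obtain ⟨x, hx, rfl⟩ := hXof a ha.1
      exact hinX' x ⟨hx, ha.2⟩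
  have eE : BQ ⊓ E = B0 ⊓ E := le_antisymm (inf_le_inf_right E hBQ0) fun x hx =>
    ⟨⟨hx.1, by rw [c.val_E hx.2]; exact one_mem _⟩, hx.2⟩
  rw [eX, eE] at hBQcard
  have h0 : Nat.card B0 ≤ 4 * Nat.card BQ := by
    rw [hB0card, hBQcard, mul_left_comm]
    exact Nat.mul_le_mul_left _ hrank
  have h1 : Nat.card B ≤ 2 * Nat.card B0 := c.half_le inf_le_right
  refine ⟨BQ, fun x hx => ?_, fun x hx => hx.1.1.1, fun x hx => ?_, by omega, fun hlt => ?_⟩
  · exact ⟨⟨⟨hx.2, c.vGrp_le_cent hA hx.1⟩, c.vGrp_le_H0 _ hx.1⟩, o.val_vGrp hx.1⟩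
  · obtain ⟨q, hq, hqv⟩ := c.twoGrp_lift hA.1.1 hx.2
    have hE := c.match_val hq.1 hq.2.2 (hB0H hx.1) 1 (hB0sq x hx.1) hqv
    have hxx := o.conj_sq x hx.1.1.1
    rw [inv_eq_of_mul_eq_one_right hxx] at hE
    have hq2 := c.twoGrp_sq hA.1 q hq
    have hxe : x = x * q * q := by rw [mul_assoc, hq2, mul_one]
    have hey : x * q * y = y * (x * q) := by
      rw [mul_assoc, o.Vcomm q (mem_sup_right hq) y (mem_sup_right hy), ← mul_assoc,
        o.conj_comm' x hx.1.1.1 y hy', mul_assoc]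
    refine ⟨x * q, c.mem_ker1.mpr ⟨hE, ?_⟩, q, hq, hxe, hey, fun hW => ?_⟩
    · rw [commutatorElement_eq_one_iff_mul_comm.mpr hey.symm]; exact one_mem _
    · rw [hxe]; exact mul_mem (mem_sup_left hW) (mem_sup_right hq)
  · by_contra hno
    push Not at hno
    have hle : B ≤ B0 := fun b hb => ⟨hb, by
      by_contra h; exact h (hno b hb.1 hb.2 (hBN hb))⟩
    have := card_le_of_le hle
    omega

/-- The case in which the intersection meets W trivially. -/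
theorem Orb.no_small (o : c.Orb A) {g y : G} (hg : g ∉ normalizer (c.vGrp A o.hA.1.1 : Set G))
    (hzN : z ∈ normalizer (conjSub (c.vGrp A o.hA.1.1) g : Set G))
    (hy : y ∈ c.twoGrp A o.hA.1.1) (hyZ : y ∉ zpowers z) (hny : ¬ c.IsZ y)
    (hy' : y ∈ conjSub (c.vGrp A o.hA.1.1) g)
    (hI : ∀ x ∈ c.vGrp A o.hA.1.1 ⊓ conjSub (c.vGrp A o.hA.1.1) g, x ≠ 1 → x ∉ c.fixB A) : False := by
  classical
  have hA := o.hA
  obtain ⟨BQ, hIB, hBV', hBel, h8, hout⟩ := o.frame hzN hy hyZ hny hy'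
  set V := c.vGrp A hA.1.1 with hV
  set V' := conjSub V g with hV'
  set W := c.fixB A with hW
  set I := V ⊓ V' with hIdef
  obtain ⟨hW7, -, -, -⟩ := c.hex_fix hA.1
  have hyV : y ∈ V := mem_sup_right hy
  have hyT : y ∈ c.Tset V := ⟨hyV, fun h => hyZ (h ▸ one_mem _), hny⟩
  have hI4 : Nat.card I ≤ 4 := o.free_conj inf_le_right (o.meet_free hg hyT hy')
  by_cases hIy : ∀ x ∈ I, x = 1 ∨ x = y
  · have hI2 : Nat.card I ≤ 2 := by
      rw [← SetLike.coe_sort_coe, Nat.card_coe_set_eq]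
      have hsub : (I : Set G) ⊆ {1, y} := fun x hx => hIy x hx
      refine (Set.ncard_le_ncard hsub (Set.toFinite _)).trans ((Set.ncard_insert_le _ _).trans ?_)
      rw [Set.ncard_singleton]
    choose ε hεK q hq hxe hεy hεW using hBel
    set K := c.ker1 hy.1.1 with hK
    set WK := W.subgroupOf K with hWK
    set I' := I.subgroupOf BQ with hI'
    let φ : ↥BQ ⧸ I' → ↥K ⧸ WK := fun a =>
      QuotientGroup.mk (⟨ε (a.out : G) a.out.2, hεK (a.out : G) a.out.2⟩ : K)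
    have hinj : Function.Injective φ := by
      intro a b h
      have h1 := mem_subgroupOf.mp (QuotientGroup.eq.mp h)
      simp only [Subgroup.coe_mul, Subgroup.coe_inv] at h1
      have h2 : (a.out : G)⁻¹ * (b.out : G) ∈ V := by
        rw [hxe (a.out : G) a.out.2, hxe (b.out : G) b.out.2,
          show ∀ e1 q1 e2 q2 : G, (e1 * q1)⁻¹ * (e2 * q2) = q1⁻¹ * (e1⁻¹ * e2) * q2 from fun _ _ _ _ => by group]
        exact mul_mem (mul_mem (inv_mem (mem_sup_right (hq _ _))) (mem_sup_left h1)) (mem_sup_right (hq _ _))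
      rw [← QuotientGroup.out_eq' a, ← QuotientGroup.out_eq' b, QuotientGroup.eq]
      refine mem_subgroupOf.mpr (Subgroup.mem_inf.mpr ⟨?_, ?_⟩)
      · simpa only [Subgroup.coe_mul, Subgroup.coe_inv] using h2
      · simpa only [Subgroup.coe_mul, Subgroup.coe_inv] using mul_mem (inv_mem (hBV' a.out.2)) (hBV' b.out.2)
    have hKc : Nat.card K = 2 ^ 9 := c.rank_two hA hy hyZ
    obtain ⟨-, -, hWleK, -⟩ := c.kernel_facts hA hy hyZ
    have hidx : Nat.card (↥K ⧸ WK) = 4 := by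
      have h := Subgroup.card_mul_index WK
      rw [Nat.card_congr (subgroupOfEquivOfLe hWleK).toEquiv, hKc, hW7, Subgroup.index] at h
      omega
    have hle := Nat.card_le_card_of_injective φ hinj
    have hprod : Nat.card I * Nat.card (↥BQ ⧸ I') = Nat.card BQ := by
      have h := Subgroup.card_mul_index I'
      rwa [Nat.card_congr (subgroupOfEquivOfLe hIB).toEquiv, Subgroup.index] at h
    have hmul := Nat.mul_le_mul hI2 (hidx ▸ hle : Nat.card (↥BQ ⧸ I') ≤ 4)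
    have hBQ8 : Nat.card BQ = 8 := by omega
    have h4 : 4 ≤ Nat.card (↥BQ ⧸ I') := by
      by_contra hlt
      push Not at hlt
      have := Nat.mul_le_mul hI2 (show Nat.card (↥BQ ⧸ I') ≤ 3 by omega)
      omega
    have hbij := hinj.bijective_of_nat_card_le (hidx ▸ h4)
    obtain ⟨f, hfV', hfz, hfN, hf0⟩ := hout (by omega)
    have hfW : ∀ w ∈ W, f * w * f⁻¹ ∈ W := fun w hw =>
      c.vGrp_inf_E hA.1 ((mem_normalizer_iff.mp hfN w).mp (mem_sup_left hw)) (c.conj_E hfz (c.fixB_le A hw))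
    have hffix : ∀ e ∈ K, e⁻¹ * (f * e * f⁻¹) ∈ W := by
      intro e he
      obtain ⟨a, ha⟩ := hbij.2 (QuotientGroup.mk ⟨e, he⟩)
      have h1 := mem_subgroupOf.mp (QuotientGroup.eq.mp ha)
      simp only [Subgroup.coe_mul, Subgroup.coe_inv] at h1
      have hfx := o.conj_comm' f hfV' (a.out : G) (hBV' a.out.2)
      have hxe' := hxe (a.out : G) a.out.2
      set e' := ε (a.out : G) a.out.2 with he'
      set q' := q (a.out : G) a.out.2 with hq'
      set x := (a.out : G) with hx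
      have h2 : e'⁻¹ * (f * e' * f⁻¹) ∈ W := by
        refine c.vGrp_inf_E hA.1 ?_ ?_
        · rw [show e'⁻¹ * (f * e' * f⁻¹) = e'⁻¹ * (f * (e' * q') * f⁻¹) * (f * q'⁻¹ * f⁻¹) by group, ← hxe',
            hfx, mul_inv_cancel_right, hxe', inv_mul_cancel_left]
          exact mul_mem (mem_sup_right (hq _ _))
            ((mem_normalizer_iff.mp hfN _).mp (inv_mem (mem_sup_right (hq _ _))))
        · exact mul_mem (inv_mem (c.ker1_le _ (hεK _ _))) (c.conj_E hfz (c.ker1_le _ (hεK _ _)))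
      rw [show e⁻¹ * (f * e * f⁻¹) =
        (e'⁻¹ * e)⁻¹ * (e'⁻¹ * (f * e' * f⁻¹)) * (f * (e'⁻¹ * e) * f⁻¹) by group]
      exact mul_mem (mul_mem (inv_mem h1) h2) (hfW _ h1)
    obtain ⟨e2, he2, n, hn, hfn, hninv⟩ := c.outer f hfz hf0
    obtain ⟨p, hp, -, hgen⟩ := c.exists_gen
    have hnfix : ∀ e ∈ K, e⁻¹ * (n * e * n⁻¹) ∈ W := fun e he => by
      rw [show e⁻¹ * (n * e * n⁻¹) = e⁻¹ * (f * e * f⁻¹) *
        ((f * e * f⁻¹)⁻¹ * e2⁻¹ * (f * e * f⁻¹)⁻¹⁻¹ * e2⁻¹⁻¹) by rw [hfn]; group]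
      exact mul_mem (hffix e he)
        (c.Z_le_fixB A (c.comm_mem_Z (inv_mem (c.conj_E hfz (c.ker1_le _ he))) (inv_mem he2)))
    have hKW : K ≤ W := by
      intro e he
      have heE := c.ker1_le _ he
      set e1 := p * e * p⁻¹ with he1
      set e3 := p * e1 * p⁻¹ with he3
      have he1K : e1 ∈ K := c.ker1_P hy.1 hp e he
      have hP' : ∀ w ∈ W, p⁻¹ * w * p⁻¹⁻¹ ∈ W := fun w hw => c.fixB_P (inv_mem hp) hw
      have ep : p⁻¹ * e * p⁻¹⁻¹ = e3 := by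
        rw [he3, he1, show p⁻¹ * e * p⁻¹⁻¹ = (p * p * p)⁻¹ * (p * (p * e * p⁻¹) * p⁻¹) * (p * p * p) by group,
          c.P_cube hp]
        group
      have a1 : e1⁻¹ * e3 ∈ W := by
        have h2 := mul_mem (hnfix e1 he1K) (inv_mem (hP' _ (hnfix e he)))
        have e4 : n * e1 * n⁻¹ = p⁻¹ * (n * e * n⁻¹) * p⁻¹⁻¹ := by
          rw [he1, show n * (p * e * p⁻¹) * n⁻¹ = n * p * n⁻¹ * (n * e * n⁻¹) * (n * p * n⁻¹)⁻¹ by group,
            hninv p hp]
        rwa [e4, show e1⁻¹ * (p⁻¹ * (n * e * n⁻¹) * p⁻¹⁻¹) * (p⁻¹ * (e⁻¹ * (n * e * n⁻¹)) * p⁻¹⁻¹)⁻¹ =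
          e1⁻¹ * (p⁻¹ * e * p⁻¹⁻¹) by group, ep] at h2
      have a2 : e3⁻¹ * e ∈ W := by
        have h := c.fixB_P (B := A) hp a1
        rwa [show p * (e1⁻¹ * e3) * p⁻¹ = (p * e1 * p⁻¹)⁻¹ * (p * e3 * p⁻¹) by group, ← he3,
          show p * e3 * p⁻¹ = e by
            rw [he3, he1, show p * (p * (p * e * p⁻¹) * p⁻¹) * p⁻¹ = (p * p * p) * e * (p * p * p)⁻¹ by group,
              c.P_cube hp]; group] at h
      have a3 : e⁻¹ * e1 ∈ W := by
        have := inv_mem (mul_mem a1 a2)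
        rwa [show (e1⁻¹ * e3 * (e3⁻¹ * e))⁻¹ = e⁻¹ * e1 by group] at this
      have a4 : e⁻¹ * e3 ∈ W := by
        have := inv_mem a2
        rwa [show (e3⁻¹ * e)⁻¹ = e⁻¹ * e3 by group] at this
      have he1E : e1 ∈ E := c.conj_E (c.P_le hp) heE
      have he3E : e3 ∈ E := c.conj_E (c.P_le hp) he1E
      have huE : e * e1 * e3 ∈ E := mul_mem (mul_mem heE he1E) he3E
      have hu : e * e1 * e3 ∈ zpowers z := by
        refine c.fixed_mem_Z hp hgen huE ?_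
        have h := c.comm_mem_Z (inv_mem heE) huE
        have e5 : p * (e * e1 * e3) * p⁻¹ = e⁻¹ * (e * e1 * e3) * e⁻¹⁻¹ := by
          rw [show p * (e * e1 * e3) * p⁻¹ = (p * e * p⁻¹) * (p * e1 * p⁻¹) * (p * e3 * p⁻¹) by group, ← he1, ← he3,
            show p * e3 * p⁻¹ = e by
              rw [he3, he1, show p * (p * (p * e * p⁻¹) * p⁻¹) * p⁻¹ = (p * p * p) * e * (p * p * p)⁻¹ by group,
                c.P_cube hp]; group]
          group
        rwa [e5]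
      have hcW : e⁻¹ * (e⁻¹ * e1) * e ∈ W := by
        have h := mul_mem (c.Z_le_fixB A (c.comm_mem_Z (inv_mem heE) (c.fixB_le A a3))) a3
        rwa [show e⁻¹ * (e⁻¹ * e1) * e⁻¹⁻¹ * (e⁻¹ * e1)⁻¹ * (e⁻¹ * e1) = e⁻¹ * (e⁻¹ * e1) * e by group] at h
      rw [show e = (e * e)⁻¹ * (e * e1 * e3) * (e⁻¹ * (e⁻¹ * e1) * e * (e⁻¹ * e3))⁻¹ by group]
      exact mul_mem (mul_mem (inv_mem (c.Z_le_fixB A (c.sq_mem_Z heE))) (c.Z_le_fixB A hu))
        (inv_mem (mul_mem hcW a4))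
    have := card_le_of_le hKW
    rw [hKc, hW7] at this
    norm_num at this
  · push Not at hIy
    obtain ⟨x, hx, hx1, hxy⟩ := hIy
    have hxW := hI x hx hx1
    obtain ⟨w, hw, qb, hqb, hxe⟩ := c.mem_vGrp hA.1 hx.1
    have hqbZ : qb ∉ zpowers z := fun h => hxW (hxe ▸ mul_mem hw (c.Z_le_fixB A h))
    have hvne : c.val qb ≠ c.val y := by
      intro h
      have hd := c.twoGrp_val_eq hqb hy h
      rw [inv_eq_of_mul_eq_one_right (c.twoGrp_sq hA.1 y hy)] at hd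
      refine hI (x * y) (mul_mem hx ⟨hyV, hy'⟩) (fun e => hxy ?_) ?_
      · rw [← mul_one x, ← o.Vsq y hyV, ← mul_assoc, e, one_mul]
      · rw [hxe, mul_assoc, o.Vcomm qb (mem_sup_right hqb) y hyV]
        exact mul_mem hw (c.Z_le_fixB A hd)
    have hle : BQ ≤ I := by
      intro x0 hx0
      obtain ⟨e, heK, q, hq, hx0e, -, heW⟩ := hBel x0 hx0
      refine ⟨heW ?_, hBV' hx0⟩
      have hc := o.conj_comm' x0 (hBV' hx0) x hx.2
      rw [hx0e] at hc
      have hqx := o.Vcomm q (mem_sup_right hq) x hx.1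
      have hex : e * x = x * e := mul_right_cancel (b := q) (by rw [mul_assoc, ← hqx, ← mul_assoc, hc, ← mul_assoc])
      have heE : e ∈ E := c.ker1_le _ heK
      have hek : ⁅qb, e⁆ ∈ zpowers z := by
        rw [show ⁅qb, e⁆ = w⁻¹ * (w * qb * e) * qb⁻¹ * e⁻¹ by rw [commutatorElement_def]; group, ← hxe, ← hex, hxe,
          show w⁻¹ * (e * (w * qb)) * qb⁻¹ * e⁻¹ = ⁅w⁻¹, e⁆ by rw [commutatorElement_def]; group]
        exact c.comm_E (inv_mem (c.fixB_le A hw)) heE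
      have h : e ∈ c.ker1 hqb.1.1 ⊓ c.ker1 hy.1.1 := ⟨c.mem_ker1.mpr ⟨heE, hek⟩, heK⟩
      rwa [c.ker_inter hA hqb hqbZ hy hyZ hvne] at h
    have := card_le_of_le hle
    omega

/-- A conjugate of z in the group normalizing the conjugate gives a frame. -/
theorem Orb.to_frame (o : c.Orb A) {g a t : G} (hg : g ∉ normalizer (c.vGrp A o.hA.1.1 : Set G))
    (ha : a ∈ c.Oset (c.vGrp A o.hA.1.1))
    (haN : a ∈ normalizer (conjSub (c.vGrp A o.hA.1.1) g : Set G))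
    (ht : t ∈ c.Tset (c.vGrp A o.hA.1.1)) (ht' : t ∈ conjSub (c.vGrp A o.hA.1.1) g) (hat : c.IsZ (a * t)) :
    ∃ n ∈ normalizer (c.vGrp A o.hA.1.1 : Set G), n * a * n⁻¹ = z ∧
      n * t * n⁻¹ ∈ c.twoGrp A o.hA.1.1 ∧ n * t * n⁻¹ ∉ zpowers z ∧ ¬ c.IsZ (n * t * n⁻¹) ∧
      n * t * n⁻¹ ∈ conjSub (c.vGrp A o.hA.1.1) (n * g) ∧
      z ∈ normalizer (conjSub (c.vGrp A o.hA.1.1) (n * g) : Set G) ∧
      n * g ∉ normalizer (c.vGrp A o.hA.1.1 : Set G) := by
  have hA := o.hA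
  obtain ⟨m, hm, hmz⟩ := c.weak_closure hA.1 ha.1 ha.2
  set V := c.vGrp A hA.1.1 with hV
  have hma : m⁻¹ * a * m⁻¹⁻¹ = z := by rw [← hmz]; group
  have htT := c.norm_T (inv_mem hm) ht
  have htW : m⁻¹ * t * m⁻¹⁻¹ ∉ c.fixB A := fun hW => by
    refine (c.T_zmul hA htT hW).2.2 ?_
    have h := (c.isZ_iff m⁻¹ (a * t)).mpr hat
    rwa [show m⁻¹ * (a * t) * m⁻¹⁻¹ = (m⁻¹ * a * m⁻¹⁻¹) * (m⁻¹ * t * m⁻¹⁻¹) by group, hma] at h
  obtain ⟨y, hy, hyZ, hny, f, hf, hfe⟩ := o.T_fibre htT htW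
  set n := f⁻¹ * m⁻¹ with hn
  have hnN : n ∈ normalizer (V : Set G) := mul_mem (inv_mem (c.E_norm_V hA hf)) (inv_mem hm)
  have hnt : n * t * n⁻¹ = y := by
    rw [hn, show f⁻¹ * m⁻¹ * t * (f⁻¹ * m⁻¹)⁻¹ = f⁻¹ * (m⁻¹ * t * m⁻¹⁻¹) * f by group, ← hfe]; group
  have hna : n * a * n⁻¹ = z := by
    rw [hn, show f⁻¹ * m⁻¹ * a * (f⁻¹ * m⁻¹)⁻¹ = f⁻¹ * (m⁻¹ * a * m⁻¹⁻¹) * f⁻¹⁻¹ by group, hma,
      c.Z_conj (c.Ez (inv_mem hf)) (mem_zpowers z)]
  refine ⟨n, hnN, hna, hnt ▸ hy, hnt ▸ hyZ, hnt ▸ hny, ?_, ?_, fun h => hg ?_⟩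
  · rw [← conjSub_conjSub, mem_conjSub, show n⁻¹ * (n * t * n⁻¹) * n = t by group]
    exact ht'
  · rw [← conjSub_conjSub]
    refine norm_conjSub ?_
    rwa [← hna, show n⁻¹ * (n * a * n⁻¹) * n = a by group]
  · have := mul_mem (inv_mem hnN) h
    rwa [inv_mul_cancel_left] at this

/-- The case in which z normalizes the conjugate. -/
theorem Orb.no_frame (o : c.Orb A) {g y : G} (hg : g ∉ normalizer (c.vGrp A o.hA.1.1 : Set G))
    (hzN : z ∈ normalizer (conjSub (c.vGrp A o.hA.1.1) g : Set G))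
    (hy : y ∈ c.twoGrp A o.hA.1.1) (hyZ : y ∉ zpowers z) (hny : ¬ c.IsZ y)
    (hy' : y ∈ conjSub (c.vGrp A o.hA.1.1) g) : False := by
  classical
  have hA := o.hA
  set V := c.vGrp A hA.1.1 with hV
  set V' := conjSub V g with hV'
  set W := c.fixB A with hW
  set T := c.Tset V with hT
  obtain ⟨hW7, -, hFsq, -⟩ := c.hex_fix hA.1
  by_cases hI : ∀ x ∈ V ⊓ V', x ≠ 1 → x ∉ W
  · exact o.no_small hg hzN hy hyZ hny hy' hI
  push Not at hI
  obtain ⟨s, hs, hs1, hsW⟩ := hI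
  obtain ⟨BQ, hIB, hBV', hBel, h8, -⟩ := o.frame hzN hy hyZ hny hy'
  set I := V ⊓ V' with hIdef
  have hyV : y ∈ V := mem_sup_right hy
  have hyT : y ∈ T := ⟨hyV, fun h => hyZ (h ▸ one_mem _), hny⟩
  have hfree := o.meet_free hg hyT hy'
  have hI4 : Nat.card I ≤ 4 := o.free_conj inf_le_right hfree
  have hss : s * s = 1 := hFsq s hsW
  have hsR : s ∈ c.cR y := by
    by_contra hR
    exact hfree (s * y) (mul_mem hs ⟨hyV, hy'⟩) ((o.fibre y hy hyZ hny s hsW).mpr hR)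
  have hsS := (c.cR_sub hA hy hyZ hsR).1
  set K := c.ker1 hy.1.1 with hK
  set S := E ⊓ centralizer (K : Set G) with hS
  obtain ⟨hS32, hSW, hWK, -⟩ := c.kernel_facts hA hy hyZ
  have hyW : y ∉ W := fun h => c.twoGrp_not_W hA (one_mem _) hy hyZ (by rwa [one_mul])
  -- the four elements of the intersection
  have hIeq : ∀ x ∈ I, x = 1 ∨ x = s ∨ x = y ∨ x = s * y := by
    have hys : y ∉ zpowers s := fun h => hyW (zpowers_le.mpr hsW h)
    obtain ⟨U', hUU', hU'I, -, hU'c, hU'mem⟩ := exists_adj (V := I) (fun v hv => o.Vsq v hv.1)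
      (fun v hv w hw => o.Vcomm v hv.1 w hw.1) (zpowers_le.mpr hs : zpowers s ≤ I) ⟨hyV, hy'⟩ hys
    rw [Nat.card_zpowers, orderOf_eq_prime (p := 2) (by rw [sq]; exact hss) hs1] at hU'c
    have e := eq_of_le_of_card_ge hU'I (by omega)
    intro x hx
    rcases (hU'mem x).mp (e ▸ hx) with h | h
    · rcases mem_zpowers_two hss h with h | h
      · exact Or.inl h
      · exact Or.inr (Or.inl h)
    · have ex : x = y * (y * x) := by rw [← mul_assoc, o.Vsq y hyV, one_mul]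
      rcases mem_zpowers_two hss h with h | h
      · exact Or.inr (Or.inr (Or.inl (by rw [ex, h, mul_one])))
      · exact Or.inr (Or.inr (Or.inr (by rw [ex, h, o.Vcomm y hyV s (mem_sup_left hsW)])))
  -- an element in the class of z above a coset
  obtain ⟨b, hb, hbI, hbz⟩ : ∃ b ∈ BQ, b ∉ I ∧ c.IsZ b := by
    obtain ⟨b, hb, hbI⟩ : ∃ b ∈ BQ, b ∉ I := SetLike.not_le_iff_exists.mp fun h => by
      have := card_le_of_le h; omega
    by_contra hno
    push Not at hno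
    obtain ⟨U', hU, hU', -, hU'c, hU'mem⟩ := exists_adj o.conj_sq o.conj_comm' (inf_le_right : I ≤ V') (hBV' hb) hbI
    have h := o.free_conj hU' fun v hv hvz => by
      rcases (hU'mem v).mp hv with h | h
      · exact hfree v h hvz
      · refine hno v ?_ ?_ hvz
        · have := mul_mem hb (hIB h)
          rwa [← mul_assoc, o.conj_sq b (hBV' hb), one_mul] at this
        · intro hvI
          have := mul_mem h (inv_mem hvI)
          rw [mul_inv_cancel_right] at this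
          exact hbI this
    have hI2 : 4 ≤ Nat.card I := by
      obtain ⟨U'', -, hU''I, -, hU''c, -⟩ := exists_adj (V := I) (fun v hv => o.Vsq v hv.1)
        (fun v hv w hw => o.Vcomm v hv.1 w hw.1) (zpowers_le.mpr hs : zpowers s ≤ I) ⟨hyV, hy'⟩
        (fun h => hyW (zpowers_le.mpr hsW h))
      rw [Nat.card_zpowers, orderOf_eq_prime (p := 2) (by rw [sq]; exact hss) hs1] at hU''c
      have := card_le_of_le hU''I
      omega
    have : Nat.card I = Nat.card ↥(V ⊓ V') := rfl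
    omega
  obtain ⟨e, heK, q, hq, hbe, hey, heW⟩ := hBel b hb
  have heW' : e ∉ W := fun h => hbI ⟨heW h, hBV' hb⟩
  have heE : e ∈ E := c.ker1_le _ heK
  -- the centralizer of e in W
  set CW := W ⊓ centralizer ({e} : Set G) with hCW
  have hCW64 : 64 ≤ Nat.card CW := by
    let φ : W →* G :=
      { toFun := fun x => ⁅(x : G), e⁆
        map_one' := by simp [commutatorElement_def]
        map_mul' := fun x y => c.comm_mul_left (c.fixB_le A x.2) (c.fixB_le A y.2) heE }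
    have hk : φ.ker.map W.subtype ≤ CW := by
      rintro _ ⟨x, hx, rfl⟩
      exact ⟨x.2, mem_centralizer_singleton_iff.mpr (commutatorElement_eq_one_iff_mul_comm.mp hx)⟩
    have h1 := Subgroup.card_mul_index φ.ker
    rw [Subgroup.index_ker, hW7] at h1
    have h2 : Nat.card φ.range ≤ 2 := by
      rw [← c.card_Z]; exact card_le_of_le (by rintro _ ⟨x, rfl⟩; exact c.comm_E (c.fixB_le A x.2) heE)
    have h3 := card_le_of_le hk
    rw [card_map_of_injective W.subtype_injective] at h3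
    have := Nat.mul_le_mul_left (Nat.card φ.ker) h2
    omega
  have hSe : ∀ m ∈ S, m * e = e * m := fun m hm => (mem_centralizer_iff.mp hm.2 e heK).symm
  have hSCW : S ≤ CW := fun m hm => ⟨hSW hm, mem_centralizer_singleton_iff.mpr (hSe m hm)⟩
  set D : Set G := (CW : Set G) \ (S : Set G) with hD
  have hD32 : 32 ≤ D.ncard := by
    rw [hD, Set.ncard_sdiff (SetLike.coe_subset_coe.mpr hSCW), ← Nat.card_coe_set_eq, ← Nat.card_coe_set_eq,
      SetLike.coe_sort_coe, SetLike.coe_sort_coe, hS32]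
    omega
  obtain ⟨p, hp, -, hgen⟩ := c.exists_gen
  obtain ⟨U, -, -, hUc, -, hUmem⟩ := c.perp_group hA hp hgen heE heW'
  have he1K : p * e * p⁻¹ ∈ K := c.ker1_P hy.1 hp e heK
  have hSU : S ≤ U := fun m hm => hUmem m (hSW hm) (commutatorElement_eq_one_iff_mul_comm.mpr (hSe m hm).symm)
    (commutatorElement_eq_one_iff_mul_comm.mpr (mem_centralizer_iff.mp hm.2 _ he1K))
  have hUS : U = S := (eq_of_le_of_card_ge hSU (by rw [hS32]; exact hUc)).symm
  have hpN : p ∈ normalizer (V : Set G) :=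
    c.cen_norm_V hA.1 (c.P_le_cen hp) (by rw [c.val_P hp]; exact one_mem _)
  set ψ : G → G := fun v => p * v * p⁻¹ with hψ
  have hψinj : Function.Injective ψ := fun a b h => mul_left_cancel (mul_right_cancel h)
  set M := T ∩ D with hM
  have hMW : ∀ v ∈ M, v ∈ T ∩ (W : Set G) := fun v hv => ⟨hv.1, hv.2.1.1⟩
  have hψW : ∀ v ∈ T ∩ (W : Set G), ψ v ∈ T ∩ (W : Set G) := fun v hv =>
    ⟨c.norm_T hpN hv.1, c.fixB_P hp hv.2⟩
  have hd1 : ∀ v, v ∈ D → ∀ v', v' ∈ D → ψ v' = v → False := by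
    intro v hv v' hv' he'
    refine hv.2 (hUS ▸ hUmem v hv.1.1 ?_ ?_)
    · exact commutatorElement_eq_one_iff_mul_comm.mpr (mem_centralizer_singleton_iff.mp hv.1.2).symm
    · refine commutatorElement_eq_one_iff_mul_comm.mpr ?_
      rw [← he', hψ]
      show p * e * p⁻¹ * (p * v' * p⁻¹) = p * v' * p⁻¹ * (p * e * p⁻¹)
      rw [show p * e * p⁻¹ * (p * v' * p⁻¹) = p * (e * v') * p⁻¹ by group,
        ← mem_centralizer_singleton_iff.mp hv'.1.2]
      group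
  have hM12 : 3 * M.ncard ≤ 36 := by
    have hu : M ∪ ψ '' M ∪ ψ '' (ψ '' M) ⊆ T ∩ (W : Set G) := by
      rintro v ((hv | ⟨a, ha, rfl⟩) | ⟨_, ⟨a, ha, rfl⟩, rfl⟩)
      · exact hMW v hv
      · exact hψW _ (hMW a ha)
      · exact hψW _ (hψW _ (hMW a ha))
    have h := Set.ncard_le_ncard hu (Set.toFinite _)
    rw [Set.ncard_union_eq, Set.ncard_union_eq, Set.ncard_image_of_injective _ hψinj,
      Set.ncard_image_of_injective _ hψinj, Set.ncard_image_of_injective _ hψinj, o.cardTW] at h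
    · omega
    · rw [Set.disjoint_left]
      rintro v hv ⟨a, ha, rfl⟩
      exact hd1 _ hv.2 _ ha.2 rfl
    · rw [Set.disjoint_left]
      rintro v (hv | ⟨b', hb', rfl⟩) ⟨_, ⟨a, ha, rfl⟩, hav⟩
      · -- three steps return to the start
        refine hd1 _ ha.2 _ hv.2 ?_
        show p * v * p⁻¹ = a
        rw [← hav, hψ]
        show p * (p * (p * a * p⁻¹) * p⁻¹) * p⁻¹ = a
        rw [show p * (p * (p * a * p⁻¹) * p⁻¹) * p⁻¹ = (p * p * p) * a * (p * p * p)⁻¹ by group, c.P_cube hp]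
        group
      · exact hd1 _ hb'.2 _ ha.2 (hψinj hav)
  obtain ⟨w, hw, hwM, hwsM⟩ : ∃ w ∈ D, w ∉ M ∧ w * s ∉ M := by
    by_contra hno
    push Not at hno
    have hsub : D ⊆ M ∪ (fun v => v * s) '' M := fun v hv => by
      by_cases h : v ∈ M
      · exact Or.inl h
      · exact Or.inr ⟨v * s, hno v hv h, by simp [mul_assoc, hss]⟩
    have := (Set.ncard_le_ncard hsub (Set.toFinite _)).trans
      ((Set.ncard_union_le _ _).trans (Nat.add_le_add_left (Set.ncard_image_le (Set.toFinite _)) _))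
    omega
  have hwsD : w * s ∈ D := ⟨mul_mem hw.1 (hSCW hsS), fun h => hw.2 (by
    have := mul_mem h (inv_mem hsS)
    rwa [mul_inv_cancel_right] at this)⟩
  have hOof : ∀ v ∈ D, v ∉ M → c.IsZ v ∧ c.IsZ (v * y) := fun v hv hvM => by
    refine ⟨?_, (o.fibre y hy hyZ hny v hv.1.1).mpr fun hR => hv.2 (c.cR_sub hA hy hyZ hR).1⟩
    by_contra hn
    exact hvM ⟨⟨mem_sup_left hv.1.1, fun h => hv.2 (h ▸ one_mem _), hn⟩, hv⟩
  obtain ⟨hwz, hwy⟩ := hOof w hw hwM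
  obtain ⟨hwsz, hwsy⟩ := hOof _ hwsD hwsM
  have hwV : w ∈ V := mem_sup_left hw.1.1
  have hwb : w * b = b * w := by
    rw [hbe, ← mul_assoc, mem_centralizer_singleton_iff.mp hw.1.2, mul_assoc,
      o.Vcomm w hwV q (mem_sup_right hq), ← mul_assoc]
  have hwN : w ∈ normalizer (V' : Set G) :=
    o.cent_ot_conj (hBV' hb) hbz hy' hyT.2.1 hny hwb (o.Vcomm w hwV y hyV)
  obtain ⟨n, hnN, hnw, hyQ', hyZ', hny', hy'', hzN', hng⟩ := o.to_frame hg ⟨hwV, hwz⟩ hwN hyT hy' hwy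
  refine o.no_small hng hzN' hyQ' hyZ' hny' hy'' fun x hx hx1 hxW => ?_
  have hx' : n⁻¹ * x * n ∈ I := by
    refine ⟨?_, ?_⟩
    · have := (mem_normalizer_iff.mp (inv_mem hnN) x).mp hx.1
      rwa [inv_inv] at this
    · have := (Subgroup.mem_inf.mp hx).2
      rw [← conjSub_conjSub, mem_conjSub] at this
      exact this
  have hx'1 : n⁻¹ * x * n ≠ 1 := fun h => hx1 (by
    calc x = n * (n⁻¹ * x * n) * n⁻¹ := by group
      _ = 1 := by rw [h]; group)
  have hwx : c.IsZ (w * (n⁻¹ * x * n)) := by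
    rcases hIeq _ hx' with h | h | h | h
    · exact absurd h hx'1
    · rw [h]; exact hwsz
    · rw [h]; exact hwy
    · rw [h, ← mul_assoc]; exact hwsy
  have hxT : x ∈ c.Tset V := ⟨hx.1, hx1, fun hxz => hfree _ hx' (by
    have h := (c.isZ_iff n⁻¹ x).mpr hxz
    rwa [inv_inv] at h)⟩
  refine (c.T_zmul hA hxT hxW).2.2 ?_
  have h := (c.isZ_iff n (w * (n⁻¹ * x * n))).mpr hwx
  rwa [show n * (w * (n⁻¹ * x * n)) * n⁻¹ = n * w * n⁻¹ * x by group, hnw] at h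

/-- The closure property. -/
theorem Orb.closed (o : c.Orb A) {g t u : G} (ht : t ∈ c.Tset (c.vGrp A o.hA.1.1))
    (ht' : t ∈ conjSub (c.vGrp A o.hA.1.1) g) (hu : u ∈ conjSub (c.vGrp A o.hA.1.1) g) (huz : c.IsZ u)
    (huN : u ∈ normalizer (c.vGrp A o.hA.1.1 : Set G)) : g ∈ normalizer (c.vGrp A o.hA.1.1 : Set G) := by
  by_contra hg
  set V := c.vGrp A o.hA.1.1 with hV
  set A0 := V ⊓ centralizer ({u} : Set G) with hA0
  have h64 : 64 ≤ Nat.card A0 := by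
    have h : Nat.card V ≤ Nat.card A0 * Nat.card A0 := inv_fix_card o.Vsq o.Vcomm (o.conj_sq u hu) huN
    have h11 : Nat.card V = 2 ^ 11 := (c.vGrp_facts o.hA.1).2
    obtain ⟨k, -, hk⟩ := (Nat.dvd_prime_pow Nat.prime_two).mp (h11 ▸ card_dvd_of_le (inf_le_left : A0 ≤ V))
    rw [h11, hk] at h
    by_contra hlt
    push Not at hlt
    rw [hk] at hlt
    have : k < 6 := (Nat.pow_lt_pow_iff_right (le_refl 2)).mp hlt
    interval_cases k <;> norm_num at h
  have htA0 : t ∈ A0 := ⟨ht.1, mem_centralizer_singleton_iff.mpr (o.conj_comm' t ht' u hu)⟩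
  obtain ⟨a, ha, haz, hat⟩ := o.exists_pair inf_le_left h64 htA0 ht
  have haN := o.cent_ot_conj hu huz ht' ht.2.1 ht.2.2 (mem_centralizer_singleton_iff.mp ha.2)
    (o.Vcomm a ha.1 t ht.1)
  obtain ⟨n, -, -, hyQ, hyZ, hny, hy', hzN, hng⟩ := o.to_frame hg ⟨ha.1, haz⟩ haN ht ht' hat
  exact o.no_frame hng hzN hyQ hyZ hny hy'

end Ctx

end CfsgLib.JankoFour
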