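/-
Data for two hexad groups with disjoint hexads: generators, stabilising elements, an outer permutation.
-/
import Mathlib.Data.Nat.Notation

set_option autoImplicit false

namespace CfsgLib.JankoFour.M22Pair

/-- Carries the chosen hexad group to the second one. -/
def hC : ℕ := 975427397429233786613259140502587424

def hCi : ℕ := 969070010755747450349961226246916128

/-- Two involutions normalising both groups. -/
def aC : ℕ := 984389775965797844819276082654203936

def bC : ℕ := 974338656214362718975024378963690560

/-- An involution interchanging the special points, commuting with both. -/
def sC : ℕ := 18622127190325874496707935820960055

/-- The two generators of M22 as words: (in the second group, index). -/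
def wB : List (Bool × ℕ) := [(false, 1), (true, 1), (false, 60), (true, 4), (false, 31)]

def wG : List (Bool × ℕ) := [(true, 5), (false, 31), (true, 34), (false, 61), (true, 39)]

end CfsgLib.JankoFour.M22Pair
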