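/-
Kernel checks for the two hexad groups.
-/
import Cfsg.Agent.Lib.JankoFour.M22MoreChecks
import Cfsg.Agent.Lib.JankoFour.M22PairData
import Cfsg.Agent.Lib.Golay.OutM22Data
import Cfsg.Agent.Lib.Golay.Out23Data

set_option autoImplicit false
set_option maxRecDepth 20000

namespace CfsgLib.JankoFour.M22Pair

open CfsgGolay M22Data

/-- The second group, by indices of the first. -/
def conjH (c : ℕ) : ℕ := pcomp hC (pcomp c hCi)

/-- Pulled back to the first group. -/
def backH (c : ℕ) : ℕ := pcomp hCi (pcomp c hC)

def letC (x : Bool × ℕ) : ℕ := bif x.1 then conjH (wd x.2) else wd x.2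

def wordC (l : List (Bool × ℕ)) : ℕ := l.foldr (fun x c => pcomp (letC x) c) pid

theorem pair_mem_checked : (memB hC && memB aC && memB bC && memB hCi && Nat.beq (pcomp hC hCi) pid &&
    permOK sC && gensKept sC && Nat.beq (papp sC 0) 23 && Nat.beq (papp sC 23) 0 && Nat.beq (pcomp sC sC) pid) = true := by decide +kernel

theorem pair_norm_checked : (normB aC hexI && normB bC hexI && normB (backH aC) hexI && normB (backH bC) hexI &&
    normB sC hexI && normB (backH sC) hexI &&
    hexI.all fun i => Nat.beq i 0 || !normB (backH (wd i)) hexI) = true := by decide +kernel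

theorem pair_rel_checked : (Nat.beq (pcomp aC aC) pid && Nat.beq (pcomp bC bC) pid &&
    Nat.beq (ppow (pcomp aC bC) 4) pid && !Nat.beq (pcomp (pcomp aC bC) (pcomp aC bC)) (pcomp pid pid) &&
    commC sC aC && commC sC bC) = true := by decide +kernel

theorem pair_gen_checked : (Nat.beq (wordC wB) CfsgGolay.Out23.cB &&
    OutM22.gens.all (fun e => Nat.beq (wordC wG) e.1) &&
    (wB ++ wG).all fun x => hexI.contains x.2) = true := by decide +kernel

end CfsgLib.JankoFour.M22Pair
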