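/-
Two hexad groups with disjoint hexads, their common normalizer, and an outer automorphism.
-/
import Cfsg.Agent.Lib.JankoFour.M22More
import Cfsg.Agent.Lib.JankoFour.M22PairChecks
import Cfsg.Agent.Lib.Golay.OutMathieuSmall
import Cfsg.Agent.Lib.GolayUnique.Model

set_option autoImplicit false

namespace CfsgLib.JankoFour

open Cfsg CfsgGolay M22Data M22Pair
open scoped Pointwise

attribute [local irreducible] codeL octadL dodecadL slpCodes

local notation "M" => MTwoTwo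

/-- An outer automorphism from a permutation interchanging the special points. -/
theorem exists_outer_perm {σ : Equiv.Perm GolayPt} (hσ : σ ∈ M24) (h0 : σ none = pt 0) (h1 : σ (pt 0) = none) :
    ∃ θ : MulAut M, θ ∉ (MulAut.conj (G := M)).range ∧
      ∀ g : M, ((θ g : M) : Equiv.Perm GolayPt) = σ * (g : Equiv.Perm GolayPt) * σ⁻¹ := by
  classical
  have hmem : ∀ g : Equiv.Perm GolayPt, g ∈ Spor.M22 ↔ g ∈ M24 ∧ g none = none ∧ g (pt 0) = pt 0 := fun g => by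
    simp only [Spor.M22, Spor.M23, Subgroup.mem_inf, MulAction.mem_stabilizer_iff, and_assoc]
    rfl
  have hi0 : σ⁻¹ none = pt 0 := by rw [Equiv.Perm.inv_eq_iff_eq]; exact h1.symm
  have hi1 : σ⁻¹ (pt 0) = none := by rw [Equiv.Perm.inv_eq_iff_eq]; exact h0.symm
  have hc : ∀ {τ : Equiv.Perm GolayPt}, τ ∈ M24 → τ none = pt 0 → τ (pt 0) = none → τ⁻¹ none = pt 0 →
      τ⁻¹ (pt 0) = none → ∀ g : M, τ * (g : Equiv.Perm GolayPt) * τ⁻¹ ∈ Spor.M22 := by
    intro τ hτ a b a' b' g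
    obtain ⟨hg, g0, g1⟩ := (hmem _).mp g.2
    refine (hmem _).mpr ⟨mul_mem (mul_mem hτ hg) (inv_mem hτ), ?_, ?_⟩
    · simp only [Equiv.Perm.mul_apply, a', g1, b]
    · simp only [Equiv.Perm.mul_apply, b', g0, a]
  have hinv : ∀ g : M, σ⁻¹ * (g : Equiv.Perm GolayPt) * σ ∈ Spor.M22 := fun g => by
    have := hc (inv_mem hσ) hi0 hi1 (by rw [inv_inv]; exact h0) (by rw [inv_inv]; exact h1) g
    rwa [inv_inv] at this
  let θ : MulAut M :=
    { toFun := fun g => ⟨σ * g * σ⁻¹, hc hσ h0 h1 hi0 hi1 g⟩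
      invFun := fun g => ⟨σ⁻¹ * g * σ, hinv g⟩
      left_inv := fun g => Subtype.ext (show σ⁻¹ * (σ * (g : Equiv.Perm GolayPt) * σ⁻¹) * σ = g by group)
      right_inv := fun g => Subtype.ext (show σ * (σ⁻¹ * (g : Equiv.Perm GolayPt) * σ) * σ⁻¹ = g by group)
      map_mul' := fun g h => Subtype.ext (show σ * ((g : Equiv.Perm GolayPt) * h) * σ⁻¹ =
        σ * g * σ⁻¹ * (σ * h * σ⁻¹) by group) }
  refine ⟨θ, ?_, fun g => rfl⟩
  rintro ⟨m, hm⟩
  set u := (m : Equiv.Perm GolayPt)⁻¹ * σ with hu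
  obtain ⟨hm24, m0, m1⟩ := (hmem _).mp m.2
  have hu24 : u ∈ M24 := mul_mem (inv_mem hm24) hσ
  have hcomm : ∀ g : M, u * (g : Equiv.Perm GolayPt) = (g : Equiv.Perm GolayPt) * u := fun g => by
    have h : (m : Equiv.Perm GolayPt) * g * (m : Equiv.Perm GolayPt)⁻¹ = σ * g * σ⁻¹ :=
      congrArg Subtype.val (DFunLike.congr_fun hm g)
    have h2 : σ * (g : Equiv.Perm GolayPt) = (m : Equiv.Perm GolayPt) * g * (m : Equiv.Perm GolayPt)⁻¹ * σ := by
      rw [h, inv_mul_cancel_right]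
    rw [hu, mul_assoc, h2]; group
  have hu0 : u none = pt 0 := by
    rw [hu, Equiv.Perm.mul_apply, h0, Equiv.Perm.inv_eq_iff_eq, m1]
  have hu1 : u (pt 0) = none := by
    rw [hu, Equiv.Perm.mul_apply, h1, Equiv.Perm.inv_eq_iff_eq, m0]
  have hfix : ∀ p : GolayPt, p ∉ ({none, pt 0} : Finset GolayPt) → u p = p := by
    intro p hp
    simp only [Finset.mem_insert, Finset.mem_singleton, not_or] at hp
    by_contra hne
    set q := u p with hq
    have hq0 : q ≠ none := fun e => hp.2 (u.injective (e.trans hu1.symm))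
    have hq1 : q ≠ pt 0 := fun e => hp.1 (u.injective (e.trans hu0.symm))
    obtain ⟨r, hr⟩ : ∃ r, r ∉ ({none, pt 0, p, q} : Finset GolayPt) := by
      by_contra hall
      push Not at hall
      have h1 := Finset.card_le_card (show (Finset.univ : Finset GolayPt) ⊆ {none, pt 0, p, q} from
        fun x _ => hall x)
      rw [Finset.card_univ, show Fintype.card GolayPt = 24 from rfl] at h1
      have h2 := Finset.card_le_four (a := (none : GolayPt)) (b := pt 0) (c := p) (d := q)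
      omega
    simp only [Finset.mem_insert, Finset.mem_singleton, not_or] at hr
    have hinj : ∀ {x : GolayPt}, x ≠ none → x ≠ pt 0 → x ≠ p →
        Function.Injective ![(none : GolayPt), pt 0, p, x] := by
      intro x a b c i j
      have e : (none : GolayPt) ≠ pt 0 := by decide
      fin_cases i <;> fin_cases j <;> simp [e, e.symm, hp.1, Ne.symm hp.1, hp.2, Ne.symm hp.2, a, Ne.symm a, b,
        Ne.symm b, c, Ne.symm c]
    obtain ⟨g, hg⟩ := (MulAction.isMultiplyPretransitive_iff.mp (multiply_transitive (k := 4) (by norm_num)))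
      ⟨_, hinj hq0 hq1 hne⟩ ⟨_, hinj hr.1 hr.2.1 hr.2.2.1⟩
    have e := fun i => DFunLike.congr_fun hg i
    simp only [Function.Embedding.smul_apply] at e
    have g0 : (g : Equiv.Perm GolayPt) none = none := e 0
    have g1 : (g : Equiv.Perm GolayPt) (pt 0) = pt 0 := e 1
    have g2 : (g : Equiv.Perm GolayPt) p = p := e 2
    have g3 : (g : Equiv.Perm GolayPt) q = r := e 3
    have h4 : u ((g : Equiv.Perm GolayPt) p) = (g : Equiv.Perm GolayPt) (u p) :=
      congrArg (fun φ : Equiv.Perm GolayPt => φ p) (hcomm ⟨g, (hmem _).mpr ⟨g.2, g0, g1⟩⟩)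
    rw [g2, ← hq, g3] at h4
    exact hr.2.2.2 h4.symm
  have h1' := CfsgCode.small_support_trivial (P := {none, pt 0}) (Finset.card_le_two) hu24 hfix
  rw [h1', Equiv.Perm.one_apply] at hu0
  exact absurd hu0 (by decide)

theorem repr_foldr (H : Subgroup M) (L : Bool × ℕ → ℕ) :
    ∀ l : List (Bool × ℕ), (∀ x ∈ l, ∃ g ∈ H, Repr (L x) ((g : M) : Equiv.Perm GolayPt)) →
      ∃ g ∈ H, Repr (l.foldr (fun x c => pcomp (L x) c) pid) ((g : M) : Equiv.Perm GolayPt) := by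
  intro l
  induction l with
  | nil => exact fun _ => ⟨1, one_mem _, by rw [List.foldr_nil]; exact repr_one⟩
  | cons p l ih =>
    intro hl
    obtain ⟨g, hg, hr⟩ := ih fun x hx => hl x (List.mem_cons_of_mem _ hx)
    obtain ⟨k, hk, hkr⟩ := hl p (by simp)
    exact ⟨k * g, mul_mem hk hg, by rw [List.foldr_cons]; exact repr_mul hkr hr⟩

theorem repr_wordC {A A' : Subgroup M} (hA : (A : Set M) = idxSet hexI) {h hi : M}
    (hh : Repr hC (h : Equiv.Perm GolayPt)) (hhi : Repr hCi (hi : Equiv.Perm GolayPt))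
    (hA' : ∀ a ∈ A, h * (a * hi) ∈ A') (l : List (Bool × ℕ)) (hl : ∀ x ∈ l, x.2 ∈ hexI) :
    ∃ g ∈ A ⊔ A', Repr (wordC l) ((g : M) : Equiv.Perm GolayPt) :=
  repr_foldr (A ⊔ A') letC l fun x hx => by
    have hiA : we x.2 ∈ A := by rw [← SetLike.mem_coe, hA]; exact ⟨x.2, hl x hx, rfl⟩
    obtain ⟨b, i⟩ := x
    cases b
    · refine ⟨we i, Subgroup.mem_sup_left hiA, ?_⟩
      rw [letC, cond_false]
      exact we_repr i
    · refine ⟨h * (we i * hi), Subgroup.mem_sup_right (hA' _ hiA), ?_⟩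
      rw [letC, cond_true, conjH]
      exact repr_mul hh (repr_mul (we_repr i) hhi)

/-- The configuration on the chosen hexad group. -/
theorem exists_pair0 : ∃ (A A' : Subgroup M) (a b : M) (θ : MulAut M),
    HexData A ∧ HexData A' ∧ A ⊔ A' = ⊤ ∧ A ⊓ Subgroup.normalizer (A' : Set M) = ⊥ ∧
      a ∈ Subgroup.normalizer (A : Set M) ⊓ Subgroup.normalizer (A' : Set M) ∧
      b ∈ Subgroup.normalizer (A : Set M) ⊓ Subgroup.normalizer (A' : Set M) ∧
      a * a = 1 ∧ b * b = 1 ∧ (a * b) ^ 4 = 1 ∧ a * b * (a * b) ≠ 1 ∧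
      θ ∉ (MulAut.conj (G := M)).range ∧ θ * θ = 1 ∧ θ a = a ∧ θ b = b ∧ (∀ x ∈ A, θ x ∈ A) ∧ ∀ x ∈ A', θ x ∈ A' := by
  classical
  obtain ⟨A, -, hA, hhex, -⟩ := exists_hex0
  have hm := pair_mem_checked
  simp only [Bool.and_eq_true] at hm
  obtain ⟨⟨⟨⟨⟨⟨⟨⟨⟨hmh, hma⟩, hmb⟩, hmhi⟩, hhh⟩, hps⟩, hgs⟩, hs0⟩, hs23⟩, hss⟩ := hm
  obtain ⟨h, hh⟩ := exists_el hmh
  obtain ⟨hi, hhi⟩ := exists_el hmhi
  obtain ⟨a, ha⟩ := exists_el hma
  obtain ⟨b, hb⟩ := exists_el hmb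
  obtain ⟨σ, hσ⟩ := exists_repr_of_permOK hps
  have hhi1 : hi = h⁻¹ := by
    have : h * hi = 1 := el_eq (repr_mul hh hhi) (by rw [Nat.eq_of_beq_eq_true hhh]; exact repr_one)
    exact (inv_eq_of_mul_eq_one_right this).symm
  subst hhi1
  set A' := A.map (MulAut.conj h).toMonoidHom with hA'def
  have hA' : ∀ x, x ∈ A' ↔ h⁻¹ * x * h ∈ A := fun x => by
    constructor
    · rintro ⟨y, hy, rfl⟩
      show h⁻¹ * (h * y * h⁻¹) * h ∈ A
      rwa [show h⁻¹ * (h * y * h⁻¹) * h = y by group]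
    · exact fun hx => ⟨_, hx, show h * (h⁻¹ * x * h) * h⁻¹ = x by group⟩
  have hback : ∀ {g : M}, g ∈ Subgroup.normalizer (A' : Set M) ↔ h⁻¹ * g * h ∈ Subgroup.normalizer (A : Set M) := by
    intro g
    simp only [Subgroup.mem_normalizer_iff]
    constructor
    · intro hg x
      have := hg (h * x * h⁻¹)
      rw [hA', hA'] at this
      rwa [show h⁻¹ * (h * x * h⁻¹) * h = x by group,
        show h⁻¹ * (g * (h * x * h⁻¹) * g⁻¹) * h = h⁻¹ * g * h * x * (h⁻¹ * g * h)⁻¹ by group] at this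
    · intro hg x
      rw [hA', hA', show h⁻¹ * (g * x * g⁻¹) * h = h⁻¹ * g * h * (h⁻¹ * x * h) * (h⁻¹ * g * h)⁻¹ by group]
      exact hg _
  have hbR : ∀ {c : ℕ} {g : M}, Repr c (g : Equiv.Perm GolayPt) →
      Repr (backH c) ((h⁻¹ * (g * h) : M) : Equiv.Perm GolayPt) :=
    fun hg => repr_mul hhi (repr_mul hg hh)
  have hn := pair_norm_checked
  simp only [Bool.and_eq_true, List.all_eq_true, Bool.or_eq_true, Bool.not_eq_true'] at hn
  obtain ⟨⟨⟨⟨⟨⟨hna, hnb⟩, hna'⟩, hnb'⟩, hns⟩, hns'⟩, hnA⟩ := hn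
  have hr := pair_rel_checked
  simp only [Bool.and_eq_true, Bool.not_eq_true'] at hr
  obtain ⟨⟨⟨⟨⟨haa, hbb⟩, hab4⟩, hab2⟩, hsa⟩, hsb⟩ := hr
  have hσ24 : σ ∈ M24 := mem_M24_of_gensKept hσ hgs
  obtain ⟨θ, hθ, hθσ⟩ := exists_outer_perm hσ24
    (idx_injective (by rw [hσ, idx_pt (by norm_num)]; exact Nat.eq_of_beq_eq_true hs23))
    (idx_injective (by rw [hσ, idx_pt (by norm_num)]; exact Nat.eq_of_beq_eq_true hs0))
  have hfix : ∀ {c : ℕ} {g : M}, Repr c (g : Equiv.Perm GolayPt) → commC sC c = true → θ g = g := fun {c g} hg e => by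
    refine Subtype.ext ?_
    rw [hθσ, mul_inv_eq_iff_eq_mul]
    exact (hσ.comp hg).unique (by rw [Nat.eq_of_beq_eq_true e]; exact hg.comp hσ)
  have hσ2 : σ * σ = 1 := (hσ.comp hσ).unique (by rw [Nat.eq_of_beq_eq_true hss]; exact repr_pid)
  have hθ2 : θ * θ = 1 := MulEquiv.ext fun g => Subtype.ext (by
    rw [MulAut.mul_apply, hθσ, hθσ, MulAut.one_apply,
      show σ * (σ * (g : Equiv.Perm GolayPt) * σ⁻¹) * σ⁻¹ = σ * σ * g * (σ * σ)⁻¹ by group, hσ2]
    group)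
  have hstab : ∀ {τ : Equiv.Perm GolayPt} {c : ℕ}, Repr c τ → normB c hexI = true → ∀ x ∈ A,
      ∀ y : M, (y : Equiv.Perm GolayPt) = τ * x * τ⁻¹ → y ∈ A := by
    intro τ c hc hN x hx y hy
    rw [← SetLike.mem_coe, hA] at hx ⊢
    obtain ⟨i, hi, rfl⟩ := hx
    simp only [normB, List.all_eq_true, List.any_eq_true] at hN
    obtain ⟨k, hk, he⟩ := hN i hi
    refine ⟨k, hk, Subtype.ext ?_⟩
    rw [hy, eq_mul_inv_iff_mul_eq]
    exact ((we_repr k).comp hc).unique (by rw [← Nat.eq_of_beq_eq_true he]; exact hc.comp (we_repr i))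
  refine ⟨A, A', a, b, θ, hhex, hhex.map _, ?_, ?_, ⟨normB_spec ha hna hA, ?_⟩, ⟨normB_spec hb hnb hA, ?_⟩,
    ?_, ?_, ?_, ?_, hθ, hθ2, hfix ha hsa, hfix hb hsb, ?_, ?_⟩
  · -- generation
    have hg := pair_gen_checked
    simp only [Bool.and_eq_true, List.all_eq_true, List.contains_iff_mem] at hg
    obtain ⟨⟨hgB, hgG⟩, hgI⟩ := hg
    have hw := repr_wordC (A' := A') hA hh hhi fun x hx => ⟨x, hx, show h * x * h⁻¹ = h * (x * h⁻¹) by group⟩
    set H := (A ⊔ A').map (Spor.M22).subtype with hH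
    have hle : H ≤ subG [0, 23] [] := by
      rw [← M22_eq]; exact Subgroup.map_subtype_le _
    have htop : H = subG [0, 23] [] := CfsgGolay.OutSmall.gen22 H hle fun c hc g hg' => by
      have hmem : ∀ l : List (Bool × ℕ), (∀ x ∈ l, x.2 ∈ hexI) → c = wordC l → g ∈ H := fun l hl e => by
        obtain ⟨w, hwm, hwr⟩ := hw l hl
        exact (hwr.unique (e ▸ hg')) ▸ Subgroup.mem_map_of_mem _ hwm
      rcases List.mem_cons.mp hc with e | e
      · exact hmem wB (fun x hx => hgI x (List.mem_append_left _ hx)) (e.trans (Nat.eq_of_beq_eq_true hgB).symm)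
      · obtain ⟨x, hx, rfl⟩ := List.mem_map.mp e
        exact hmem wG (fun x hx => hgI x (List.mem_append_right _ hx)) (Nat.eq_of_beq_eq_true (hgG x hx)).symm
    refine eq_top_iff.mpr fun g _ => ?_
    obtain ⟨w, hw', e⟩ : (g : Equiv.Perm GolayPt) ∈ H := htop.ge (M22_eq.le g.2)
    exact (Subtype.ext e : w = g) ▸ hw'
  · rw [eq_bot_iff]
    rintro x ⟨hx, hxN⟩
    obtain ⟨i, hi, rfl⟩ : x ∈ idxSet hexI := hA ▸ hx
    rcases hnA i hi with e | e
    · rw [Nat.eq_of_beq_eq_true e, we_zero]; exact one_mem _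
    · exfalso
      have hN := hback.mp hxN
      rw [mul_assoc] at hN
      have : normB (backH (wd i)) hexI = true := by
        simp only [normB, List.all_eq_true, List.any_eq_true]
        intro j hj
        have hjA : we j ∈ A := by rw [← SetLike.mem_coe, hA]; exact ⟨j, hj, rfl⟩
        have h2 := (Subgroup.mem_normalizer_iff.mp hN _).mp hjA
        rw [← SetLike.mem_coe, hA] at h2
        obtain ⟨k, hk, hke⟩ := h2
        refine ⟨k, hk, ?_⟩
        rw [pcomp_eq_of (repr_mul (hbR (we_repr i)) (we_repr j))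
          (eq_mul_inv_iff_mul_eq.mp hke ▸ repr_mul (we_repr k) (hbR (we_repr i)))]
        exact Nat.beq_refl _
      rw [this] at e
      exact Bool.noConfusion e
  · exact hback.mpr (by rw [mul_assoc]; exact normB_spec (hbR ha) hna' hA)
  · exact hback.mpr (by rw [mul_assoc]; exact normB_spec (hbR hb) hnb' hA)
  · exact el_eq (repr_mul ha ha) (by rw [Nat.eq_of_beq_eq_true haa]; exact repr_one)
  · exact el_eq (repr_mul hb hb) (by rw [Nat.eq_of_beq_eq_true hbb]; exact repr_one)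
  · exact el_eq (repr_pow (repr_mul ha hb) 4) (by rw [Nat.eq_of_beq_eq_true hab4]; exact repr_one)
  · intro e
    exact ne_of_code (repr_mul (repr_mul ha hb) (repr_mul ha hb)) (repr_mul repr_one repr_one) hab2
      (by rw [e, mul_one])
  · exact fun x hx => hstab hσ hns x hx _ (hθσ x)
  · intro x hx
    rw [hA'] at hx ⊢
    refine hstab ((hhi.comp (hσ.comp hh))) hns' _ hx _ ?_
    simp only [Subgroup.coe_mul, Subgroup.coe_inv, hθσ]
    group

/-- The configuration on a conjugate. -/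
theorem exists_pair {A : Subgroup M} (hA : HexData A)
    (hconj : ∀ B : Subgroup M, HexLike B → ∃ g : M, B.map (MulAut.conj g).toMonoidHom = A) :
    ∃ (A' : Subgroup M) (a b : M) (θ : MulAut M),
    HexData A' ∧ A ⊔ A' = ⊤ ∧ A ⊓ Subgroup.normalizer (A' : Set M) = ⊥ ∧
      a ∈ Subgroup.normalizer (A : Set M) ⊓ Subgroup.normalizer (A' : Set M) ∧
      b ∈ Subgroup.normalizer (A : Set M) ⊓ Subgroup.normalizer (A' : Set M) ∧
      a * a = 1 ∧ b * b = 1 ∧ (a * b) ^ 4 = 1 ∧ a * b * (a * b) ≠ 1 ∧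
      θ ∉ (MulAut.conj (G := M)).range ∧ θ * θ = 1 ∧ θ a = a ∧ θ b = b ∧ (∀ x ∈ A, θ x ∈ A) ∧ ∀ x ∈ A', θ x ∈ A' := by
  obtain ⟨B, B', a, b, θ, hB, hB', htop, hinf, ha, hb, haa, hbb, h4, h2, hθ, hθ2, hθa, hθb, hθB, hθB'⟩ := exists_pair0
  obtain ⟨g, rfl⟩ := hconj B hB.1
  set φ := MulAut.conj g with hφ
  have hN : ∀ C : Subgroup M, Subgroup.normalizer ((C.map φ.toMonoidHom : Subgroup M) : Set M) =
      (Subgroup.normalizer (C : Set M)).map φ.toMonoidHom := fun C => (Subgroup.map_equiv_normalizer_eq C φ).symm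
  refine ⟨B'.map φ.toMonoidHom, φ a, φ b, φ * θ * φ⁻¹, hB'.map φ, ?_, ?_, ?_, ?_, by rw [← map_mul, haa, map_one],
    by rw [← map_mul, hbb, map_one], by rw [← map_mul, ← map_pow, h4, map_one], fun e => h2 (φ.injective ?_),
    fun hr => hθ ?_, ?_, ?_, ?_, ?_, ?_⟩
  · rw [← Subgroup.map_sup, htop]; exact Subgroup.map_top_of_surjective _ φ.surjective
  · rw [hN, ← Subgroup.map_inf_eq _ _ φ.toMonoidHom φ.injective, hinf, Subgroup.map_bot]
  · rw [hN, hN]; exact ⟨⟨a, ha.1, rfl⟩, a, ha.2, rfl⟩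
  · rw [hN, hN]; exact ⟨⟨b, hb.1, rfl⟩, b, hb.2, rfl⟩
  · rw [map_mul, map_mul, map_one]; exact e
  · have hn : ((MulAut.conj (G := M)).range).Normal := inferInstance
    have := hn.conj_mem _ hr φ⁻¹
    rwa [show φ⁻¹ * (φ * θ * φ⁻¹) * φ⁻¹⁻¹ = θ by group] at this
  · rw [show φ * θ * φ⁻¹ * (φ * θ * φ⁻¹) = φ * (θ * θ) * φ⁻¹ by group, hθ2, mul_one, mul_inv_cancel]
  · simp [MulAut.mul_apply, MulAut.inv_def, hθa]
  · simp [MulAut.mul_apply, MulAut.inv_def, hθb]
  · rintro _ ⟨x, hx, rfl⟩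
    exact ⟨θ x, hθB x hx, by simp [MulAut.mul_apply, MulAut.inv_def]⟩
  · rintro _ ⟨x, hx, rfl⟩
    exact ⟨θ x, hθB' x hx, by simp [MulAut.mul_apply, MulAut.inv_def]⟩

end CfsgLib.JankoFour
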