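/-
The centralizer of an element of order five modulo the group it generates, and its involution centralizer.
-/
import Cfsg.Agent.Lib.JankoFour.FiveFusion
import Cfsg.Agent.Lib.LargeExtra.Odd
import Cfsg.Agent.Lib.Basic
import Cfsg.Agent.Lib.JankoFour.NormP

set_option autoImplicit false

namespace CfsgLib.JankoFour

open Cfsg Subgroup

universe u

variable {G : Type u} [Group G] [Finite G] {z : G} {P E : Subgroup G}

namespace FiveData5

variable {c : Ctx z P E} {m : FiveModel} (d : FiveData5 c m)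

/-- The centralizer of q. -/
abbrev cq : Subgroup G := centralizer ({d.q} : Set G)

theorem mem_cq {x : G} : x ∈ d.cq ↔ x * d.q = d.q * x := mem_centralizer_singleton_iff

theorem Q_le_cq : zpowers d.q ≤ d.cq := zpowers_le.mpr (d.mem_cq.mpr rfl)

theorem card_Q : Nat.card (zpowers d.q) = 5 := by
  haveI : Fact (Nat.Prime 5) := ⟨by norm_num⟩
  rw [Nat.card_zpowers]
  exact orderOf_eq_prime d.q5 d.q1

/-- The group generated by q inside its centralizer. -/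
def Qc : Subgroup d.cq := (zpowers d.q).subgroupOf d.cq

theorem Qc_central : d.Qc ≤ center d.cq := by
  intro x hx
  obtain ⟨k, hk⟩ := mem_zpowers_iff.mp (mem_subgroupOf.mp hx)
  refine Subgroup.mem_center_iff.mpr fun g => Subtype.ext ?_
  show (g : G) * x = x * g
  rw [← hk]
  exact (Commute.zpow_right (d.mem_cq.mp g.2 : Commute (g : G) d.q) k).eq

instance instQcNormal : d.Qc.Normal :=
  ⟨fun x hx g => by
    rw [Subgroup.mem_center_iff.mp (d.Qc_central hx) g, mul_inv_cancel_right]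
    exact hx⟩

theorem card_Qc : Nat.card d.Qc = 5 := by
  rw [Qc, Nat.card_congr (subgroupOfEquivOfLe d.Q_le_cq).toEquiv, d.card_Q]

/-- The quotient of the centralizer. -/
abbrev X : Type u := d.cq ⧸ d.Qc

/-- The image in the quotient. -/
abbrev img : d.cq →* d.X := QuotientGroup.mk' d.Qc

theorem img_eq_one {x : d.cq} : d.img x = 1 ↔ (x : G) ∈ zpowers d.q := by
  rw [QuotientGroup.mk'_apply, QuotientGroup.eq_one_iff, Qc, mem_subgroupOf]

theorem small {x : G} (hx : x ∈ zpowers d.q) {n : ℕ} (hn : x ^ n = 1) (hc : Nat.Coprime n 5) : x = 1 := by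
  have h5 : x ^ 5 = 1 := by
    obtain ⟨k, hk, rfl⟩ := pow_five_range d.q5 hx
    rw [← pow_mul, mul_comm, pow_mul, d.q5, one_pow]
  have := (pow_gcd_eq_one (m := n) (n := 5) (a := x)).mpr ⟨hn, h5⟩
  rwa [hc.gcd_eq_one, pow_one] at this

theorem z_cq : z ∈ d.cq := d.mem_cq.mpr (c.Z_comm d.qH (mem_zpowers z)).symm

/-- The central involution in the quotient. -/
def s : d.X := d.img ⟨z, d.z_cq⟩

theorem s_ne_one : d.s ≠ 1 := fun h => c.z_ne_one (d.small (d.img_eq_one.mp h) (n := 2) (by rw [sq]; exact c.zz) (by norm_num))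

theorem order_s : orderOf d.s = 2 := by
  haveI : Fact (Nat.Prime 2) := ⟨Nat.prime_two⟩
  refine orderOf_eq_prime ?_ d.s_ne_one
  rw [s, ← map_pow, show (⟨z, d.z_cq⟩ : d.cq) ^ 2 = 1 from Subtype.ext (by rw [SubmonoidClass.coe_pow, sq]; exact c.zz),
    map_one]

/-- The centralizer of the involution in the quotient. -/
abbrev L : Subgroup d.X := centralizer ({d.s} : Set d.X)

theorem img_mem_L {x : d.cq} : d.img x ∈ d.L ↔ (x : G) ∈ centralizer ({z} : Set G) := by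
  rw [mem_centralizer_singleton_iff, mem_centralizer_singleton_iff]
  constructor
  · intro h
    set w := (x : G) * z * (x : G)⁻¹ * z⁻¹ with hw
    have hwQ : w ∈ zpowers d.q := by
      refine (d.img_eq_one (x := x * ⟨z, d.z_cq⟩ * x⁻¹ * ⟨z, d.z_cq⟩⁻¹)).mp ?_
      rw [map_mul, map_mul, map_mul, map_inv, map_inv]
      change d.img x * d.s * (d.img x)⁻¹ * d.s⁻¹ = 1
      rw [h, mul_inv_cancel_right, mul_inv_cancel]
    have hc : Commute w z := by
      obtain ⟨k, hk⟩ := mem_zpowers_iff.mp hwQ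
      rw [← hk]
      exact (Commute.zpow_right (d.mem_cq.mp d.z_cq : Commute z d.q) k).symm
    have h1 : (w * z) ^ 2 = 1 := by
      rw [hw, inv_mul_cancel_right, conj_pow, sq z, c.zz, mul_one, mul_inv_cancel]
    rw [hc.mul_pow, sq z, c.zz, mul_one] at h1
    have := d.small hwQ h1 (by norm_num)
    exact mul_inv_eq_iff_eq_mul.mp (mul_inv_eq_one.mp this)
  · intro h
    rw [s, ← map_mul, ← map_mul]
    exact congrArg d.img (Subtype.ext h)

theorem D_le_cq : d.D ≤ d.cq := inf_le_right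

theorem D_le_H : d.D ≤ centralizer ({z} : Set G) := inf_le_left.trans c.Ez

theorem P_le_cq : P ≤ d.cq := fun _ hp => d.mem_cq.mpr (d.q_comm_P hp)

theorem τ_cq : d.τ ∈ d.cq := d.mem_cq.mpr (mul_inv_eq_iff_eq_mul.mp d.τq)

/-- The image of the fixed points on E. -/
noncomputable def Db : Subgroup d.X := (d.D.subgroupOf d.cq).map d.img

/-- The image of P. -/
noncomputable def Pb : Subgroup d.X := (P.subgroupOf d.cq).map d.img

theorem mem_Db {x : d.X} : x ∈ d.Db ↔ ∃ e, ∃ he : e ∈ d.D, x = d.img ⟨e, d.D_le_cq he⟩ := by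
  constructor
  · rintro ⟨⟨e, he⟩, he', rfl⟩
    exact ⟨e, mem_subgroupOf.mp he', rfl⟩
  · rintro ⟨e, he, rfl⟩
    exact ⟨_, mem_subgroupOf.mpr he, rfl⟩

theorem mem_Pb {x : d.X} : x ∈ d.Pb ↔ ∃ p, ∃ hp : p ∈ P, x = d.img ⟨p, d.P_le_cq hp⟩ := by
  constructor
  · rintro ⟨⟨p, hp⟩, hp', rfl⟩
    exact ⟨p, mem_subgroupOf.mp hp', rfl⟩
  · rintro ⟨p, hp, rfl⟩
    exact ⟨_, mem_subgroupOf.mpr hp, rfl⟩

theorem card_image {U : Subgroup G} (hU : U ≤ d.cq) (hc : Nat.Coprime (Nat.card U) 5) :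
    Nat.card ↥((U.subgroupOf d.cq).map d.img) = Nat.card U := by
  rw [← Nat.card_congr (subgroupOfEquivOfLe hU).toEquiv]
  refine (Nat.card_congr (Equiv.ofBijective (fun x : U.subgroupOf d.cq => (⟨d.img x, x, x.2, rfl⟩ :
    ↥((U.subgroupOf d.cq).map d.img))) ⟨?_, ?_⟩)).symm
  · intro a b h
    have h1 : d.img ((a : d.cq)⁻¹ * b) = 1 := by
      rw [map_mul, map_inv, inv_mul_eq_one]
      exact congrArg Subtype.val h
    have hab : (a⁻¹ * b : U.subgroupOf d.cq) = 1 := by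
      refine Subtype.ext (Subtype.ext (d.small (d.img_eq_one.mp h1) ?_ hc))
      rw [← Nat.card_congr (subgroupOfEquivOfLe hU).toEquiv]
      exact congrArg (fun y : U.subgroupOf d.cq => ((y : d.cq) : G)) (pow_card_eq_one' (x := a⁻¹ * b))
    exact inv_mul_eq_one.mp hab
  · rintro ⟨_, x, hx, rfl⟩
    exact ⟨⟨x, hx⟩, rfl⟩

theorem card_Db : Nat.card d.Db = 32 := by
  rw [Db, d.card_image d.D_le_cq (by rw [d.D_eq.1]; norm_num), d.D_eq.1]

theorem card_Pb : Nat.card d.Pb = 3 := by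
  rw [Pb, d.card_image d.P_le_cq (by rw [c.hP]; norm_num), c.hP]

theorem Db_le_L : d.Db ≤ d.L := fun x hx => by
  obtain ⟨e, he, rfl⟩ := d.mem_Db.mp hx
  exact d.img_mem_L.mpr (d.D_le_H he)

theorem Pb_le_L : d.Pb ≤ d.L := fun x hx => by
  obtain ⟨p, hp, rfl⟩ := d.mem_Pb.mp hx
  exact d.img_mem_L.mpr (c.P_le hp)

theorem L_normalizes {x : d.X} (hx : x ∈ d.L) {y : d.X} (hy : y ∈ d.Db) : x * y * x⁻¹ ∈ d.Db := by
  obtain ⟨x, rfl⟩ := QuotientGroup.mk'_surjective d.Qc x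
  obtain ⟨e, he, rfl⟩ := d.mem_Db.mp hy
  have hH := d.img_mem_L.mp hx
  have hx' : Commute (x : G) d.q := d.mem_cq.mp x.2
  have he' : Commute e d.q := ((d.mem_D.mp he).2).symm
  refine d.mem_Db.mpr ⟨(x : G) * e * (x : G)⁻¹, d.mem_D.mpr ⟨c.conj_E hH (d.mem_D.mp he).1,
    ((hx'.mul_left he').mul_left hx'.inv_left).eq.symm⟩, ?_⟩
  rw [← map_mul, ← map_inv, ← map_mul]
  exact congrArg d.img (Subtype.ext rfl)

/-- The image of τ. -/
def tb : d.X := d.img ⟨d.τ, d.τ_cq⟩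

theorem tb_mem : d.tb ∈ d.L := d.img_mem_L.mpr d.τH

theorem tb_sq : d.tb * d.tb ∈ d.Db := d.mem_Db.mpr ⟨_, d.Z_le_D d.ττ, by rw [tb, ← map_mul]; rfl⟩

theorem L_decomp {x : d.X} (hx : x ∈ d.L) :
    ∃ e ∈ d.Db, ∃ p ∈ d.Pb, x = e * p ∨ x = d.tb * (e * p) := by
  obtain ⟨x, rfl⟩ := QuotientGroup.mk'_surjective d.Qc x
  obtain ⟨e, he, k, p, hp, h⟩ := d.H_cent (d.img_mem_L.mp hx) (d.mem_cq.mp x.2)
  refine ⟨_, d.mem_Db.mpr ⟨e, he, rfl⟩, _, d.mem_Pb.mpr ⟨p, hp, rfl⟩, ?_⟩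
  have hq : d.img ⟨d.q ^ k, d.Q_le_cq (pow_mem (mem_zpowers d.q) k)⟩ = 1 :=
    d.img_eq_one.mpr (pow_mem (mem_zpowers d.q) k)
  set qk : d.cq := ⟨d.q ^ k, d.Q_le_cq (pow_mem (mem_zpowers d.q) k)⟩
  rcases h with h | h
  · left
    rw [show x = ⟨e, d.D_le_cq he⟩ * qk * ⟨p, d.P_le_cq hp⟩ from Subtype.ext h, map_mul, map_mul, hq, mul_one]
  · right
    rw [show x = ⟨d.τ, d.τ_cq⟩ * (⟨e, d.D_le_cq he⟩ * qk * ⟨p, d.P_le_cq hp⟩) from Subtype.ext h, map_mul,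
      map_mul, map_mul, hq, mul_one]
    rfl

/-- The Sylow 2-subgroup of L. -/
noncomputable def Tb : Subgroup d.X where
  carrier := {x | x ∈ d.Db ∨ d.tb⁻¹ * x ∈ d.Db}
  one_mem' := Or.inl (one_mem _)
  mul_mem' := by
    intro a b ha hb
    rcases ha with ha | ha <;> rcases hb with hb | hb
    · exact Or.inl (mul_mem ha hb)
    · right
      have := mul_mem (d.L_normalizes (inv_mem d.tb_mem) ha) hb
      rwa [show d.tb⁻¹ * a * d.tb⁻¹⁻¹ * (d.tb⁻¹ * b) = d.tb⁻¹ * (a * b) by group] at this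
    · right
      rw [← mul_assoc]
      exact mul_mem ha hb
    · left
      have := mul_mem (mul_mem d.tb_sq (d.L_normalizes (inv_mem d.tb_mem) ha)) hb
      rwa [show d.tb * d.tb * (d.tb⁻¹ * (d.tb⁻¹ * a) * d.tb⁻¹⁻¹) * (d.tb⁻¹ * b) = a * b by group] at this
  inv_mem' := by
    intro a ha
    rcases ha with ha | ha
    · exact Or.inl (inv_mem ha)
    · right
      have := d.L_normalizes (inv_mem d.tb_mem) (mul_mem (inv_mem ha) (inv_mem d.tb_sq))
      have e : d.tb⁻¹ * ((d.tb⁻¹ * a)⁻¹ * (d.tb * d.tb)⁻¹) * d.tb⁻¹⁻¹ = d.tb⁻¹ * a⁻¹ := by group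
      rwa [e] at this

theorem mem_Tb {x : d.X} : x ∈ d.Tb ↔ x ∈ d.Db ∨ d.tb⁻¹ * x ∈ d.Db := Iff.rfl

theorem Db_le_Tb : d.Db ≤ d.Tb := fun _ h => Or.inl h

theorem tb_Tb : d.tb ∈ d.Tb := Or.inr (by rw [inv_mul_cancel]; exact one_mem _)

theorem Tb_le_L : d.Tb ≤ d.L := by
  rintro x (h | h)
  · exact d.Db_le_L h
  · have := mul_mem d.tb_mem (d.Db_le_L h)
    rwa [mul_inv_cancel_left] at this

theorem tb_not_Db : d.tb ∉ d.Db := fun h => by
  obtain ⟨e, he, h'⟩ := d.mem_Db.mp h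
  have h1 : d.img (⟨e, d.D_le_cq he⟩⁻¹ * ⟨d.τ, d.τ_cq⟩) = 1 := by
    rw [map_mul, map_inv, ← h']; exact inv_mul_cancel _
  have h2 : e⁻¹ * d.τ ∈ zpowers d.q := d.img_eq_one.mp h1
  have := mul_mem (c.NH0 (c.EN (d.mem_D.mp he).1)) (zpowers_le.mpr (c.cen_le_H0 d.qc) h2)
  rw [mul_inv_cancel_left] at this
  exact d.τout this

theorem card_Tb : Nat.card d.Tb = 64 := by
  have hi : (d.Db.subgroupOf d.Tb).index = 2 := by
    refine Subgroup.index_eq_two_iff.mpr ⟨(⟨d.tb, d.tb_Tb⟩ : d.Tb)⁻¹, fun b => ?_⟩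
    rw [mem_subgroupOf, mem_subgroupOf, Subgroup.coe_mul, Subgroup.coe_inv]
    show Xor' ((b : d.X) * d.tb⁻¹ ∈ d.Db) ((b : d.X) ∈ d.Db)
    rcases b.2 with hb | hb
    · refine Or.inr ⟨hb, fun h => d.tb_not_Db ?_⟩
      have := mul_mem (inv_mem h) hb
      rwa [mul_inv_rev, inv_inv, inv_mul_cancel_right] at this
    · refine Or.inl ⟨?_, fun h => d.tb_not_Db ?_⟩
      · have := d.L_normalizes d.tb_mem hb
        rwa [mul_inv_cancel_left] at this
      · have := mul_mem h (inv_mem hb)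
        rwa [mul_inv_rev, inv_inv, mul_inv_cancel_left] at this
  have := Subgroup.card_mul_index (d.Db.subgroupOf d.Tb)
  rw [hi, Nat.card_congr (subgroupOfEquivOfLe d.Db_le_Tb).toEquiv, d.card_Db] at this
  exact this.symm

theorem tb_inverts {x : d.X} (hx : x ∈ d.Pb) : d.tb * x * d.tb⁻¹ = x⁻¹ := by
  obtain ⟨p, hp, rfl⟩ := d.mem_Pb.mp hx
  rw [tb, ← map_inv, ← map_inv, ← map_mul, ← map_mul]
  exact congrArg d.img (Subtype.ext (d.τP p hp))

theorem Tb_inf_Pb {x : d.X} (h1 : x ∈ d.Tb) (h2 : x ∈ d.Pb) : x = 1 := by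
  have h := Subgroup.inf_eq_bot_of_coprime (H := d.Tb) (K := d.Pb) (by rw [d.card_Tb, d.card_Pb]; norm_num)
  rw [← mem_bot, ← h]
  exact ⟨h1, h2⟩

theorem compl : (d.Tb.subgroupOf d.L).IsComplement' (d.Pb.subgroupOf d.L) := by
  refine Subgroup.isComplement'_of_disjoint_and_mul_eq_univ (disjoint_def.mpr fun {x} h1 h2 =>
    Subtype.ext (d.Tb_inf_Pb h1 h2)) ?_
  ext ⟨x, hx⟩
  simp only [Set.mem_univ, iff_true]
  obtain ⟨e, he, p, hp, h | h⟩ := d.L_decomp hx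
  · exact ⟨⟨e, d.Db_le_L he⟩, d.Db_le_Tb he, ⟨p, d.Pb_le_L hp⟩, hp, Subtype.ext h.symm⟩
  · refine ⟨⟨d.tb * e, mul_mem d.tb_mem (d.Db_le_L he)⟩, mul_mem d.tb_Tb (d.Db_le_Tb he), ⟨p, d.Pb_le_L hp⟩, hp,
      Subtype.ext ?_⟩
    show d.tb * e * p = x
    rw [h, mul_assoc]

theorem card_L : Nat.card d.L = 192 := by
  have := d.compl.card_mul_card
  rw [Nat.card_congr (subgroupOfEquivOfLe d.Tb_le_L).toEquiv, Nat.card_congr (subgroupOfEquivOfLe d.Pb_le_L).toEquiv,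
    d.card_Tb, d.card_Pb] at this
  exact this.symm

instance instDbNormal : (d.Db.subgroupOf d.L).Normal :=
  ⟨fun _ hn g => d.L_normalizes g.2 hn⟩

theorem normalCore_Tb : (d.Tb.subgroupOf d.L).normalCore = d.Db.subgroupOf d.L := by
  refine le_antisymm (fun x hx => ?_) (Subgroup.normal_le_normalCore.mpr fun x hx => d.Db_le_Tb hx)
  show (x : d.X) ∈ d.Db
  have hxT : (x : d.X) ∈ d.Tb := mem_subgroupOf.mp (Subgroup.normalCore_le (d.Tb.subgroupOf d.L) hx)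
  refine (d.mem_Tb.mp hxT).elim id fun h => False.elim ?_
  obtain ⟨p, hp, hp1, -⟩ := c.exists_gen
  set pb := d.img ⟨p, d.P_le_cq hp⟩ with hpb
  have hpP : pb ∈ d.Pb := d.mem_Pb.mpr ⟨p, hp, rfl⟩
  have hpL := d.Pb_le_L hpP
  have h1 : pb * (x : d.X) * pb⁻¹ ∈ d.Tb :=
    mem_subgroupOf.mp (Subgroup.normalCore_le (d.Tb.subgroupOf d.L)
      ((Subgroup.normalCore_normal (d.Tb.subgroupOf d.L)).conj_mem x hx ⟨pb, hpL⟩))
  -- remove the part in the fixed points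
  have h2 : pb * d.tb * pb⁻¹ ∈ d.Tb := by
    have h3 := d.Db_le_Tb (d.L_normalizes hpL h)
    have := mul_mem h1 (inv_mem h3)
    rwa [show pb * (x : d.X) * pb⁻¹ * (pb * (d.tb⁻¹ * (x : d.X)) * pb⁻¹)⁻¹ = pb * d.tb * pb⁻¹ by group] at this
  have h4 : d.tb⁻¹ * (pb * d.tb * pb⁻¹) = pb⁻¹ * pb⁻¹ := by
    have e := d.tb_inverts (inv_mem hpP)
    rw [inv_inv] at e
    conv_lhs => rw [show pb * d.tb * pb⁻¹ = pb * (d.tb * pb⁻¹ * d.tb⁻¹) * d.tb by group, e]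
    have e2 := d.tb_inverts hpP
    calc d.tb⁻¹ * (pb * pb * d.tb) = d.tb⁻¹ * (pb⁻¹ * pb⁻¹)⁻¹ * d.tb := by
          rw [mul_inv_rev, inv_inv, ← mul_assoc]
      _ = d.tb⁻¹ * ((d.tb * pb * d.tb⁻¹) * (d.tb * pb * d.tb⁻¹))⁻¹ * d.tb := by rw [e2]
      _ = pb⁻¹ * pb⁻¹ := by group
  have h5 := d.Tb_inf_Pb (h4 ▸ mul_mem (inv_mem d.tb_Tb) h2) (mul_mem (inv_mem hpP) (inv_mem hpP))
  have h6 : pb * pb * pb = 1 := by
    rw [hpb, ← map_mul, ← map_mul, show (⟨p, d.P_le_cq hp⟩ : d.cq) * ⟨p, d.P_le_cq hp⟩ * ⟨p, d.P_le_cq hp⟩ = 1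
      from Subtype.ext (c.P_cube hp), map_one]
  have h7 : pb = 1 := by
    rw [← mul_inv_rev, inv_eq_one] at h5
    rwa [h5, one_mul] at h6
  refine hp1 (d.small (d.img_eq_one.mp h7) (n := 3) ?_ (by norm_num))
  show p ^ 3 = 1
  rw [pow_succ, sq]; exact c.P_cube hp

theorem pCore_L : pCore 2 ↥d.L = d.Db.subgroupOf d.L := by
  haveI : Fact (Nat.Prime 2) := ⟨Nat.prime_two⟩
  refine le_antisymm ?_ (CfsgLib.le_pCore (IsPGroup.of_card (n := 5) (by
    rw [Nat.card_congr (subgroupOfEquivOfLe d.Db_le_L).toEquiv, d.card_Db]; norm_num)))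
  rw [← d.normalCore_Tb]
  refine Subgroup.normal_le_normalCore.mpr ?_
  let S : Sylow 2 d.L := Sylow.ofCard (d.Tb.subgroupOf d.L) (by
    rw [Nat.card_congr (subgroupOfEquivOfLe d.Tb_le_L).toEquiv, d.card_Tb, d.card_L,
      show 192 = 2 ^ 6 * 3 by norm_num, Nat.factorization_mul (by norm_num) (by norm_num), Finsupp.add_apply,
      Nat.Prime.factorization_pow (by norm_num), Finsupp.single_eq_same,
      Nat.factorization_eq_zero_of_not_dvd (by norm_num)]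
    norm_num)
  have h := (S.isPGroup'.to_sup_of_normal_right (CfsgLib.isPGroup_pCore (G := d.L) 2))
  exact le_sup_right.trans_eq (S.is_maximal' h le_sup_left)

theorem quot_iso : Nonempty (↥d.L ⧸ pCore 2 ↥d.L ≃* Equiv.Perm (Fin 3)) := by
  classical
  have h3 : Nat.card (↥d.L ⧸ d.Tb.subgroupOf d.L) = 3 := by
    have := Subgroup.card_mul_index (d.Tb.subgroupOf d.L)
    rw [Nat.card_congr (subgroupOfEquivOfLe d.Tb_le_L).toEquiv, d.card_Tb, d.card_L] at this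
    rw [← Subgroup.index_eq_card]
    omega
  let eF : (↥d.L ⧸ d.Tb.subgroupOf d.L) ≃ Fin 3 := Finite.equivFinOfCardEq h3
  let φ : ↥d.L →* Equiv.Perm (Fin 3) :=
    eF.permCongrHom.toMonoidHom.comp (MulAction.toPermHom ↥d.L (↥d.L ⧸ d.Tb.subgroupOf d.L))
  have hk : φ.ker = pCore 2 ↥d.L := by
    rw [d.pCore_L, ← d.normalCore_Tb, Subgroup.normalCore_eq_ker]
    ext y
    rw [MonoidHom.mem_ker, MonoidHom.mem_ker]
    exact eF.permCongrHom.map_eq_one_iff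
  have hs : Function.Surjective φ := by
    rw [← MonoidHom.range_eq_top]
    refine eq_of_le_of_card_ge le_top ?_
    rw [card_top, Nat.card_perm, Nat.card_eq_fintype_card, Fintype.card_fin, ← Subgroup.index_ker, hk, d.pCore_L]
    have := Subgroup.card_mul_index (d.Db.subgroupOf d.L)
    rw [Nat.card_congr (subgroupOfEquivOfLe d.Db_le_L).toEquiv, d.card_Db, d.card_L] at this
    norm_num [Nat.factorial]
    omega
  exact ⟨(QuotientGroup.quotientMulEquivOfEq hk.symm).trans (QuotientGroup.quotientKerEquivOfSurjective φ hs)⟩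

theorem img_inj_D {e f : G} (he : e ∈ d.D) (hf : f ∈ d.D)
    (h : d.img ⟨e, d.D_le_cq he⟩ = d.img ⟨f, d.D_le_cq hf⟩) : e = f := by
  have h1 : e⁻¹ * f ∈ zpowers d.q := (d.img_eq_one (x := ⟨e, d.D_le_cq he⟩⁻¹ * ⟨f, d.D_le_cq hf⟩)).mp
    (by rw [map_mul, map_inv, inv_mul_eq_one]; exact h)
  refine inv_mul_eq_one.mp (d.small h1 (n := 4) ?_ (by norm_num))
  have hm : e⁻¹ * f ∈ E := mul_mem (inv_mem (d.mem_D.mp he).1) (d.mem_D.mp hf).1
  rw [show (4 : ℕ) = 2 * 2 from rfl, pow_mul, sq (e⁻¹ * f), sq, c.Z_sq (c.sq_mem_Z hm)]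

theorem D_noncomm : ∃ a ∈ d.D, ∃ b ∈ d.D, a * b ≠ b * a := by
  by_contra hall
  push Not at hall
  have := card_le_of_le (fun e he => d.central_D he (fun f hf => hall f hf e he) : d.D ≤ zpowers z)
  rw [d.D_eq.1, c.card_Z] at this
  norm_num at this

theorem extraspecial_Db : IsExtraspecial 2 d.Db := by
  obtain ⟨a, ha, b, hb, hab⟩ := d.D_noncomm
  have hsD : d.s ∈ d.Db := d.mem_Db.mpr ⟨z, d.Z_le_D (mem_zpowers z), rfl⟩
  refine CfsgLargeExtra.isExtraspecial_of_ext2 (z := (⟨d.s, hsD⟩ : d.Db)) ⟨fun h => d.s_ne_one (congrArg Subtype.val h),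
    fun g => ⟨fun hg => ?_, ?_⟩, fun g => ?_⟩
    (a := ⟨_, d.mem_Db.mpr ⟨a, ha, rfl⟩⟩) (b := ⟨_, d.mem_Db.mpr ⟨b, hb, rfl⟩⟩) ?_
  · obtain ⟨e, he, hge⟩ := d.mem_Db.mp g.2
    have hz : e ∈ zpowers z := d.central_D he fun f hf => by
      refine d.img_inj_D (mul_mem hf he) (mul_mem he hf) ?_
      have := congrArg Subtype.val (Subgroup.mem_center_iff.mp hg ⟨_, d.mem_Db.mpr ⟨f, hf, rfl⟩⟩)
      rw [Subgroup.coe_mul, Subgroup.coe_mul, hge, ← map_mul, ← map_mul] at this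
      exact this
    rcases c.mem_Z.mp hz with rfl | rfl
    · exact Or.inl (Subtype.ext (hge.trans (map_one d.img)))
    · exact Or.inr (Subtype.ext hge)
  · rintro (rfl | rfl)
    · exact one_mem _
    · refine Subgroup.mem_center_iff.mpr fun h => Subtype.ext ?_
      exact mem_centralizer_singleton_iff.mp (d.Db_le_L h.2)
  · obtain ⟨e, he, hge⟩ := d.mem_Db.mp g.2
    rcases c.mem_Z.mp (c.sq_mem_Z (d.mem_D.mp he).1) with h | h
    · refine Or.inl (Subtype.ext ?_)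
      rw [Subgroup.coe_mul, hge, ← map_mul,
        show (⟨e, d.D_le_cq he⟩ : d.cq) * ⟨e, d.D_le_cq he⟩ = 1 from Subtype.ext h, map_one]
      rfl
    · refine Or.inr (Subtype.ext ?_)
      rw [Subgroup.coe_mul, hge, ← map_mul,
        show (⟨e, d.D_le_cq he⟩ : d.cq) * ⟨e, d.D_le_cq he⟩ = ⟨z, d.z_cq⟩ from Subtype.ext h]
      rfl
  · intro h
    refine hab (d.img_inj_D (mul_mem ha hb) (mul_mem hb ha) ?_)
    have := congrArg Subtype.val h
    rw [Subgroup.coe_mul, Subgroup.coe_mul, ← map_mul, ← map_mul] at this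
    exact this

theorem fix_Db : d.Db ⊓ centralizer (d.Pb : Set d.X) = zpowers d.s := by
  refine le_antisymm ?_ (zpowers_le.mpr ⟨d.mem_Db.mpr ⟨z, d.Z_le_D (mem_zpowers z), rfl⟩,
    mem_centralizer_iff.mpr fun x hx => mem_centralizer_singleton_iff.mp (d.Pb_le_L hx)⟩)
  rintro x ⟨hx, hc⟩
  obtain ⟨e, he, rfl⟩ := d.mem_Db.mp hx
  obtain ⟨p, hp, -, hgen⟩ := c.exists_gen
  have hp' := mem_centralizer_iff.mp hc _ (d.mem_Pb.mpr ⟨p, hp, rfl⟩)
  have hconj : p * e * p⁻¹ ∈ d.D := d.mem_D.mpr ⟨c.conj_E (c.P_le hp) (d.mem_D.mp he).1,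
    (Commute.mul_left (Commute.mul_left (d.q_comm_P hp : Commute p d.q) ((d.mem_D.mp he).2).symm)
      (Commute.inv_left (d.q_comm_P hp : Commute p d.q))).eq.symm⟩
  have h1 : p * e * p⁻¹ = e := d.img_inj_D hconj he (by
    rw [show (⟨p * e * p⁻¹, d.D_le_cq hconj⟩ : d.cq) = ⟨p, d.P_le_cq hp⟩ * ⟨e, d.D_le_cq he⟩ * ⟨p, d.P_le_cq hp⟩⁻¹
      from Subtype.ext rfl, map_mul, map_mul, map_inv, hp', mul_inv_cancel_right])
  rcases c.mem_Z.mp (c.fixed_mem_Z hp hgen (d.mem_D.mp he).1 (by rw [h1, mul_inv_cancel]; exact one_mem _)) with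
    rfl | rfl
  · rw [show (⟨1, _⟩ : d.cq) = 1 from rfl, map_one]; exact one_mem _
  · exact mem_zpowers _

theorem not_nine [IsSimpleGroup G] (hG : ¬ IsMulCommutative G)
    (hinv : ∃ n ∈ centralizer ({z} : Set G), ∀ q ∈ P, n * q * n⁻¹ = q⁻¹) : ¬ 9 ∣ Nat.card d.X := by
  intro h9
  haveI : Fact (Nat.Prime 3) := ⟨by norm_num⟩
  obtain ⟨K, hK, hle⟩ := Sylow.exists_subgroup_card_pow_succ (p := 3) (n := 1) h9 (H := d.Pb) (by
    rw [d.card_Pb]; norm_num)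
  have hab := IsPGroup.commutative_of_card_eq_prime_sq (G := K) hK
  have hKL : K ≤ d.L := by
    intro y hy
    obtain ⟨x, rfl⟩ := QuotientGroup.mk'_surjective d.Qc y
    refine d.img_mem_L.mpr ((c.cent_P hG hinv).1 (mem_centralizer_iff.mpr fun p hp => ?_))
    have hpP : d.img ⟨p, d.P_le_cq hp⟩ ∈ K := hle (d.mem_Pb.mpr ⟨p, hp, rfl⟩)
    have e1 := congrArg Subtype.val (hab ⟨_, hy⟩ ⟨_, hpP⟩)
    set w := (x : G) * p * (x : G)⁻¹ * p⁻¹ with hw
    have hwQ : w ∈ zpowers d.q := by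
      refine (d.img_eq_one (x := x * ⟨p, d.P_le_cq hp⟩ * x⁻¹ * ⟨p, d.P_le_cq hp⟩⁻¹)).mp ?_
      rw [map_mul, map_mul, map_mul, map_inv, map_inv, show d.img x * d.img ⟨p, d.P_le_cq hp⟩ =
        d.img ⟨p, d.P_le_cq hp⟩ * d.img x from e1, mul_inv_cancel_right, mul_inv_cancel]
    have hc : Commute w p := by
      obtain ⟨k, hk⟩ := mem_zpowers_iff.mp hwQ
      rw [← hk]
      exact (Commute.zpow_right (d.q_comm_P hp : Commute p d.q) k).symm
    have p3 : p ^ 3 = 1 := by rw [pow_succ, sq]; exact c.P_cube hp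
    have h1 : (w * p) ^ 3 = 1 := by
      rw [hw, inv_mul_cancel_right, conj_pow, p3, mul_one, mul_inv_cancel]
    rw [hc.mul_pow, p3, mul_one] at h1
    exact (mul_inv_eq_iff_eq_mul.mp (mul_inv_eq_one.mp (d.small hwQ h1 (by norm_num)))).symm
  have := card_dvd_of_le hKL
  rw [hK, d.card_L] at this
  norm_num at this

end FiveData5

end CfsgLib.JankoFour
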