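/-
The structure of the centralizer of an element of order five modulo that element.
-/
import Cfsg.Agent.Lib.JankoFour.FiveQuot
import Cfsg.Agent.S3344
import Cfsg.Agent.S0249
import Cfsg.Agent.Lib.SLCard
import Cfsg.Agent.Lib.Golay.Mathieu

set_option autoImplicit false
set_option maxRecDepth 10000

namespace CfsgLib.JankoFour

open Cfsg Subgroup

universe u

theorem mat_three_pow : ∀ a b c d e f g h i : ZMod 2,
    (!![a,b,c;d,e,f;g,h,i] : Matrix (Fin 3) (Fin 3) (ZMod 2)) ^ 8 = 1 →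
      (!![a,b,c;d,e,f;g,h,i] : Matrix (Fin 3) (Fin 3) (ZMod 2)) ^ 4 = 1 := by
  decide +kernel

theorem sl_three_pow (A : Matrix.SpecialLinearGroup (Fin 3) (ZMod 2)) (h : A ^ 8 = 1) : A ^ 4 = 1 := by
  refine Subtype.ext ?_
  rw [Matrix.SpecialLinearGroup.coe_pow, Matrix.eta_fin_three (A : Matrix (Fin 3) (Fin 3) (ZMod 2))]
  refine mat_three_pow _ _ _ _ _ _ _ _ _ ?_
  rw [← Matrix.eta_fin_three (A : Matrix (Fin 3) (Fin 3) (ZMod 2)), ← Matrix.SpecialLinearGroup.coe_pow, h]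
  rfl

theorem card_sl_three : Nat.card (Matrix.SpecialLinearGroup (Fin 3) (ZMod 2)) = 168 := by
  have h1 := CfsgLib.SLCard.card_units_mul_card_SL (F := ZMod 2) (n := 3) (by norm_num)
  rw [Matrix.card_GL_field, ZMod.card, Fin.prod_univ_three] at h1
  norm_num at h1
  rw [Nat.card_eq_fintype_card]
  exact h1

theorem psl_equiv_sl : Nonempty (Matrix.ProjectiveSpecialLinearGroup (Fin 3) (ZMod 2) ≃*
    Matrix.SpecialLinearGroup (Fin 3) (ZMod 2)) := by
  have h := CfsgLib.SLCard.card_SL_center (F := ZMod 2) (n := 3) (by norm_num)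
  rw [ZMod.card] at h
  have hb : Subgroup.center (Matrix.SpecialLinearGroup (Fin 3) (ZMod 2)) = ⊥ :=
    Subgroup.eq_bot_of_card_eq _ (by rw [h]; norm_num)
  exact ⟨(QuotientGroup.quotientMulEquivOfEq hb).trans QuotientGroup.quotientBot⟩

/-- No element of order eight lies in a split extension of a group of order eight by a group of exponent four. -/
theorem four_split {X : Type u} [Group X] [Finite X] (N : Subgroup X) [N.Normal]
    (hab : ∀ a ∈ N, ∀ b ∈ N, a * b = b * a) (hsq : ∀ a ∈ N, a * a = 1) (h8 : Nat.card N = 8) {k e : X}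
    (hk : k ^ 4 = 1) (he : e ∈ N) : (e * k) ^ 4 = 1 := by
  classical
  have cj : ∀ n : N, k * n * k⁻¹ ∈ N := fun n => Normal.conj_mem ‹_› _ n.2 k
  let f : N →* N :=
    { toFun := fun n => ⟨(n : X) * (k * n * k⁻¹), mul_mem n.2 (cj n)⟩
      map_one' := Subtype.ext (by simp)
      map_mul' := fun a b => Subtype.ext (by
        show ((a : X) * b) * (k * (a * b) * k⁻¹) = (a * (k * a * k⁻¹)) * (b * (k * b * k⁻¹))
        calc ((a : X) * b) * (k * (a * b) * k⁻¹) = a * ((b : X) * (k * a * k⁻¹)) * (k * b * k⁻¹) := by group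
          _ = (a * (k * a * k⁻¹)) * (b * (k * b * k⁻¹)) := by rw [hab _ b.2 _ (cj a)]; group) }
  have hN2 : ∀ a : N, a * a = 1 := fun a => Subtype.ext (hsq a a.2)
  let σ : ℕ → N → N := fun i n => ⟨k ^ i * n * (k ^ i)⁻¹, Normal.conj_mem ‹_› _ n.2 _⟩
  have hff : ∀ n, f (f n) = n * σ 2 n := fun n => Subtype.ext (by
    show (n : X) * (k * n * k⁻¹) * (k * ((n : X) * (k * n * k⁻¹)) * k⁻¹) = n * (k ^ 2 * n * (k ^ 2)⁻¹)
    calc (n : X) * (k * n * k⁻¹) * (k * ((n : X) * (k * n * k⁻¹)) * k⁻¹)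
        = n * ((k * n * k⁻¹) * (k * n * k⁻¹)) * (k ^ 2 * n * (k ^ 2)⁻¹) := by rw [sq]; group
      _ = n * (k ^ 2 * n * (k ^ 2)⁻¹) := by rw [hsq _ (cj n), mul_one])
  have hf4 : ∀ n, f (f (f (f n))) = 1 := fun n => by
    rw [hff (f (f n)), hff n]
    refine Subtype.ext ?_
    show (n : X) * (k ^ 2 * n * (k ^ 2)⁻¹) * (k ^ 2 * ((n : X) * (k ^ 2 * n * (k ^ 2)⁻¹)) * (k ^ 2)⁻¹) = 1
    calc (n : X) * (k ^ 2 * n * (k ^ 2)⁻¹) * (k ^ 2 * ((n : X) * (k ^ 2 * n * (k ^ 2)⁻¹)) * (k ^ 2)⁻¹)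
        = n * ((k ^ 2 * n * (k ^ 2)⁻¹) * (k ^ 2 * n * (k ^ 2)⁻¹)) * (k ^ 2 * k ^ 2 * n * (k ^ 2 * k ^ 2)⁻¹) := by
          group
      _ = 1 := by
          rw [hsq _ (Normal.conj_mem ‹_› _ n.2 _), ← pow_add, show 2 + 2 = 4 from rfl, hk, mul_one, one_mul, inv_one,
            mul_one, hsq _ n.2]
  have hiter : ∀ R : Subgroup N, R.map f = R → R = ⊥ := fun R hR => by
    rw [eq_bot_iff]
    intro x hx
    rw [← hR, ← hR, ← hR, ← hR] at hx
    obtain ⟨_, ⟨_, ⟨_, ⟨w, -, rfl⟩, rfl⟩, rfl⟩, rfl⟩ := hx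
    exact mem_bot.mpr (hf4 w)
  set R1 := (⊤ : Subgroup N).map f
  set R2 := R1.map f
  set R3 := R2.map f
  have l1 : R2 ≤ R1 := map_mono le_top
  have l2 : R3 ≤ R2 := map_mono l1
  have h3 : R3 = ⊥ := by
    by_contra hne
    have n2 : R2 ≠ ⊥ := fun h => hne (by simp only [R3, h, Subgroup.map_bot])
    have n1 : R1 ≠ ⊥ := fun h => n2 (by simp only [R2, h, Subgroup.map_bot])
    have c1 : Nat.card R1 < 8 := by
      rw [← h8]
      refine lt_of_le_of_ne (Nat.card_le_card_of_injective _ R1.subtype_injective) fun h => n1 ?_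
      have ht : R1 = ⊤ := eq_top_of_card_eq _ h
      rw [ht]; exact hiter ⊤ ht
    have c2 : Nat.card R2 < Nat.card R1 := lt_of_le_of_ne (card_le_of_le l1) fun h =>
      n1 (hiter R1 (eq_of_le_of_card_ge l1 h.ge))
    have c3 : Nat.card R3 < Nat.card R2 := lt_of_le_of_ne (card_le_of_le l2) fun h =>
      n2 (hiter R2 (eq_of_le_of_card_ge l2 h.ge))
    have c4 : Nat.card R3 ≠ 1 := fun h => hne (eq_bot_of_card_eq _ h)
    have two_pow : ∀ R : Subgroup N, ∃ j ≤ 3, Nat.card R = 2 ^ j := fun R =>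
      (Nat.dvd_prime_pow Nat.prime_two).mp (by rw [show 2 ^ 3 = Nat.card N by rw [h8]; rfl]; exact R.card_subgroup_dvd_card)
    obtain ⟨j1, hj1, e1⟩ := two_pow R1
    obtain ⟨j2, hj2, e2⟩ := two_pow R2
    obtain ⟨j3, hj3, e3⟩ := two_pow R3
    rw [e1] at c1 c2; rw [e2] at c2 c3; rw [e3] at c3 c4
    rw [show (8 : ℕ) = 2 ^ 3 from rfl, Nat.pow_lt_pow_iff_right (by norm_num)] at c1
    rw [Nat.pow_lt_pow_iff_right (by norm_num)] at c2 c3
    have : j3 ≠ 0 := fun h => c4 (by rw [h]; rfl)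
    omega
  have h := h3.le (show f (f (f ⟨e, he⟩)) ∈ R3 from
    mem_map_of_mem f (mem_map_of_mem f (mem_map_of_mem f (mem_top _))))
  rw [mem_bot, hff (f ⟨e, he⟩)] at h
  have h' : e * (k * e * k⁻¹) * (k ^ 2 * (e * (k * e * k⁻¹)) * (k ^ 2)⁻¹) = 1 := congrArg Subtype.val h
  calc (e * k) ^ 4 = e * (k * e * k⁻¹) * (k ^ 2 * (e * (k * e * k⁻¹)) * (k ^ 2)⁻¹) * k ^ 4 := by
        simp only [pow_succ, pow_zero, one_mul]; group
    _ = 1 := by rw [h', hk, mul_one]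

variable {G : Type u} [Group G] [Finite G] {z : G} {P E : Subgroup G}

namespace FiveData5

variable {c : Ctx z P E} {m : FiveModel} (d : FiveData5 c m)

theorem μ_map : ∀ b ∈ m.ATwo, m.μ b ∈ m.AOne := by
  intro b hb
  have h : m.AOne.map m.μ.toMonoidHom = m.ATwo := by
    refine eq_of_le_of_card_ge ?_ ?_
    · rintro _ ⟨a, ha, rfl⟩
      exact m.μOne a ha
    · rw [card_map_of_injective m.μ.injective, m.hexOne.2.1, m.hexTwo.2.1]
  obtain ⟨a, ha, rfl⟩ := h.symm ▸ hb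
  show m.μ (m.μ a) ∈ m.AOne
  rw [show m.μ (m.μ a) = a from DFunLike.congr_fun m.μμ a]
  exact ha

theorem τ_fixA {a : G} (ha : a ∈ d.fixA m.AOne) : d.τ * a * d.τ⁻¹ ∈ d.fixA m.ATwo := by
  have hτq : Commute d.τ d.q := d.mem_cq.mp d.τ_cq
  have haq : Commute a d.q := mem_centralizer_singleton_iff.mp ha.2
  refine ⟨⟨c.conj_E d.τH ha.1.1, fun y hy => ?_⟩,
    mem_centralizer_singleton_iff.mpr ((hτq.mul_left haq).mul_left hτq.inv_left).eq⟩
  have e : d.τ⁻¹ * y * d.τ = d.τ * y * d.τ⁻¹ := by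
    calc d.τ⁻¹ * y * d.τ = d.τ⁻¹ * ((d.τ * d.τ)⁻¹⁻¹ * y * (d.τ * d.τ)⁻¹) * d.τ⁻¹⁻¹ := by
          rw [inv_inv, inv_inv, ← c.Z_comm hy.1.1 d.ττ, mul_inv_cancel_right]
      _ = d.τ * y * d.τ⁻¹ := by group
  obtain ⟨h1, h2⟩ := d.τv y hy.1
  have hy' : d.τ⁻¹ * y * d.τ ∈ c.two m.AOne := by
    rw [e]
    refine ⟨h1, by rw [h2]; exact μ_map _ hy.2.1, ?_⟩
    rw [show d.τ * y * d.τ⁻¹ * (d.τ * y * d.τ⁻¹) = d.τ * (y * y) * d.τ⁻¹ by group, c.Z_conj d.τH hy.2.2]
    exact hy.2.2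
  have h := ha.1.2 _ hy'
  rw [show y * (d.τ * a * d.τ⁻¹) * y⁻¹ * (d.τ * a * d.τ⁻¹)⁻¹ =
    d.τ * ((d.τ⁻¹ * y * d.τ) * a * (d.τ⁻¹ * y * d.τ)⁻¹ * a⁻¹) * d.τ⁻¹ by group, c.Z_conj d.τH h]
  exact h

theorem exists_skew : ∃ a ∈ d.D, d.τ * a * d.τ⁻¹ * a ≠ a * (d.τ * a * d.τ⁻¹) := by
  by_contra hall
  push Not at hall
  obtain ⟨p, hp, -, hgen⟩ := c.exists_gen
  obtain ⟨a, ha, haZ⟩ := d.exists_out m.hexOne m.qAOne
  set b := d.τ * a * d.τ⁻¹ with hb
  have hb2 := d.τ_fixA ha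
  have h1 : b * a = a * b := hall a (d.fixA_le _ ha)
  have h2 : b * (p⁻¹ * a * p⁻¹⁻¹) = p⁻¹ * a * p⁻¹⁻¹ * b := by
    have h := hall (p * a * p⁻¹) (d.fixA_le _ (d.P_fixA hp ha))
    have e : d.τ * (p * a * p⁻¹) * d.τ⁻¹ = p⁻¹ * b * p := by
      have e1 := d.τP p hp
      calc d.τ * (p * a * p⁻¹) * d.τ⁻¹ = (d.τ * p * d.τ⁻¹) * b * (d.τ * p * d.τ⁻¹)⁻¹ := by rw [hb]; group
        _ = p⁻¹ * b * p := by rw [e1, inv_inv]
    rw [e] at h
    have h' : p * (p⁻¹ * b * p * (p * a * p⁻¹)) * p⁻¹ = p * (p * a * p⁻¹ * (p⁻¹ * b * p)) * p⁻¹ :=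
      congrArg (fun x => p * x * p⁻¹) h
    have e2 : p * p = p⁻¹ := eq_inv_of_mul_eq_one_left (c.P_cube hp)
    calc b * (p⁻¹ * a * p⁻¹⁻¹) = b * ((p * p) * a * (p * p)⁻¹) := by rw [e2]
      _ = p * (p⁻¹ * b * p * (p * a * p⁻¹)) * p⁻¹ := by group
      _ = p * (p * a * p⁻¹ * (p⁻¹ * b * p)) * p⁻¹ := h'
      _ = (p * p) * a * (p * p)⁻¹ * b := by group
      _ = p⁻¹ * a * p⁻¹⁻¹ * b := by rw [e2]
  have hK := d.fixA_gen m.hexOne m.qAOne (inv_mem hp) (hgen.trans (zpowers_inv (g := p)).symm) ha haZ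
    (K := centralizer ({b} : Set G))
    (mem_centralizer_singleton_iff.mpr (c.Z_comm (c.Ez (d.mem_D.mp (d.fixA_le _ hb2)).1) (mem_zpowers z)).symm)
    (mem_centralizer_singleton_iff.mpr h1.symm) (mem_centralizer_singleton_iff.mpr h2.symm)
  have hbZ := d.meet (d.cent_fixA m.hexOne m.qAOne (d.fixA_le _ hb2) fun f hf =>
    mem_centralizer_singleton_iff.mp (hK hf)).1 hb2.1
  refine haZ ?_
  rw [show a = d.τ⁻¹ * b * d.τ⁻¹⁻¹ by rw [hb]; group, c.Z_conj (inv_mem d.τH) hbZ]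
  exact hbZ

theorem exists_eight : ∃ x : d.X, x ^ 4 = d.s ∧ x ^ 8 = 1 := by
  obtain ⟨a, ha, hab⟩ := d.exists_skew
  set b := d.τ * a * d.τ⁻¹ with hb
  have haE := (d.mem_D.mp ha).1
  have hbE : b ∈ E := c.conj_E d.τH haE
  have hbb : b * b = a * a := by
    rw [hb, show d.τ * a * d.τ⁻¹ * (d.τ * a * d.τ⁻¹) = d.τ * (a * a) * d.τ⁻¹ by group]
    exact c.Z_conj d.τH (c.sq_mem_Z haE)
  have hz : b * a * b⁻¹ * a⁻¹ = z := (c.mem_Z.mp (c.comm_mem_Z hbE haE)).resolve_left fun h =>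
    hab (mul_inv_eq_iff_eq_mul.mp (mul_inv_eq_one.mp h))
  have hba : b * a * (b * a) = z := by
    calc b * a * (b * a) = b * a * b⁻¹ * a⁻¹ * (a * (b * b) * a) := by group
      _ = z := by rw [hz, hbb, show a * (a * a) * a = (a * a) * (a * a) by group, c.Z_sq (c.sq_mem_Z haE), mul_one]
  have ht : ∀ y ∈ centralizer ({z} : Set G), y * (d.τ * d.τ) = d.τ * d.τ * y := fun y hy => c.Z_comm hy d.ττ
  have h2 : (d.τ * a) ^ 2 = b * a * (d.τ * d.τ) := by
    calc (d.τ * a) ^ 2 = b * ((d.τ * d.τ) * a) := by rw [sq, hb]; group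
      _ = b * a * (d.τ * d.τ) := by rw [← ht a (c.Ez haE)]; exact (mul_assoc _ _ _).symm
  have h4 : (d.τ * a) ^ 4 = z := by
    rw [show (4 : ℕ) = 2 * 2 from rfl, pow_mul, h2, sq]
    calc b * a * (d.τ * d.τ) * (b * a * (d.τ * d.τ))
        = b * a * ((d.τ * d.τ) * (b * a)) * (d.τ * d.τ) := by group
      _ = b * a * (b * a) * ((d.τ * d.τ) * (d.τ * d.τ)) := by
          rw [← ht (b * a) (mul_mem (c.Ez hbE) (c.Ez haE))]; group
      _ = z := by rw [hba, c.Z_sq d.ττ, mul_one]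
  refine ⟨d.img ⟨d.τ * a, mul_mem d.τ_cq (d.D_le_cq ha)⟩, ?_, ?_⟩
  · rw [← map_pow, s]
    exact congrArg d.img (Subtype.ext h4)
  · rw [← map_pow, show (⟨d.τ * a, mul_mem d.τ_cq (d.D_le_cq ha)⟩ : d.cq) ^ 8 = 1 from Subtype.ext (by
      rw [SubmonoidClass.coe_pow, show (8 : ℕ) = 4 * 2 from rfl, pow_mul, h4, sq, c.zz]; rfl), map_one]

theorem center_L {n : d.X} (hn : n ∈ d.L) (h2 : n * n = 1) (hc : ∀ y ∈ d.L, y * n = n * y) : n ∈ zpowers d.s := by
  haveI : Fact (Nat.Prime 2) := ⟨Nat.prime_two⟩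
  have hmem : (⟨n, hn⟩ : d.L) ∈ center d.L := Subgroup.mem_center_iff.mpr fun y => Subtype.ext (hc y y.2)
  haveI : (zpowers (⟨n, hn⟩ : d.L)).Normal := ⟨fun x hx g => by
    rw [Subgroup.mem_center_iff.mp (zpowers_le.mpr hmem hx) g, mul_inv_cancel_right]
    exact hx⟩
  have hp : IsPGroup 2 (zpowers (⟨n, hn⟩ : d.L)) := by
    intro x
    refine ⟨1, Subtype.ext ?_⟩
    obtain ⟨i, hi⟩ := mem_zpowers_iff.mp x.2
    rw [SubmonoidClass.coe_pow, pow_one, OneMemClass.coe_one, ← hi, ← zpow_natCast, ← zpow_mul, mul_comm, zpow_mul,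
      zpow_natCast, sq, show (⟨n, hn⟩ : d.L) * ⟨n, hn⟩ = 1 from Subtype.ext h2, one_zpow]
  have hD : n ∈ d.Db := mem_subgroupOf.mp
    ((CfsgLib.le_pCore hp).trans_eq d.pCore_L (mem_zpowers (⟨n, hn⟩ : d.L)))
  obtain ⟨e, he, rfl⟩ := d.mem_Db.mp hD
  have hz : e ∈ zpowers z := d.central_D he fun f hf => by
    refine d.img_inj_D (mul_mem hf he) (mul_mem he hf) ?_
    have := hc _ (d.Db_le_L (d.mem_Db.mpr ⟨f, hf, rfl⟩))
    rw [← map_mul, ← map_mul] at this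
    exact this
  rcases c.mem_Z.mp hz with rfl | rfl
  · rw [show (⟨1, _⟩ : d.cq) = 1 from rfl, map_one]; exact one_mem _
  · exact mem_zpowers _

/-- The structure of the quotient. -/
theorem quot_facts [IsSimpleGroup G] (hG : ¬ IsMulCommutative G)
    (hinv : ∃ n ∈ centralizer ({z} : Set G), ∀ q ∈ P, n * q * n⁻¹ = q⁻¹) :
    ∃ (N : Subgroup d.X) (_ : N.Normal), IsMulCommutative N ∧ (∀ n ∈ N, n ^ 2 = 1) ∧ Nat.card N = 8 ∧
      Nonempty (d.X ⧸ N ≃* Matrix.SpecialLinearGroup (Fin 3) (ZMod 2)) ∧ Nat.card d.X = 1344 ∧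
      (∀ K : Subgroup d.X, ¬ N.IsComplement' K) ∧
      ∀ S : Subgroup d.X, Nat.card S = 7 → ∀ x : d.X, (∀ y ∈ S, x * y * x⁻¹ ∈ S) →
        (∃ a : ℕ, x ^ (2 ^ a) = 1) → x = 1 := by
  classical
  haveI : Fact (Nat.Prime 3) := ⟨by norm_num⟩
  have h9 := d.not_nine hG hinv
  have hQ : d.Db = (pCore 2 ↥d.L).map d.L.subtype := by
    rw [d.pCore_L, subgroupOf_map_subtype, inf_eq_left.mpr d.Db_le_L]
  obtain ⟨e⟩ := d.quot_iso
  let X : Sylow 3 d.L := Sylow.ofCard (d.Pb.subgroupOf d.L) (by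
    rw [Nat.card_congr (subgroupOfEquivOfLe d.Pb_le_L).toEquiv, d.card_Pb, d.card_L,
      show 192 = 3 * 64 by norm_num, Nat.factorization_mul (by norm_num) (by norm_num), Finsupp.add_apply,
      Nat.Prime.factorization_self (by norm_num), Nat.factorization_eq_zero_of_not_dvd (by norm_num)]
    norm_num)
  have hX : d.Db ⊓ centralizer (((X : Subgroup d.L).map d.L.subtype : Subgroup d.X) : Set d.X) = zpowers d.s := by
    rw [show (X : Subgroup d.L) = d.Pb.subgroupOf d.L from rfl, subgroupOf_map_subtype, inf_eq_left.mpr d.Pb_le_L]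
    exact d.fix_Db
  obtain ⟨n, hn, hnD, hne⟩ := d.exists_mover hG
  have hmove : d.img ⟨n, d.mem_cq.mpr hn⟩ * d.s * (d.img ⟨n, d.mem_cq.mpr hn⟩)⁻¹ =
      d.img ⟨n * z * n⁻¹, d.D_le_cq hnD⟩ := by
    rw [s, ← map_mul, ← map_inv, ← map_mul]
    exact congrArg d.img (Subtype.ext rfl)
  have hnw : ∃ g : d.X, g * d.s * g⁻¹ ∈ d.Db ∧ g * d.s * g⁻¹ ≠ d.s :=
    ⟨_, hmove ▸ d.mem_Db.mpr ⟨_, hnD, rfl⟩, fun h => hne (d.img_inj_D hnD (d.Z_le_D (mem_zpowers z))
      (hmove.symm.trans h))⟩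
  rcases Cfsg.Agent.S3344.result d.s d.order_s d.L rfl d.Db hQ d.extraspecial_Db d.card_Db e X hX hnw with
    ⟨N, hN, hNc, hN2, hN8, ⟨f⟩⟩ | ⟨⟨f⟩⟩ | ⟨⟨f⟩⟩ | ⟨f⟩
  rotate_left
  · exact absurd (by rw [Nat.card_congr f.toEquiv, nat_card_alternatingGroup, Nat.card_eq_fintype_card,
      Fintype.card_fin]; norm_num [Nat.factorial]) h9
  · exact absurd (by rw [Nat.card_congr f.toEquiv, nat_card_alternatingGroup, Nat.card_eq_fintype_card,
      Fintype.card_fin]; norm_num [Nat.factorial]) h9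
  · have hM : Nonempty (d.X ≃* ↥Spor.M12) := f
    obtain ⟨g⟩ := hM
    exact absurd (by rw [Nat.card_congr g.toEquiv, CfsgGolay.card_sporM12]; norm_num) h9
  haveI := hN
  obtain ⟨g⟩ := psl_equiv_sl
  let φ : d.X ⧸ N ≃* Matrix.SpecialLinearGroup (Fin 3) (ZMod 2) := f.trans g
  have hcardQ : Nat.card (d.X ⧸ N) = 168 := by rw [Nat.card_congr φ.toEquiv, card_sl_three]
  have hcard : Nat.card d.X = 1344 := by
    have := Subgroup.card_mul_index N
    rw [hN8, Subgroup.index_eq_card, hcardQ] at this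
    exact this.symm
  haveI := hNc
  have hab : ∀ a ∈ N, ∀ b ∈ N, a * b = b * a := fun a ha b hb =>
    congrArg Subtype.val (mul_comm' (⟨a, ha⟩ : N) ⟨b, hb⟩)
  have hsq : ∀ a ∈ N, a * a = 1 := fun a ha => by rw [← sq]; exact hN2 a ha
  refine ⟨N, hN, hNc, hN2, hN8, ⟨φ⟩, hcard, fun K hK => ?_, ?_⟩
  · obtain ⟨x, hx4, hx8⟩ := d.exists_eight
    obtain ⟨⟨⟨e', he'⟩, ⟨k, hk⟩⟩, hek, -⟩ := hK.existsUnique x
    have hxek : e' * k = x := hek
    have h4 : x ^ 4 ∈ N := by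
      rw [← QuotientGroup.eq_one_iff, QuotientGroup.mk_pow]
      refine φ.injective ?_
      rw [map_pow, map_one]
      exact sl_three_pow _ (by rw [← map_pow, ← QuotientGroup.mk_pow, hx8]; exact map_one φ)
    have hkN : k ^ 4 ∈ N := by
      rw [← QuotientGroup.eq_one_iff, QuotientGroup.mk_pow] at h4 ⊢
      rw [← hxek, QuotientGroup.mk_mul, (QuotientGroup.eq_one_iff e').mpr he', one_mul] at h4
      exact h4
    have hk1 : k ^ 4 = 1 := disjoint_def.mp hK.disjoint hkN (pow_mem hk 4)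
    refine d.s_ne_one ?_
    rw [← hx4, ← hxek]
    exact four_split N hab hsq hN8 hk1 he'
  intro S hS x hx ⟨a, ha⟩
  haveI : Fact (Nat.Prime 7) := ⟨by norm_num⟩
  haveI : Nontrivial (d.X ⧸ N) := Finite.one_lt_card_iff_nontrivial.mp (by rw [hcardQ]; norm_num)
  haveI : IsSimpleGroup (d.X ⧸ N) := by
    haveI := Cfsg.Agent.S0249.result (F := ZMod 2) 3 (le_refl 3)
    exact IsSimpleGroup.isSimpleGroup_of_surjective f.symm.toMonoidHom f.symm.surjective
  have hNS : ∀ y ∈ N, y ∈ S → y = 1 := fun y hy hy' => by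
    have h := Subgroup.inf_eq_bot_of_coprime (H := N) (K := S) (by rw [hN8, hS]; norm_num)
    rw [← mem_bot, ← h]; exact ⟨hy, hy'⟩
  -- the image of S and its normalizer
  set π := QuotientGroup.mk' N with hπ
  have hS7 : Nat.card ↥(S.map π) = 7 := by
    rw [← hS]
    refine (Nat.card_congr (Equiv.ofBijective (fun y : S => (⟨π y, mem_map_of_mem π y.2⟩ : ↥(S.map π)))
      ⟨fun u v h => ?_, ?_⟩)).symm
    · have h1 : π ((u : d.X)⁻¹ * v) = 1 := by
        rw [map_mul, map_inv, inv_mul_eq_one]; exact congrArg Subtype.val h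
      exact Subtype.ext (inv_mul_eq_one.mp
        (hNS _ ((QuotientGroup.eq_one_iff _).mp h1) (mul_mem (inv_mem u.2) v.2)))
    · rintro ⟨_, y, hy, rfl⟩
      exact ⟨⟨y, hy⟩, rfl⟩
  have hfac : (Nat.card (d.X ⧸ N)).factorization 7 = 1 := by
    rw [hcardQ, show 168 = 7 * 24 by norm_num, Nat.factorization_mul (by norm_num) (by norm_num), Finsupp.add_apply,
      Nat.Prime.factorization_self (by norm_num), Nat.factorization_eq_zero_of_not_dvd (by norm_num)]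
  let T : Sylow 7 (d.X ⧸ N) := Sylow.ofCard (S.map π) (by rw [hS7, hfac, pow_one])
  have hn7 : Nat.card (normalizer (S.map π : Set (d.X ⧸ N))) = 21 := by
    have h1 := card_sylow_modEq_one 7 (d.X ⧸ N)
    have h2 := T.card_dvd_index
    have h3 := T.card_eq_index_normalizer
    have h4 := Subgroup.card_mul_index (S.map π)
    have h5 := Subgroup.card_mul_index (normalizer (S.map π : Set (d.X ⧸ N)))
    change _ ∣ (S.map π).index at h2
    change _ = (normalizer (S.map π : Set (d.X ⧸ N))).index at h3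
    rw [hS7, hcardQ] at h4
    rw [hcardQ, ← h3] at h5
    set n7 := Nat.card (Sylow 7 (d.X ⧸ N)) with hn7'
    rw [show (S.map π).index = 24 by omega] at h2
    have hn1 : n7 ≠ 1 := by
      intro h
      rw [h] at h3
      have htop : normalizer (S.map π : Set (d.X ⧸ N)) = ⊤ := index_eq_one.mp h3.symm
      haveI : (S.map π).Normal := normalizer_eq_top_iff.mp htop
      rcases Subgroup.Normal.eq_bot_or_eq_top (inferInstance : (S.map π).Normal) with e' | e' <;>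
        rw [e'] at hS7
      · rw [card_bot] at hS7; norm_num at hS7
      · rw [card_top, hcardQ] at hS7; norm_num at hS7
    have hle : n7 ≤ 24 := Nat.le_of_dvd (by norm_num) h2
    unfold Nat.ModEq at h1
    interval_cases n7 <;> omega
  have hxn : π x ∈ normalizer (S.map π : Set (d.X ⧸ N)) := by
    refine mem_norm_of ?_
    rintro _ ⟨y, hy, rfl⟩
    exact ⟨_, hx y hy, by rw [map_mul, map_mul, map_inv]⟩
  have hxN : x ∈ N := by
    rw [← QuotientGroup.eq_one_iff]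
    have h21 : (π x) ^ 21 = 1 := by
      rw [← hn7]; exact congrArg Subtype.val (pow_card_eq_one' (x := (⟨π x, hxn⟩ : normalizer (S.map π : Set (d.X ⧸ N)))))
    have h2a : (π x) ^ (2 ^ a) = 1 := by rw [← map_pow, ha, map_one]
    have := (pow_gcd_eq_one (m := 21) (n := 2 ^ a) (a := π x)).mpr ⟨h21, h2a⟩
    rwa [show Nat.gcd 21 (2 ^ a) = 1 from Nat.Coprime.pow_right a (by norm_num), pow_one] at this
  have hcom : ∀ y ∈ S, x * y = y * x := fun y hy => by
    have h1 : x * y * x⁻¹ * y⁻¹ ∈ N := by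
      rw [show x * y * x⁻¹ * y⁻¹ = x * (y * x⁻¹ * y⁻¹) by group]
      exact mul_mem hxN (hN.conj_mem _ (inv_mem hxN) y)
    exact mul_inv_eq_iff_eq_mul.mp (mul_inv_eq_one.mp (hNS _ h1 (mul_mem (hx y hy) (inv_mem hy))))
  -- the fixed points of S on N
  letI : MulAction S N := MulAction.compHom N ((MulAut.conjNormal (H := N)).comp S.subtype)
  have hfix : Nat.card ↥(N ⊓ centralizer (S : Set d.X)) = Nat.card (MulAction.fixedPoints S N) := by
    refine Nat.card_congr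
      { toFun := fun n => ⟨⟨n, n.2.1⟩, fun y => Subtype.ext ?_⟩
        invFun := fun n => ⟨(n.1 : d.X), n.1.2, mem_centralizer_iff.mpr fun y hy => ?_⟩
        left_inv := fun _ => rfl
        right_inv := fun _ => rfl }
    · show (y : d.X) * n * (y : d.X)⁻¹ = n
      rw [mem_centralizer_iff.mp n.2.2 y y.2, mul_inv_cancel_right]
    · have := congrArg Subtype.val (n.2 ⟨y, hy⟩)
      exact mul_inv_eq_iff_eq_mul.mp this
  have hmod := (IsPGroup.of_card (n := 1) (hS.trans (pow_one 7).symm)).card_modEq_card_fixedPoints (α := N)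
  rw [← hfix, hN8] at hmod
  have hlt : Nat.card ↥(N ⊓ centralizer (S : Set d.X)) ≠ 8 := by
    intro h
    have hle : N ≤ centralizer (S : Set d.X) :=
      inf_eq_left.mp (eq_of_le_of_card_ge inf_le_left (by rw [h, hN8]))
    have htop : centralizer (N : Set d.X) = ⊤ := by
      have hmap : (centralizer (N : Set d.X)).map π = ⊤ := by
        refine ((Subgroup.Normal.map inferInstance π (QuotientGroup.mk'_surjective N)).eq_bot_or_eq_top).resolve_left ?_
        intro hb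
        have hsub : S.map π ≤ (centralizer (N : Set d.X)).map π :=
          map_mono fun y hy => mem_centralizer_iff.mpr fun n hn => (mem_centralizer_iff.mp (hle hn) y hy).symm
        rw [hb] at hsub
        have := card_le_of_le hsub
        rw [hS7, card_bot] at this
        norm_num at this
      have hNC : N ≤ centralizer (N : Set d.X) := fun n hn => mem_centralizer_iff.mpr fun m hm => hab m hm n hn
      have := congrArg (Subgroup.comap π) hmap
      rwa [comap_top, comap_map_eq, QuotientGroup.ker_mk', sup_eq_left.mpr hNC] at this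
    have hN_le : N ≤ zpowers d.s := fun n hn => by
      have hcen : ∀ y : d.X, y * n = n * y := fun y =>
        (mem_centralizer_iff.mp (htop ▸ mem_top y : y ∈ centralizer (N : Set d.X)) n hn).symm
      exact d.center_L (mem_centralizer_singleton_iff.mpr (hcen d.s).symm) (hsq n hn) fun y _ => hcen y
    have := card_le_of_le hN_le
    rw [hN8, Nat.card_zpowers, d.order_s] at this
    norm_num at this
  obtain ⟨j, hj, hjc⟩ := (Nat.dvd_prime_pow Nat.prime_two).mp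
    (show Nat.card ↥(N ⊓ centralizer (S : Set d.X)) ∣ 2 ^ 3 from
      (show Nat.card N = 2 ^ 3 by rw [hN8]; rfl) ▸ card_dvd_of_le (inf_le_left : N ⊓ centralizer (S : Set d.X) ≤ N))
  have h1 : Nat.card ↥(N ⊓ centralizer (S : Set d.X)) = 1 := by
    rw [hjc] at hmod hlt ⊢
    unfold Nat.ModEq at hmod
    interval_cases j <;> first | rfl | (exfalso; norm_num at hmod; done) | exact absurd rfl hlt
  rw [← mem_bot, ← eq_bot_of_card_eq _ h1]
  exact ⟨hxN, mem_centralizer_iff.mpr fun y hy => (hcom y hy).symm⟩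

end FiveData5

end CfsgLib.JankoFour
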