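/-
The centralizer and the normalizer of a subgroup of order five of the centralizer of z.
-/
import Cfsg.Agent.Lib.JankoFour.FiveStruct

set_option autoImplicit false

namespace CfsgLib.JankoFour

open Cfsg Subgroup

universe u

/-- The local statement at a subgroup of order five. -/
def FiveLocal {G : Type u} [Group G] (Q : Subgroup G) : Prop :=
    ¬ (25 ∣ Nat.card G) ∧
    (∃ J : Subgroup G, Cfsg.IsInternalDirectProduct Q J (Subgroup.centralizer (Q : Set G)) ∧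
      ∃ (E : Subgroup ↥J) (_ : E.Normal), Cfsg.IsElementaryAbelian 2 E ∧ Nat.card ↥E = 8 ∧
        Nonempty (↥J ⧸ E ≃* Matrix.SpecialLinearGroup (Fin 3) (ZMod 2)) ∧ ∀ K : Subgroup ↥J, ¬ E.IsComplement' K) ∧
    (∃ R : Subgroup G, Q ≤ R ∧ R ≤ Subgroup.normalizer (Q : Set G) ∧ Nat.card ↥R = 20 ∧
      R ⊓ Subgroup.centralizer (Q : Set G) = Q) ∧
    Nat.card ↥(Subgroup.normalizer (Q : Set G)) = 2 ^ 8 * 3 * 5 * 7

/-- The data of the extension pass along an isomorphism. -/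
theorem ext_data_equiv {A B : Type u} [Group A] [Finite A] [Group B] [Finite B] (ι : A ≃* B) {N : Subgroup B} [N.Normal]
    (hc : IsMulCommutative N) (h2 : ∀ n ∈ N, n ^ 2 = 1) (h8 : Nat.card N = 8)
    (hq : Nonempty (B ⧸ N ≃* Matrix.SpecialLinearGroup (Fin 3) (ZMod 2)))
    (hns : ∀ K : Subgroup B, ¬ N.IsComplement' K) :
    ∃ (E : Subgroup A) (_ : E.Normal), Cfsg.IsElementaryAbelian 2 E ∧ Nat.card ↥E = 8 ∧
      Nonempty (A ⧸ E ≃* Matrix.SpecialLinearGroup (Fin 3) (ZMod 2)) ∧ ∀ K : Subgroup A, ¬ E.IsComplement' K := by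
  have hN : (N.comap ι.toMonoidHom).map ι.toMonoidHom = N := map_comap_eq_self_of_surjective ι.surjective N
  refine ⟨N.comap ι.toMonoidHom, inferInstance, ⟨⟨⟨fun a b => Subtype.ext (ι.injective ?_)⟩⟩, fun a ha => ?_⟩, ?_, ?_,
    fun K hK => hns (K.map ι.toMonoidHom) ?_⟩
  · haveI := hc
    show ι ((a : A) * b) = ι ((b : A) * a)
    rw [map_mul, map_mul]
    exact congrArg Subtype.val (mul_comm' (⟨ι a, a.2⟩ : N) ⟨ι b, b.2⟩)
  · refine ι.injective ?_
    rw [map_pow, map_one]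
    exact h2 _ ha
  · rw [← card_map_of_injective (f := ι.toMonoidHom) ι.injective, hN, h8]
  · obtain ⟨φ⟩ := hq
    exact ⟨(QuotientGroup.congr _ N ι hN).trans φ⟩
  · have h1 := hK.card_mul_card
    rw [← card_map_of_injective (f := ι.toMonoidHom) ι.injective, hN,
      ← card_map_of_injective (f := ι.toMonoidHom) ι.injective (K := K), Nat.card_congr ι.toEquiv] at h1
    refine isComplement'_of_card_mul_and_disjoint h1 (disjoint_def.mpr fun {x} hx hx' => ?_)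
    obtain ⟨y, hy, rfl⟩ := hx'
    rw [show y = 1 from disjoint_def.mp hK.disjoint hx hy, map_one]

theorem internal_map {G : Type u} [Group G] (φ : G ≃* G) {A B C : Subgroup G}
    (h : Cfsg.IsInternalDirectProduct A B C) :
    Cfsg.IsInternalDirectProduct (A.map φ.toMonoidHom) (B.map φ.toMonoidHom) (C.map φ.toMonoidHom) := by
  obtain ⟨h1, h2, h3, h4, h5⟩ := h
  refine ⟨map_mono h1, map_mono h2, ?_, ?_, ?_⟩
  · rintro _ ⟨a, ha, rfl⟩ _ ⟨b, hb, rfl⟩
    rw [← map_mul, ← map_mul, h3 a ha b hb]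
  · rw [← map_inf _ _ _ φ.injective, h4, Subgroup.map_bot]
  · rw [← Subgroup.map_sup, h5]

theorem centralizer_map {G : Type u} [Group G] (φ : G ≃* G) (A : Subgroup G) :
    centralizer ((A.map φ.toMonoidHom : Subgroup G) : Set G) = (centralizer (A : Set G)).map φ.toMonoidHom := by
  ext x
  rw [mem_map_equiv, mem_centralizer_iff, mem_centralizer_iff]
  constructor
  · intro h a ha
    refine φ.injective ?_
    rw [map_mul, map_mul, MulEquiv.apply_symm_apply]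
    exact h _ (mem_map_of_mem φ.toMonoidHom ha)
  · rintro h _ ⟨a, ha, rfl⟩
    have := congrArg φ (h a ha)
    rw [map_mul, map_mul, MulEquiv.apply_symm_apply] at this
    exact this

/-- The local statement passes along an automorphism. -/
theorem FiveLocal.map {G : Type u} [Group G] [Finite G] (φ : G ≃* G) {Q : Subgroup G} (h : FiveLocal Q) :
    FiveLocal (Q.map φ.toMonoidHom) := by
  obtain ⟨h25, ⟨J, hJ, E, hE, hel, h8, hq, hns⟩, ⟨R, h1, h2, h20, h3⟩, hcard⟩ := h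
  refine ⟨h25, ⟨J.map φ.toMonoidHom, ?_, ?_⟩, ⟨R.map φ.toMonoidHom, map_mono h1, ?_, ?_, ?_⟩, ?_⟩
  · rw [centralizer_map]
    exact internal_map φ hJ
  · haveI := hE
    exact ext_data_equiv (J.equivMapOfInjective φ.toMonoidHom φ.injective).symm hel.1 hel.2 h8 hq hns
  · rw [← map_equiv_normalizer_eq]
    exact map_mono h2
  · rw [card_map_of_injective (f := φ.toMonoidHom) φ.injective, h20]
  · rw [centralizer_map, ← map_inf _ _ _ φ.injective, h3]
  · rw [← map_equiv_normalizer_eq, card_map_of_injective (f := φ.toMonoidHom) φ.injective, hcard]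

variable {G : Type u} [Group G] [Finite G] {z : G} {P E : Subgroup G}

namespace FiveData5

variable {c : Ctx z P E} {m : FiveModel} (d : FiveData5 c m)

theorem cent_zpowers : centralizer ((zpowers d.q : Subgroup G) : Set G) = d.cq := by
  rw [zpowers_eq_closure, centralizer_closure]

theorem ν_pow_q : ∀ j : ℕ, d.ν ^ j * d.q * (d.ν ^ j)⁻¹ = d.q ^ (2 ^ j) := by
  intro j
  induction j with
  | zero => simp
  | succ j ih =>
    calc d.ν ^ (j + 1) * d.q * (d.ν ^ (j + 1))⁻¹ = d.ν * (d.ν ^ j * d.q * (d.ν ^ j)⁻¹) * d.ν⁻¹ := by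
          rw [pow_succ']; group
      _ = d.q ^ (2 ^ (j + 1)) := by rw [ih, ← conj_pow, d.νq, ← pow_mul, ← pow_succ']

theorem q_pow_inj {a b : ℕ} (h : d.q ^ a = d.q ^ b) : a % 5 = b % 5 := by
  have h5 : orderOf d.q = 5 := by rw [← Nat.card_zpowers]; exact d.card_Q
  have := pow_eq_pow_iff_modEq.mp h
  rwa [h5] at this

theorem card_cq (hX : Nat.card d.X = 1344) : Nat.card d.cq = 6720 := by
  have := Subgroup.card_mul_index d.Qc
  rw [d.card_Qc, Subgroup.index_eq_card, hX] at this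
  exact this.symm

theorem card_normalizer (hX : Nat.card d.X = 1344) :
    Nat.card ↥(normalizer (zpowers d.q : Set G)) = 2 ^ 8 * 3 * 5 * 7 := by
  have hν : ∀ j : ℕ, d.ν ^ j ∈ normalizer (zpowers d.q : Set G) := fun j => by
    refine mem_norm_of fun y hy => ?_
    obtain ⟨k, -, rfl⟩ := pow_five_range d.q5 hy
    rw [← conj_pow, d.ν_pow_q, ← pow_mul]
    exact pow_mem (mem_zpowers d.q) _
  have hc : d.cq ≤ normalizer (zpowers d.q : Set G) := by
    rw [← d.cent_zpowers]; exact centralizer_le_normalizer _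
  let Φ : Fin 4 × d.cq → normalizer (zpowers d.q : Set G) := fun x =>
    ⟨d.ν ^ (x.1 : ℕ) * x.2, mul_mem (hν _) (hc x.2.2)⟩
  have hΦ : Function.Bijective Φ := by
    constructor
    · rintro ⟨i, x⟩ ⟨j, y⟩ h
      have h' : d.ν ^ (i : ℕ) * x = d.ν ^ (j : ℕ) * y := congrArg Subtype.val h
      have hcx : ∀ u : d.cq, ∀ v : G, v * u * d.q * (v * u)⁻¹ = v * d.q * v⁻¹ := fun u v => by
        rw [mul_assoc v (u : G) d.q, d.mem_cq.mp u.2]; group
      have he : d.q ^ (2 ^ (i : ℕ)) = d.q ^ (2 ^ (j : ℕ)) := by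
        rw [← d.ν_pow_q, ← d.ν_pow_q, ← hcx x (d.ν ^ (i : ℕ)), ← hcx y (d.ν ^ (j : ℕ)), h']
      have hij := d.q_pow_inj he
      have hfin : ∀ a b : Fin 4, 2 ^ (a : ℕ) % 5 = 2 ^ (b : ℕ) % 5 → a = b := by decide
      obtain rfl : i = j := hfin i j hij
      exact Prod.ext rfl (Subtype.ext (mul_left_cancel h'))
    · rintro ⟨n, hn⟩
      have hmem := (mem_normalizer_iff.mp hn d.q).mp (mem_zpowers d.q)
      obtain ⟨k, hk, hk'⟩ := pow_five_range d.q5 hmem
      have hk0 : k ≠ 0 := fun h => by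
        rw [h, pow_zero] at hk'
        exact d.q1 (conj_eq_one_iff.mp hk')
      obtain ⟨i, hi⟩ : ∃ i : Fin 4, 2 ^ (i : ℕ) % 5 = k := by
        interval_cases k
        exacts [absurd rfl hk0, ⟨0, rfl⟩, ⟨1, rfl⟩, ⟨3, rfl⟩, ⟨2, rfl⟩]
      have hνi : d.ν ^ (i : ℕ) * d.q * (d.ν ^ (i : ℕ))⁻¹ = d.q ^ k := by
        rw [d.ν_pow_q, ← Nat.div_add_mod (2 ^ (i : ℕ)) 5, pow_add, pow_mul, d.q5, one_pow, one_mul, hi]
      have hm : (d.ν ^ (i : ℕ))⁻¹ * n ∈ d.cq := d.mem_cq.mpr (mul_inv_eq_iff_eq_mul.mp (by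
        calc (d.ν ^ (i : ℕ))⁻¹ * n * d.q * ((d.ν ^ (i : ℕ))⁻¹ * n)⁻¹
            = (d.ν ^ (i : ℕ))⁻¹ * (n * d.q * n⁻¹) * d.ν ^ (i : ℕ) := by group
          _ = d.q := by rw [hk', ← hνi]; group))
      exact ⟨(i, ⟨_, hm⟩), Subtype.ext (mul_inv_cancel_left _ _)⟩
  rw [← Nat.card_congr (Equiv.ofBijective Φ hΦ), Nat.card_prod, Nat.card_eq_fintype_card, Fintype.card_fin,
    d.card_cq hX]
  norm_num

theorem not_twentyfive (hX : Nat.card d.X = 1344) : ¬ 25 ∣ Nat.card G := by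
  intro h
  haveI : Fact (Nat.Prime 5) := ⟨by norm_num⟩
  obtain ⟨K, hK, hle⟩ := Sylow.exists_subgroup_card_pow_succ (p := 5) (n := 1) h (H := zpowers d.q) (by
    rw [d.card_Q]; norm_num)
  haveI := IsPGroup.isMulCommutative_of_card_eq_prime_sq (G := K) hK
  have hKc : K ≤ d.cq := fun y hy =>
    d.mem_cq.mpr (congrArg Subtype.val (mul_comm' (⟨y, hy⟩ : K) ⟨d.q, hle (mem_zpowers d.q)⟩))
  have := card_dvd_of_le hKc
  rw [hK, d.card_cq hX] at this
  norm_num at this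

theorem exists_J {N : Subgroup d.X} [N.Normal] (hX : Nat.card d.X = 1344) (hc : IsMulCommutative N)
    (h2 : ∀ n ∈ N, n ^ 2 = 1) (h8 : Nat.card N = 8)
    (hq : Nonempty (d.X ⧸ N ≃* Matrix.SpecialLinearGroup (Fin 3) (ZMod 2)))
    (hns : ∀ K : Subgroup d.X, ¬ N.IsComplement' K) :
    ∃ J : Subgroup G, Cfsg.IsInternalDirectProduct (zpowers d.q) J (centralizer (zpowers d.q : Set G)) ∧
      ∃ (E : Subgroup ↥J) (_ : E.Normal), Cfsg.IsElementaryAbelian 2 E ∧ Nat.card ↥E = 8 ∧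
        Nonempty (↥J ⧸ E ≃* Matrix.SpecialLinearGroup (Fin 3) (ZMod 2)) ∧ ∀ K : Subgroup ↥J, ¬ E.IsComplement' K := by
  obtain ⟨J, hJ⟩ := Subgroup.exists_right_complement'_of_coprime (N := d.Qc) (by
    rw [d.card_Qc, Subgroup.index_eq_card, hX]; norm_num)
  have hbij : Function.Bijective (d.img.comp J.subtype) := by
    refine ⟨(injective_iff_map_eq_one _).mpr fun x hx => Subtype.ext ?_, fun y => ?_⟩
    · exact disjoint_def.mp hJ.disjoint ((QuotientGroup.eq_one_iff _).mp hx) x.2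
    · obtain ⟨x, rfl⟩ := QuotientGroup.mk'_surjective d.Qc y
      obtain ⟨⟨⟨a, ha⟩, b⟩, hab, -⟩ := hJ.existsUnique x
      refine ⟨b, ?_⟩
      rw [show x = a * b from hab.symm]
      show d.img b = d.img (a * b)
      rw [map_mul, show d.img a = 1 from (QuotientGroup.eq_one_iff a).mpr ha, one_mul]
  let ι : ↥(J.map d.cq.subtype) ≃* d.X :=
    (J.equivMapOfInjective d.cq.subtype d.cq.subtype_injective).symm.trans (MulEquiv.ofBijective _ hbij)
  refine ⟨J.map d.cq.subtype, ?_, ext_data_equiv ι hc h2 h8 hq hns⟩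
  rw [d.cent_zpowers]
  refine ⟨d.Q_le_cq, map_subtype_le _, ?_, ?_, le_antisymm (sup_le d.Q_le_cq (map_subtype_le _)) fun x hx => ?_⟩
  · rintro a ha _ ⟨b, -, rfl⟩
    obtain ⟨k, rfl⟩ := mem_zpowers_iff.mp ha
    exact ((Commute.zpow_right (d.mem_cq.mp b.2 : Commute (b : G) d.q) k).symm).eq
  · rw [eq_bot_iff]
    rintro x ⟨hx, b, hb, rfl⟩
    rw [mem_bot, show b = 1 from disjoint_def.mp hJ.disjoint (mem_subgroupOf.mpr hx) hb]
    rfl
  · obtain ⟨⟨⟨a, ha⟩, ⟨b, hb⟩⟩, hab, -⟩ := hJ.existsUnique ⟨x, hx⟩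
    rw [show x = (a : G) * b from (congrArg Subtype.val hab).symm]
    exact mul_mem (mem_sup_left (mem_subgroupOf.mp ha)) (mem_sup_right (mem_map_of_mem _ hb))

theorem exists_R (hX : Nat.card d.X = 1344)
    (hodd : ∀ S : Subgroup d.X, Nat.card S = 7 → ∀ x : d.X, (∀ y ∈ S, x * y * x⁻¹ ∈ S) →
      (∃ a : ℕ, x ^ (2 ^ a) = 1) → x = 1) :
    ∃ R : Subgroup G, zpowers d.q ≤ R ∧ R ≤ normalizer (zpowers d.q : Set G) ∧ Nat.card ↥R = 20 ∧
      R ⊓ centralizer (zpowers d.q : Set G) = zpowers d.q := by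
  classical
  haveI : Fact (Nat.Prime 7) := ⟨by norm_num⟩
  obtain ⟨S⟩ : Nonempty (Sylow 7 d.cq) := inferInstance
  have hfac : (Nat.card d.cq).factorization 7 = 1 := by
    rw [d.card_cq hX, show 6720 = 7 * 960 by norm_num, Nat.factorization_mul (by norm_num) (by norm_num),
      Finsupp.add_apply, Nat.Prime.factorization_self (by norm_num),
      Nat.factorization_eq_zero_of_not_dvd (by norm_num)]
  have hS : Nat.card (S : Subgroup d.cq) = 7 := by rw [S.card_eq_multiplicity, hfac, pow_one]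
  have hνn : ∀ x ∈ d.cq, d.ν * x * d.ν⁻¹ ∈ d.cq := fun x hx => d.mem_cq.mpr (mul_inv_eq_iff_eq_mul.mp (by
    have e : d.ν⁻¹ * d.q * d.ν = d.q ^ 3 := by
      have h6 : d.q ^ 6 = d.q := by rw [show 6 = 5 + 1 from rfl, pow_succ, d.q5, one_mul]
      calc d.ν⁻¹ * d.q * d.ν = d.ν⁻¹ * (d.q ^ 6) * d.ν := by rw [h6]
        _ = d.ν⁻¹ * ((d.ν * d.q * d.ν⁻¹) ^ 3) * d.ν := by rw [d.νq, ← pow_mul]
        _ = d.q ^ 3 := by rw [conj_pow]; group
    have hx3 : x * d.q ^ 3 * x⁻¹ = d.q ^ 3 := by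
      rw [(Commute.pow_right (d.mem_cq.mp hx : Commute x d.q) 3).eq, mul_inv_cancel_right]
    calc d.ν * x * d.ν⁻¹ * d.q * (d.ν * x * d.ν⁻¹)⁻¹ = d.ν * (x * (d.ν⁻¹ * d.q * d.ν) * x⁻¹) * d.ν⁻¹ := by group
      _ = d.q := by rw [e, hx3, ← e]; group))
  let f : d.cq →* d.cq :=
    { toFun := fun x => ⟨d.ν * x * d.ν⁻¹, hνn x x.2⟩
      map_one' := Subtype.ext (by simp)
      map_mul' := fun a b => Subtype.ext (by
        show d.ν * ((a : G) * b) * d.ν⁻¹ = (d.ν * a * d.ν⁻¹) * (d.ν * b * d.ν⁻¹)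
        group) }
  have hf : Function.Injective f := fun a b h => Subtype.ext (by
    have h' : d.ν * (a : G) * d.ν⁻¹ = d.ν * (b : G) * d.ν⁻¹ := congrArg Subtype.val h
    exact mul_left_cancel (mul_right_cancel h'))
  let S' : Sylow 7 d.cq := Sylow.ofCard ((S : Subgroup d.cq).map f)
    (by rw [card_map_of_injective hf, hS, hfac, pow_one])
  obtain ⟨y, hy⟩ := MulAction.exists_smul_eq d.cq S' S
  have hy' : ∀ x : d.cq, x ∈ (S : Subgroup d.cq) → y * f x * y⁻¹ ∈ (S : Subgroup d.cq) := fun x hx => by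
    have : y * f x * y⁻¹ ∈ ((y • S' : Sylow 7 d.cq) : Subgroup d.cq) := by
      rw [Sylow.coe_subgroup_smul]
      exact ⟨f x, ⟨x, hx, rfl⟩, rfl⟩
    rwa [hy] at this
  set w : G := (y : G) * d.ν with hw
  have hwq : w * d.q * w⁻¹ = d.q ^ 2 := by
    calc w * d.q * w⁻¹ = (y : G) * (d.ν * d.q * d.ν⁻¹) * (y : G)⁻¹ := by rw [hw]; group
      _ = d.q ^ 2 := by rw [d.νq, (Commute.pow_right (d.mem_cq.mp y.2 : Commute (y : G) d.q) 2).eq, mul_inv_cancel_right]
  set S0 : Subgroup G := (S : Subgroup d.cq).map d.cq.subtype with hS0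
  have hwS : ∀ x ∈ S0, w * x * w⁻¹ ∈ S0 := by
    rintro _ ⟨x, hx, rfl⟩
    refine ⟨_, hy' x hx, ?_⟩
    show (y : G) * (d.ν * x * d.ν⁻¹) * (y : G)⁻¹ = w * x * w⁻¹
    rw [hw]; group
  have hwN : w ∈ normalizer (S0 : Set G) := mem_norm_of hwS
  have hone : ∀ x ∈ d.cq, x ∈ normalizer (S0 : Set G) → (∃ a : ℕ, x ^ (2 ^ a) = 1) → x = 1 := by
    rintro x hx hxN ⟨a, ha⟩
    have h7 : Nat.card ↥((S : Subgroup d.cq).map d.img) = 7 := by
      have := d.card_image (U := S0) (map_subtype_le _) (by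
        rw [hS0, card_map_of_injective d.cq.subtype_injective, hS]; norm_num)
      rwa [hS0, subgroupOf, comap_map_eq_self_of_injective d.cq.subtype_injective,
        card_map_of_injective d.cq.subtype_injective, hS] at this
    have h1 : d.img ⟨x, hx⟩ = 1 := hodd _ h7 _ (by
      rintro _ ⟨u, hu, rfl⟩
      obtain ⟨v, hv, hve⟩ := (mem_normalizer_iff.mp hxN u).mp (mem_map_of_mem _ hu)
      refine ⟨v, hv, ?_⟩
      rw [← map_inv, ← map_mul, ← map_mul]
      exact congrArg d.img (Subtype.ext hve)) ⟨a, by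
      rw [← map_pow, show (⟨x, hx⟩ : d.cq) ^ (2 ^ a) = 1 from Subtype.ext ha, map_one]⟩
    exact d.small (d.img_eq_one.mp h1) ha (Nat.Coprime.pow_left a (by norm_num))
  obtain ⟨a, b, hb, hab⟩ := Nat.exists_eq_two_pow_mul_odd (n := orderOf w) (orderOf_pos w).ne'
  set v := w ^ b with hv
  have hwj : ∀ j : ℕ, w ^ j * d.q * (w ^ j)⁻¹ = d.q ^ (2 ^ j) := by
    intro j
    induction j with
    | zero => simp
    | succ j ih =>
      calc w ^ (j + 1) * d.q * (w ^ (j + 1))⁻¹ = w * (w ^ j * d.q * (w ^ j)⁻¹) * w⁻¹ := by rw [pow_succ']; group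
        _ = d.q ^ (2 ^ (j + 1)) := by rw [ih, ← conj_pow, hwq, ← pow_mul, ← pow_succ']
  have h2b : 2 ^ (b * 2) % 5 = 4 ∧ 2 ^ (b * 4) % 5 = 1 := by
    obtain ⟨t, rfl⟩ := hb
    constructor
    · rw [show (2 * t + 1) * 2 = 4 * t + 2 by ring, pow_add, pow_mul, Nat.mul_mod, Nat.pow_mod]; norm_num
    · rw [show (2 * t + 1) * 4 = 4 * (2 * t + 1) by ring, pow_mul, Nat.pow_mod]; norm_num
  have v4 : v ^ 4 = 1 := by
    refine hone _ (d.mem_cq.mpr (mul_inv_eq_iff_eq_mul.mp ?_)) (pow_mem (pow_mem hwN b) 4) ⟨a, ?_⟩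
    · rw [hv, ← pow_mul, hwj, ← Nat.div_add_mod (2 ^ (b * 4)) 5, pow_add, pow_mul, d.q5, one_pow, one_mul, h2b.2,
        pow_one]
    · rw [← pow_mul, hv, ← pow_mul, show b * (4 * 2 ^ a) = (2 ^ a * b) * 4 by ring, ← hab, pow_mul,
        pow_orderOf_eq_one, one_pow]
  have v2 : v ^ 2 ∉ d.cq := fun h => by
    have h1 := hwj (b * 2)
    rw [pow_mul w b 2, ← hv, d.mem_cq.mp h, mul_inv_cancel_right] at h1
    have h3 := d.q_pow_inj (a := 1) (b := 2 ^ (b * 2)) (by rw [pow_one]; exact h1)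
    omega
  have hv4 : orderOf v = 4 := by
    haveI : Fact (Nat.Prime 2) := ⟨Nat.prime_two⟩
    exact orderOf_eq_prime_pow (p := 2) (n := 1) (fun h => v2 (by rw [show v ^ 2 = 1 from h]; exact one_mem _)) v4
  have hvN : v ∈ normalizer (zpowers d.q : Set G) := by
    refine mem_norm_of fun x hx => ?_
    obtain ⟨k, -, rfl⟩ := pow_five_range d.q5 hx
    rw [← conj_pow, hv, hwj, ← pow_mul]
    exact pow_mem (mem_zpowers d.q) _
  set R := zpowers d.q ⊔ zpowers v with hR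
  have hle : zpowers v ≤ normalizer (zpowers d.q : Set G) := zpowers_le.mpr hvN
  have hRmem : ∀ x ∈ R, ∃ q' ∈ zpowers d.q, ∃ i : ℕ, i < 4 ∧ x = q' * v ^ i := by
    intro x hx
    rw [hR, ← SetLike.mem_coe, Subgroup.coe_mul_of_right_le_normalizer_left _ _ hle] at hx
    obtain ⟨q', hq', t, ht, rfl⟩ := hx
    obtain ⟨i, hi⟩ : ∃ i : ℕ, v ^ i = t := (isOfFinOrder_of_finite v).mem_powers_iff_mem_zpowers.mpr ht
    refine ⟨q', hq', i % 4, Nat.mod_lt _ (by norm_num), ?_⟩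
    rw [← hv4, pow_mod_orderOf, hi]
  have hmeet : ∀ x ∈ R, x ∈ d.cq → x ∈ zpowers d.q := by
    intro x hx hxc
    obtain ⟨q', hq', i, hi, rfl⟩ := hRmem x hx
    have hvi : v ^ i ∈ d.cq := by
      have := mul_mem (inv_mem (d.Q_le_cq hq')) hxc
      rwa [inv_mul_cancel_left] at this
    interval_cases i
    · rw [pow_zero, mul_one]; exact hq'
    · exact absurd (pow_mem hvi 2) (by rw [pow_one]; exact v2)
    · exact absurd hvi v2
    · refine absurd (pow_mem hvi 2) ?_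
      rw [← pow_mul, show 3 * 2 = 4 + 2 from rfl, pow_add, v4, one_mul]; exact v2
  refine ⟨R, le_sup_left, sup_le le_normalizer hle, ?_, le_antisymm ?_ (le_inf le_sup_left ?_)⟩
  · have hcp : (zpowers d.q).subgroupOf R ⊓ (zpowers v).subgroupOf R = ⊥ := Subgroup.inf_eq_bot_of_coprime (by
      rw [Nat.card_congr (subgroupOfEquivOfLe (le_sup_left : zpowers d.q ≤ R)).toEquiv, d.card_Q,
        Nat.card_congr (subgroupOfEquivOfLe (le_sup_right : zpowers v ≤ R)).toEquiv, Nat.card_zpowers, hv4]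
      norm_num)
    have hcompl : ((zpowers d.q).subgroupOf R).IsComplement' ((zpowers v).subgroupOf R) := by
      refine Subgroup.isComplement'_of_disjoint_and_mul_eq_univ (disjoint_iff.mpr hcp) ?_
      ext ⟨x, hx⟩
      simp only [Set.mem_univ, iff_true]
      obtain ⟨q', hq', i, -, rfl⟩ := hRmem x hx
      exact ⟨⟨q', le_sup_left (α := Subgroup G) hq'⟩, hq', ⟨v ^ i, le_sup_right (α := Subgroup G)
        (pow_mem (mem_zpowers v) i)⟩, pow_mem (mem_zpowers v) i, Subtype.ext rfl⟩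
    have := hcompl.card_mul_card
    rw [Nat.card_congr (subgroupOfEquivOfLe (le_sup_left : zpowers d.q ≤ R)).toEquiv, d.card_Q,
      Nat.card_congr (subgroupOfEquivOfLe (le_sup_right : zpowers v ≤ R)).toEquiv, Nat.card_zpowers, hv4] at this
    exact this.symm
  · rintro x ⟨hx, hxc⟩
    exact hmeet x hx (d.cent_zpowers ▸ hxc)
  · rw [d.cent_zpowers]; exact d.Q_le_cq

theorem five_local [IsSimpleGroup G] (hG : ¬ IsMulCommutative G)
    (hinv : ∃ n ∈ centralizer ({z} : Set G), ∀ q ∈ P, n * q * n⁻¹ = q⁻¹) : FiveLocal (zpowers d.q) := by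
  obtain ⟨N, hN, hc, h2, h8, hq, hX, hns, hodd⟩ := d.quot_facts hG hinv
  exact ⟨d.not_twentyfive hX, d.exists_J hX hc h2 h8 hq hns, d.exists_R hX hodd, d.card_normalizer hX⟩

end FiveData5

end CfsgLib.JankoFour
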