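/-
Data on the outer involutions normalizing a Sylow 2-subgroup of M22 and on the centralizer of an involution
(checked in Lib/JankoFour/SevenModel.lean).
-/
import Mathlib.Data.Nat.Notation

set_option autoImplicit false
set_option maxRecDepth 20000

namespace CfsgLib.JankoFour.SevenData

/-- An outer involution normalizing the Sylow 2-subgroup. -/
def outC : ℕ := 21184326359540341300256793493145655

/-- An element of order three it centralizes. -/
def outThree : ℕ := 984169955182683897711343007303962688

/-- An element of order seven it centralizes. -/
def outSeven : ℕ := 982125222335531267059462744625034624

/-- An index of an element it moves. -/
def outMoved : ℕ := 2

/-- For each outer involution in the extended Sylow 2-subgroup, a centralized element of order five or seven. -/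
def fixCert : List (ℕ × ℕ × ℕ) := [
  (0, 7, 982125222335531267059462744625034624),
  (1, 7, 970090197052547287469149359883075840),
  (26, 7, 968650451552598849466036088038015680),
  (27, 7, 975269744252299641048621540376718400),
  (46, 7, 974227804634316860365448907198219680),
  (47, 7, 984226076029405230427101350862597536),
  (48, 7, 984234906861305503205415427124123104),
  (49, 7, 984473075434959085760335157672985152),
  (66, 5, 984321364949935185297366173632108032),
  (67, 5, 965227996918778073384225887809282496),
  (70, 5, 960680851273288428815616283184902496),
  (71, 5, 984754782466618368425962128127965504),
  (74, 5, 965104355031228670179119971199165632),
  (75, 7, 971295686848115355878793789564075712),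
  (78, 5, 981793173012874315754092091203442144),
  (79, 7, 962493523697150734606245974987820256),
  (90, 7, 984124635012779274201869229584881280),
  (91, 7, 977582335933744787561017423736261920),
  (94, 7, 968892184499794467059754263810449472),
  (95, 7, 978104533788855160896889989446798944),
  (104, 5, 966661724099934947021692762096908352),
  (105, 5, 984695148728482522607436634748791200),
  (106, 7, 977656059421215681346625210404780544),
  (107, 7, 974450155185112445579367819814194656),
  (108, 5, 975304447088448438338200101144081664),
  (109, 5, 984488685079511602382506655690920128),
  (110, 5, 980114622749760715421340055142311424),
  (111, 5, 970398462424779259250023712856022272),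
  (112, 5, 984554320399804676744183959252249696),
  (113, 5, 984400000419603673100583803958740544),
  (116, 5, 968948011678305894525987327422381408),
  (117, 5, 958512949621240971523401876160684544),
  (122, 5, 965131054922411581863221591562920288),
  (123, 7, 957379355119645398530523504974605728),
  (126, 7, 960098770052637911662352305676925344),
  (127, 5, 980344766882793151749015280118436960)]

/-- An element of order three centralizing the involution. -/
def cenThree : ℕ := 973987197835103580223255273631566976

/-- An involution centralizing the central one. -/
def cenLeft : ℕ := 977718725454645408129497518449151008

/-- Its product with the element of order three. -/
def cenRight : ℕ := 974027764936769359385230999411689952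

/-- The seven basis elements as products of involutions of the Sylow 2-subgroup. -/
def sylWords : List (List ℕ) := [[1], [34, 32], [4], [56, 48], [16], [32], [69, 4]]

end CfsgLib.JankoFour.SevenData
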