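/-
Elements of order five, seven and eleven in M22, its outer involutions and the centralizer of an involution.
-/
import Cfsg.Agent.Lib.JankoFour.SevenData
import Cfsg.Agent.Lib.JankoFour.FiveModel
import Cfsg.Agent.Lib.JankoFour.M22Three
import Cfsg.Agent.Lib.JankoFour.FiveOuter
import Cfsg.Agent.Lib.JankoFour.WeakClos

set_option autoImplicit false
set_option maxRecDepth 20000

namespace CfsgLib.JankoFour

open Cfsg CfsgGolay M22Data SevenData FiveChk
open Out23 (eqCode eqCode_iff)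
open Subgroup (zpowers)

attribute [local irreducible] codeL octadL dodecadL

local notation "M" => MTwoTwo

theorem cardM : Nat.card M = 443520 := CfsgGolay.card_sporM22

theorem prime_cyclic {p : ℕ} (hp : p.Prime) {g : M} (hg : g ^ p = 1) (hg1 : g ≠ 1) :
    Nat.card (zpowers g) = p := by
  haveI := Fact.mk hp
  rw [Nat.card_zpowers, orderOf_eq_prime hg hg1]

/-- Elements of order five commute only with their powers. -/
theorem five_self {g x : M} (hg : g ^ 5 = 1) (hg1 : g ≠ 1) (hx : x * g = g * x) : x ∈ zpowers g := by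
  obtain ⟨m⟩ := FiveChk.exists_model
  haveI : Fact (Nat.Prime 5) := ⟨by norm_num⟩
  have hq5 : m.q ^ 5 = 1 := by rw [← m.q5]; exact pow_orderOf_eq_one _
  have hq1 : m.q ≠ 1 := fun e => by
    have := m.q5
    rw [e, orderOf_one] at this
    norm_num at this
  have hfac : (Nat.card M).factorization 5 = 1 := by
    rw [cardM, show 443520 = 5 * 88704 by norm_num, Nat.factorization_mul (by norm_num) (by norm_num),
      Finsupp.add_apply, Nat.Prime.factorization_self (by norm_num),
      Nat.factorization_eq_zero_of_not_dvd (by norm_num)]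
  let S1 : Sylow 5 M := Sylow.ofCard (zpowers g) (by rw [prime_cyclic (by norm_num) hg hg1, hfac, pow_one])
  let S2 : Sylow 5 M := Sylow.ofCard (zpowers m.q) (by rw [prime_cyclic (by norm_num) hq5 hq1, hfac, pow_one])
  obtain ⟨h, hh⟩ := MulAction.exists_smul_eq M S1 S2
  have hm : (zpowers g).map (MulAut.conj h).toMonoidHom = zpowers m.q := by
    have := congrArg (fun S : Sylow 5 M => (S : Subgroup M)) hh
    rw [Sylow.coe_subgroup_smul, Subgroup.pointwise_smul_def] at this
    exact this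
  have hgq : h * g * h⁻¹ ∈ zpowers m.q := hm ▸ Subgroup.mem_map_of_mem _ (Subgroup.mem_zpowers g)
  have hqg : m.q ∈ zpowers (h * g * h⁻¹) := by
    have : Subgroup.zpowers (h * g * h⁻¹) = zpowers m.q := Subgroup.eq_of_le_of_card_ge
      (Subgroup.zpowers_le.mpr hgq)
      (by rw [prime_cyclic (by norm_num) hq5 hq1, prime_cyclic (p := 5) (by norm_num)
        (by rw [conj_pow, hg, mul_one, mul_inv_cancel]) (fun e => hg1 (conj_eq_one_iff.mp e))])
    exact this ▸ Subgroup.mem_zpowers m.q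
  obtain ⟨i, hi⟩ := Subgroup.mem_zpowers_iff.mp hqg
  have hc : Commute (h * x * h⁻¹) (h * g * h⁻¹) := by
    show h * x * h⁻¹ * (h * g * h⁻¹) = h * g * h⁻¹ * (h * x * h⁻¹)
    rw [show h * x * h⁻¹ * (h * g * h⁻¹) = h * (x * g) * h⁻¹ by group, hx]; group
  obtain ⟨k, hk⟩ := m.selfC _ (hi ▸ (hc.zpow_right i).eq)
  have : h * x * h⁻¹ ∈ (zpowers g).map (MulAut.conj h).toMonoidHom :=
    hm.symm ▸ hk.symm ▸ Subgroup.pow_mem _ (Subgroup.mem_zpowers m.q) k
  obtain ⟨y, hy, e⟩ := this
  rw [MulEquiv.coe_toMonoidHom, MulAut.conj_apply, mul_left_inj, mul_right_inj] at e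
  exact e ▸ hy

/-- No involution commutes with an element of order seven or eleven. -/
theorem invol_large {i g : M} (hi : i * i = 1) (hi1 : i ≠ 1) {q : ℕ} (hq : q.Prime) (hq7 : 7 ≤ q)
    (hg : g ^ q = 1) (hc : g * i = i * g) : g = 1 := by
  classical
  by_contra hg1
  haveI := Fact.mk hq
  set F := fixF (i : Equiv.Perm GolayPt)
  have hgq : (g : Equiv.Perm GolayPt) ^ q = 1 := by rw [← Subgroup.coe_pow, hg]; rfl
  have hm := fix_count (g : Equiv.Perm GolayPt) F (fun x hx => fixF_comm hc.symm hx) hq hgq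
  rw [invol_fix hi hi1] at hm
  set T := F.filter fun x => (g : Equiv.Perm GolayPt) x = x
  have hne : (none : GolayPt) ≠ pt 0 := by decide
  have hsub : ({none, pt 0} : Finset GolayPt) ⊆ T := by
    intro x hx
    simp only [Finset.mem_insert, Finset.mem_singleton] at hx
    rcases hx with rfl | rfl
    · exact Finset.mem_filter.mpr ⟨(fixed_pts i).1, mem_fixF.mp (fixed_pts g).1⟩
    · exact Finset.mem_filter.mpr ⟨(fixed_pts i).2, mem_fixF.mp (fixed_pts g).2⟩
  have h2 : 2 ≤ T.card := by rw [← Finset.card_pair hne]; exact Finset.card_le_card hsub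
  have h8 : T.card ≤ 8 := invol_fix hi hi1 ▸ Finset.card_filter_le F _
  have hT : 5 ≤ T.card := by
    unfold Nat.ModEq at hm
    by_contra hlt
    rw [Nat.mod_eq_of_lt (show T.card < q by omega)] at hm
    rcases Nat.lt_or_ge 8 q with h | h
    · rw [Nat.mod_eq_of_lt h] at hm; omega
    · interval_cases q <;> first | omega | (norm_num at hq)
  obtain ⟨B, hBT, hB⟩ := Finset.exists_subset_card_eq hT
  have hgB : (g : Equiv.Perm GolayPt) ∈ M24 ⊓ fixingSubgroup (Equiv.Perm GolayPt) (B : Set GolayPt) := by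
    refine ⟨(subG_le [0, 23] []) (M22_eq.le g.2), (mem_fixingSubgroup_iff _).mpr fun p hp => ?_⟩
    exact (Finset.mem_filter.mp (hBT hp)).2
  have h48 := card_fix_finset (B := B) hB.le
  rw [hB] at h48
  have hdvd : orderOf (g : Equiv.Perm GolayPt) ∣ 48 := by
    have h := orderOf_dvd_natCard (⟨_, hgB⟩ :
      ↥(M24 ⊓ fixingSubgroup (Equiv.Perm GolayPt) (B : Set GolayPt)))
    rw [← Subgroup.orderOf_coe, h48] at h
    simpa using h
  rw [Subgroup.orderOf_coe, orderOf_eq_prime hg hg1] at hdvd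
  rcases (Nat.Prime.dvd_mul hq).mp (show q ∣ 2 ^ 4 * 3 from hdvd) with h | h
  · have := (Nat.prime_dvd_prime_iff_eq hq Nat.prime_two).mp (hq.dvd_of_dvd_pow h); omega
  · have := (Nat.prime_dvd_prime_iff_eq hq Nat.prime_three).mp h; omega

/-- The normalizer of a group of prime order p, with the index of its centralizer dividing p - 1. -/
theorem norm_prime {p : ℕ} (hp : p.Prime) {g : M} (hg : g ^ p = 1) (hg1 : g ≠ 1)
    (hfac : (Nat.card M).factorization p = 1) :
    ∃ k n : ℕ, k ∣ p - 1 ∧ n % p = 1 ∧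
      Nat.card (Subgroup.normalizer (zpowers g : Set M)) = Nat.card (Subgroup.centralizer (zpowers g : Set M)) * k ∧
      n * (Nat.card (Subgroup.centralizer (zpowers g : Set M)) * k) = 443520 := by
  haveI := Fact.mk hp
  let S : Sylow p M := Sylow.ofCard (zpowers g) (by rw [prime_cyclic hp hg hg1, hfac, pow_one])
  haveI : IsCyclic (zpowers g) := inferInstance
  set φ := (zpowers g).normalizerMonoidHom
  have hN := Subgroup.card_mul_index φ.ker
  rw [Subgroup.index_ker, Subgroup.normalizerMonoidHom_ker, Nat.card_congr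
    (Subgroup.subgroupOfEquivOfLe (Subgroup.centralizer_le_normalizer (zpowers g : Set M))).toEquiv] at hN
  have hk : Nat.card φ.range ∣ p - 1 := by
    refine (Subgroup.card_subgroup_dvd_card φ.range).trans ?_
    rw [IsCyclic.card_mulAut, prime_cyclic hp hg hg1, Nat.totient_prime hp]
  refine ⟨Nat.card φ.range, Nat.card (Sylow p M), hk, ?_, hN.symm, ?_⟩
  · have := card_sylow_modEq_one p M
    rwa [Nat.ModEq, Nat.one_mod_eq_one.mpr hp.ne_one] at this
  · rw [hN, S.card_eq_index_normalizer, mul_comm, ← cardM]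
    exact Subgroup.card_mul_index _

theorem prime_of_centralizer {g : M} {q : ℕ} [Fact q.Prime]
    (h : q ∣ Nat.card (Subgroup.centralizer (zpowers g : Set M))) : ∃ x : M, x ^ q = 1 ∧ x ≠ 1 ∧ x * g = g * x := by
  obtain ⟨x, hx⟩ := exists_prime_orderOf_dvd_card' q h
  rw [← Subgroup.orderOf_coe] at hx
  refine ⟨x, hx ▸ pow_orderOf_eq_one _, fun e => ?_, (Subgroup.mem_centralizer_iff.mp x.2 g (Subgroup.mem_zpowers g)).symm⟩
  rw [e, orderOf_one] at hx
  exact (Fact.out : q.Prime).ne_one hx.symm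

/-- Arithmetic restrictions at an element of order seven or eleven. -/
theorem large_pre {p : ℕ} (hp : p = 7 ∨ p = 11) {g : M} (hg : g ^ p = 1) (hg1 : g ≠ 1) :
    ∃ k n : ℕ, k ∣ p - 1 ∧ n % p = 1 ∧ p ∣ Nat.card (Subgroup.centralizer (zpowers g : Set M)) ∧
      Nat.card (Subgroup.centralizer (zpowers g : Set M)) ∣ 77 ∧
      Nat.card (Subgroup.normalizer (zpowers g : Set M)) = Nat.card (Subgroup.centralizer (zpowers g : Set M)) * k ∧
      n * (Nat.card (Subgroup.centralizer (zpowers g : Set M)) * k) = 443520 := by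
  have hpp : p.Prime := by rcases hp with rfl | rfl <;> norm_num
  have h7 : 7 ≤ p := by rcases hp with rfl | rfl <;> norm_num
  have hfac : (Nat.card M).factorization p = 1 := by
    rcases hp with rfl | rfl
    · rw [cardM, show 443520 = 7 * 63360 by norm_num, Nat.factorization_mul (by norm_num) (by norm_num),
        Finsupp.add_apply, Nat.Prime.factorization_self (by norm_num),
        Nat.factorization_eq_zero_of_not_dvd (by norm_num)]
    · rw [cardM, show 443520 = 11 * 40320 by norm_num, Nat.factorization_mul (by norm_num) (by norm_num),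
        Finsupp.add_apply, Nat.Prime.factorization_self (by norm_num),
        Nat.factorization_eq_zero_of_not_dvd (by norm_num)]
  obtain ⟨k, n, hk, hn, hN, hnum⟩ := norm_prime hpp hg hg1 hfac
  set C := Nat.card (Subgroup.centralizer (zpowers g : Set M)) with hC
  haveI : Fact (Nat.Prime 2) := ⟨Nat.prime_two⟩
  haveI : Fact (Nat.Prime 3) := ⟨by norm_num⟩
  haveI : Fact (Nat.Prime 5) := ⟨by norm_num⟩
  have n2 : ¬ 2 ∣ C := fun h => by
    obtain ⟨x, hx, hx1, hxc⟩ := prime_of_centralizer h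
    exact hg1 (invol_large (sq x ▸ hx) hx1 hpp h7 hg hxc.symm)
  have n3 : ¬ 3 ∣ C := fun h => by
    obtain ⟨x, hx, hx1, hxc⟩ := prime_of_centralizer h
    exact hg1 (cent_three_prime hx hx1 hpp (by omega) hg hxc.symm)
  have n5 : ¬ 5 ∣ C := fun h => by
    obtain ⟨x, hx, hx1, hxc⟩ := prime_of_centralizer h
    have hle := Subgroup.card_dvd_of_le (Subgroup.zpowers_le.mpr (five_self hx hx1 hxc.symm))
    rw [prime_cyclic (p := 5) (by norm_num) hx hx1, prime_cyclic hpp hg hg1] at hle
    rcases hp with rfl | rfl <;> norm_num at hle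
  have hgC : p ∣ C := prime_cyclic hpp hg hg1 ▸ Subgroup.card_dvd_of_le
    (Subgroup.zpowers_le.mpr (Subgroup.mem_centralizer_iff.mpr fun y hy => by
      obtain ⟨i, rfl⟩ := Subgroup.mem_zpowers_iff.mp hy
      exact ((Commute.refl g).zpow_left i).eq) : zpowers g ≤ Subgroup.centralizer (zpowers g : Set M))
  have hdvd : C ∣ (2 ^ 7 * 3 ^ 2 * 5) * 77 := by
    have h := Subgroup.card_subgroup_dvd_card (Subgroup.centralizer (zpowers g : Set M))
    rw [cardM] at h
    rwa [show (2 ^ 7 * 3 ^ 2 * 5) * 77 = 443520 by norm_num]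
  have hcop : Nat.Coprime C (2 ^ 7 * 3 ^ 2 * 5) :=
    ((((Nat.prime_two.coprime_iff_not_dvd).mpr n2).pow_left 7).mul_left
      (((Nat.prime_three.coprime_iff_not_dvd).mpr n3).pow_left 2) |>.mul_left
      (((by norm_num : Nat.Prime 5).coprime_iff_not_dvd).mpr n5)).symm
  have h77 : C ∣ 77 := hcop.dvd_of_dvd_mul_left hdvd
  exact ⟨k, n, hk, hn, hgC, h77, hN, hnum⟩

theorem eleven_local {g : M} (hg : g ^ 11 = 1) (hg1 : g ≠ 1) :
    Nat.card (Subgroup.centralizer (zpowers g : Set M)) = 11 ∧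
      Nat.card (Subgroup.normalizer (zpowers g : Set M)) = 55 := by
  obtain ⟨k, n, hk, hn, hgC, h77, hN, hnum⟩ := large_pre (Or.inr rfl) hg hg1
  set C := Nat.card (Subgroup.centralizer (zpowers g : Set M))
  have hkd : k ∈ Nat.divisors 10 := Nat.mem_divisors.mpr ⟨hk, by norm_num⟩
  have hCd : C ∈ Nat.divisors 77 := Nat.mem_divisors.mpr ⟨h77, by norm_num⟩
  simp only [show Nat.divisors 10 = {1, 2, 5, 10} from by decide, Finset.mem_insert, Finset.mem_singleton] at hkd
  simp only [show Nat.divisors 77 = {1, 7, 11, 77} from by decide, Finset.mem_insert, Finset.mem_singleton] at hCd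
  rw [hN]
  rcases hkd with rfl | rfl | rfl | rfl <;> rcases hCd with h | h | h | h <;> rw [h] at hnum hgC ⊢ <;>
    first | omega | (norm_num at hgC; done) | norm_num

theorem seven_local {g : M} (hg : g ^ 7 = 1) (hg1 : g ≠ 1) :
    Nat.card (Subgroup.centralizer (zpowers g : Set M)) = 7 ∧
      Nat.card (Subgroup.normalizer (zpowers g : Set M)) = 21 := by
  obtain ⟨k, n, hk, hn, hgC, h77, hN, hnum⟩ := large_pre (Or.inl rfl) hg hg1
  haveI : Fact (Nat.Prime 11) := ⟨by norm_num⟩
  set C := Nat.card (Subgroup.centralizer (zpowers g : Set M))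
  have n11 : ¬ 11 ∣ C := fun h => by
    obtain ⟨x, hx, hx1, hxc⟩ := prime_of_centralizer h
    have hd := Subgroup.card_dvd_of_le (Subgroup.zpowers_le.mpr (Subgroup.mem_centralizer_iff.mpr fun y hy => by
      obtain ⟨i, rfl⟩ := Subgroup.mem_zpowers_iff.mp hy
      exact ((show Commute x g from hxc).zpow_left i).eq) : zpowers g ≤ Subgroup.centralizer (zpowers x : Set M))
    rw [(eleven_local hx hx1).1, prime_cyclic (p := 7) (by norm_num) hg hg1] at hd
    norm_num at hd
  have hkd : k ∈ Nat.divisors 6 := Nat.mem_divisors.mpr ⟨hk, by norm_num⟩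
  have hCd : C ∈ Nat.divisors 77 := Nat.mem_divisors.mpr ⟨h77, by norm_num⟩
  simp only [show Nat.divisors 6 = {1, 2, 3, 6} from by decide, Finset.mem_insert, Finset.mem_singleton] at hkd
  simp only [show Nat.divisors 77 = {1, 7, 11, 77} from by decide, Finset.mem_insert, Finset.mem_singleton] at hCd
  rw [hN]
  rcases hkd with rfl | rfl | rfl | rfl <;> rcases hCd with h | h | h | h <;> rw [h] at hnum hgC n11 ⊢ <;>
    first | omega | (norm_num at hgC; done) | (norm_num at n11; done) | norm_num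

theorem fix_checked : (memB outThree && memB outSeven && eqCode (ppow outThree 3) pid && eqCode (ppow outSeven 7) pid &&
    !eqCode outThree pid && !eqCode outSeven pid && eqCode (pcomp outC outThree) (pcomp outThree outC) &&
    eqCode (pcomp outC outSeven) (pcomp outSeven outC)) = true := by decide +kernel

theorem out_checked : (permOK outC && gensKept outC && Nat.beq (papp outC 0) 23 && Nat.beq (papp outC 23) 0 &&
    eqCode (pcomp outC outC) pid && !eqCode (pcomp outC (wd outMoved)) (pcomp (wd outMoved) outC) &&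
    (sylB.all fun b => (List.range 128).any fun n => eqCode (pcomp outC b) (pcomp (wd n) outC))) = true := by
  decide +kernel

theorem cert_checked : ((List.range 128).all fun n =>
    !eqCode (pcomp (pcomp (wd n) outC) (pcomp (wd n) outC)) pid || fixCert.any fun e =>
      Nat.beq e.1 n && (Nat.beq e.2.1 5 || Nat.beq e.2.1 7) && memB e.2.2 && eqCode (ppow e.2.2 e.2.1) pid &&
        !eqCode e.2.2 pid && eqCode (pcomp (pcomp (wd n) outC) e.2.2) (pcomp e.2.2 (pcomp (wd n) outC))) = true := by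
  decide +kernel

theorem gen_checked : (memB cenThree && memB cenLeft && memB cenRight && eqCode (pcomp cenLeft cenThree) cenRight &&
    eqCode (pcomp cenLeft cenLeft) pid && eqCode (pcomp cenRight cenRight) pid && eqCode (ppow cenThree 3) pid &&
    !eqCode cenThree pid && eqCode (pcomp cenLeft (wd cenI)) (pcomp (wd cenI) cenLeft) &&
    eqCode (pcomp cenRight (wd cenI)) (pcomp (wd cenI) cenRight)) = true := by decide +kernel

theorem eqM {a b : ℕ} {g g' : M} (ha : Repr a (g : Equiv.Perm GolayPt)) (hb : Repr b (g' : Equiv.Perm GolayPt)) :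
    eqCode a b = true ↔ g = g' :=
  (eqCode_iff ha hb).trans Subtype.ext_iff.symm

theorem word_el (f : ℕ → M) (cf : ℕ → ℕ) (hf : ∀ i, Repr (cf i) ((f i : M) : Equiv.Perm GolayPt)) (e : ℕ)
    (he : Repr e ((1 : M) : Equiv.Perm GolayPt)) (K : Subgroup M)
    (l : List ℕ) (hl : ∀ i ∈ l, f i ∈ K) :
    ∃ y ∈ K, Repr (l.foldr (fun i c => pcomp (cf i) c) e) ((y : M) : Equiv.Perm GolayPt) := by
  induction l with
  | nil => exact ⟨1, one_mem _, by rw [List.foldr_nil]; exact he⟩
  | cons i l ih =>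
    obtain ⟨y, hy, ry⟩ := ih fun k hk => hl k (List.mem_cons_of_mem _ hk)
    refine ⟨f i * y, mul_mem (hl i List.mem_cons_self) hy, ?_⟩
    rw [List.foldr_cons]
    exact repr_mul (hf i) ry

theorem code_mem (B : List ℕ) (W : List (List ℕ)) (S : List ℕ) (cf : ℕ → ℕ) (e : ℕ)
    (h : ((List.range B.length).all fun j => (W.getD j []).all (fun i => S.contains i) &&
      eqCode (B.getD j 0) ((W.getD j []).foldr (fun i c => pcomp (cf i) c) e)) = true)
    (f : ℕ → M) (hf : ∀ i, Repr (cf i) ((f i : M) : Equiv.Perm GolayPt))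
    (he : Repr e ((1 : M) : Equiv.Perm GolayPt)) (K : Subgroup M) (hS : ∀ i ∈ S, f i ∈ K) (s : M) (c : ℕ) (hc : c ∈ B)
    (hs : Repr c (s : Equiv.Perm GolayPt)) : s ∈ K := by
  obtain ⟨j, hj, rfl⟩ := List.getElem_of_mem hc
  simp only [List.all_eq_true, List.mem_range, Bool.and_eq_true, List.contains_iff_mem] at h
  obtain ⟨hall, hcode⟩ := h j hj
  obtain ⟨y, hy, ry⟩ := word_el f cf hf e he K _ fun i hi => hS i (hall i hi)
  rw [← List.getD_eq_getElem _ 0 hj] at hs
  exact ((eqM hs ry).mp hcode) ▸ hy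

theorem syl_words_checked : ((List.range sylB.length).all fun j => (sylWords.getD j []).all (fun i => invI.contains i) &&
    eqCode (sylB.getD j 0) ((sylWords.getD j []).foldr (fun i c => pcomp (wd i) c) pid)) = true := by decide +kernel

theorem syl_word_mem (K : Subgroup M) (hK : ∀ i ∈ invI, we i ∈ K) :
    {g : M | ∃ c ∈ sylB, Repr c (g : Equiv.Perm GolayPt)} ⊆ K := fun s ⟨c, hc, hs⟩ =>
  code_mem sylB sylWords invI wd pid syl_words_checked we we_repr repr_one K hK s c hc hs

/-- An outer involution of M22. -/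
structure OutModel where
  μ : MulAut M
  outer : μ ∉ (MulAut.conj (G := M)).range
  μμ : μ * μ = 1
  three : ∃ a : M, μ a = a ∧ orderOf a = 3
  cert : ∀ t ∈ sylS, (MulAut.conj t * μ) * (MulAut.conj t * μ) = 1 →
    ∃ a : M, (MulAut.conj t * μ) a = a ∧ (orderOf a = 5 ∨ orderOf a = 7)
  normalizes : ∀ t ∈ sylS, μ t ∈ sylS

theorem exists_outModel : Nonempty OutModel := by
  classical
  have ho := out_checked
  simp only [Bool.and_eq_true, Bool.not_eq_true', List.all_eq_true, List.any_eq_true, List.mem_range] at ho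
  obtain ⟨⟨⟨⟨⟨⟨hp, hk⟩, h0⟩, h23⟩, hμ2⟩, hmv⟩, hnS⟩ := ho
  obtain ⟨x, rx⟩ := exists_repr_of_permOK hp
  have x0 : x (pt 0) = pt 23 := by rw [rx.apply_pt (by norm_num), Nat.eq_of_beq_eq_true h0]
  have x23 : x (pt 23) = pt 0 := by rw [rx.apply_pt (by norm_num), Nat.eq_of_beq_eq_true h23]
  have hxx : x * x = 1 := (eqCode_iff (rx.comp rx) repr_pid).mp hμ2
  have hxi : x⁻¹ = x := inv_eq_of_mul_eq_one_left hxx
  have hnorm := mu_normalizes (mem_M24_of_gensKept rx hk) x0 x23
  have hinv : ∀ g : Equiv.Perm GolayPt, x * (x * g * x⁻¹) * x⁻¹ = g := fun g => by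
    rw [hxi, ← mul_assoc, ← mul_assoc, hxx, one_mul, mul_assoc, hxx, mul_one]
  let μ : MulAut M :=
    { toFun := fun g => ⟨x * g * x⁻¹, hnorm _ g.2⟩
      invFun := fun g => ⟨x * g * x⁻¹, hnorm _ g.2⟩
      left_inv := fun g => Subtype.ext (hinv _)
      right_inv := fun g => Subtype.ext (hinv _)
      map_mul' := fun g h => Subtype.ext (by
        show x * ((g : Equiv.Perm GolayPt) * h) * x⁻¹ = x * g * x⁻¹ * (x * h * x⁻¹)
        group) }
  have hμμ : μ * μ = 1 := MulEquiv.ext fun g => Subtype.ext (hinv g)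
  have hfix : ∀ {c : ℕ} {a : M}, Repr c (a : Equiv.Perm GolayPt) →
      eqCode (pcomp outC c) (pcomp c outC) = true → μ a = a := fun {c a} ra h => Subtype.ext (by
    show x * (a : Equiv.Perm GolayPt) * x⁻¹ = a
    exact mul_inv_eq_iff_eq_mul.mpr ((eqCode_iff (rx.comp ra) (ra.comp rx)).mp h))
  have hf := fix_checked
  simp only [Bool.and_eq_true, Bool.not_eq_true'] at hf
  obtain ⟨⟨⟨⟨⟨⟨⟨m3, m7⟩, e3⟩, e7⟩, n3⟩, n7⟩, c3⟩, c7⟩ := hf
  obtain ⟨a3, r3⟩ := exists_el m3
  obtain ⟨a7, r7⟩ := exists_el m7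
  haveI : Fact (Nat.Prime 3) := ⟨by norm_num⟩
  haveI : Fact (Nat.Prime 5) := ⟨by norm_num⟩
  haveI : Fact (Nat.Prime 7) := ⟨by norm_num⟩
  have o3 : orderOf a3 = 3 := orderOf_eq_prime ((eqM (repr_pow r3 3) repr_one).mp e3)
    (fun e => by rw [(eqM r3 repr_one).mpr e] at n3; exact Bool.noConfusion n3)
  have h7 : a7 ^ 7 = 1 := (eqM (repr_pow r7 7) repr_one).mp e7
  have h71 : a7 ≠ 1 := fun e => by rw [(eqM r7 repr_one).mpr e] at n7; exact Bool.noConfusion n7
  have houter : μ ∉ (MulAut.conj (G := M)).range := by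
    rintro ⟨a, ha⟩
    have hca : a * a7 = a7 * a := by
      have := DFunLike.congr_fun ha a7
      rw [MulAut.conj_apply, hfix r7 c7] at this
      exact mul_inv_eq_iff_eq_mul.mp this
    have haa : a * a = 1 := conj_m22_injective (by rw [map_mul, map_one, ha]; exact hμμ)
    by_cases ha1 : a = 1
    · rw [ha1, map_one] at ha
      have hfx := DFunLike.congr_fun ha (we outMoved)
      have hfx' : x * ((we outMoved : M) : Equiv.Perm GolayPt) * x⁻¹ = (we outMoved : M) :=
        (congrArg Subtype.val hfx).symm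
      rw [(eqCode_iff (rx.comp (we_repr _)) ((we_repr _).comp rx)).mpr (mul_inv_eq_iff_eq_mul.mp hfx')] at hmv
      exact Bool.noConfusion hmv
    · exact h71 (invol_large haa ha1 (by norm_num : Nat.Prime 7) le_rfl h7 hca.symm)
  refine ⟨⟨μ, houter, hμμ, ⟨a3, hfix r3 c3, o3⟩, ?_, ?_⟩⟩
  · intro t ht h2
    obtain ⟨n, hn, rfl⟩ := mem_sylS_iff.mp ht
    have hc := cert_checked
    simp only [List.all_eq_true, List.any_eq_true, List.mem_range, Bool.or_eq_true, Bool.and_eq_true,
      Bool.not_eq_true'] at hc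
    set y := ((we n : M) : Equiv.Perm GolayPt) * x
    have ry : Repr (pcomp (wd n) outC) y := (we_repr n).comp rx
    have hyy : eqCode (pcomp (pcomp (wd n) outC) (pcomp (wd n) outC)) pid = true := by
      refine (eqCode_iff (ry.comp ry) repr_pid).mpr ?_
      have h1 : we n * μ (we n) = 1 := conj_m22_injective (by
        rw [map_one, ← h2]
        refine (MulEquiv.ext fun g => ?_).symm
        show MulAut.conj (we n) (μ (MulAut.conj (we n) (μ g))) = MulAut.conj (we n * μ (we n)) g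
        simp only [MulAut.conj_apply, map_mul, map_inv, show μ (μ g) = g from DFunLike.congr_fun hμμ g]
        simp only [MulAut.mul_apply, MulAut.conj_apply, MulEquiv.map_mul, MulEquiv.map_inv, mul_inv_rev, mul_assoc,
          inv_inv, inv_mul_cancel_left])
      have h1' : ((we n : M) : Equiv.Perm GolayPt) * (x * (we n : M) * x⁻¹) = 1 := congrArg Subtype.val h1
      rw [hxi] at h1'
      show ((we n : M) : Equiv.Perm GolayPt) * x * (((we n : M) : Equiv.Perm GolayPt) * x) = 1
      rw [← h1']; group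
    rcases hc n hn with h | ⟨⟨i, k, cc⟩, -, ⟨⟨⟨⟨-, hk'⟩, hm⟩, hp'⟩, hne⟩, hcm⟩
    · rw [hyy] at h; exact Bool.noConfusion h
    obtain ⟨a, ra⟩ := exists_el hm
    refine ⟨a, Subtype.ext ?_, ?_⟩
    · show ((we n : M) : Equiv.Perm GolayPt) * (x * (a : Equiv.Perm GolayPt) * x⁻¹) * ((we n : M) : Equiv.Perm GolayPt)⁻¹ = a
      have e : y * (a : Equiv.Perm GolayPt) = a * y := (eqCode_iff (ry.comp ra) (ra.comp ry)).mp hcm
      calc ((we n : M) : Equiv.Perm GolayPt) * (x * (a : Equiv.Perm GolayPt) * x⁻¹) *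
            ((we n : M) : Equiv.Perm GolayPt)⁻¹ = y * a * y⁻¹ := by simp only [y]; group
        _ = a := by rw [e, mul_inv_cancel_right]
    · have hak : a ^ k = 1 := (eqM (repr_pow ra k) repr_one).mp hp'
      have ha1 : a ≠ 1 := fun e => by rw [(eqM ra repr_one).mpr e] at hne; exact Bool.noConfusion hne
      rcases hk' with e | e <;> obtain rfl := Nat.eq_of_beq_eq_true e
      exacts [Or.inl (orderOf_eq_prime hak ha1), Or.inr (orderOf_eq_prime hak ha1)]
  · intro t ht
    refine (Subgroup.closure_le (K := sylS.comap μ.toMonoidHom)).mpr ?_ ht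
    rintro b ⟨c, hc, hb⟩
    obtain ⟨n, -, hn⟩ := hnS c hc
    show μ b ∈ sylS
    have : μ b = we n := Subtype.ext (by
      show x * (b : Equiv.Perm GolayPt) * x⁻¹ = (we n : M)
      exact mul_inv_eq_iff_eq_mul.mpr ((eqCode_iff (rx.comp hb) ((we_repr n).comp rx)).mp hn))
    exact this ▸ we_mem n

/-- An outer involutory automorphism fixes an element of order five or seven. -/
theorem outer_fix {θ : MulAut M} (hθ : θ ∉ (MulAut.conj (G := M)).range) (h2 : θ * θ = 1) :
    ∃ a : M, θ a = a ∧ (orderOf a = 5 ∨ orderOf a = 7) := by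
  classical
  haveI : Fact (Nat.Prime 2) := ⟨Nat.prime_two⟩
  obtain ⟨o⟩ := exists_outModel
  set I := (MulAut.conj (G := M)).range with hI
  have hidx : I.index = 2 := CfsgGolay.OutSmall.out_M22
  have hA : Nat.card (MulAut M) = 887040 := by
    have := Subgroup.card_mul_index I
    rw [hidx, ← Nat.card_congr (MonoidHom.ofInjective conj_m22_injective).toEquiv, cardM] at this
    exact this.symm
  haveI : Finite (MulAut M) := Nat.finite_of_card_ne_zero (by rw [hA]; norm_num)
  set T := sylS.map (MulAut.conj (G := M)) with hT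
  have hTc : Nat.card T = 128 := by rw [hT, Subgroup.card_map_of_injective conj_m22_injective, card_sylS]
  have hnorm : zpowers o.μ ≤ Subgroup.normalizer (T : Set (MulAut M)) := by
    refine Subgroup.zpowers_le.mpr (mem_norm_of ?_)
    rintro _ ⟨t, ht, rfl⟩
    refine ⟨o.μ t, o.normalizes t ht, MulEquiv.ext fun g => ?_⟩
    rw [MulAut.mul_apply, MulAut.mul_apply, MulAut.conj_apply, MulAut.conj_apply,
      show (o.μ⁻¹ : MulAut M) = o.μ from inv_eq_of_mul_eq_one_left o.μμ, map_mul, map_mul, map_inv,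
      show o.μ (o.μ g) = g from DFunLike.congr_fun o.μμ g]
  have hpT : IsPGroup 2 T := IsPGroup.of_card (n := 7) (by rw [hTc]; norm_num)
  have hμo : orderOf o.μ = 2 := orderOf_eq_prime (by rw [sq]; exact o.μμ)
    (fun e => o.outer (by rw [e]; exact one_mem _))
  have hpμ : IsPGroup 2 (zpowers o.μ) := IsPGroup.of_card (n := 1) (by rw [Nat.card_zpowers, hμo, pow_one])
  have hpS : IsPGroup 2 ↥(T ⊔ zpowers o.μ) := hpT.to_sup_of_normal_left' hpμ hnorm
  obtain ⟨S, hS⟩ := hpS.exists_le_sylow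
  have hScard : Nat.card (S : Subgroup (MulAut M)) = 256 := by
    rw [S.card_eq_multiplicity, hA, show 887040 = 2 ^ 8 * 3465 by norm_num,
      Nat.factorization_mul (by norm_num) (by norm_num), Finsupp.add_apply,
      Nat.Prime.factorization_pow (by norm_num), Finsupp.single_eq_same,
      Nat.factorization_eq_zero_of_not_dvd (by norm_num)]
    norm_num
  have h256 : 256 ≤ Nat.card ↥(T ⊔ zpowers o.μ) := by
    have hlt : Nat.card T < Nat.card ↥(T ⊔ zpowers o.μ) := by
      refine lt_of_le_of_ne (Subgroup.card_le_of_le le_sup_left) fun e => o.outer ?_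
      have := Subgroup.eq_of_le_of_card_ge le_sup_left e.ge
      exact Subgroup.map_le_range _ _ (this.symm ▸ Subgroup.mem_sup_right (Subgroup.mem_zpowers o.μ) : o.μ ∈ T)
    obtain ⟨j, hj⟩ := IsPGroup.iff_card.mp hpS
    rw [hTc, hj, show 128 = 2 ^ 7 by norm_num, Nat.pow_lt_pow_iff_right (by norm_num)] at hlt
    rw [hj]
    calc 256 = 2 ^ 8 := by norm_num
      _ ≤ 2 ^ j := Nat.pow_le_pow_right (by norm_num) hlt
  have hSeq : (T ⊔ zpowers o.μ) = (S : Subgroup (MulAut M)) := Subgroup.eq_of_le_of_card_ge hS (by rw [hScard]; exact h256)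
  have hθp : IsPGroup 2 (zpowers θ) := IsPGroup.of_card (n := 1) (by
    rw [Nat.card_zpowers, orderOf_eq_prime (by rw [sq]; exact h2) (fun e => hθ (by rw [e]; exact one_mem _)), pow_one])
  obtain ⟨S', hS'⟩ := hθp.exists_le_sylow
  obtain ⟨φ, hφ⟩ := MulAction.exists_smul_eq (MulAut M) S' S
  have hmem : φ * θ * φ⁻¹ ∈ T ⊔ zpowers o.μ := by
    rw [hSeq, ← hφ, Sylow.coe_subgroup_smul]
    exact ⟨θ, hS' (Subgroup.mem_zpowers θ), rfl⟩
  rw [← SetLike.mem_coe, Subgroup.coe_mul_of_right_le_normalizer_left _ _ hnorm] at hmem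
  obtain ⟨_, ⟨t, ht, rfl⟩, u, hu, htu⟩ := hmem
  have hout : φ * θ * φ⁻¹ ∉ I := fun h => hθ (by
    haveI := Subgroup.normal_of_index_eq_two hidx
    have := Subgroup.Normal.conj_mem ‹I.Normal› _ h φ⁻¹
    rwa [show φ⁻¹ * (φ * θ * φ⁻¹) * φ⁻¹⁻¹ = θ by group] at this)
  obtain ⟨i, rfl⟩ := Subgroup.mem_zpowers_iff.mp hu
  have htu' : MulAut.conj t * o.μ = φ * θ * φ⁻¹ := by
    have hμ2 : o.μ ^ (2 : ℤ) = 1 := by rw [zpow_two]; exact o.μμ
    rcases Int.even_or_odd i with ⟨j, rfl⟩ | ⟨j, rfl⟩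
    · exfalso
      refine hout ⟨t, ?_⟩
      rw [← htu, ← two_mul]
      show _ = MulAut.conj t * o.μ ^ (2 * j)
      rw [zpow_mul, hμ2, one_zpow, mul_one]
    · rw [← htu]
      show _ = MulAut.conj t * o.μ ^ (2 * j + 1)
      rw [zpow_add, zpow_one, zpow_mul, hμ2, one_zpow, one_mul]
  obtain ⟨a, ha, ho⟩ := o.cert t ht (by rw [htu', conj_mul, h2, mul_one, mul_inv_cancel])
  rw [htu'] at ha
  refine ⟨φ⁻¹ a, φ.injective ?_, by rwa [show orderOf (φ⁻¹ a) = orderOf a from φ⁻¹.orderOf_eq a]⟩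
  rw [show φ (φ⁻¹ a) = a from φ.apply_symm_apply a]
  exact ha

/-- An outer involution fixes an element of order three. -/
theorem outer_three : ∃ θ : MulAut M, θ ∉ (MulAut.conj (G := M)).range ∧ θ * θ = 1 ∧
    ∃ a : M, θ a = a ∧ orderOf a = 3 := by
  obtain ⟨o⟩ := exists_outModel
  exact ⟨o.μ, o.outer, o.μμ, o.three⟩

/-- The centralizer of an involution is generated by involutions. -/
theorem invol_cent_gen {i g : M} (hi : i * i = 1) (hi1 : i ≠ 1) (hg : g * i = i * g) :
    g ∈ Subgroup.closure {j : M | j * j = 1 ∧ j * i = i * j} := by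
  classical
  obtain ⟨h, rfl⟩ := invol_conj hi hi1
  set b := we cenI
  have hb1 : b ≠ 1 := cenI_facts.1.2
  have hbb : b * b = 1 := by
    have := congrArg (fun y => h⁻¹ * y * h) hi
    rw [show h⁻¹ * (h * b * h⁻¹ * (h * b * h⁻¹)) * h = b * b by group, show h⁻¹ * 1 * h = 1 by group] at this
    exact this
  set K := Subgroup.closure {j : M | j * j = 1 ∧ j * b = b * j}
  set C := Subgroup.centralizer ({b} : Set M)
  have hKC : K ≤ C := (Subgroup.closure_le _).mpr fun j hj => Subgroup.mem_centralizer_singleton_iff.mpr hj.2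
  have hgc := gen_checked
  simp only [Bool.and_eq_true, Bool.not_eq_true'] at hgc
  obtain ⟨⟨⟨⟨⟨⟨⟨⟨⟨mw, ml⟩, mr⟩, hlw⟩, hll⟩, hrr⟩, hw3⟩, hwne⟩, hlb⟩, hrb⟩ := hgc
  obtain ⟨w, rw'⟩ := exists_el mw
  obtain ⟨l, rl⟩ := exists_el ml
  obtain ⟨r, rr⟩ := exists_el mr
  have hl : l ∈ K := Subgroup.subset_closure ⟨(eqM (repr_mul rl rl) repr_one).mp hll,
    (eqM (repr_mul rl (we_repr _)) (repr_mul (we_repr _) rl)).mp hlb⟩
  have hr : r ∈ K := Subgroup.subset_closure ⟨(eqM (repr_mul rr rr) repr_one).mp hrr,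
    (eqM (repr_mul rr (we_repr _)) (repr_mul (we_repr _) rr)).mp hrb⟩
  have hwK : w ∈ K := by
    have e : l * w = r := (eqM (repr_mul rl rw') rr).mp hlw
    rw [show w = l⁻¹ * r by rw [← e, inv_mul_cancel_left]]
    exact mul_mem (inv_mem hl) hr
  haveI : Fact (Nat.Prime 3) := ⟨by norm_num⟩
  have hw : orderOf w = 3 := orderOf_eq_prime ((eqM (repr_pow rw' 3) repr_one).mp hw3)
    (fun e => by rw [(eqM rw' repr_one).mpr e] at hwne; exact Bool.noConfusion hwne)
  have hinvK : ∀ j ∈ invI, we j ∈ K := fun j hj => Subgroup.subset_closure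
    ⟨by rw [← sq]; exact invI_sq j hj, Subgroup.mem_centralizer_singleton_iff.mp (cenI_facts.2.1 (we_mem j))⟩
  have hSK : sylS ≤ K := by
    rw [sylS, Subgroup.closure_le]
    exact syl_word_mem K hinvK
  have h128 : 128 ∣ Nat.card K := card_sylS ▸ Subgroup.card_dvd_of_le hSK
  have h3 : 3 ∣ Nat.card K := by
    rw [← hw, ← Subgroup.orderOf_mk w hwK]
    exact orderOf_dvd_natCard _
  have h384 : 384 ∣ Nat.card K := Nat.Coprime.mul_dvd_of_dvd_of_dvd (by norm_num : Nat.Coprime 128 3) h128 h3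
  have hC : Nat.card C ∣ 384 := by
    have hdvd : Nat.card C ∣ (2 ^ 7 * 3) * 1155 := by
      have := Subgroup.card_subgroup_dvd_card C
      rw [cardM] at this
      rwa [show (2 ^ 7 * 3) * 1155 = 443520 by norm_num]
    haveI : Fact (Nat.Prime 5) := ⟨by norm_num⟩
    haveI : Fact (Nat.Prime 7) := ⟨by norm_num⟩
    haveI : Fact (Nat.Prime 11) := ⟨by norm_num⟩
    have el : ∀ p : ℕ, [Fact p.Prime] → p ∣ Nat.card C → ∃ x : M, x ^ p = 1 ∧ x ≠ 1 ∧ x * b = b * x := by
      intro p _ h
      obtain ⟨x, hx⟩ := exists_prime_orderOf_dvd_card' p h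
      rw [← Subgroup.orderOf_coe] at hx
      refine ⟨x, hx ▸ pow_orderOf_eq_one _, fun e => ?_, Subgroup.mem_centralizer_singleton_iff.mp x.2⟩
      rw [e, orderOf_one] at hx
      exact (Fact.out : p.Prime).ne_one hx.symm
    have n5 : ¬ 5 ∣ Nat.card C := fun h => by
      obtain ⟨x, hx, hx1, hxb⟩ := el 5 h
      have hbx := five_self hx hx1 hxb.symm
      have hd := Subgroup.card_dvd_of_le (Subgroup.zpowers_le.mpr hbx)
      rw [prime_cyclic (by norm_num : Nat.Prime 5) hx hx1, prime_cyclic Nat.prime_two (by rw [sq]; exact hbb) hb1] at hd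
      norm_num at hd
    have n7 : ¬ 7 ∣ Nat.card C := fun h => by
      obtain ⟨x, hx, hx1, hxb⟩ := el 7 h
      exact hx1 (invol_large hbb hb1 (by norm_num : Nat.Prime 7) le_rfl hx hxb)
    have n11 : ¬ 11 ∣ Nat.card C := fun h => by
      obtain ⟨x, hx, hx1, hxb⟩ := el 11 h
      exact hx1 (invol_large hbb hb1 (by norm_num : Nat.Prime 11) (by norm_num) hx hxb)
    have n9 : ¬ 9 ∣ Nat.card C := by
      intro h9
      haveI : Fact (Nat.Prime 3) := ⟨by norm_num⟩
      obtain ⟨R, hR⟩ := Sylow.exists_subgroup_card_pow_prime 3 (n := 2) h9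
      have hRc : Nat.card ↥(R.map C.subtype) = 9 := by
        rw [Subgroup.card_map_of_injective C.subtype_injective, hR]; norm_num
      obtain ⟨x, hxR, hx1⟩ := (R.map C.subtype).bot_or_exists_ne_one.resolve_left fun e => by
        rw [e, Subgroup.card_bot] at hRc; norm_num at hRc
      have hcom : ∀ y ∈ R.map C.subtype, b * y = y * b := by
        rintro _ ⟨y, -, rfl⟩
        exact (Subgroup.mem_centralizer_singleton_iff.mp y.2).symm
      refine nine_invol hRc hbb hb1 (mem_norm_of fun y hy => ?_) hxR hx1 (hcom x hxR)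
      rw [hcom y hy, mul_inv_cancel_right]; exact hy
    have hcop : Nat.Coprime (Nat.card C) (5 * 7 * 11) :=
      ((((by norm_num : Nat.Prime 5).coprime_iff_not_dvd).mpr n5).mul_left
        (((by norm_num : Nat.Prime 7).coprime_iff_not_dvd).mpr n7) |>.mul_left
        (((by norm_num : Nat.Prime 11).coprime_iff_not_dvd).mpr n11)).symm
    have h1152 : Nat.card C ∣ 384 * 3 := hcop.dvd_of_dvd_mul_right (by
      have : (2 ^ 7 * 3) * 1155 = 384 * 3 * (5 * 7 * 11) := by norm_num
      rwa [this] at hdvd)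
    obtain ⟨a, b', ha, hb', hab⟩ := Nat.dvd_mul.mp (show Nat.card C ∣ 128 * 9 from h1152)
    rw [← hab]
    have : b' ∣ 3 := by
      obtain ⟨j, hj, rfl⟩ := (Nat.dvd_prime_pow Nat.prime_three).mp (show b' ∣ 3 ^ 2 from hb')
      interval_cases j
      · norm_num
      · norm_num
      · exact absurd (hab ▸ dvd_mul_left (3 ^ 2) a : 3 ^ 2 ∣ Nat.card C) n9
    exact Nat.mul_dvd_mul ha this
  have hKeq : K = C := Subgroup.eq_of_le_of_card_ge hKC (Nat.le_of_dvd Nat.card_pos (hC.trans h384))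
  have hg' : h⁻¹ * g * h ∈ K := hKeq ▸ Subgroup.mem_centralizer_singleton_iff.mpr (by
    calc h⁻¹ * g * h * b = h⁻¹ * (g * (h * b * h⁻¹)) * h := by group
      _ = h⁻¹ * (h * b * h⁻¹ * g) * h := congrArg (fun y => h⁻¹ * y * h) hg
      _ = b * (h⁻¹ * g * h) := by group)
  have hmap : K.map (MulAut.conj h).toMonoidHom ≤ Subgroup.closure
      {j : M | j * j = 1 ∧ j * (h * b * h⁻¹) = h * b * h⁻¹ * j} := by
    rw [MonoidHom.map_closure, Subgroup.closure_le]
    rintro _ ⟨j, ⟨hj1, hj2⟩, rfl⟩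
    refine Subgroup.subset_closure ⟨?_, ?_⟩
    · rw [← map_mul, hj1, map_one]
    · show (MulAut.conj h) j * (MulAut.conj h) b = (MulAut.conj h) b * (MulAut.conj h) j
      rw [← map_mul, hj2, map_mul]
  refine hmap ⟨_, hg', ?_⟩
  show h * (h⁻¹ * g * h) * h⁻¹ = g
  group

end CfsgLib.JankoFour
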