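/-
An outer conjugate of the central involution centralizing an element of order seven.
-/
import Cfsg.Agent.Lib.JankoFour.FiveNorm
import Cfsg.Agent.Lib.JankoFour.FiveCent
import Cfsg.Agent.Lib.JankoFour.SevenModel
import Cfsg.Agent.Lib.JankoFour.Three
import Cfsg.Agent.S0249

set_option autoImplicit false

namespace CfsgLib.JankoFour

open Cfsg Subgroup

universe u

variable {G : Type u} [Group G] [Finite G] {z : G} {P E : Subgroup G}

namespace Ctx

/-- Elements of cen of order prime to six are determined by their images. -/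
theorem prime_eq (c : Ctx z P E) {p : ℕ} (hp : Nat.Coprime 6 p) {x y : G} (hx : x ∈ c.cen) (hy : y ∈ c.cen)
    (hxp : x ^ p = 1) (hyp : y ^ p = 1) (hv : c.val x = c.val y) : x = y := by
  set r := y⁻¹ * x with hr
  have hrc : r ∈ c.cen := mul_mem (inv_mem hy) hx
  obtain ⟨h6, hcomm, -⟩ := c.cen_ker hrc (by
    rw [hr, c.val_mul (c.cen_le_H0 (inv_mem hy)) (c.cen_le_H0 hx), c.val_inv (c.cen_le_H0 hy), hv, inv_mul_cancel])
  have e : x = y * r := by rw [hr, mul_inv_cancel_left]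
  have h5 : r ^ p = 1 := by
    have := hxp
    rwa [e, (show Commute y r from hcomm y hy).mul_pow, hyp, one_mul] at this
  have r1 := (pow_gcd_eq_one (m := 6) (n := p) (a := r)).mpr ⟨h6, h5⟩
  rw [hp.gcd_eq_one, pow_one] at r1
  rw [e, r1, mul_one]

/-- Lifts of elements of order prime to six. -/
theorem lift_prime (c : Ctx z P E) {p k : ℕ} {a : MTwoTwo} (ha : a ^ p = 1) (hk : k % p = 1) (h6 : 6 ∣ k) :
    ∃ x ∈ c.cen, c.val x = a ∧ x ^ p = 1 := by
  obtain ⟨x, hx, hv⟩ := c.exists_val a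
  refine ⟨x ^ k, pow_mem hx k, ?_, ?_⟩
  · rw [c.val_pow (c.cen_le_H0 hx), hv, pow_eq_pow_mod k ha, hk, pow_one]
  · obtain ⟨j, rfl⟩ := h6
    rw [← pow_mul, show 6 * j * p = p * 6 * j by ring, pow_mul, pow_mul,
      (c.cen_ker (pow_mem hx p) (by rw [c.val_pow (c.cen_le_H0 hx), hv, ha])).1, one_pow]

/-- The inner part of H is normal. -/
theorem conj_H0 (c : Ctx z P E) {h x : G} (hh : h ∈ centralizer ({z} : Set G)) (hx : x ∈ c.H0) :
    h * x * h⁻¹ ∈ c.H0 := by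
  by_cases h0 : h ∈ c.H0
  · exact mul_mem (mul_mem h0 hx) (inv_mem h0)
  by_contra hn
  have h1 := c.H0two _ (mul_mem (mul_mem hh (c.H0le hx)) (inv_mem hh)) hn h hh h0
  rw [inv_mul_cancel_right] at h1
  exact h0 ((mul_mem_cancel_right hx).mp h1)

theorem comm_inv_P (c : Ctx z P E) {h : G} (hinvP : ∀ p ∈ P, h * p * h⁻¹ = p⁻¹) {p : G} (hp : p ∈ P) :
    h⁻¹ * p * h = p⁻¹ := by
  have := hinvP p⁻¹ (inv_mem hp)
  rw [inv_inv] at this
  calc h⁻¹ * p * h = h⁻¹ * (h * p⁻¹ * h⁻¹) * h := by rw [this]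
    _ = p⁻¹ := by group

/-- A conjugate of an involution of E by P, with the element itself and its other conjugate, is central. -/
theorem orbit_mem_Z (c : Ctx z P E) {p e : G} (hp : p ∈ P) (hgen : P = zpowers p) (he : e ∈ E) :
    p * e * p⁻¹ * e * (p⁻¹ * e * p) ∈ zpowers z := by
  have hpp : p * p = p⁻¹ := eq_inv_of_mul_eq_one_left (c.P_cube hp)
  set A := p * e * p⁻¹ with hA
  set C := p⁻¹ * e * p with hC
  have hAE : A ∈ E := c.conj_E (c.P_le hp) he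
  have hCE : C ∈ E := by
    have := c.conj_E (inv_mem (c.P_le hp)) he
    rwa [inv_inv] at this
  have hFE : A * e * C ∈ E := mul_mem (mul_mem hAE he) hCE
  refine c.fixed_mem_Z hp hgen hFE ?_
  have h1 : p * A * p⁻¹ = C := by
    rw [hA, hC, show p * (p * e * p⁻¹) * p⁻¹ = (p * p) * e * (p * p)⁻¹ by group, hpp, inv_inv]
  have h2 : p * (A * e * C) * p⁻¹ = C * (A * e * C) * C⁻¹ := by
    calc p * (A * e * C) * p⁻¹ = (p * A * p⁻¹) * A * (p * C * p⁻¹) := by rw [hA]; group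
      _ = C * A * e := by rw [h1, hC]; group
      _ = C * (A * e * C) * C⁻¹ := by group
  rw [h2]
  exact c.comm_mem_Z hCE hFE

end Ctx

namespace FiveData5

variable {c : Ctx z P E} {m : FiveModel} (d : FiveData5 c m)

include d in
/-- The automorphism of the model is outer. -/
theorem μ_outer : m.μ ∉ (MulAut.conj (G := MTwoTwo)).range := by
  rintro ⟨g, hg⟩
  have hgq : g * m.q = m.q * g := by
    have := DFunLike.congr_fun hg m.q
    rw [MulAut.conj_apply, m.μq] at this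
    exact mul_inv_eq_iff_eq_mul.mp this
  obtain ⟨k, rfl⟩ := m.selfC g hgq
  have hle : m.AOne ≤ m.ATwo := by
    intro a ha
    have ha' : (m.q ^ k)⁻¹ * a * m.q ^ k ∈ m.AOne :=
      (mem_normalizer_iff''.mp (pow_mem m.qAOne k) a).mp ha
    have := m.μOne _ ha'
    rw [← hg, MulAut.conj_apply] at this
    rwa [show m.q ^ k * ((m.q ^ k)⁻¹ * a * m.q ^ k) * (m.q ^ k)⁻¹ = a by group] at this
  have h9 := m.gen12 m.ATwo hle le_rfl
  rw [m.hexTwo.2.1] at h9
  norm_num at h9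

include d in
/-- The automorphism induced by an outer element inverting P. -/
theorem outer_auto {h : G} (hh : h ∈ centralizer ({z} : Set G)) (h0 : h ∉ c.H0)
    (hP : ∀ p ∈ P, h * p * h⁻¹ = p⁻¹) :
    ∃ θ : MulAut MTwoTwo, θ ∉ (MulAut.conj (G := MTwoTwo)).range ∧
      ∀ x ∈ c.cen, h * x * h⁻¹ ∈ c.cen ∧ θ (c.val x) = c.val (h * x * h⁻¹) := by
  set w := d.τ⁻¹ * h with hw
  have hτP : ∀ p ∈ P, d.τ⁻¹ * p * d.τ = p⁻¹ := fun p hp => c.comm_inv_P d.τP hp
  have hwc : w ∈ c.cen := ⟨(centralizer ({z} : Set G)).mul_mem ((centralizer ({z} : Set G)).inv_mem d.τH) hh,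
    mem_centralizer_iff.mpr fun p hp => by
    have e : w * p * w⁻¹ = p := by
      rw [hw, show d.τ⁻¹ * h * p * (d.τ⁻¹ * h)⁻¹ = d.τ⁻¹ * (h * p * h⁻¹) * d.τ by group, hP p hp,
        hτP _ (inv_mem hp), inv_inv]
    exact (mul_inv_eq_iff_eq_mul.mp e).symm⟩
  refine ⟨m.μ * MulAut.conj (c.val w), fun hr => d.μ_outer ?_, fun x hx => ?_⟩
  · exact (mul_mem_cancel_right (MonoidHom.mem_range.mpr ⟨_, rfl⟩)).mp hr
  · have e : h * x * h⁻¹ = d.τ * (w * x * w⁻¹) * d.τ⁻¹ := by rw [hw]; group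
    obtain ⟨h1, h2⟩ := d.τv _ (mul_mem (mul_mem hwc hx) (inv_mem hwc))
    refine ⟨e ▸ h1, ?_⟩
    rw [e, h2, c.val_conj (c.cen_le_H0 hwc) (c.cen_le_H0 hx), MulAut.mul_apply, MulAut.conj_apply]

/-- A conjugate of z centralizing q lies in E. -/
theorem five_class [IsSimpleGroup G] (hG : ¬ IsMulCommutative G)
    (hinv : ∃ n ∈ centralizer ({z} : Set G), ∀ q ∈ P, n * q * n⁻¹ = q⁻¹) {w : G} (hw : c.IsZ w)
    (hwq : w * d.q = d.q * w) : w ∈ E := by
  classical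
  obtain ⟨g, rfl⟩ := hw
  have hgq : g⁻¹ * d.q * g ∈ centralizer ({z} : Set G) := mem_centralizer_singleton_iff.mpr (by
    calc g⁻¹ * d.q * g * z = g⁻¹ * (d.q * (g * z * g⁻¹)) * g := by group
      _ = z * (g⁻¹ * d.q * g) := by rw [← hwq]; group)
  obtain ⟨h, hh, k, hk, hk0, hk'⟩ := d.five_conj hgq (by
    rw [show g⁻¹ * d.q * g = g⁻¹ * d.q * g⁻¹⁻¹ by rw [inv_inv], conj_pow, d.q5, mul_one, mul_inv_cancel])
    (fun e => d.q1 (by
      have := congrArg (fun y => g * y * g⁻¹) e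
      simpa [mul_assoc] using this))
  obtain ⟨j, hj⟩ : ∃ j, 2 ^ j % 5 = k % 5 := by
    interval_cases k
    exacts [absurd rfl hk0, ⟨0, rfl⟩, ⟨1, rfl⟩, ⟨3, rfl⟩, ⟨2, rfl⟩]
  set n := g * h⁻¹ * d.ν ^ j with hn
  have hn1 : n * d.q * n⁻¹ = d.q := by
    calc n * d.q * n⁻¹ = g * h⁻¹ * (d.ν ^ j * d.q * (d.ν ^ j)⁻¹) * (g * h⁻¹)⁻¹ := by rw [hn]; group
      _ = g * h⁻¹ * d.q ^ k * (g * h⁻¹)⁻¹ := by
        rw [d.ν_pow_q, pow_eq_pow_mod _ d.q5, hj, ← pow_eq_pow_mod _ d.q5]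
      _ = d.q := by rw [← hk']; group
  have hncq : n ∈ d.cq := d.mem_cq.mpr (mul_inv_eq_iff_eq_mul.mp hn1)
  have hnz : n * z * n⁻¹ = g * z * g⁻¹ := by
    have h1 : d.ν ^ j * z * (d.ν ^ j)⁻¹ = z := c.Z_conj (pow_mem d.νc.1 j) (mem_zpowers z)
    have h2 : h⁻¹ * z * h⁻¹⁻¹ = z := c.Z_conj (inv_mem hh) (mem_zpowers z)
    calc n * z * n⁻¹ = g * (h⁻¹ * (d.ν ^ j * z * (d.ν ^ j)⁻¹) * h⁻¹⁻¹) * g⁻¹ := by rw [hn]; group
      _ = g * z * g⁻¹ := by rw [h1, h2]
  obtain ⟨N, hN, hNc, hN2, hN8, ⟨φ⟩, hX, -, -⟩ := d.quot_facts hG hinv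
  haveI := hN
  haveI := hNc
  obtain ⟨ψ⟩ := psl_equiv_sl
  haveI : Nontrivial (d.X ⧸ N) := Finite.one_lt_card_iff_nontrivial.mp (by
    rw [Nat.card_congr φ.toEquiv, card_sl_three]; norm_num)
  haveI : IsSimpleGroup (d.X ⧸ N) := by
    haveI := Cfsg.Agent.S0249.result (F := ZMod 2) 3 (le_refl 3)
    exact IsSimpleGroup.isSimpleGroup_of_surjective (ψ.trans φ.symm).toMonoidHom (ψ.trans φ.symm).surjective
  set π := QuotientGroup.mk' N
  -- N lies in L
  have hNL : N ≤ d.L := by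
    set f : d.L →* d.X ⧸ N := π.comp d.L.subtype
    have h1 := Subgroup.card_mul_index f.ker
    rw [Subgroup.index_ker, d.card_L] at h1
    have h2 : Nat.card f.range ∣ 168 := by
      rw [← card_sl_three, ← Nat.card_congr φ.toEquiv]; exact card_subgroup_dvd_card _
    have hker : f.ker.map d.L.subtype ≤ N := by
      rintro _ ⟨x, hx, rfl⟩
      exact (QuotientGroup.eq_one_iff _).mp hx
    have h3 : Nat.card f.ker ∣ 8 := by
      have := card_dvd_of_le hker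
      rwa [card_map_of_injective d.L.subtype_injective, hN8] at this
    have h4 : 8 ≤ Nat.card f.ker := by
      have h24 : Nat.card f.range ∣ 24 := by
        have : Nat.card f.range ∣ Nat.gcd 168 192 := Nat.dvd_gcd h2 ⟨Nat.card f.ker, by rw [mul_comm]; exact h1.symm⟩
        exact this
      have := Nat.le_of_dvd (by norm_num) h24
      nlinarith
    have := eq_of_le_of_card_ge hker (by rw [card_map_of_injective d.L.subtype_injective, hN8]; exact h4)
    rw [← this]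
    exact Subgroup.map_subtype_le _
  -- the central involution lies in N
  have hab : ∀ a ∈ N, ∀ b ∈ N, a * b = b * a := fun a ha b hb =>
    congrArg Subtype.val (mul_comm' (⟨a, ha⟩ : N) ⟨b, hb⟩)
  have hsN : d.s ∈ N := by
    by_contra hs
    have hmap : (centralizer (N : Set d.X)).map π = ⊤ := by
      refine ((Subgroup.Normal.map inferInstance π (QuotientGroup.mk'_surjective N)).eq_bot_or_eq_top).resolve_left ?_
      intro hb
      have hmem : π d.s ∈ (centralizer (N : Set d.X)).map π :=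
        mem_map_of_mem π (mem_centralizer_iff.mpr fun y hy => mem_centralizer_singleton_iff.mp (hNL hy))
      rw [hb, mem_bot] at hmem
      exact hs ((QuotientGroup.eq_one_iff _).mp hmem)
    have hNC : N ≤ centralizer (N : Set d.X) := fun n hn => mem_centralizer_iff.mpr fun m hm => hab m hm n hn
    have htop := congrArg (Subgroup.comap π) hmap
    rw [comap_top, comap_map_eq, QuotientGroup.ker_mk', sup_eq_left.mpr hNC] at htop
    have hN_le : N ≤ zpowers d.s := fun y hy => by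
      refine d.center_L (hNL hy) (by rw [← sq]; exact hN2 y hy) fun x _ => ?_
      exact (mem_centralizer_iff.mp (htop ▸ mem_top x : x ∈ centralizer (N : Set d.X)) y hy).symm
    have := card_le_of_le hN_le
    rw [hN8, Nat.card_zpowers, d.order_s] at this
    norm_num at this
  -- hence the image of w lies in Db
  have hNDb : N ≤ d.Db := by
    have h1 : N.subgroupOf d.L ≤ pCore 2 ↥d.L := le_sSup (⟨inferInstance, IsPGroup.of_card (n := 3) (by
      rw [Nat.card_congr (subgroupOfEquivOfLe hNL).toEquiv, hN8]; norm_num)⟩ :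
        (N.subgroupOf d.L).Normal ∧ IsPGroup 2 (N.subgroupOf d.L))
    rw [d.pCore_L] at h1
    intro x hx
    exact mem_subgroupOf.mp (h1 (mem_subgroupOf.mpr hx : (⟨x, hNL hx⟩ : d.L) ∈ N.subgroupOf d.L))
  have hwcq : n * z * n⁻¹ ∈ d.cq := mul_mem (mul_mem hncq d.z_cq) (inv_mem hncq)
  have himg : d.img ⟨n * z * n⁻¹, hwcq⟩ ∈ N := by
    have := hN.conj_mem _ hsN (d.img ⟨n, hncq⟩)
    rwa [s, ← map_mul, ← map_inv, ← map_mul] at this
  obtain ⟨e, he, hee⟩ := d.mem_Db.mp (hNDb himg)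
  have hwH : n * z * n⁻¹ ∈ centralizer ({z} : Set G) := d.img_mem_L.mp (hNL himg)
  have hq : e⁻¹ * (n * z * n⁻¹) ∈ zpowers d.q := by
    refine (d.img_eq_one (x := ⟨e, d.D_le_cq he⟩⁻¹ * ⟨n * z * n⁻¹, hwcq⟩)).mp ?_
    rw [map_mul, map_inv, hee, inv_mul_cancel]
  have he' : Commute e (n * z * n⁻¹) := by
    have h1 : Commute e (e⁻¹ * (n * z * n⁻¹)) := by
      obtain ⟨i, hi⟩ := mem_zpowers_iff.mp hq
      rw [← hi]
      have h0 : Commute e d.q := d.mem_cq.mp (d.D_le_cq he)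
      exact h0.zpow_right i
    have := (Commute.refl e).mul_right h1
    rwa [mul_inv_cancel_left] at this
  have h4 : (e⁻¹ * (n * z * n⁻¹)) ^ 4 = 1 := by
    have e4 : e ^ 4 = 1 := by
      rw [show 4 = 2 * 2 from rfl, pow_mul, sq, sq, c.Z_sq (c.sq_mem_Z (d.mem_D.mp he).1)]
    rw [he'.inv_left.mul_pow, inv_pow, e4, conj_pow, show z ^ 4 = (z * z) * (z * z) by simp only [pow_succ, pow_zero]; group,
      c.zz]
    group
  have hone := d.small hq h4 (by norm_num)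
  rw [inv_mul_eq_one] at hone
  rw [← hnz, ← hone]
  exact (d.mem_D.mp he).1

include d in
/-- A conjugate of z centralizing an element of order five of H lies in E. -/
theorem five_class' [IsSimpleGroup G] (hG : ¬ IsMulCommutative G)
    (hinv : ∃ n ∈ centralizer ({z} : Set G), ∀ q ∈ P, n * q * n⁻¹ = q⁻¹) {w f : G} (hw : c.IsZ w)
    (hf : f ∈ centralizer ({z} : Set G)) (hf5 : f ^ 5 = 1) (hf1 : f ≠ 1) (hwf : w * f = f * w) : w ∈ E := by
  obtain ⟨h, hh, k, hk, hk0, hk'⟩ := d.five_conj hf hf5 hf1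
  have h1 : Commute (d.q ^ k) (h * w * h⁻¹) := by
    show d.q ^ k * (h * w * h⁻¹) = h * w * h⁻¹ * d.q ^ k
    rw [← hk', show h * f * h⁻¹ * (h * w * h⁻¹) = h * (f * w) * h⁻¹ by group, ← hwf]; group
  have h2 := d.five_class hG hinv (c.isZ_conj hw h) (commute_of_pow d.q5 hk hk0 h1).eq.symm
  have h3 := c.conj_E (inv_mem hh) h2
  rwa [show h⁻¹ * (h * w * h⁻¹) * h⁻¹⁻¹ = w by group] at h3

include d in
/-- Some conjugate of z is an outer element of H. -/
theorem exists_outer_isZ [IsSimpleGroup G] (hG : ¬ IsMulCommutative G)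
    (hinv : ∃ n ∈ centralizer ({z} : Set G), ∀ q ∈ P, n * q * n⁻¹ = q⁻¹) :
    ∃ u ∈ centralizer ({z} : Set G), u ∉ c.H0 ∧ c.IsZ u := by
  classical
  by_contra hall
  push Not at hall
  have hallZ : ∀ t ∈ centralizer ({z} : Set G), c.IsZ t → t ∈ c.H0 := fun t ht hz => by
    by_contra h
    exact hall t ht h hz
  obtain ⟨hCH, g, p, hp, hgen, hrcen, hr1, hu1c, hz'c, hz'1, -, hu1Z⟩ := c.cent_P hG hinv
  set r := g⁻¹ * p * g with hr
  set z' := g⁻¹ * z * g with hz'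
  set u1 := g * z * g⁻¹ with hu1
  have hz'Z : c.IsZ z' := ⟨g⁻¹, by rw [hz', inv_inv]⟩
  have hu1isZ : c.IsZ u1 := ⟨g, rfl⟩
  have hval_sq : ∀ t ∈ c.cen, c.IsZ t → c.val t * c.val t = 1 := fun t ht hz => by
    rw [← c.val_mul (c.cen_le_H0 ht) (c.cen_le_H0 ht), c.isZ_sq hz]
    exact (c.val_eq_one (one_mem _)).mpr (one_mem _)
  -- every involution of M22 lifts to a conjugate of z
  have hlift : ∀ i : MTwoTwo, i * i = 1 → i ≠ 1 → ∃ t ∈ c.cen, c.IsZ t ∧ c.val t = i := by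
    intro i hi hi1
    obtain ⟨a0, ha0⟩ := invol_conj (hval_sq z' hz'c hz'Z) hz'1
    obtain ⟨a1, ha1⟩ := invol_conj hi hi1
    obtain ⟨x, hx, hxv⟩ := c.exists_val (a1 * a0⁻¹)
    refine ⟨x * z' * x⁻¹, mul_mem (mul_mem hx hz'c) (inv_mem hx), c.isZ_conj hz'Z x, ?_⟩
    rw [c.val_conj (c.cen_le_H0 hx) (c.cen_le_H0 hz'c), hxv, ← ha1, ← ha0]; group
  -- lifts of commuting involutions commute
  have hcomm : ∀ s ∈ c.cen, c.IsZ s → ∀ t ∈ c.cen, c.IsZ t → c.val s * c.val t = c.val t * c.val s →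
      s * t = t * s := by
    intro s hs hsZ t ht htZ hst
    have ss := c.isZ_sq hsZ
    have tt := c.isZ_sq htZ
    have hv : c.val (s * t) = c.val s * c.val t := c.val_mul (c.cen_le_H0 hs) (c.cen_le_H0 ht)
    by_cases h1 : c.val (s * t) = 1
    · obtain ⟨-, hcen, -⟩ := c.cen_ker (mul_mem hs ht) h1
      have h := hcen s hs
      calc s * t = s * t * (s * s) := by rw [ss, mul_one]
        _ = (s * t * s) * s := by group
        _ = (s * (s * t)) * s := by rw [h]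
        _ = t * s := by rw [← mul_assoc s s t, ss, one_mul]
    have hi : c.val (s * t) * c.val (s * t) = 1 := by
      rw [hv, show c.val s * c.val t * (c.val s * c.val t) = c.val s * (c.val t * c.val s) * c.val t by group, ← hst,
        show c.val s * (c.val s * c.val t) * c.val t = (c.val s * c.val s) * (c.val t * c.val t) by group,
        hval_sq s hs hsZ, hval_sq t ht htZ, mul_one]
    obtain ⟨w, hw, hwZ, hwv⟩ := hlift _ hi h1
    have hk : w⁻¹ * (s * t) ∈ c.cen := mul_mem (inv_mem hw) (mul_mem hs ht)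
    obtain ⟨h6, hcen, -⟩ := c.cen_ker hk (by
      rw [c.val_mul (c.cen_le_H0 (inv_mem hw)) (c.cen_le_H0 (mul_mem hs ht)), c.val_inv (c.cen_le_H0 hw), hwv,
        inv_mul_cancel])
    set k := w⁻¹ * (s * t)
    have hsq : (s * t) ^ 2 = k ^ 2 := by
      rw [show s * t = w * k by simp only [k]; group, (show Commute w k from hcen w hw).mul_pow, sq w, c.isZ_sq hwZ,
        one_mul]
    have hck : s * k ^ 2 = k ^ 2 * s := ((show Commute s k from hcen s hs).pow_right 2).eq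
    have h4 : k ^ 4 = 1 := by
      have e1 : s * (s * t) ^ 2 * s = ((s * t) ^ 2)⁻¹ := by
        refine eq_inv_of_mul_eq_one_left ?_
        calc s * (s * t) ^ 2 * s * (s * t) ^ 2 = (s * s) * t * s * (t * (s * s) * t) * s * t := by rw [sq]; group
          _ = 1 := by rw [ss, mul_one, one_mul, tt, mul_one, show t * s * s * t = t * (s * s) * t by group, ss, mul_one, tt]
      rw [hsq, hck, mul_assoc, ss, mul_one, eq_inv_iff_mul_eq_one, ← pow_add] at e1
      exact e1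
    have h2 := (pow_gcd_eq_one (m := 6) (n := 4) (a := k)).mpr ⟨h6, h4⟩
    rw [show Nat.gcd 6 4 = 2 from rfl, ← hsq, sq] at h2
    calc s * t = (s * t)⁻¹ := eq_inv_of_mul_eq_one_left h2
      _ = t * s := by
        rw [mul_inv_rev, inv_eq_of_mul_eq_one_left tt, inv_eq_of_mul_eq_one_left ss]
  have hu1v : c.val u1 ≠ 1 := fun h => by
    obtain ⟨h6, -, t, ht, q, hq, e⟩ := c.cen_ker hu1c h
    refine hu1Z ?_
    have hqq : u1 * u1 = t * t * (q * q) := by
      rw [e, show t * q * (t * q) = t * (q * t) * q by group, c.Z_comm (c.P_le hq) ht]; group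
    rw [c.isZ_sq hu1isZ, c.Z_sq ht, one_mul] at hqq
    have hq1 : q = 1 := by
      have := c.P_cube hq
      rwa [← hqq, one_mul] at this
    rw [e, hq1, mul_one]; exact ht
  -- the centralizer of r in H lies in H0
  have hCr : ∀ h ∈ centralizer ({z} : Set G), h * r = r * h → h ∈ c.H0 := by
    intro h hh hhr
    set y := g * h * g⁻¹ with hy
    have hyP : y ∈ centralizer (P : Set G) := c.comm_gen hgen (by
      rw [hy]
      calc g * h * g⁻¹ * p = g * (h * r) * g⁻¹ := by rw [hr]; group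
        _ = p * (g * h * g⁻¹) := by rw [hhr, hr]; group)
    have hyc : y ∈ c.cen := ⟨hCH hyP, hyP⟩
    have hyu : y * u1 = u1 * y := by
      rw [hy, hu1, show g * h * g⁻¹ * (g * z * g⁻¹) = g * (h * z) * g⁻¹ by group, mem_centralizer_singleton_iff.mp hh]
      group
    set K : Subgroup G := c.cen ⊓ c.H0.comap (MulAut.conj g⁻¹).toMonoidHom with hK
    have hKm : ∀ {x : G}, x ∈ K ↔ x ∈ c.cen ∧ g⁻¹ * x * g ∈ c.H0 := fun {x} => by
      rw [hK, mem_inf, mem_comap, MulEquiv.coe_toMonoidHom, MulAut.conj_apply, inv_inv]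
    have hker : ∀ x ∈ c.cen, c.val x = 1 → x ∈ K := by
      intro x hx hv
      obtain ⟨-, -, t, ht, q, hq, rfl⟩ := c.cen_ker hx hv
      refine mul_mem (hKm.mpr ⟨c.Z_le_cen ht, ?_⟩) (hKm.mpr ⟨c.P_le_cen hq, ?_⟩)
      · rcases c.mem_Z.mp ht with rfl | rfl
        · rw [mul_one, inv_mul_cancel]; exact one_mem _
        · exact c.cen_le_H0 hz'c
      · obtain ⟨i, rfl⟩ := mem_zpowers_iff.mp (hgen ▸ hq : q ∈ zpowers p)
        rw [show g⁻¹ * p ^ i * g = r ^ i by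
          rw [hr, show g⁻¹ * p * g = g⁻¹ * p * g⁻¹⁻¹ by rw [inv_inv], conj_zpow, inv_inv]]
        exact zpow_mem (c.cen_le_H0 hrcen) i
    have hgen' : c.val y ∈ (K.subgroupOf c.cen).map c.valHom := by
      refine (Subgroup.closure_le _).mpr ?_ (invol_cent_gen (hval_sq u1 hu1c hu1isZ) hu1v (g := c.val y) (by
        rw [← c.val_mul (c.cen_le_H0 hyc) (c.cen_le_H0 hu1c), hyu, c.val_mul (c.cen_le_H0 hu1c) (c.cen_le_H0 hyc)]))
      rintro j ⟨hj2, hjc⟩
      by_cases hj1 : j = 1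
      · rw [hj1]; exact one_mem _
      obtain ⟨t, ht, htZ, htv⟩ := hlift j hj2 hj1
      refine ⟨⟨t, ht⟩, mem_subgroupOf.mpr (hKm.mpr ⟨ht, hallZ _ ?_ ?_⟩), htv⟩
      · refine mem_centralizer_singleton_iff.mpr ?_
        have hc := hcomm t ht htZ u1 hu1c hu1isZ (by rw [htv]; exact hjc)
        calc g⁻¹ * t * g * z = g⁻¹ * (t * u1) * g := by rw [hu1]; group
          _ = z * (g⁻¹ * t * g) := by rw [hc, hu1]; group
      · have := c.isZ_conj htZ g⁻¹
        rwa [inv_inv] at this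
    obtain ⟨⟨x, hx⟩, hxK, hxv⟩ := hgen'
    have hxv' : c.val x = c.val y := hxv
    have hk : x⁻¹ * y ∈ K := hker _ (mul_mem (inv_mem hx) hyc) (by
      rw [c.val_mul (c.cen_le_H0 (inv_mem hx)) (c.cen_le_H0 hyc), c.val_inv (c.cen_le_H0 hx), hxv', inv_mul_cancel])
    have hyK := mul_mem (mem_subgroupOf.mp hxK) hk
    rw [mul_inv_cancel_left] at hyK
    have := (hKm.mp hyK).2
    rwa [hy, show g⁻¹ * (g * h * g⁻¹) * g = h by group] at this
  -- an outer element centralizing a conjugate of r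
  obtain ⟨θ, hθ, -, a, hθa, ha3⟩ := outer_three
  obtain ⟨b, hb⟩ : m.μ⁻¹ * θ ∈ (MulAut.conj (G := MTwoTwo)).range := by
    rw [Subgroup.mul_mem_iff_of_index_two CfsgGolay.OutSmall.out_M22, inv_mem_iff]
    exact iff_of_false d.μ_outer hθ
  obtain ⟨xb, hxb, hxbv⟩ := c.exists_val b
  set h := d.τ * xb with hh_def
  have hh : h ∈ centralizer ({z} : Set G) := mul_mem d.τH hxb.1
  have h0 : h ∉ c.H0 := fun e => d.τout ((mul_mem_cancel_right (c.cen_le_H0 hxb)).mp e)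
  have hhP : ∀ q ∈ P, h * q * h⁻¹ = q⁻¹ := fun q hq => by
    rw [hh_def, show d.τ * xb * q * (d.τ * xb)⁻¹ = d.τ * (xb * q * xb⁻¹) * d.τ⁻¹ by group, c.cen_comm hxb hq,
      mul_inv_cancel_right, d.τP q hq]
  have hθh : ∀ x ∈ c.cen, h * x * h⁻¹ ∈ c.cen ∧ c.val (h * x * h⁻¹) = θ (c.val x) := fun x hx => by
    have e : h * x * h⁻¹ = d.τ * (xb * x * xb⁻¹) * d.τ⁻¹ := by rw [hh_def]; group
    obtain ⟨h1, h2⟩ := d.τv _ (mul_mem (mul_mem hxb hx) (inv_mem hxb))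
    refine ⟨e ▸ h1, ?_⟩
    rw [e, h2, c.val_conj (c.cen_le_H0 hxb) (c.cen_le_H0 hx), hxbv,
      show b * c.val x * b⁻¹ = (MulAut.conj b) (c.val x) from rfl, hb, MulAut.mul_apply]
    exact m.μ.apply_symm_apply _
  obtain ⟨x0, hx0, hx0v⟩ := c.exists_val a
  have ha3' : a ^ 3 = 1 := ha3 ▸ pow_orderOf_eq_one a
  have ha1 : a ≠ 1 := fun e => by rw [e, orderOf_one] at ha3; norm_num at ha3
  set w := x0 ^ 4 with hw
  have hwc : w ∈ c.cen := pow_mem hx0 4
  have hwv : c.val w = a := by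
    rw [hw, c.val_pow (c.cen_le_H0 hx0), hx0v, pow_succ, ha3', one_mul]
  have hw3 : w ^ 3 = 1 := c.cen_cube hwc (by
    rw [hw, ← pow_mul, show 4 * 9 = 3 * 6 * 2 from rfl, pow_mul, pow_mul,
      (c.cen_ker (pow_mem hx0 3) (by rw [c.val_pow (c.cen_le_H0 hx0), hx0v, ha3'])).1, one_pow]) (by rw [hwv, ha3'])
  obtain ⟨hwc', hwv'⟩ := hθh w hwc
  set k := w⁻¹ * (h * w * h⁻¹) with hk
  have hkc : k ∈ c.cen := mul_mem (inv_mem hwc) hwc'
  have hkv : c.val k = 1 := by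
    rw [hk, c.val_mul (c.cen_le_H0 (inv_mem hwc)) (c.cen_le_H0 hwc'), c.val_inv (c.cen_le_H0 hwc), hwv', hwv, hθa,
      inv_mul_cancel]
  obtain ⟨-, hkcen, -⟩ := c.cen_ker hkc hkv
  have hwk : h * w * h⁻¹ = w * k := by rw [hk, mul_inv_cancel_left]
  have hk3 : k ^ 3 = 1 := by
    have h1 : (h * w * h⁻¹) ^ 3 = 1 := by rw [conj_pow, hw3, mul_one, mul_inv_cancel]
    rwa [hwk, (show Commute w k from hkcen w hwc).mul_pow, hw3, one_mul] at h1
  have hkP : k ∈ P := c.mem_P_of hkc hkv (by rw [show 9 = 3 * 3 from rfl, pow_mul, hk3, one_pow])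
  set w2 := w * (k * k) with hw2
  have hw2c : w2 ∈ c.cen := mul_mem hwc (mul_mem hkc hkc)
  have hw2v : c.val w2 = a := by
    rw [hw2, c.val_mul (c.cen_le_H0 hwc) (c.cen_le_H0 (mul_mem hkc hkc)), c.val_mul (c.cen_le_H0 hkc) (c.cen_le_H0 hkc),
      hkv, hwv, mul_one, mul_one]
  have hw23 : w2 ^ 3 = 1 := by
    rw [hw2, (show Commute w (k * k) from Commute.mul_right (hkcen w hwc) (hkcen w hwc)).mul_pow, hw3, one_mul,
      ← sq, ← pow_mul, mul_comm 2 3, pow_mul, hk3, one_pow]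
  have hfix : h * w2 = w2 * h := by
    refine mul_inv_eq_iff_eq_mul.mp ?_
    rw [hw2, show h * (w * (k * k)) * h⁻¹ = (h * w * h⁻¹) * ((h * k * h⁻¹) * (h * k * h⁻¹)) by group, hwk, hhP k hkP]
    have e : k⁻¹ = k * k := inv_eq_of_mul_eq_one_right (by rw [← hk3]; simp only [pow_succ, pow_zero]; group)
    rw [show w * k * (k⁻¹ * k⁻¹) = w * k⁻¹ by group, e]
  obtain ⟨R, S, hS⟩ := c.exists_nineSyl
  have hp3 : ∀ x : G, x ^ 3 = 1 → IsPGroup 3 (zpowers x) := by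
    rintro x hx ⟨y, hy⟩
    obtain ⟨i, rfl⟩ := mem_zpowers_iff.mp hy
    exact ⟨1, Subtype.ext (by
      rw [pow_one, coe_pow]
      show (x ^ i) ^ 3 = 1
      rw [← zpow_natCast, ← zpow_mul, mul_comm, zpow_mul, zpow_natCast, hx, one_zpow])⟩
  have r3 : r ^ 3 = 1 := by
    rw [hr, show (g⁻¹ * p * g) ^ 3 = g⁻¹ * (p * p * p) * g by simp only [pow_succ, pow_zero]; group, c.P_cube hp]
    group
  obtain ⟨y1, hy1, hy1S⟩ := hS.conj_into (hp3 r r3) (zpowers_le.mpr hrcen)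
  obtain ⟨y2, hy2, hy2S⟩ := hS.conj_into (hp3 w2 hw23) (zpowers_le.mpr hw2c)
  have hr1S := hy1S r (mem_zpowers r)
  have hr2S := hy2S w2 (mem_zpowers w2)
  set r1 := y1 * r * y1⁻¹ with hr1_def
  set r2 := y2 * w2 * y2⁻¹ with hr2_def
  have hv2 : c.val r2 ≠ 1 := by
    rw [hr2_def, c.val_conj (c.cen_le_H0 hy2) (c.cen_le_H0 hw2c), hw2v]
    exact fun e => ha1 (conj_eq_one_iff.mp e)
  obtain ⟨n, -, hn⟩ := (nine_facts hS.hR).2.2.1 _ (hS.val_mem _ hr1S) _ (hS.val_mem _ hr2S) (by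
    rw [hr1_def, c.val_conj (c.cen_le_H0 hy1) (c.cen_le_H0 hrcen)]
    exact fun e => hr1 (conj_eq_one_iff.mp e)) hv2
  obtain ⟨xn, hxn, hxnv⟩ := c.exists_val n
  have hconj3 : ∀ {y x : G}, x ^ 3 = 1 → (y * x * y⁻¹) ^ 3 = 1 := fun {y x} hx => by
    rw [conj_pow, hx, mul_one, mul_inv_cancel]
  have hr2c := hS.le hr2S
  have hk'c : r2⁻¹ * (xn * r1 * xn⁻¹) ∈ c.cen :=
    mul_mem (inv_mem hr2c) (mul_mem (mul_mem hxn (hS.le hr1S)) (inv_mem hxn))
  have hk'v : c.val (r2⁻¹ * (xn * r1 * xn⁻¹)) = 1 := by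
    rw [c.val_mul (c.cen_le_H0 (inv_mem hr2c)) (c.cen_le_H0 (mul_mem (mul_mem hxn (hS.le hr1S)) (inv_mem hxn))),
      c.val_inv (c.cen_le_H0 hr2c), c.val_conj (c.cen_le_H0 hxn) (c.cen_le_H0 (hS.le hr1S)), hxnv, hn,
      inv_mul_cancel]
  obtain ⟨-, hk'cen, -⟩ := c.cen_ker hk'c hk'v
  set k' := r2⁻¹ * (xn * r1 * xn⁻¹) with hk'_def
  have hk'3 : k' ^ 3 = 1 := by
    have h1 : (r2 * k') ^ 3 = 1 := by
      rw [hk'_def, mul_inv_cancel_left]; exact hconj3 (hconj3 r3)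
    rwa [(show Commute r2 k' from hk'cen r2 hr2c).mul_pow, hconj3 hw23, one_mul] at h1
  have hk'P : k' ∈ zpowers p := hgen ▸ c.mem_P_of hk'c hk'v (by rw [show 9 = 3 * 3 from rfl, pow_mul, hk'3, one_pow])
  obtain ⟨i, hi⟩ : ∃ i : ℕ, p ^ i = k' := (mem_powers_iff_mem_zpowers.mpr hk'P : k' ∈ Submonoid.powers p)
  obtain ⟨s, hs, hsr⟩ := c.exists_lift_frame hr2c (hconj3 hw23) hv2 hp hgen
  have hsi : ∀ j : ℕ, s ^ j * r2 * (s ^ j)⁻¹ = r2 * p ^ j := by
    intro j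
    induction j with
    | zero => simp
    | succ j ih =>
      have hps : s * p ^ j * s⁻¹ = p ^ j := by
        rw [c.cen_comm hs (pow_mem hp j), mul_inv_cancel_right]
      calc s ^ (j + 1) * r2 * (s ^ (j + 1))⁻¹ = s * (s ^ j * r2 * (s ^ j)⁻¹) * s⁻¹ := by rw [pow_succ']; group
        _ = (s * r2 * s⁻¹) * (s * p ^ j * s⁻¹) := by rw [ih]; group
        _ = r2 * p ^ (j + 1) := by rw [hsr, hps, pow_succ', mul_assoc]
  set x := y2⁻¹ * (s ^ i)⁻¹ * xn * y1 with hx_def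
  have hxc : x ∈ c.cen := mul_mem (mul_mem (mul_mem (inv_mem hy2) (inv_mem (pow_mem hs i))) hxn) hy1
  have hxr : x * r * x⁻¹ = w2 := by
    calc x * r * x⁻¹ = y2⁻¹ * ((s ^ i)⁻¹ * (xn * r1 * xn⁻¹) * s ^ i) * y2 := by rw [hx_def, hr1_def]; group
      _ = y2⁻¹ * r2 * y2 := by
        rw [show xn * r1 * xn⁻¹ = r2 * k' by rw [hk'_def, mul_inv_cancel_left], ← hi, ← hsi i]; group
      _ = w2 := by rw [hr2_def]; group
  have hmem : x⁻¹ * h * x ∈ c.H0 := hCr _ (mul_mem (mul_mem (inv_mem hxc.1) hh) hxc.1) (by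
    calc x⁻¹ * h * x * r = x⁻¹ * (h * w2) * x := by rw [← hxr]; group
      _ = r * (x⁻¹ * h * x) := by rw [hfix, ← hxr]; group)
  refine h0 ?_
  have := mul_mem (mul_mem (c.cen_le_H0 hxc) hmem) (inv_mem (c.cen_le_H0 hxc))
  rwa [show x * (x⁻¹ * h * x) * x⁻¹ = h by group] at this

include d in
/-- An outer conjugate of z centralizes an element of order seven of cen. -/
theorem exists_outer_seven [IsSimpleGroup G] (hG : ¬ IsMulCommutative G)
    (hinv : ∃ n ∈ centralizer ({z} : Set G), ∀ q ∈ P, n * q * n⁻¹ = q⁻¹) :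
    ∃ r u : G, r ∈ c.cen ∧ r ^ 7 = 1 ∧ c.val r ≠ 1 ∧ u ∈ centralizer ({z} : Set G) ∧ u ∉ c.H0 ∧ c.IsZ u ∧
      u * u = 1 ∧ u * r = r * u ∧ ∀ q ∈ P, u * q * u⁻¹ = q⁻¹ := by
  classical
  obtain ⟨u0, hu0, hu00, hu0Z⟩ := d.exists_outer_isZ hG hinv
  obtain ⟨e, he, n, hn, hen, hnP⟩ := c.outer u0 hu0 hu00
  obtain ⟨p, hp, -, hgen⟩ := c.exists_gen
  have hn2c : n * n ∈ c.cen := ⟨mul_mem hn hn, mem_centralizer_iff.mpr fun q hq => by
    have h1 : n * n * q * (n * n)⁻¹ = q := by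
      rw [show n * n * q * (n * n)⁻¹ = n * (n * q * n⁻¹) * n⁻¹ by group, hnP q hq, hnP _ (inv_mem hq), inv_inv]
    exact (mul_inv_eq_iff_eq_mul.mp h1).symm⟩
  have hsq : e * (n * e * n⁻¹) * (n * n) = 1 := by
    rw [← c.isZ_sq hu0Z, hen]; group
  have hneE : n * e * n⁻¹ ∈ E := c.conj_E hn he
  have ht0 : n * n ∈ zpowers z := c.E_inf_cen (by
    rw [eq_inv_of_mul_eq_one_right hsq]; exact inv_mem (mul_mem he hneE)) hn2c
  set t0 := n * n with ht0_def
  have hne : (n * e * n⁻¹)⁻¹ = t0 * e := by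
    refine inv_eq_of_mul_eq_one_right ?_
    calc n * e * n⁻¹ * (t0 * e) = e⁻¹ * (e * (n * e * n⁻¹) * t0) * e := by group
      _ = 1 := by rw [hsq]; group
  set f := p * e * p⁻¹ with hf
  have hfE : f ∈ E := c.conj_E (c.P_le hp) he
  have hnp : n * p = p⁻¹ * n := mul_inv_eq_iff_eq_mul.mp (hnP p hp)
  have hnf : n * f⁻¹ * n⁻¹ = t0 * (p⁻¹ * e * p) := by
    calc n * f⁻¹ * n⁻¹ = (n * p) * e⁻¹ * (n * p)⁻¹ := by rw [hf]; group
      _ = p⁻¹ * (n * e * n⁻¹)⁻¹ * p := by rw [hnp]; group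
      _ = (p⁻¹ * t0 * p) * (p⁻¹ * e * p) := by rw [hne]; group
      _ = t0 * (p⁻¹ * e * p) := by
        rw [c.Z_comm (inv_mem (c.P_le hp)) ht0, inv_mul_cancel_right]
  set u := f * u0 * f⁻¹ with hu
  set F := p * e * p⁻¹ * e * (p⁻¹ * e * p) with hF
  have hFZ : F ∈ zpowers z := c.orbit_mem_Z hp hgen he
  have hun : u = t0 * F * n := by
    calc u = f * e * (n * f⁻¹ * n⁻¹) * n := by rw [hu, hen]; group
      _ = (f * e * t0) * (p⁻¹ * e * p) * n := by rw [hnf]; group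
      _ = t0 * F * n := by rw [c.Z_comm (c.Ez (mul_mem hfE he)) ht0, hF, hf]; group
  have huH : u ∈ centralizer ({z} : Set G) := mul_mem (mul_mem (c.Ez hfE) hu0) (inv_mem (c.Ez hfE))
  have hu0' : u ∉ c.H0 := fun h => hu00 (by
    have hf0 := c.NH0 (c.EN hfE)
    have := mul_mem (mul_mem (inv_mem hf0) h) hf0
    rwa [hu, show f⁻¹ * (f * u0 * f⁻¹) * f = u0 by group] at this)
  have huZ : c.IsZ u := c.isZ_conj hu0Z f
  have uu := c.isZ_sq huZ
  have huP : ∀ q ∈ P, u * q * u⁻¹ = q⁻¹ := fun q hq => by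
    rw [hun, show t0 * F * n * q * (t0 * F * n)⁻¹ = t0 * F * (n * q * n⁻¹) * (t0 * F)⁻¹ by group, hnP q hq,
      ← c.Z_comm (c.P_le (inv_mem hq)) (mul_mem ht0 hFZ), mul_inv_cancel_right]
  obtain ⟨θ, hθ, hθv⟩ := d.outer_auto huH hu0' huP
  have hθ2 : θ * θ = 1 := MulEquiv.ext fun a => by
    obtain ⟨x, hx, rfl⟩ := c.exists_val a
    obtain ⟨h1, h1v⟩ := hθv x hx
    obtain ⟨-, h2v⟩ := hθv _ h1
    have ui : u⁻¹ = u := inv_eq_of_mul_eq_one_right uu
    rw [MulAut.mul_apply, h1v, h2v, ui,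
      show u * (u * x * u) * u = (u * u) * x * (u * u) by group, uu, one_mul, mul_one]
    rfl
  obtain ⟨a, hθa, ha⟩ := outer_fix hθ hθ2
  have main : ∀ p k : ℕ, orderOf a = p → 5 ≤ p → Nat.Coprime 6 p → k % p = 1 → 6 ∣ k →
      ∃ x ∈ c.cen, c.val x = a ∧ x ^ p = 1 ∧ x ≠ 1 ∧ u * x = x * u := by
    intro p k hop h5 hcop hk h6
    have hap : a ^ p = 1 := hop ▸ pow_orderOf_eq_one a
    obtain ⟨x, hx, hxv, hxp⟩ := c.lift_prime hap hk h6
    refine ⟨x, hx, hxv, hxp, fun e => ?_, mul_inv_eq_iff_eq_mul.mp ?_⟩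
    · rw [e, (c.val_eq_one (one_mem _)).mpr (one_mem _)] at hxv
      rw [← hxv, orderOf_one] at hop
      omega
    · obtain ⟨h1, h1v⟩ := hθv x hx
      exact c.prime_eq hcop h1 hx (by rw [conj_pow, hxp, mul_one, mul_inv_cancel]) hxp
        (by rw [← h1v, hxv, hθa])
  rcases ha with ha | ha
  · obtain ⟨x, hx, -, hx5, hx1, hux⟩ := main 5 6 ha le_rfl (by norm_num) (by norm_num) dvd_rfl
    exact absurd (c.NH0 (c.EN (d.five_class' hG hinv huZ hx.1 hx5 hx1 hux))) hu0'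
  · obtain ⟨x, hx, hxv, hx7, -, hux⟩ := main 7 36 ha (by norm_num) (by norm_num) (by norm_num) (by norm_num)
    refine ⟨x, u, hx, hx7, fun e => ?_, huH, hu0', huZ, uu, hux, huP⟩
    rw [← hxv, e, orderOf_one] at ha
    norm_num at ha

end FiveData5

end CfsgLib.JankoFour
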