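/-
Outer elements with prescribed action, canonical lifts of involutions, and the part of W' fixed by no P.
-/
import Cfsg.Agent.Lib.JankoFour.FiveOuter
import Cfsg.Agent.Lib.JankoFour.M22Pair
import Cfsg.Agent.Lib.JankoFour.OrbCount
import Cfsg.Agent.Lib.JankoFour.OrbOne
import Cfsg.Agent.Lib.JankoFour.FiveFusion
import Cfsg.Agent.Lib.JankoFour.SevenOuter

set_option autoImplicit false

namespace CfsgLib.JankoFour

open Cfsg Subgroup
open scoped commutatorElement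

universe u

variable {G : Type u} [Group G] [Finite G] {z : G} {P E : Subgroup G}

namespace Ctx

variable {c : Ctx z P E} {A : Subgroup MTwoTwo}

theorem cen_conj_inv (c : Ctx z P E) {n x : G} (hn : n ∈ centralizer ({z} : Set G))
    (hnP : ∀ q ∈ P, n * q * n⁻¹ = q⁻¹) (hx : x ∈ c.cen) : n * x * n⁻¹ ∈ c.cen := by
  refine ⟨Subgroup.mul_mem _ (Subgroup.mul_mem _ hn hx.1) (Subgroup.inv_mem _ hn), mem_centralizer_iff.mpr fun q hq => ?_⟩
  have h1 := hnP q⁻¹ (inv_mem hq)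
  rw [inv_inv] at h1
  have h2 := mem_centralizer_iff.mp hx.2 q⁻¹ (inv_mem hq)
  calc q * (n * x * n⁻¹) = n * (q⁻¹ * x) * n⁻¹ := by
        conv_lhs => rw [← h1]
        group
    _ = n * x * n⁻¹ * q := by
        rw [h2]
        conv_rhs => rw [← h1]
        group

theorem invert_inv {n : G} {P : Subgroup G} (hnP : ∀ q ∈ P, n * q * n⁻¹ = q⁻¹) :
    ∀ q ∈ P, n⁻¹ * q * n⁻¹⁻¹ = q⁻¹ := fun q hq => by
  have h := hnP q⁻¹ (inv_mem hq)
  rw [inv_inv] at h
  conv_lhs => rw [← h]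
  group

/-- Every outer automorphism is induced by an element inverting P. -/
theorem outer_lift (c : Ctx z P E) (hex : ∃ h ∈ centralizer ({z} : Set G), h ∉ c.H0)
    (hfaith : ∀ h ∈ centralizer ({z} : Set G), (∀ x ∈ c.cen, h * x * h⁻¹ * x⁻¹ ∈ c.N) → h ∈ c.N)
    {θ : MulAut MTwoTwo} (hθ : θ ∉ (MulAut.conj (G := MTwoTwo)).range) :
    ∃ f ∈ centralizer ({z} : Set G), f ∉ c.H0 ∧ (∀ q ∈ P, f * q * f⁻¹ = q⁻¹) ∧
      ∀ x ∈ c.cen, f * x * f⁻¹ ∈ c.cen ∧ c.val (f * x * f⁻¹) = θ (c.val x) := by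
  classical
  obtain ⟨h0, hh0, hh0'⟩ := hex
  obtain ⟨e, he, n, hn, hen, hnP⟩ := c.outer h0 hh0 hh0'
  have hn0 : n ∉ c.H0 := fun h => hh0' (hen ▸ mul_mem (c.NH0 (c.EN he)) h)
  have hwell : ∀ {m : G}, m ∈ centralizer ({z} : Set G) → (∀ q ∈ P, m * q * m⁻¹ = q⁻¹) → ∀ x ∈ c.cen, ∀ y ∈ c.cen,
      c.val x = c.val y → c.val (m * x * m⁻¹) = c.val (m * y * m⁻¹) := by
    intro m hm hmP x hx y hy hxy
    have hk : c.val (x⁻¹ * y) = 1 := by
      rw [c.val_mul (c.cen_le_H0 (inv_mem hx)) (c.cen_le_H0 hy), c.val_inv (c.cen_le_H0 hx), hxy, inv_mul_cancel]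
    obtain ⟨-, -, t, ht, q, hq, hk'⟩ := c.cen_ker (mul_mem (inv_mem hx) hy) hk
    have e1 : m * y * m⁻¹ = m * x * m⁻¹ * (m * t * m⁻¹ * (m * q * m⁻¹)) := by
      rw [show y = x * (t * q) by rw [← hk']; group]; group
    rw [hmP q hq, c.Z_comm hm ht, mul_inv_cancel_right] at e1
    rw [e1, c.val_mul (c.cen_le_H0 (c.cen_conj_inv hm hmP hx)) (c.NH0 (mul_mem (c.EN (c.Z_le ht)) (c.PN (inv_mem hq)))),
      (c.val_eq_one (c.NH0 (mul_mem (c.EN (c.Z_le ht)) (c.PN (inv_mem hq))))).mpr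
        (mul_mem (c.EN (c.Z_le ht)) (c.PN (inv_mem hq))), mul_one]
  choose L hL hLv using c.exists_val
  let F : G → MTwoTwo → MTwoTwo := fun m v => c.val (m * L v * m⁻¹)
  have hF : ∀ {m : G}, m ∈ centralizer ({z} : Set G) → (∀ q ∈ P, m * q * m⁻¹ = q⁻¹) → ∀ x ∈ c.cen,
      F m (c.val x) = c.val (m * x * m⁻¹) := fun hm hmP x hx => hwell hm hmP _ (hL _) x hx (hLv _)
  have hni := invert_inv hnP
  let μ : MulAut MTwoTwo :=
    { toFun := F n
      invFun := F n⁻¹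
      left_inv := fun v => by
        show F n⁻¹ (c.val (n * L v * n⁻¹)) = v
        rw [hF (inv_mem hn) hni _ (c.cen_conj_inv hn hnP (hL v)),
          show n⁻¹ * (n * L v * n⁻¹) * n⁻¹⁻¹ = L v by group, hLv]
      right_inv := fun v => by
        show F n (c.val (n⁻¹ * L v * n⁻¹⁻¹)) = v
        rw [hF hn hnP _ (c.cen_conj_inv (inv_mem hn) hni (hL v)),
          show n * (n⁻¹ * L v * n⁻¹⁻¹) * n⁻¹ = L v by group, hLv]
      map_mul' := fun v w => by
        show F n (v * w) = c.val (n * L v * n⁻¹) * c.val (n * L w * n⁻¹)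
        rw [← c.val_mul (c.cen_le_H0 (c.cen_conj_inv hn hnP (hL v))) (c.cen_le_H0 (c.cen_conj_inv hn hnP (hL w))),
          show n * L v * n⁻¹ * (n * L w * n⁻¹) = n * (L v * L w) * n⁻¹ by group,
          ← hF hn hnP _ (mul_mem (hL v) (hL w)), c.val_mul (c.cen_le_H0 (hL v)) (c.cen_le_H0 (hL w)), hLv, hLv] }
  have hμ : ∀ x ∈ c.cen, μ (c.val x) = c.val (n * x * n⁻¹) := hF hn hnP
  have hμo : μ ∉ (MulAut.conj (G := MTwoTwo)).range := by
    rintro ⟨m, hm⟩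
    refine hn0 ?_
    have hw : (L m)⁻¹ * n ∈ c.N := hfaith _ (mul_mem (inv_mem (hL m).1) hn) fun x hx => by
      have hy := c.cen_conj_inv hn hnP hx
      have hy' := mul_mem (mul_mem (inv_mem (hL m)) hy) (hL m)
      rw [show (L m)⁻¹ * n * x * ((L m)⁻¹ * n)⁻¹ * x⁻¹ = (L m)⁻¹ * (n * x * n⁻¹) * L m * x⁻¹ by group,
        ← c.val_eq_one (c.cen_le_H0 (mul_mem hy' (inv_mem hx))), c.val_mul (c.cen_le_H0 hy')
          (c.cen_le_H0 (inv_mem hx)), c.val_mul (c.cen_le_H0 (mul_mem (inv_mem (hL m)) hy)) (c.cen_le_H0 (hL m)),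
        c.val_mul (c.cen_le_H0 (inv_mem (hL m))) (c.cen_le_H0 hy), c.val_inv (c.cen_le_H0 (hL m)),
        c.val_inv (c.cen_le_H0 hx), hLv, ← hμ x hx, ← hm, MulAut.conj_apply]
      group
    have := mul_mem (c.cen_le_H0 (hL m)) (c.NH0 hw)
    rwa [mul_inv_cancel_left] at this
  have hout : (MulAut.conj (G := MTwoTwo)).range.index = 2 := CfsgGolay.OutSmall.out_M22
  obtain ⟨m, hm⟩ : μ⁻¹ * θ ∈ (MulAut.conj (G := MTwoTwo)).range :=
    (Subgroup.mul_mem_iff_of_index_two hout).mpr (iff_of_false (fun h => hμo ((inv_mem_iff).mp h)) hθ)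
  refine ⟨n * L m, mul_mem hn (hL m).1, fun h => hn0 ?_, fun q hq => ?_, fun x hx => ?_⟩
  · have := mul_mem h (inv_mem (c.cen_le_H0 (hL m)))
    rwa [mul_inv_cancel_right] at this
  · rw [show n * L m * q * (n * L m)⁻¹ = n * (L m * q * (L m)⁻¹) * n⁻¹ by group, c.cen_comm (hL m) hq,
      mul_inv_cancel_right, hnP q hq]
  · have hy : L m * x * (L m)⁻¹ ∈ c.cen := mul_mem (mul_mem (hL m) hx) (inv_mem (hL m))
    rw [show n * L m * x * (n * L m)⁻¹ = n * (L m * x * (L m)⁻¹) * n⁻¹ by group]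
    refine ⟨c.cen_conj_inv hn hnP hy, ?_⟩
    rw [← hμ _ hy, c.val_conj (c.cen_le_H0 (hL m)) (c.cen_le_H0 hx), hLv]
    have : θ = μ * MulAut.conj m := by rw [hm, mul_inv_cancel_left]
    rw [this, MulAut.mul_apply, MulAut.conj_apply]

/-- An element above an involution with square in the centre is an involution. -/
theorem sq_of_invol (c : Ctx z P E) {t : G} (ht : t ∈ c.cen) (hv : c.val t * c.val t = 1)
    (htt : t * t ∈ zpowers z) : t * t = 1 := by
  obtain ⟨B, hB, htB⟩ := hex_of_invol hv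
  exact c.vGrp_sq hB.1 (mem_sup_right ⟨ht, htB, htt⟩)

/-- Exactly one of the two lifts of an involution is a conjugate of z. -/
theorem Orb.twin_all (o : c.Orb A) {t : G} (ht : t ∈ c.cen) (htt : t * t = 1) (hv : c.val t ≠ 1) :
    c.IsZ (z * t) ↔ ¬ c.IsZ t := by
  have hvv : c.val t * c.val t = 1 := by
    rw [← c.val_mul (c.cen_le_H0 ht) (c.cen_le_H0 ht), htt]; exact (c.val_eq_one (one_mem _)).mpr (one_mem _)
  obtain ⟨B, hB, htB⟩ := hex_of_invol hvv
  obtain ⟨g, hg⟩ := c.hex_conj hB.1 o.hA.1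
  obtain ⟨x, hx, hxv⟩ := c.exists_val g
  have hyc : x * t * x⁻¹ ∈ c.cen := mul_mem (mul_mem hx ht) (inv_mem hx)
  have hyv : c.val (x * t * x⁻¹) = g * c.val t * g⁻¹ := by
    rw [c.val_conj (c.cen_le_H0 hx) (c.cen_le_H0 ht), hxv]
  have hy : x * t * x⁻¹ ∈ c.twoGrp A o.hA.1.1 := by
    refine ⟨hyc, ?_, ?_⟩
    · rw [hyv]; exact hg.le ⟨_, htB, rfl⟩
    · rw [show x * t * x⁻¹ * (x * t * x⁻¹) = x * (t * t) * x⁻¹ by group, htt, mul_one, mul_inv_cancel]
      exact one_mem _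
  have hyZ : x * t * x⁻¹ ∉ zpowers z := fun h => hv (conj_eq_one_iff.mp (hyv ▸ c.val_E (c.Z_le h)))
  have h := o.twin _ hy hyZ
  have e : z * (x * t * x⁻¹) = x * (z * t) * x⁻¹ := by
    rw [show x * (z * t) * x⁻¹ = x * z * (t * x⁻¹) by group, mem_centralizer_singleton_iff.mp hx.1]; group
  rwa [e, c.isZ_iff, c.isZ_iff] at h

/-- Equal lifts of an involution. -/
theorem Orb.lift_unique (o : c.Orb A) {s t : G} (hs : s ∈ c.cen) (ht : t ∈ c.cen) (hss : s * s = 1) (htt : t * t = 1)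
    (hsz : c.IsZ s) (htz : c.IsZ t) (hv : c.val s = c.val t) (hne : c.val t ≠ 1) : s = t := by
  have hk : c.val (t⁻¹ * s) = 1 := by
    rw [c.val_mul (c.cen_le_H0 (inv_mem ht)) (c.cen_le_H0 hs), c.val_inv (c.cen_le_H0 ht), hv, inv_mul_cancel]
  obtain ⟨-, hcomm, r, hr, q, hq, hk'⟩ := c.cen_ker (mul_mem (inv_mem ht) hs) hk
  have e : s = t * (r * q) := by rw [← hk']; group
  have h2 : r * q * (r * q) = 1 := by
    have h := hss
    rw [e, show t * (r * q) * (t * (r * q)) = t * (r * q * t) * (r * q) by group, ← hk', ← hcomm t ht, hk',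
      show t * (t * (r * q)) * (r * q) = t * t * (r * q * (r * q)) by group, htt, one_mul] at h
    exact h
  have hq1 : q = 1 := by
    have hc : r * q = q * r := (c.Z_comm (c.P_le hq) hr).symm
    rw [show r * q * (r * q) = r * (q * r) * q by group, ← hc, show r * (r * q) * q = r * r * (q * q) by group,
      c.Z_sq hr, one_mul] at h2
    have h3 := c.P_cube hq
    rwa [h2, one_mul] at h3
  rcases c.mem_Z.mp hr with h | h
  · rw [e, h, hq1, one_mul, mul_one]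
  · exfalso
    rw [h, hq1, mul_one, mem_centralizer_singleton_iff.mp ht.1] at e
    exact ((o.twin_all ht htt hne).mp (e ▸ hsz)) htz

theorem Orb.exists_zlift (o : c.Orb A) {m : MTwoTwo} (hm : m * m = 1) (hm1 : m ≠ 1) :
    ∃ t ∈ c.cen, t * t = 1 ∧ c.IsZ t ∧ c.val t = m := by
  obtain ⟨B, hB, hmB⟩ := hex_of_invol hm
  obtain ⟨t, ht, htv⟩ := c.twoGrp_lift hB.1.1 hmB
  have htt := c.vGrp_sq hB.1 (mem_sup_right ht)
  by_cases h : c.IsZ t
  · exact ⟨t, ht.1, htt, h, htv⟩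
  · have hzc : z ∈ c.cen := ⟨c.Ez c.zE, mem_centralizer_iff.mpr c.zP⟩
    refine ⟨z * t, mul_mem hzc ht.1, ?_, (o.twin_all ht.1 htt (htv ▸ hm1)).mpr h, ?_⟩
    · rw [show z * t * (z * t) = z * (t * z) * t by group, mem_centralizer_singleton_iff.mp ht.1.1,
        show z * (z * t) * t = z * z * (t * t) by group, c.zz, htt, one_mul]
    · rw [c.val_mul (c.cen_le_H0 hzc) (c.cen_le_H0 ht.1), c.val_E c.zE, one_mul, htv]

/-- The product of the conjugates under P. -/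
def pProd (_c : Ctx z P E) (p e : G) : G := p * e * p⁻¹ * e * (p⁻¹ * e * p)

theorem fixB_comm (c : Ctx z P E) {B : Subgroup MTwoTwo} (hB : HexLike B) {a b : G} (ha : a ∈ c.fixB B)
    (hb : b ∈ c.fixB B) : a * b = b * a :=
  c.vGrp_comm hB (mem_sup_left ha) (mem_sup_left hb)

theorem fixB_P' (c : Ctx z P E) {B : Subgroup MTwoTwo} {p e : G} (hp : p ∈ P) (he : e ∈ c.fixB B) :
    p⁻¹ * e * p ∈ c.fixB B := by
  have := c.fixB_P (inv_mem hp) he
  rwa [inv_inv] at this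

theorem pProd_mul (c : Ctx z P E) {B : Subgroup MTwoTwo} (hB : HexLike B) {p a b : G} (hp : p ∈ P)
    (ha : a ∈ c.fixB B) (hb : b ∈ c.fixB B) : c.pProd p (a * b) = c.pProd p a * c.pProd p b := by
  unfold pProd
  rw [show p * (a * b) * p⁻¹ = p * a * p⁻¹ * (p * b * p⁻¹) by group,
    show p⁻¹ * (a * b) * p = p⁻¹ * a * p * (p⁻¹ * b * p) by group]
  have hm1 := c.fixB_comm hB (c.fixB_P hp hb) ha
  have hm2 := c.fixB_comm hB (mul_mem (c.fixB_P hp hb) hb) (c.fixB_P' hp ha)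
  generalize p * a * p⁻¹ = x, p * b * p⁻¹ = y, p⁻¹ * a * p = x', p⁻¹ * b * p = y' at hm1 hm2 ⊢
  calc x * y * (a * b) * (x' * y') = x * (y * a) * b * x' * y' := by group
    _ = x * a * (y * b * x') * y' := by rw [hm1]; group
    _ = x * a * x' * (y * b * y') := by rw [hm2]; group

theorem pProd_Z (c : Ctx z P E) {p t : G} (hp : p ∈ P) (ht : t ∈ zpowers z) : c.pProd p t = t := by
  have h1 : p * t * p⁻¹ = t := by rw [c.Z_comm (c.P_le hp) ht, mul_inv_cancel_right]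
  have h2 : p⁻¹ * t * p = t := by rw [c.Z_comm (inv_mem (c.P_le hp)) ht, inv_mul_cancel_right]
  rw [pProd, h1, h2, c.Z_sq ht, one_mul]

/-- The elements with trivial product. -/
def pKer (c : Ctx z P E) {B : Subgroup MTwoTwo} (hB : HexLike B) {p : G} (hp : p ∈ P) : Subgroup G where
  carrier := {e | e ∈ c.fixB B ∧ c.pProd p e = 1}
  one_mem' := ⟨one_mem _, c.pProd_Z hp (one_mem _)⟩
  mul_mem' := fun {a b} ha hb => ⟨mul_mem ha.1 hb.1, by rw [c.pProd_mul hB hp ha.1 hb.1, ha.2, hb.2, one_mul]⟩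
  inv_mem' := fun {a} ha => ⟨inv_mem ha.1, by
    have h := c.pProd_mul hB hp ha.1 (inv_mem ha.1)
    rw [mul_inv_cancel, c.pProd_Z hp (one_mem _), ha.2, one_mul] at h
    exact h.symm⟩

theorem card_pKer (c : Ctx z P E) {B : Subgroup MTwoTwo} (hB : HexLike B) {p : G} (hp : p ∈ P)
    (hgen : P = zpowers p) : 64 ≤ Nat.card (c.pKer hB hp) := by
  have h7 := (c.hex_fix hB).1
  have hZ : Nat.card (zpowers z) = 2 := by rw [Nat.card_zpowers, c.oz]
  let f : c.pKer hB hp × zpowers z → c.fixB B := fun x =>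
    ⟨(x.1 : G) * x.2, mul_mem x.1.2.1 (c.Z_le_fixB B x.2.2)⟩
  have hf : Function.Surjective f := by
    intro e
    have ht : c.pProd p e ∈ zpowers z := c.orbit_mem_Z hp hgen (c.fixB_le B e.2)
    have htB := c.Z_le_fixB B ht
    refine ⟨(⟨(e : G) * c.pProd p e, mul_mem e.2 htB, ?_⟩, ⟨c.pProd p e, ht⟩), Subtype.ext ?_⟩
    · rw [c.pProd_mul hB hp e.2 htB, c.pProd_Z hp ht]; exact c.Z_sq ht
    · show (e : G) * c.pProd p e * c.pProd p e = e
      rw [mul_assoc, c.Z_sq ht, mul_one]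
  have h := Nat.card_le_card_of_surjective f hf
  rw [Nat.card_prod, hZ, h7] at h
  omega

/-- Conjugation by an element of C(z) fixing or inverting P commutes with the product. -/
theorem pProd_conj (c : Ctx z P E) {B : Subgroup MTwoTwo} (hB : HexLike B) {p g e : G} (hp : p ∈ P)
    (hgP : g * p * g⁻¹ = p ∨ g * p * g⁻¹ = p⁻¹) (hge : g * e * g⁻¹ ∈ c.fixB B) :
    c.pProd p (g * e * g⁻¹) = g * c.pProd p e * g⁻¹ := by
  have e1 : g * c.pProd p e * g⁻¹ = g * p * g⁻¹ * (g * e * g⁻¹) * (g * p * g⁻¹)⁻¹ * (g * e * g⁻¹) *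
      ((g * p * g⁻¹)⁻¹ * (g * e * g⁻¹) * (g * p * g⁻¹)) := by unfold pProd; group
  rcases hgP with h | h
  · rw [e1, h]; rfl
  · rw [e1, h, inv_inv]
    unfold pProd
    set w := g * e * g⁻¹
    have hm1 := c.fixB_comm hB (c.fixB_P' hp hge) hge
    have hm2 := c.fixB_comm hB (mul_mem hge (c.fixB_P' hp hge)) (c.fixB_P hp hge)
    generalize p * w * p⁻¹ = x, p⁻¹ * w * p = y at hm1 hm2 ⊢
    calc x * w * y = x * (w * y) := by group
      _ = y * w * x := by rw [← hm2, hm1]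

/-- Two hexad groups generating M22 have fixed groups meeting in the centre. -/
theorem fixB_inf (c : Ctx z P E) {B B' : Subgroup MTwoTwo} (hB : HexLike B) (hB' : HexLike B')
    (htop : B ⊔ B' = ⊤) {e : G} (he : e ∈ c.fixB B) (he' : e ∈ c.fixB B') : e ∈ zpowers z := by
  obtain ⟨-, -, -, hQ⟩ := c.hex_fix hB
  obtain ⟨-, -, -, hQ'⟩ := c.hex_fix hB'
  let Y : Subgroup MTwoTwo :=
    { carrier := {m | ∃ x ∈ c.cen, x * e = e * x ∧ c.val x = m}
      one_mem' := ⟨1, one_mem _, by rw [one_mul, mul_one], (c.val_eq_one (one_mem _)).mpr (one_mem _)⟩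
      mul_mem' := by
        rintro _ _ ⟨x, hx, hxe, rfl⟩ ⟨y, hy, hye, rfl⟩
        refine ⟨x * y, mul_mem hx hy, ?_, c.val_mul (c.cen_le_H0 hx) (c.cen_le_H0 hy)⟩
        rw [mul_assoc, hye, ← mul_assoc, hxe, mul_assoc]
      inv_mem' := by
        rintro _ ⟨x, hx, hxe, rfl⟩
        exact ⟨x⁻¹, inv_mem hx, (Commute.inv_left (show Commute x e from hxe)).eq, c.val_inv (c.cen_le_H0 hx)⟩ }
  have hY : Y = ⊤ := by
    rw [eq_top_iff, ← htop]
    refine sup_le (fun m hm => ?_) fun m hm => ?_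
    · obtain ⟨x, hx, rfl⟩ := c.twoGrp_lift hB.1 hm
      exact ⟨x, hx.1, hQ e he x hx, rfl⟩
    · obtain ⟨x, hx, rfl⟩ := c.twoGrp_lift hB'.1 hm
      exact ⟨x, hx.1, hQ' e he' x hx, rfl⟩
  have hsplit : ∀ x ∈ c.cen, ∃ k, k * e = e * k ∧ ∃ w, (∀ y ∈ c.cen, y * w = w * y) ∧ k ∈ c.cen ∧ w ∈ c.cen ∧
      x = k * w := by
    intro x hx
    obtain ⟨k, hk, hke, hkv⟩ : c.val x ∈ Y := hY ▸ mem_top _
    have hwv : c.val (k⁻¹ * x) = 1 := by
      rw [c.val_mul (c.cen_le_H0 (inv_mem hk)) (c.cen_le_H0 hx), c.val_inv (c.cen_le_H0 hk), hkv, inv_mul_cancel]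
    exact ⟨k, hke, k⁻¹ * x, (c.cen_ker (mul_mem (inv_mem hk) hx) hwv).2.1, hk, mul_mem (inv_mem hk) hx,
      (mul_inv_cancel_left k x).symm⟩
  have hle : ⁅c.cen, c.cen⁆ ≤ centralizer ({e} : Set G) := by
    rw [Subgroup.commutator_le]
    intro x hx y hy
    obtain ⟨k, hke, w, hw, hk, hwc, rfl⟩ := hsplit x hx
    obtain ⟨l, hle', w', hw', hl, -, rfl⟩ := hsplit y hy
    have h1 : Commute k w' := hw' k hk
    have h2 : Commute l w := hw l hl
    have h3 : Commute w w' := hw' w hwc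
    rw [show ⁅k * w, l * w'⁆ = ⁅k, l⁆ by
      simp only [commutatorElement_def, mul_inv_rev]
      calc k * w * (l * w') * (w⁻¹ * k⁻¹) * (w'⁻¹ * l⁻¹) = k * (w * l) * (w' * w⁻¹) * (k⁻¹ * w'⁻¹) * l⁻¹ := by group
        _ = k * (l * w) * (w⁻¹ * w') * (w'⁻¹ * k⁻¹) * l⁻¹ := by
          rw [h2.eq.symm, h3.inv_left.eq.symm, h1.inv_inv.eq]
        _ = k * l * k⁻¹ * l⁻¹ := by group]
    have hk' : Commute k e := hke
    have hl' : Commute l e := hle'
    exact mem_centralizer_singleton_iff.mpr (((hk'.mul_left hl').mul_left hk'.inv_left).mul_left hl'.inv_left)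
  exact c.fpf e (c.fixB_le B he) fun p hp => mem_centralizer_singleton_iff.mp (hle (c.Pcomm hp))

end Ctx

end CfsgLib.JankoFour
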