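/-
Neighbourhoods in the small orbit: each element of A belongs to two of the six lines, each element has 44 neighbours.
-/
import Cfsg.Agent.Lib.JankoFour.OrbFree

set_option autoImplicit false

namespace CfsgLib.JankoFour

open Cfsg Subgroup
open scoped commutatorElement

universe u

variable {G : Type u} [Group G] [Finite G] {z : G} {P E : Subgroup G}

namespace Ctx

variable (c : Ctx z P E) {A : Subgroup MTwoTwo}

/-- The group centralizing the kernel of y. -/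
def sGrp {y : G} (hy : y ∈ centralizer ({z} : Set G)) : Subgroup G := E ⊓ centralizer (c.ker1 hy : Set G)

theorem z_sGrp {y : G} (hy : y ∈ centralizer ({z} : Set G)) : z ∈ c.sGrp hy :=
  ⟨c.zE, mem_centralizer_iff.mpr fun _ hf => mem_centralizer_singleton_iff.mp (c.Ez (c.ker1_le _ hf))⟩

theorem sGrp_P {y : G} (hy : y ∈ c.cen) {q v : G} (hq : q ∈ P) (hv : v ∈ c.sGrp hy.1) :
    q * v * q⁻¹ ∈ c.sGrp hy.1 := c.cent_conj (c.P_le hq) (fun f hf => by
  have h := c.ker1_P hy (inv_mem hq) f hf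
  rwa [inv_inv] at h) hv

theorem cR_P {y : G} (hy : y ∈ c.cen) {q r : G} (hq : q ∈ P) (hr : r ∈ c.cR y) : q * r * q⁻¹ ∈ c.cR y := by
  have h := c.cR_conj (c.P_le hq) hr
  rwa [← c.cen_comm hy hq, mul_inv_cancel_right] at h

theorem one_cR (y : G) : (1 : G) ∈ c.cR y := ⟨1, one_mem _, commutatorElement_one_left y⟩

/-- The product rule in the fibre. -/
theorem cR_mul_iff (hA : HexData A) {y : G} (hy : y ∈ c.twoGrp A hA.1.1) (hyZ : y ∉ zpowers z) {f r s : G}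
    (hf : f ∈ E) (hr : ⁅f, y⁆ = r) (hs : s ∈ c.cR y) : r * s ∈ c.cR y ↔ f * s = s * f := by
  obtain ⟨g, hg, hgs⟩ := hs
  obtain ⟨-, hsW, -⟩ := c.cR_sub hA hy hyZ ⟨g, hg, hgs⟩
  obtain ⟨-, hrW, -⟩ := c.cR_sub hA hy hyZ ⟨f, hf, hr⟩
  have ht : ⁅f, s⁆ ∈ zpowers z := c.comm_E hf (c.fixB_le A hsW)
  have e : ⁅f * g, y⁆ = ⁅f, s⁆ * (r * s) := by
    rw [commutatorElement_mul_left_eq_conj_mul, hgs, hr,
      show f * s * f⁻¹ = ⁅f, s⁆ * s by rw [commutatorElement_def, inv_mul_cancel_right], mul_assoc,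
      c.vGrp_comm hA.1 (mem_sup_left hsW) (mem_sup_left hrW)]
  have hmem : ⁅f, s⁆ * (r * s) ∈ c.cR y := ⟨f * g, mul_mem hf hg, e⟩
  constructor
  · intro h
    have e2 := c.cR_uniq hA hy hyZ h hmem (by
      rw [← c.Z_comm (c.Ez (c.fixB_le A (mul_mem hrW hsW))) ht, inv_mul_cancel_left]; exact ht)
    exact commutatorElement_eq_one_iff_mul_comm.mp (mul_eq_right.mp e2.symm)
  · intro h
    rwa [commutatorElement_eq_one_iff_mul_comm.mpr h, one_mul] at hmem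

/-- Exactly one element of a coset of the centre. -/
theorem cR_z_iff (hA : HexData A) {y : G} (hy : y ∈ c.twoGrp A hA.1.1) (hyZ : y ∉ zpowers z) {m : G}
    (hm : m ∈ c.sGrp hy.1.1) : z * m ∈ c.cR y ↔ m ∉ c.cR y := by
  constructor
  · intro h h'
    have e := c.cR_uniq hA hy hyZ h' h (by
      rw [← c.Z_comm (c.Ez hm.1) (mem_zpowers z), inv_mul_cancel_left]; exact mem_zpowers z)
    exact c.z_ne_one (mul_eq_right.mp e.symm)
  · intro h
    obtain ⟨t, ht, hts⟩ := c.cR_cover hA hy hyZ hm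
    rcases c.mem_Z.mp ht with rfl | rfl
    · exact absurd (by rwa [one_mul] at hts) h
    · exact hts

/-- An element of the kernel group meets half of the fibre. -/
theorem cR_half (hA : HexData A) {y t : G} (hy : y ∈ c.twoGrp A hA.1.1) (hyZ : y ∉ zpowers z)
    (ht : t ∈ c.sGrp hy.1.1) (htZ : t ∉ zpowers z) : ({r | r ∈ c.cR y ∧ t * r ∈ c.cR y}).ncard = 8 := by
  classical
  obtain ⟨hS32, hSW, -, -⟩ := c.kernel_facts hA hy hyZ
  set S := c.sGrp hy.1.1 with hS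
  obtain ⟨e, he, hte⟩ := c.cR_cover hA hy hyZ ht
  obtain ⟨f, hf, hft⟩ := hte
  set X := S ⊓ centralizer ({f} : Set G) with hX
  have hzX : z ∈ X := ⟨c.z_sGrp _, mem_centralizer_singleton_iff.mpr (mem_centralizer_singleton_iff.mp (c.Ez hf)).symm⟩
  have hmemX : ∀ {m}, m ∈ X ↔ m ∈ S ∧ f * m = m * f := fun {m} =>
    ⟨fun h => ⟨h.1, (mem_centralizer_singleton_iff.mp h.2).symm⟩,
      fun h => ⟨h.1, mem_centralizer_singleton_iff.mpr h.2.symm⟩⟩
  have hX16 : Nat.card X = 16 := by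
    obtain ⟨m0, hm0, hm0X⟩ : ∃ m0 ∈ S, m0 ∉ X := by
      by_contra hall
      push Not at hall
      have hfK : f ∈ c.ker1 hy.1.1 := c.ker_of_cent hA hy hyZ hf fun m hm => (hmemX.mp (hall m hm)).2.symm
      have h := commutatorElement_eq_one_iff_mul_comm.mpr (c.ker1_comm hy.1 f hfK).symm
      rw [hft] at h
      exact htZ (by rw [eq_inv_of_mul_eq_one_right h]; exact inv_mem he)
    obtain ⟨U, -, hUS, -, hUc, hUmem⟩ := exists_adj (fun v hv => (c.hex_fix hA.1).2.2.1 v (hSW hv))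
      (fun a ha b hb => c.vGrp_comm hA.1 (mem_sup_left (hSW ha)) (mem_sup_left (hSW hb))) (inf_le_left : X ≤ S)
      hm0 hm0X
    have hUeq : U = S := le_antisymm hUS fun m hm => (hUmem m).mpr (by
      by_cases hmX : m ∈ X
      · exact Or.inl hmX
      · refine Or.inr (hmemX.mpr ⟨mul_mem hm0 hm, commutatorElement_eq_one_iff_mul_comm.mp ?_⟩)
        have ne : ∀ {v}, v ∈ S → v ∉ X → ⁅f, v⁆ = z := fun {v} hv hvX =>
          (c.mem_Z.mp (c.comm_E hf hv.1)).resolve_left fun h =>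
            hvX (hmemX.mpr ⟨hv, commutatorElement_eq_one_iff_mul_comm.mp h⟩)
        rw [c.comm_mul_right hm0.1 hm.1 hf, ne hm0 hm0X, ne hm hmX, c.zz])
    rw [hUeq, show Nat.card S = 32 from hS32] at hUc
    change 32 = 2 * Nat.card X at hUc
    omega
  set P1 : Set G := {r | r ∈ c.cR y ∧ f * r = r * f} with hP1
  have h8 : P1.ncard = 8 := by
    have hu : (X : Set G) = P1 ∪ (fun r => z * r) '' P1 := by
      ext m
      constructor
      · intro hm
        by_cases h : m ∈ c.cR y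
        · exact Or.inl ⟨h, (hmemX.mp hm).2⟩
        · exact Or.inr ⟨z * m, ⟨(c.cR_z_iff hA hy hyZ hm.1).mpr h, (hmemX.mp (mul_mem hzX hm)).2⟩,
            by show z * (z * m) = m; rw [← mul_assoc, c.zz, one_mul]⟩
      · rintro (hm | ⟨r, hr, rfl⟩)
        · exact hmemX.mpr ⟨(c.cR_sub hA hy hyZ hm.1).1, hm.2⟩
        · exact mul_mem hzX (hmemX.mpr ⟨(c.cR_sub hA hy hyZ hr.1).1, hr.2⟩)
    have hd : Disjoint P1 ((fun r => z * r) '' P1) := by
      rw [Set.disjoint_left]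
      rintro m hm ⟨r, hr, rfl⟩
      exact (c.cR_z_iff hA hy hyZ (c.cR_sub hA hy hyZ hr.1).1).mp hm.1 hr.1
    have h := congrArg Set.ncard hu
    rw [Set.ncard_union_eq hd, Set.ncard_image_of_injective _ (mul_right_injective z), ← Nat.card_coe_set_eq] at h
    change Nat.card X = _ at h
    omega
  rcases c.mem_Z.mp he with e1 | e1
  · have hset : {r | r ∈ c.cR y ∧ t * r ∈ c.cR y} = P1 := Set.ext fun r =>
      and_congr_right fun hr => c.cR_mul_iff hA hy hyZ hf (by rw [hft, e1, one_mul]) hr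
    rw [hset, h8]
  · have hset : {r | r ∈ c.cR y ∧ t * r ∈ c.cR y} = c.cR y \ P1 := Set.ext fun r =>
      and_congr_right fun hr => by
        have hrS := (c.cR_sub hA hy hyZ hr).1
        have h1 := c.cR_mul_iff hA hy hyZ hf hft hr
        rw [e1, mul_assoc, c.cR_z_iff hA hy hyZ (mul_mem ht hrS)] at h1
        exact ⟨fun h hP => h1.mpr hP.2 h, fun h => by_contra fun hn => h ⟨hr, h1.mp hn⟩⟩
    rw [hset, Set.ncard_sdiff (fun r hr => hr.1), h8, c.cR_card hA hy hyZ]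

/-- The elements adjacent to t. -/
def Nb (V : Subgroup G) (t : G) : Set G := {s | s ∈ c.Tset V ∧ t * s ∈ c.Tset V}

/-- The elements of the small orbit above y. -/
def Fib (y : G) : Set G := (fun r => r * y) '' c.cR y

variable {c}

theorem Orb.fib_mem (o : c.Orb A) {y v : G} (hy : y ∈ c.twoGrp A o.hA.1.1) (hyZ : y ∉ zpowers z)
    (hny : ¬ c.IsZ y) (hv : v ∈ c.Fib y) :
    v ∈ c.Tset (c.vGrp A o.hA.1.1) ∧ v ∉ c.fixB A ∧ c.val v = c.val y := by
  obtain ⟨r, hr, rfl⟩ := hv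
  obtain ⟨-, hrW, -⟩ := c.cR_sub o.hA hy hyZ hr
  have hW := c.twoGrp_not_W o.hA hrW hy hyZ
  refine ⟨⟨mul_mem (mem_sup_left hrW) (mem_sup_right hy), fun h => hW ?_,
    fun h => (o.fibre y hy hyZ hny r hrW).mp h hr⟩, hW, ?_⟩
  · rw [show r * y = 1 from h]; exact one_mem _
  · rw [c.val_mul (c.NH0 (c.EN (c.fixB_le A hrW))) (c.cen_le_H0 hy.1), c.val_E (c.fixB_le A hrW), one_mul]

theorem Orb.fib_adj (o : c.Orb A) {y x r : G} (hy : y ∈ c.twoGrp A o.hA.1.1) (hyZ : y ∉ zpowers z)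
    (hny : ¬ c.IsZ y) (hx : x ∈ c.fixB A) (hr : r ∈ c.cR y) :
    x * (r * y) ∈ c.Tset (c.vGrp A o.hA.1.1) ↔ x * r ∈ c.cR y := by
  rw [← mul_assoc]
  refine ⟨fun h => by_contra fun hn => h.2.2 ((o.fibre y hy hyZ hny _ ?_).mpr hn),
    fun h => (o.fib_mem hy hyZ hny ⟨x * r, h, rfl⟩).1⟩
  exact mul_mem hx (c.cR_sub o.hA hy hyZ hr).2.1

/-- Adjacent elements of W lie on one line. -/
theorem Orb.W_adj (o : c.Orb A) {p t x : G} (hp : p ∈ P) (hgen : P = zpowers p)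
    (ht : t ∈ c.Tset (c.vGrp A o.hA.1.1)) (htW : t ∈ c.fixB A) (hxW : x ∈ c.fixB A) :
    x ∈ c.Nb (c.vGrp A o.hA.1.1) t ↔ x ∈ c.lineOf p t ∧ x ∉ zpowers z ∧ t * x ∉ zpowers z := by
  classical
  have hA := o.hA
  set V := c.vGrp A hA.1.1 with hV
  constructor
  · rintro ⟨hx, htx⟩
    refine ⟨by_contra fun hxL => ?_, c.T_not_Z hx, c.T_not_Z htx⟩
    set L := c.lineOf p t with hL
    obtain ⟨hLW, hL8, -, hLP⟩ := c.line_facts hA hp hgen htW (c.T_not_Z ht)
    obtain ⟨hL'W, hL'8, -, hL'P⟩ := c.line_facts hA hp hgen hxW (c.T_not_Z hx)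
    set L' := c.lineOf p x with hL'
    have hzL := (c.mem_lineOf_left p t).1
    have hzL' := (c.mem_lineOf_left p x).1
    have hcW : ∀ a ∈ c.fixB A, ∀ b ∈ c.fixB A, a * b = b * a := fun a ha b hb =>
      c.vGrp_comm hA.1 (mem_sup_left ha) (mem_sup_left hb)
    obtain ⟨B1, h1, h1W, hxB, h1c, -⟩ := exists_adj (c.hex_fix hA.1).2.2.1 hcW hLW hxW hxL
    obtain ⟨U, hUW, hzU, hU32, hUP, hLU, hL'U⟩ : ∃ U : Subgroup G, U ≤ c.fixB A ∧ z ∈ U ∧ Nat.card U ≤ 32 ∧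
        (∀ q ∈ P, ∀ m ∈ U, q * m * q⁻¹ ∈ U) ∧ L ≤ U ∧ L' ≤ U := by
      refine ⟨L ⊔ L', sup_le hLW hL'W, mem_sup_left hzL, ?_, ?_, le_sup_left, le_sup_right⟩
      · have hle : ∀ B : Subgroup G, L ≤ B → x ∈ B → p * x * p⁻¹ ∈ B → L ⊔ L' ≤ B := fun B hB hxB hxB' =>
          sup_le hB (c.lineOf_le (hB hzL) hxB hxB')
        by_cases h : p * x * p⁻¹ ∈ B1
        · have := card_le_of_le (hle B1 h1 hxB h); omega
        · obtain ⟨B2, h2, -, hxB2, h2c, -⟩ := exists_adj (c.hex_fix hA.1).2.2.1 hcW h1W (c.fixB_P hp hxW) h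
          have := card_le_of_le (hle B2 (h1.trans h2) (h2 hxB) hxB2); omega
      · intro q hq
        have hmap : (L ⊔ L').map (MulAut.conj q).toMonoidHom ≤ L ⊔ L' := by
          rw [Subgroup.map_sup]
          exact sup_le_sup (map_le_iff_le_comap.mpr (hLP q hq)) (map_le_iff_le_comap.mpr (hL'P q hq))
        exact fun m hm => hmap ⟨m, hm, rfl⟩
    set L'' := c.lineOf p (t * x) with hL''
    have hU12 := c.T_in_small o hUW hzU hU32 hUP
    let six : G → Set G := fun v => (c.lineOf p v : Set G) \ (zpowers z : Set G)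
    have hsix : ∀ v, v ∈ c.Tset V → v ∈ c.fixB A → (six v).ncard = 6 := fun v hv hvW => by
      rw [Set.ncard_sdiff (show ((zpowers z : Subgroup G) : Set G) ⊆ c.lineOf p v from
        (zpowers_le.mpr (c.mem_lineOf_left p v).1 : zpowers z ≤ c.lineOf p v)), ← Nat.card_coe_set_eq,
        ← Nat.card_coe_set_eq]
      show Nat.card (c.lineOf p v) - Nat.card (zpowers z) = 6
      rw [(c.line_facts hA hp hgen hvW (c.T_not_Z hv)).2.1, c.card_Z]
    have hdis : ∀ u v, u ∈ c.Tset V → u ∈ c.fixB A → v ∈ c.Tset V → v ∈ c.fixB A →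
        c.lineOf p u ≠ c.lineOf p v → Disjoint (six u) (six v) := by
      intro u v hu huW hv hvW hne
      rw [Set.disjoint_left]
      rintro w ⟨hw, hwZ⟩ ⟨hw', -⟩
      exact hne ((c.line_T hA hp hgen hu huW hw hwZ).2.2.symm.trans (c.line_T hA hp hgen hv hvW hw' hwZ).2.2)
    have hne1 : L ≠ L' := fun e => hxL (e ▸ (c.mem_lineOf_left p x).2.1)
    have htxW := mul_mem htW hxW
    have hne2 : L'' ≠ L := fun e => hxL (by
      have := mul_mem (c.mem_lineOf_left p t).2.1 (e.le (c.mem_lineOf_left p (t * x)).2.1)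
      rwa [← mul_assoc, c.vGrp_sq hA.1 ht.1, one_mul] at this)
    have hne3 : L'' ≠ L' := fun e => hxL (by
      have htL' : t ∈ L' := by
        have := mul_mem (e.le (c.mem_lineOf_left p (t * x)).2.1) (c.mem_lineOf_left p x).2.1
        rwa [mul_assoc, c.vGrp_sq hA.1 hx.1, mul_one] at this
      rw [hL, (c.line_T hA hp hgen hx hxW htL' (c.T_not_Z ht)).2.2]
      exact (c.mem_lineOf_left p x).2.1)
    have htxU : t * x ∈ U := mul_mem (hLU (c.mem_lineOf_left p t).2.1) (hL'U (c.mem_lineOf_left p x).2.1)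
    have hsub : six t ∪ six x ∪ six (t * x) ⊆ c.Tset V ∩ (U : Set G) := by
      have hk : ∀ v, v ∈ c.Tset V → v ∈ c.fixB A → v ∈ U → six v ⊆ c.Tset V ∩ (U : Set G) :=
        fun v hv hvW hvU m hm => ⟨(c.line_T hA hp hgen hv hvW hm.1 hm.2).1,
          c.lineOf_le hzU hvU (hUP p hp v hvU) hm.1⟩
      exact Set.union_subset (Set.union_subset (hk t ht htW (hLU (c.mem_lineOf_left p t).2.1))
        (hk x hx hxW (hL'U (c.mem_lineOf_left p x).2.1))) (hk _ htx htxW htxU)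
    have h := Set.ncard_le_ncard hsub (Set.toFinite _)
    rw [Set.ncard_union_eq (Set.disjoint_union_left.mpr ⟨hdis t _ ht htW htx htxW hne2.symm,
      hdis x _ hx hxW htx htxW hne3.symm⟩), Set.ncard_union_eq (hdis t x ht htW hx hxW hne1),
      hsix t ht htW, hsix x hx hxW, hsix _ htx htxW] at h
    have hU12' : (c.Tset V ∩ (U : Set G)).ncard ≤ 12 := hU12
    omega
  · rintro ⟨hxL, hxZ, htxZ⟩
    exact ⟨(c.line_T hA hp hgen ht htW hxL hxZ).1,
      (c.line_T hA hp hgen ht htW (mul_mem (c.mem_lineOf_left p t).2.1 hxL) htxZ).1⟩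

theorem Orb.nb_W (o : c.Orb A) {p t : G} (hp : p ∈ P) (hgen : P = zpowers p)
    (ht : t ∈ c.Tset (c.vGrp A o.hA.1.1)) (htW : t ∈ c.fixB A) :
    (c.Nb (c.vGrp A o.hA.1.1) t ∩ (c.fixB A : Set G)).ncard = 4 := by
  obtain ⟨hLW, hL8, -, -⟩ := c.line_facts o.hA hp hgen htW (c.T_not_Z ht)
  set L := c.lineOf p t with hL
  have hzL := (c.mem_lineOf_left p t).1
  have htL := (c.mem_lineOf_left p t).2.1
  have htt : t * t = 1 := c.vGrp_sq o.hA.1 ht.1
  obtain ⟨B, hB, hBV, -, hBc, hBmem⟩ := exists_adj (V := L) (fun v hv => (c.hex_fix o.hA.1).2.2.1 v (hLW hv))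
    (fun a ha b hb => c.vGrp_comm o.hA.1 (mem_sup_left (hLW ha)) (mem_sup_left (hLW hb)))
    (zpowers_le.mpr hzL : zpowers z ≤ L) htL (c.T_not_Z ht)
  have e : c.Nb (c.vGrp A o.hA.1.1) t ∩ (c.fixB A : Set G) = (L : Set G) \ (B : Set G) := by
    ext x
    refine ⟨fun hx => ?_, fun hx => ?_⟩
    · obtain ⟨h1, h2, h3⟩ := (o.W_adj hp hgen ht htW hx.2).mp hx.1
      exact ⟨h1, fun h => ((hBmem x).mp h).elim h2 h3⟩
    · exact ⟨(o.W_adj hp hgen ht htW (hLW hx.1)).mpr ⟨hx.1, fun h => hx.2 ((hBmem x).mpr (Or.inl h)),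
        fun h => hx.2 ((hBmem x).mpr (Or.inr h))⟩, hLW hx.1⟩
  rw [e, Set.ncard_sdiff (SetLike.coe_subset_coe.mpr hBV), ← Nat.card_coe_set_eq, ← Nat.card_coe_set_eq]
  show Nat.card L - Nat.card B = 4
  rw [hL8, hBc, c.card_Z]

theorem Orb.nb_fib (o : c.Orb A) {t y : G} (htW : t ∈ c.fixB A) (ht : t ∈ c.Tset (c.vGrp A o.hA.1.1))
    (hy : y ∈ c.twoGrp A o.hA.1.1) (hyZ : y ∉ zpowers z) (hny : ¬ c.IsZ y) :
    (c.Nb (c.vGrp A o.hA.1.1) t ∩ c.Fib y).ncard =
      (letI := Classical.propDecidable (t ∈ c.sGrp hy.1.1); if t ∈ c.sGrp hy.1.1 then 8 else 0) := by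
  classical
  have e : c.Nb (c.vGrp A o.hA.1.1) t ∩ c.Fib y = (fun r => r * y) '' {r | r ∈ c.cR y ∧ t * r ∈ c.cR y} := by
    ext v
    constructor
    · rintro ⟨hv, r, hr, rfl⟩
      exact ⟨r, ⟨hr, (o.fib_adj hy hyZ hny htW hr).mp hv.2⟩, rfl⟩
    · rintro ⟨r, ⟨hr, htr⟩, rfl⟩
      exact ⟨⟨(o.fib_mem hy hyZ hny ⟨r, hr, rfl⟩).1, (o.fib_adj hy hyZ hny htW hr).mpr htr⟩, r, hr, rfl⟩
  rw [e, Set.ncard_image_of_injective _ (mul_left_injective y)]
  split_ifs with h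
  · exact c.cR_half o.hA hy hyZ h (c.T_not_Z ht)
  · rw [Set.ncard_eq_zero]
    refine Set.eq_empty_iff_forall_notMem.mpr fun r ⟨hr, htr⟩ => h ?_
    have h2 := mul_mem (c.cR_sub o.hA hy hyZ htr).1 (inv_mem (c.cR_sub o.hA hy hyZ hr).1)
    rwa [mul_inv_cancel_right] at h2

/-- The elements of A other than the identity. -/
def Idx (_c : Ctx z P E) (A : Subgroup MTwoTwo) : Type := {a : MTwoTwo // a ∈ A ∧ a ≠ 1}

noncomputable instance instFintypeIdx (c : Ctx z P E) (A : Subgroup MTwoTwo) : Fintype (c.Idx A) := by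
  classical exact Subtype.fintype _

theorem card_Idx (hA : HexData A) : Fintype.card (c.Idx A) = 15 := by
  have e : Nat.card (c.Idx A) = Nat.card ↥((A : Set MTwoTwo) \ {1}) := Nat.card_congr
    ⟨fun x => ⟨x.1, x.2.1, x.2.2⟩, fun x => ⟨x.1, x.2.1, x.2.2⟩, fun x => rfl, fun x => rfl⟩
  rw [← Nat.card_eq_fintype_card, e, Nat.card_coe_set_eq, Set.ncard_sdiff (Set.singleton_subset_iff.mpr (one_mem A)),
    Set.ncard_singleton, ← Nat.card_coe_set_eq, SetLike.coe_sort_coe, hA.1.2.1]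

/-- The lift of an element of A outside the class of z. -/
noncomputable def Orb.lift (o : c.Orb A) (i : c.Idx A) : G := (o.exists_lift i.2.1 i.2.2).choose

theorem Orb.lift_spec (o : c.Orb A) (i : c.Idx A) : o.lift i ∈ c.twoGrp A o.hA.1.1 ∧ o.lift i ∉ zpowers z ∧
    c.val (o.lift i) = i.1 ∧ ¬ c.IsZ (o.lift i) :=
  ⟨(o.exists_lift i.2.1 i.2.2).choose_spec.1, (o.exists_lift i.2.1 i.2.2).choose_spec.2.1,
    (o.exists_lift i.2.1 i.2.2).choose_spec.2.2.1, (o.exists_lift i.2.1 i.2.2).choose_spec.2.2.2⟩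

theorem Orb.lift_eq (o : c.Orb A) {i : c.Idx A} {y : G} (hy : y ∈ c.twoGrp A o.hA.1.1)
    (hny : ¬ c.IsZ y) (hv : c.val y = i.1) : y = o.lift i := by
  obtain ⟨hl, hlZ, hlv, hln⟩ := o.lift_spec i
  rcases c.mem_Z.mp (c.twoGrp_val_eq hy hl (hv.trans hlv.symm)) with e | e
  · exact (inv_mul_eq_one.mp e).symm
  · exfalso
    refine hny ?_
    have e2 : y = z * o.lift i := by
      calc y = o.lift i * ((o.lift i)⁻¹ * y) := (mul_inv_cancel_left _ _).symm
        _ = o.lift i * z := congrArg (o.lift i * ·) e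
        _ = z * o.lift i := c.Z_comm (c.H0le (c.cen_le_H0 hl.1)) (mem_zpowers z)
    rw [e2]
    exact (o.twin _ hl hlZ).mpr hln

theorem Orb.fib_cover (o : c.Orb A) {v : G} (hv : v ∈ c.Tset (c.vGrp A o.hA.1.1)) (hvW : v ∉ c.fixB A) :
    ∃ i, v ∈ c.Fib (o.lift i) := by
  obtain ⟨y, hy, hyZ, hny, f, hf, hfe⟩ := o.T_fibre hv hvW
  let i : c.Idx A := ⟨c.val y, hy.2.1, c.val_ne o.hA hy hyZ⟩
  refine ⟨i, ⁅f, y⁆, ?_, ?_⟩
  · rw [← o.lift_eq (i := i) hy hny rfl]; exact ⟨f, hf, rfl⟩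
  · show ⁅f, y⁆ * o.lift i = v
    rw [← o.lift_eq (i := i) hy hny rfl, commutatorElement_def, inv_mul_cancel_right, hfe]

theorem Orb.fib_idx (o : c.Orb A) {v : G} {i : c.Idx A} (hv : v ∈ c.Fib (o.lift i)) : c.val v = i.1 := by
  obtain ⟨hl, hlZ, hlv, hln⟩ := o.lift_spec i
  rw [(o.fib_mem hl hlZ hln hv).2.2, hlv]

theorem Orb.nb_sum (o : c.Orb A) (X : Set G) (hX : X ⊆ c.Tset (c.vGrp A o.hA.1.1)) :
    X.ncard = (X ∩ (c.fixB A : Set G)).ncard + ∑ i, (X ∩ c.Fib (o.lift i)).ncard := by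
  classical
  rw [← Set.ncard_inter_add_ncard_sdiff_eq_ncard X (c.fixB A : Set G) (Set.toFinite _)]
  congr 1
  let F : c.Idx A → Finset G := fun i => (Set.toFinite (X ∩ c.Fib (o.lift i))).toFinset
  have hsum : ∑ i, (X ∩ c.Fib (o.lift i)).ncard = (Finset.univ.biUnion F).card := by
    rw [Finset.card_biUnion]
    · exact Finset.sum_congr rfl fun i _ => Set.ncard_eq_toFinset_card _
    · intro i _ j _ hij
      show Disjoint (F i) (F j)
      rw [Finset.disjoint_left]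
      intro v hvi hvj
      simp only [F, Set.Finite.mem_toFinset] at hvi hvj
      exact hij (Subtype.ext ((o.fib_idx hvi.2).symm.trans (o.fib_idx hvj.2)))
  rw [hsum, Set.ncard_eq_toFinset_card]
  congr 1
  ext v
  simp only [Set.Finite.mem_toFinset, Set.mem_sdiff, Finset.mem_biUnion, Finset.mem_univ, true_and, F,
    Set.mem_inter_iff]
  constructor
  · rintro ⟨hv, hvW⟩
    obtain ⟨i, hi⟩ := o.fib_cover (hX hv) hvW
    exact ⟨i, hv, hi⟩
  · rintro ⟨i, hv, hi⟩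
    obtain ⟨hl, hlZ, hlv, hln⟩ := o.lift_spec i
    exact ⟨hv, (o.fib_mem hl hlZ hln hi).2.1⟩

theorem Orb.nb_move (o : c.Orb A) {t s : G} (ht : t ∈ c.Tset (c.vGrp A o.hA.1.1))
    (hs : s ∈ c.Tset (c.vGrp A o.hA.1.1)) :
    (c.Nb (c.vGrp A o.hA.1.1) t).ncard ≤ (c.Nb (c.vGrp A o.hA.1.1) s).ncard := by
  obtain ⟨a, ha, -, -, -, -, a1, -⟩ := exists_three o.hA.1.2.1
  obtain ⟨y, hy, hyZ, -, hny⟩ := o.exists_lift ha a1
  obtain ⟨n1, hn1, e1⟩ := o.T_to ht hy hyZ hny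
  obtain ⟨n2, hn2, e2⟩ := o.T_to hs hy hyZ hny
  set n := n2⁻¹ * n1 with hn
  have hnN := mul_mem (inv_mem hn2) hn1
  have hnt : n * t * n⁻¹ = s := by
    rw [hn, show n2⁻¹ * n1 * t * (n2⁻¹ * n1)⁻¹ = n2⁻¹ * (n1 * t * n1⁻¹) * n2 by group, e1, ← e2]; group
  refine Set.ncard_le_ncard_of_injOn (fun v => n * v * n⁻¹) ?_ (fun a _ b _ e => mul_left_cancel (mul_right_cancel e))
    (Set.toFinite _)
  rintro v ⟨hv, htv⟩
  refine ⟨c.norm_T hnN hv, ?_⟩
  rw [← hnt, show n * t * n⁻¹ * (n * v * n⁻¹) = n * (t * v) * n⁻¹ by group]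
  exact c.norm_T hnN htv

/-- The kernel group of each lift contains twelve elements of the small orbit, each lies in five. -/
theorem Orb.five_two (o : c.Orb A) :
    (∀ t ∈ c.Tset (c.vGrp A o.hA.1.1), (c.Nb (c.vGrp A o.hA.1.1) t).ncard = 44) ∧
      ∀ y (hy : y ∈ c.twoGrp A o.hA.1.1), y ∉ zpowers z → ¬ c.IsZ y →
        (c.Tset (c.vGrp A o.hA.1.1) ∩ (c.sGrp hy.1.1 : Set G)).ncard = 12 := by
  classical
  have hA := o.hA
  set V := c.vGrp A hA.1.1 with hV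
  set T := c.Tset V with hT
  obtain ⟨p, hp, -, hgen⟩ := c.exists_gen
  have hSW : ∀ {y} (hy : y ∈ c.twoGrp A hA.1.1), y ∉ zpowers z → c.sGrp hy.1.1 ≤ c.fixB A :=
    fun hy hyZ => (c.kernel_facts hA hy hyZ).2.1
  -- the number does not depend on the lift
  have hind : ∀ y y' (hy : y ∈ c.twoGrp A hA.1.1) (hy' : y' ∈ c.twoGrp A hA.1.1), y ∉ zpowers z → y' ∉ zpowers z →
      (T ∩ (c.sGrp hy.1.1 : Set G)).ncard ≤ (T ∩ (c.sGrp hy'.1.1 : Set G)).ncard := by
    intro y y' hy hy' hyZ hyZ'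
    obtain ⟨n, hn, hnN, t, ht, he⟩ := c.to_fibre hA hy hyZ hy' hyZ'
    refine Set.ncard_le_ncard_of_injOn (fun v => n * v * n⁻¹) ?_
      (fun a _ b _ e => mul_left_cancel (mul_right_cancel e)) (Set.toFinite _)
    rintro v ⟨hv, hvS⟩
    refine ⟨c.norm_T (c.cen_norm_V hA.1 hn hnN) hv, c.conj_E hn.1 hvS.1, mem_centralizer_iff.mpr fun f hf => ?_⟩
    obtain ⟨hfE, hfy⟩ := c.mem_ker1.mp hf
    have hmem : n⁻¹ * f * n ∈ c.ker1 hy.1.1 := by
      refine c.mem_ker1.mpr ⟨by simpa using c.conj_E (inv_mem hn.1) hfE, ?_⟩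
      have h2 : ⁅t * y', f⁆ ∈ zpowers z := by
        rw [commutatorElement_mul_left_eq_conj_mul,
          commutatorElement_eq_one_iff_mul_comm.mpr (c.Z_comm (c.Ez hfE) ht).symm, mul_one,
          c.Z_conj (c.H0le (c.NH0 (c.EN (c.Z_le ht)))) hfy]
        exact hfy
      have h1 := c.Z_conj (inv_mem hn.1) h2
      rw [← h1, ← he] at h2
      rwa [show n⁻¹ * ⁅n * y * n⁻¹, f⁆ * n⁻¹⁻¹ = ⁅y, n⁻¹ * f * n⁆ by simp only [commutatorElement_def]; group] at h2
    show f * (n * v * n⁻¹) = n * v * n⁻¹ * f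
    rw [show f * (n * v * n⁻¹) = n * ((n⁻¹ * f * n) * v) * n⁻¹ by group, mem_centralizer_iff.mp hvS.2 _ hmem]
    group
  obtain ⟨a, ha, -, -, -, -, a1, -⟩ := exists_three hA.1.2.1
  let i0 : c.Idx A := ⟨a, ha, a1⟩
  have hly : ∀ i, o.lift i ∈ c.twoGrp A hA.1.1 := fun i => (o.lift_spec i).1
  set m := (T ∩ (c.sGrp (hly i0).1.1 : Set G)).ncard with hm
  have hmall : ∀ y (hy : y ∈ c.twoGrp A hA.1.1), y ∉ zpowers z → (T ∩ (c.sGrp hy.1.1 : Set G)).ncard = m :=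
    fun y hy hyZ => le_antisymm (hind _ _ hy (hly i0) hyZ (o.lift_spec i0).2.1) (hind _ _ (hly i0) hy (o.lift_spec i0).2.1 hyZ)
  obtain ⟨t0, ht0⟩ : (T ∩ (c.fixB A : Set G)).Nonempty := Set.nonempty_of_ncard_ne_zero (by rw [o.cardTW]; norm_num)
  set N0 := (c.Nb V t0).ncard with hN0
  have hNall : ∀ t ∈ T, (c.Nb V t).ncard = N0 := fun t ht =>
    le_antisymm (o.nb_move ht ht0.1) (o.nb_move ht0.1 ht)
  let deg : G → Finset (c.Idx A) := fun t => Finset.univ.filter fun i => t ∈ c.sGrp (hly i).1.1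
  have hdeg : ∀ t ∈ T ∩ (c.fixB A : Set G), N0 = 4 + 8 * (deg t).card := by
    intro t ht
    rw [← hNall t ht.1, o.nb_sum _ (fun s hs => hs.1), o.nb_W hp hgen ht.1 ht.2]
    congr 1
    rw [Finset.sum_congr rfl fun i _ => o.nb_fib ht.2 ht.1 (hly i) (o.lift_spec i).2.1 (o.lift_spec i).2.2.2,
      ← Finset.sum_filter, Finset.sum_const, smul_eq_mul, mul_comm]
  set F := (Set.toFinite (T ∩ (c.fixB A : Set G))).toFinset with hF
  have hFc : F.card = 36 := by rw [hF, ← Set.ncard_eq_toFinset_card]; exact o.cardTW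
  set k := (deg t0).card with hk
  have hdk : ∀ t ∈ F, (deg t).card = k := fun t ht => by
    have h1 := hdeg t ((Set.Finite.mem_toFinset _).mp ht)
    have h2 := hdeg t0 ht0
    omega
  have hdouble : 36 * k = 15 * m := by
    have h1 : ∑ t ∈ F, (deg t).card = ∑ i, (F.filter fun t => t ∈ c.sGrp (hly i).1.1).card := by
      simp only [deg, Finset.card_filter]
      exact Finset.sum_comm
    rw [Finset.sum_congr rfl hdk, Finset.sum_const, hFc, smul_eq_mul] at h1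
    rw [h1, Finset.sum_const_nat (m := m) (fun i _ => ?_), Finset.card_univ, card_Idx hA]
    rw [← hmall _ (hly i) (o.lift_spec i).2.1, ← Set.ncard_coe_finset]
    congr 1
    ext t
    simp only [Finset.coe_filter, hF, Set.Finite.mem_toFinset, Set.mem_setOf_eq, Set.mem_inter_iff, SetLike.mem_coe]
    exact ⟨fun h => ⟨h.1.1, h.2⟩, fun h => ⟨⟨h.1, hSW (hly i) (o.lift_spec i).2.1 h.2⟩, h.2⟩⟩
  have hm12 : m ≤ 12 := by
    obtain ⟨hy, hyZ, -, -⟩ := o.lift_spec i0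
    exact c.T_in_small o (hSW hy hyZ) (c.z_sGrp _) (c.kernel_facts hA hy hyZ).1.le
      (fun q hq x hx => c.sGrp_P hy.1 hq hx)
  have hmk : m = 12 ∧ k = 5 ∨ m = 0 ∧ k = 0 := by omega
  rcases hmk with ⟨hm', hk'⟩ | ⟨hm', hk'⟩
  · refine ⟨fun t ht => ?_, fun y hy hyZ _ => (hmall y hy hyZ).trans hm'⟩
    rw [hNall t ht, hdeg t0 ht0, ← hk, hk']
  · exfalso
    obtain ⟨hy, hyZ, hyv, hny⟩ := o.lift_spec i0
    set y := o.lift i0 with hydef
    have hyT : y ∈ T := ⟨mem_sup_right hy, fun h => hyZ (h ▸ one_mem _), hny⟩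
    have h4 : (c.Nb V y).ncard = 4 := by rw [hNall y hyT, hdeg t0 ht0, ← hk, hk']
    obtain ⟨s, hs⟩ : (c.Nb V y).Nonempty := Set.nonempty_of_ncard_ne_zero (by omega)
    have hnoW : ∀ x ∈ c.Nb V y, x ∉ c.fixB A := by
      intro x hx hxW
      have h1 : x ∈ c.cR y := by
        have h := hx.2
        rw [c.vGrp_comm hA.1 hyT.1 hx.1.1] at h
        by_contra hn
        exact h.2.2 ((o.fibre y hy hyZ hny x hxW).mpr hn)
      have h2 : x ∈ T ∩ (c.sGrp hy.1.1 : Set G) := ⟨hx.1, (c.cR_sub hA hy hyZ h1).1⟩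
      have h3 : (T ∩ (c.sGrp hy.1.1 : Set G)).ncard = 0 := (hmall y hy hyZ).trans hm'
      rw [Set.ncard_eq_zero] at h3
      rw [h3] at h2
      exact h2
    have hsW := hnoW s hs
    obtain ⟨j, r, hr, hrs⟩ := o.fib_cover hs.1 hsW
    obtain ⟨hl, hlZ, hlv, hln⟩ := o.lift_spec j
    set y' := o.lift j with hy'def
    have hrs' : r * y' = s := hrs
    obtain ⟨hrS, hrW, -⟩ := c.cR_sub hA hl hlZ hr
    have hsv : c.val s = j.1 := o.fib_idx ⟨r, hr, hrs⟩
    have hVH : ∀ {v}, v ∈ V → v ∈ c.H0 := fun hv =>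
      (sup_le ((c.fixB_le A).trans (c.EN.trans c.NH0)) fun _ hq => c.cen_le_H0 hq.1 : V ≤ c.H0) hv
    have hne : c.val y' ≠ c.val y := by
      intro e
      rw [hlv, hyv] at e
      have hji : j = i0 := Subtype.ext e
      rw [hji] at hy'def
      refine hnoW (y * s) ⟨hs.2, ?_⟩ ?_
      · rw [← mul_assoc, c.vGrp_sq hA.1 hyT.1, one_mul]; exact hs.1
      · rw [← hrs', hy'def, ← hydef, c.vGrp_comm hA.1 hyT.1 (mul_mem (mem_sup_left hrW) hyT.1), mul_assoc,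
          c.vGrp_sq hA.1 hyT.1, mul_one]
        exact hrW
    set K := c.ker1 hy.1.1 with hK
    set WK := (c.fixB A).subgroupOf K with hWK
    obtain ⟨-, -, hWleK, -⟩ := c.kernel_facts hA hy hyZ
    have hidx : Nat.card (↥K ⧸ WK) = 4 := by
      have h := Subgroup.card_mul_index WK
      rw [Nat.card_congr (subgroupOfEquivOfLe hWleK).toEquiv, c.rank_two hA hy hyZ, (c.hex_fix hA.1).1,
        Subgroup.index] at h
      omega
    let φ : ↥K ⧸ WK → G := fun q => (q.out : G) * s * (q.out : G)⁻¹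
    have hE : ∀ (f : ↥K), (f : G) ∈ E := fun f => c.ker1_le _ f.2
    have hfy : ∀ (f : ↥K), (f : G) * y * (f : G)⁻¹ = y := fun f => by
      rw [← c.ker1_comm hy.1 f f.2, mul_inv_cancel_right]
    have hφinj : Function.Injective φ := by
      intro q q' e
      have e' : (q.out : G) * s * (q.out : G)⁻¹ = (q'.out : G) * s * (q'.out : G)⁻¹ := e
      rw [← QuotientGroup.out_eq' q, ← QuotientGroup.out_eq' q', QuotientGroup.eq]
      set f := ((q.out : G)⁻¹ * (q'.out : G)) with hf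
      have hfE : f ∈ E := mul_mem (inv_mem (hE _)) (hE _)
      have hfs : f * s * f⁻¹ = s := by
        rw [hf, show (q.out : G)⁻¹ * (q'.out : G) * s * ((q.out : G)⁻¹ * (q'.out : G))⁻¹ =
          (q.out : G)⁻¹ * ((q'.out : G) * s * (q'.out : G)⁻¹) * (q.out : G) by group, ← e']
        group
      have hmem : f ∈ c.ker1 hl.1.1 ⊓ K := by
        refine Subgroup.mem_inf.mpr ⟨c.mem_ker1.mpr ⟨hfE, ?_⟩, mul_mem (inv_mem (q.out).2) (q'.out).2⟩
        have h1 := c.conj_fibre hA hrW hl hfE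
        rw [hrs', hfs, right_eq_mul] at h1
        rw [← commutatorElement_inv, eq_inv_of_mul_eq_one_right h1, inv_inv]
        exact c.comm_E hfE (c.fixB_le A hrW)
      rw [c.ker_inter hA hl hlZ hy hyZ hne] at hmem
      exact mem_subgroupOf.mpr hmem
    have hsub : Set.range φ ∪ (fun v => y * v) '' Set.range φ ⊆ c.Nb V y := by
      have h1 : ∀ q, φ q ∈ c.Nb V y := fun q => by
        have hN := c.E_norm_V hA (hE q.out)
        refine ⟨c.norm_T hN hs.1, ?_⟩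
        have := c.norm_T hN hs.2
        rwa [show (q.out : G) * (y * s) * (q.out : G)⁻¹ = (q.out : G) * y * (q.out : G)⁻¹ * φ q by
          show _ = _ * ((q.out : G) * s * (q.out : G)⁻¹); group, hfy] at this
      rintro v (⟨q, rfl⟩ | ⟨_, ⟨q, rfl⟩, rfl⟩)
      · exact h1 q
      · exact ⟨(h1 q).2, by
          show y * (y * φ q) ∈ T
          rw [← mul_assoc, c.vGrp_sq hA.1 hyT.1, one_mul]; exact (h1 q).1⟩
    have hd : Disjoint (Set.range φ) ((fun v => y * v) '' Set.range φ) := by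
      rw [Set.disjoint_left]
      rintro _ ⟨q, rfl⟩ ⟨_, ⟨q', rfl⟩, e⟩
      have hv : ∀ q : ↥K ⧸ WK, φ q ∈ V ∧ c.val (φ q) = j.1 := fun q => by
        refine ⟨(c.norm_T (c.E_norm_V hA (hE q.out)) hs.1).1, ?_⟩
        show c.val ((q.out : G) * s * (q.out : G)⁻¹) = _
        have hfH : (q.out : G) ∈ c.H0 := c.NH0 (c.EN (hE q.out))
        rw [c.val_mul (mul_mem hfH (hVH hs.1.1)) (inv_mem hfH), c.val_mul hfH (hVH hs.1.1), c.val_inv hfH,
          c.val_E (hE q.out), hsv, one_mul, inv_one, mul_one]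
      have e' := congrArg c.val e
      rw [c.val_mul (hVH hyT.1) (hVH (hv q').1), (hv q).2, (hv q').2, hyv] at e'
      exact i0.2.2 (mul_eq_right.mp e')
    have := Set.ncard_le_ncard hsub (Set.toFinite _)
    rw [Set.ncard_union_eq hd, Set.ncard_image_of_injective _ (mul_right_injective y), ← Nat.card_coe_set_eq,
      Nat.card_range_of_injective hφinj, hidx] at this
    omega

end Ctx

end CfsgLib.JankoFour
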