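/-
The two lines of an element of A are orthogonal.
-/
import Cfsg.Agent.Lib.JankoFour.OrbNb

set_option autoImplicit false

namespace CfsgLib.JankoFour

open Cfsg Subgroup
open scoped commutatorElement

universe u

variable {G : Type u} [Group G] [Finite G] {z : G} {P E : Subgroup G}

namespace Ctx

variable (c : Ctx z P E) {A : Subgroup MTwoTwo}

/-- The elements of the small orbit in the commutators of y. -/
def sig (V : Subgroup G) (y : G) : Set G := c.Tset V ∩ c.cR y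

/-- The three conjugates under P of an element. -/
def tri (_c : Ctx z P E) (p x : G) : Set G := {x, p * x * p⁻¹, p * (p * x * p⁻¹) * p⁻¹}

theorem P_three (c : Ctx z P E) {p x : G} (hp : p ∈ P) : p * (p * (p * x * p⁻¹) * p⁻¹) * p⁻¹ = x := by
  rw [show p * (p * (p * x * p⁻¹) * p⁻¹) * p⁻¹ = (p * p * p) * x * (p * p * p)⁻¹ by group, c.P_cube hp]
  group

variable {c}

theorem Orb.sig_P (o : c.Orb A) {p y x : G} (hp : p ∈ P) (hy : y ∈ c.twoGrp A o.hA.1.1)
    (hx : x ∈ c.sig (c.vGrp A o.hA.1.1) y) : p * x * p⁻¹ ∈ c.sig (c.vGrp A o.hA.1.1) y :=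
  ⟨c.norm_T (c.cen_norm_V o.hA.1 (c.P_le_cen hp) (by rw [c.val_P hp]; exact one_mem _)) hx.1, c.cR_P hy.1 hp hx.2⟩

/-- A line in the kernel group meets the commutators in one orbit of P. -/
theorem Orb.line_cR (o : c.Orb A) {p y x : G} (hp : p ∈ P) (hgen : P = zpowers p)
    (hy : y ∈ c.twoGrp A o.hA.1.1) (hyZ : y ∉ zpowers z) (hx : x ∈ c.sig (c.vGrp A o.hA.1.1) y) :
    c.sig (c.vGrp A o.hA.1.1) y ∩ (c.lineOf p x : Set G) = c.tri p x ∧ c.tri p x ⊆ (c.lineOf p x : Set G) ∧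
      (c.lineOf p x : Set G) ⊆ c.sGrp hy.1.1 := by
  have hA := o.hA
  obtain ⟨hxS, hxW, -⟩ := c.cR_sub hA hy hyZ hx.2
  obtain ⟨hLW, hL8, henum, hLP⟩ := c.line_facts hA hp hgen hxW (c.T_not_Z hx.1)
  obtain ⟨-, hxL, hx1L⟩ := c.mem_lineOf_left p x
  have hx2L := hLP p hp _ hx1L
  have h1 := o.sig_P hp hy hx
  have h2 := o.sig_P hp hy h1
  have htri : c.tri p x ⊆ (c.lineOf p x : Set G) := by
    rintro v (rfl | rfl | rfl)
    exacts [hxL, hx1L, hx2L]
  refine ⟨Set.Subset.antisymm ?_ ?_, htri,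
    c.lineOf_le (c.z_sGrp _) hxS (c.sGrp_P hy.1 hp hxS)⟩
  · rintro v ⟨hv, hvL⟩
    obtain ⟨t, ht, h⟩ := henum v hvL (c.T_not_Z hv.1)
    have key : ∀ w ∈ c.sig (c.vGrp A hA.1.1) y, v = t * w → v = w := fun w hw e => by
      refine (c.cR_uniq hA hy hyZ hw.2 hv.2 ?_).symm
      rw [e, ← c.Z_comm (c.Ez (c.cR_sub hA hy hyZ hw.2).1.1) ht, inv_mul_cancel_left]
      exact ht
    rcases h with h | h | h
    · exact Or.inl (key x hx h)
    · exact Or.inr (Or.inl (key _ h1 h))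
    · exact Or.inr (Or.inr (key _ h2 h))
  · intro v hv
    refine ⟨?_, htri hv⟩
    rcases hv with rfl | rfl | rfl
    exacts [hx, h1, h2]

theorem Orb.tri_card (o : c.Orb A) {p x : G} (hp : p ∈ P) (hgen : P = zpowers p)
    (hx : x ∈ c.Tset (c.vGrp A o.hA.1.1)) (hxW : x ∈ c.fixB A) : (c.tri p x).ncard = 3 := by
  have hxE := c.fixB_le A hxW
  have ne : p * x * p⁻¹ ≠ x := fun e => c.T_not_Z hx (c.fixed_mem_Z hp hgen hxE (by
    rw [e, mul_inv_cancel]; exact one_mem _))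
  have ne2 : p * (p * x * p⁻¹) * p⁻¹ ≠ p * x * p⁻¹ := fun e => ne (mul_left_cancel (mul_right_cancel e))
  have ne3 : p * (p * x * p⁻¹) * p⁻¹ ≠ x := fun e => ne (by
    have := congrArg (fun u => p * u * p⁻¹) e
    rw [c.P_three hp] at this
    exact this.symm)
  rw [tri, Set.ncard_eq_three]
  exact ⟨_, _, _, ne.symm, ne3.symm, ne2.symm, rfl⟩

theorem Orb.sig_card (o : c.Orb A) {y : G} (hy : y ∈ c.twoGrp A o.hA.1.1) (hyZ : y ∉ zpowers z)
    (hny : ¬ c.IsZ y) : (c.sig (c.vGrp A o.hA.1.1) y).ncard = 6 := by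
  classical
  have hA := o.hA
  set V := c.vGrp A hA.1.1 with hV
  have h12 := o.five_two.2 y hy hyZ hny
  have hu : c.Tset V ∩ (c.sGrp hy.1.1 : Set G) = c.sig V y ∪ (fun v => z * v) '' c.sig V y := by
    ext v
    constructor
    · rintro ⟨hv, hvS⟩
      by_cases h : v ∈ c.cR y
      · exact Or.inl ⟨hv, h⟩
      · refine Or.inr ⟨z * v, ⟨c.T_zmul hA hv ((c.kernel_facts hA hy hyZ).2.1 hvS),
          (c.cR_z_iff hA hy hyZ hvS).mpr h⟩, ?_⟩
        show z * (z * v) = v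
        rw [← mul_assoc, c.zz, one_mul]
    · rintro (hv | ⟨r, hr, rfl⟩)
      · exact ⟨hv.1, (c.cR_sub hA hy hyZ hv.2).1⟩
      · obtain ⟨hrS, hrW, -⟩ := c.cR_sub hA hy hyZ hr.2
        exact ⟨c.T_zmul hA hr.1 hrW, mul_mem (c.z_sGrp _) hrS⟩
  have hd : Disjoint (c.sig V y) ((fun v => z * v) '' c.sig V y) := by
    rw [Set.disjoint_left]
    rintro m hm ⟨r, hr, rfl⟩
    exact (c.cR_z_iff hA hy hyZ (c.cR_sub hA hy hyZ hr.2).1).mp hm.2 hr.2
  rw [hu, Set.ncard_union_eq hd, Set.ncard_image_of_injective _ (mul_right_injective z)] at h12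
  omega

/-- Elements of E commuting with the small orbit part of the commutators lie in the kernel. -/
theorem Orb.sig_gen (o : c.Orb A) {p y : G} (hp : p ∈ P) (hgen : P = zpowers p)
    (hy : y ∈ c.twoGrp A o.hA.1.1) (hyZ : y ∉ zpowers z) (hny : ¬ c.IsZ y) {f : G} (hf : f ∈ E)
    (h : ∀ x ∈ c.sig (c.vGrp A o.hA.1.1) y, f * x = x * f) : f ∈ c.ker1 hy.1.1 := by
  classical
  have hA := o.hA
  set V := c.vGrp A hA.1.1 with hV
  obtain ⟨hS32, hSW, -, -⟩ := c.kernel_facts hA hy hyZ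
  set S := c.sGrp hy.1.1 with hS
  set U := Subgroup.closure ((c.sig V y) ∪ {z}) with hU
  have hUS : U ≤ S := (closure_le _).mpr (Set.union_subset (fun v hv => (c.cR_sub hA hy hyZ hv.2).1)
    (Set.singleton_subset_iff.mpr (c.z_sGrp _)))
  have hzU : z ∈ U := subset_closure (Or.inr rfl)
  have hUP : ∀ q ∈ P, ∀ e ∈ U, q * e * q⁻¹ ∈ U := by
    intro q hq
    have hle : U.map (MulAut.conj q).toMonoidHom ≤ U := by
      rw [hU, MonoidHom.map_closure]
      refine closure_mono ?_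
      rintro _ ⟨v, hv | hv, rfl⟩
      · exact Or.inl (o.sig_P hq hy hv)
      · refine Or.inr ?_
        show q * v * q⁻¹ = z
        rw [hv]; exact c.Z_conj (c.P_le hq) (mem_zpowers z)
    exact fun e he => hle ⟨e, he, rfl⟩
  obtain ⟨m, -, hm⟩ := c.card_cases (W := U) ((hUS.trans hSW).trans (c.fixB_le A)) (zpowers_le.mpr hzU) hUP
  obtain ⟨x, hx⟩ : (c.sig V y).Nonempty :=
    Set.nonempty_of_ncard_ne_zero (by rw [o.sig_card hy hyZ hny]; norm_num)
  obtain ⟨hline, -, -⟩ := o.line_cR hp hgen hy hyZ hx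
  obtain ⟨-, hxW, -⟩ := c.cR_sub hA hy hyZ hx.2
  have h8 : 8 < Nat.card U := by
    by_contra hle
    push Not at hle
    have hLU : c.lineOf p x ≤ U := c.lineOf_le hzU (subset_closure (Or.inl hx))
      (subset_closure (Or.inl (o.sig_P hp hy hx)))
    have e := eq_of_le_of_card_ge hLU (by rw [(c.line_facts hA hp hgen hxW (c.T_not_Z hx.1)).2.1]; exact hle)
    have hsub : c.sig V y ⊆ c.tri p x := by
      rw [← hline]
      exact fun v hv => ⟨hv, e.ge (subset_closure (Or.inl hv))⟩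
    have := Set.ncard_le_ncard hsub (Set.toFinite _)
    rw [o.sig_card hy hyZ hny, o.tri_card hp hgen hx.1 hxW] at this
    omega
  have hUeq : U = S := eq_of_le_of_card_ge hUS (by
    rw [show Nat.card S = 32 from hS32, hm]
    rw [hm] at h8
    have : 3 < 2 * m + 1 := (Nat.pow_lt_pow_iff_right (le_refl 2)).mp (show 2 ^ 3 < 2 ^ (2 * m + 1) from h8)
    calc 32 = 2 ^ 5 := by norm_num
      _ ≤ _ := Nat.pow_le_pow_right (by norm_num) (by omega))
  have hcent : U ≤ centralizer ({f} : Set G) := (closure_le _).mpr (Set.union_subset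
    (fun v hv => mem_centralizer_singleton_iff.mpr (h v hv).symm)
    (Set.singleton_subset_iff.mpr (mem_centralizer_singleton_iff.mpr (mem_centralizer_singleton_iff.mp (c.Ez hf)).symm)))
  exact c.ker_of_cent hA hy hyZ hf fun v hv => mem_centralizer_singleton_iff.mp (hcent (hUeq.ge hv))

/-- Elements of the commutators on different lines multiply into the commutators. -/
theorem Orb.orth (o : c.Orb A) {p y x u : G} (hp : p ∈ P) (hgen : P = zpowers p)
    (hy : y ∈ c.twoGrp A o.hA.1.1) (hyZ : y ∉ zpowers z) (hny : ¬ c.IsZ y)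
    (hx : x ∈ c.sig (c.vGrp A o.hA.1.1) y) (hu : u ∈ c.sig (c.vGrp A o.hA.1.1) y)
    (hux : u ∉ c.lineOf p x) : x * u ∈ c.cR y := by
  classical
  have hA := o.hA
  obtain ⟨hS32, hSW, -, -⟩ := c.kernel_facts hA hy hyZ
  set R := c.cR y with hR
  have hRE : ∀ {v}, v ∈ R → v ∈ E := fun hv => (c.cR_sub hA hy hyZ hv).1.1
  have hcomm : ∀ {v w}, v ∈ R → w ∈ R → v * w = w * v := fun hv hw => c.vGrp_comm hA.1
    (mem_sup_left (c.cR_sub hA hy hyZ hv).2.1) (mem_sup_left (c.cR_sub hA hy hyZ hw).2.1)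
  have hsymm : ∀ {v w}, v ∈ R → w ∈ R → v * w ∈ R → w * v ∈ R := fun hv hw h => hcomm hv hw ▸ h
  have hconj : ∀ {v w}, v * w ∈ R → (p * v * p⁻¹) * (p * w * p⁻¹) ∈ R := fun {v w} h => by
    have := c.cR_P hy.1 hp h
    rwa [show p * (v * w) * p⁻¹ = (p * v * p⁻¹) * (p * w * p⁻¹) by group] at this
  -- products
  have hprod : ∀ {v v' w}, v ∈ R → v' ∈ R → w ∈ R → v * v' ∈ R →
      (v * v' * w ∈ R ↔ (v * w ∈ R ↔ v' * w ∈ R)) := by
    intro v v' w hv hv' hw hvv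
    obtain ⟨f, hf, hfv⟩ := hv
    obtain ⟨g, hg, hgv⟩ := hv'
    have hfg : ⁅f * g, y⁆ = v * v' := by
      have hcom : f * v' = v' * f := (c.cR_mul_iff hA hy hyZ hf hfv ⟨g, hg, hgv⟩).mp hvv
      rw [commutatorElement_mul_left_eq_conj_mul, hgv, hfv, hcom, mul_inv_cancel_right]
      exact (hcomm ⟨f, hf, hfv⟩ ⟨g, hg, hgv⟩).symm
    rw [c.cR_mul_iff hA hy hyZ (mul_mem hf hg) hfg hw, c.cR_mul_iff hA hy hyZ hf hfv hw,
      c.cR_mul_iff hA hy hyZ hg hgv hw, ← commutatorElement_eq_one_iff_mul_comm,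
      ← commutatorElement_eq_one_iff_mul_comm, ← commutatorElement_eq_one_iff_mul_comm,
      c.comm_mul_left hf hg (hRE hw)]
    rcases c.mem_Z.mp (c.comm_E hf (hRE hw)) with e | e <;> rcases c.mem_Z.mp (c.comm_E hg (hRE hw)) with e' | e' <;>
      simp [e, e', c.z_ne_one, c.zz]
  have hanti : ∀ {v}, v ∈ c.sig (c.vGrp A hA.1.1) y → v * (p * v * p⁻¹) ∉ R := fun {v} hv h => by
    have e := c.eps_rule o hp hgen hy hyZ hny hv.2 hv.1
    rw [e] at h
    exact (c.cR_z_iff hA hy hyZ (c.cR_sub hA hy hyZ (o.sig_P hp hy (o.sig_P hp hy hv)).2).1).mp h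
      (o.sig_P hp hy (o.sig_P hp hy hv)).2
  by_contra hxu
  obtain ⟨f, hf, hfx⟩ := hx.2
  have hu1 := o.sig_P hp hy hu
  have hu2 := o.sig_P hp hy hu1
  obtain ⟨x', hx', hx'L, hxx', hx1, hx2⟩ : ∃ x', x' ∈ c.sig (c.vGrp A hA.1.1) y ∧ x' ∉ c.lineOf p x ∧
      x * x' ∈ R ∧ x * (p * x' * p⁻¹) ∉ R ∧ x * (p * (p * x' * p⁻¹) * p⁻¹) ∉ R := by
    obtain ⟨hLW, -, -, hLP⟩ := c.line_facts hA hp hgen (c.cR_sub hA hy hyZ hx.2).2.1 (c.T_not_Z hx.1)
    have hnot : ∀ v, v ∉ c.lineOf p x → p * v * p⁻¹ ∉ c.lineOf p x := fun v hv h => hv (by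
      have := hLP p⁻¹ (inv_mem hp) _ h
      rwa [show p⁻¹ * (p * v * p⁻¹) * p⁻¹⁻¹ = v by group] at this)
    -- the three products
    have hsum : x * (p * (p * u * p⁻¹) * p⁻¹) ∈ R ↔ ¬ (x * (p * u * p⁻¹) ∈ R) := by
      have e := c.eps_rule o hp hgen hy hyZ hny hu.2 hu.1
      rw [c.cR_mul_iff hA hy hyZ hf hfx hu2.2, c.cR_mul_iff hA hy hyZ hf hfx hu1.2]
      rw [c.cR_mul_iff hA hy hyZ hf hfx hu.2] at hxu
      have e1 : ⁅f, z⁆ = 1 := commutatorElement_eq_one_iff_mul_comm.mpr (mem_centralizer_singleton_iff.mp (c.Ez hf))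
      have e2 := congrArg (fun m => ⁅f, m⁆) e
      rw [c.comm_mul_right (hRE hu.2) (hRE hu1.2) hf, c.comm_mul_right c.zE (hRE hu2.2) hf, e1, one_mul] at e2
      rw [← commutatorElement_eq_one_iff_mul_comm, ← commutatorElement_eq_one_iff_mul_comm]
      rw [← commutatorElement_eq_one_iff_mul_comm] at hxu
      rw [← e2, (c.mem_Z.mp (c.comm_E hf (hRE hu.2))).resolve_left hxu]
      rcases c.mem_Z.mp (c.comm_E hf (hRE hu1.2)) with e' | e' <;> simp [e', c.z_ne_one, c.zz]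
    by_cases h : x * (p * u * p⁻¹) ∈ R
    · exact ⟨_, hu1, hnot u hux, h, fun h' => hsum.mp h' h, by rw [c.P_three hp]; exact hxu⟩
    · refine ⟨_, hu2, hnot _ (hnot u hux), hsum.mpr h, by rw [c.P_three hp]; exact hxu, ?_⟩
      rw [c.P_three hp]; exact h
  have h1x := o.sig_P hp hy hx
  have h1x' := o.sig_P hp hy hx'
  set r := x * x' with hr
  set r1 := p * r * p⁻¹ with hr1
  have hr1R : r1 ∈ R := c.cR_P hy.1 hp hxx'
  have er1 : r1 = (p * x * p⁻¹) * (p * x' * p⁻¹) := by rw [hr1, hr]; group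
  have hp12 : (p * x * p⁻¹) * (p * x' * p⁻¹) ∈ R := hconj hxx'
  have hpx' : (p * x * p⁻¹) * x' ∉ R := fun h => by
    have := hconj (hconj h)
    rw [c.P_three hp] at this
    exact hx2 this
  have hxr : x * r ∈ R := by
    rw [hr, ← mul_assoc, (c.cR_sub hA hy hyZ hx.2).2.2, one_mul]; exact hx'.2
  have hpr : (p * x * p⁻¹) * r ∈ R := by
    refine hsymm hxx' h1x.2 ((hprod hx.2 hx'.2 h1x.2 hxx').mpr (iff_of_false (hanti hx) fun h => hpx' ?_))
    exact hsymm hx'.2 h1x.2 h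
  have hrr1 : r * r1 ∈ R := by
    refine (hprod hx.2 hx'.2 hr1R hxx').mpr (iff_of_true ?_ ?_)
    · rw [er1]
      exact hsymm hp12 hx.2 ((hprod h1x.2 h1x'.2 hx.2 hp12).mpr
        (iff_of_false (fun h => hanti hx (hsymm h1x.2 hx.2 h)) fun h => hx1 (hsymm h1x'.2 hx.2 h)))
    · rw [er1]
      exact hsymm hp12 hx'.2 ((hprod h1x.2 h1x'.2 hx'.2 hp12).mpr
        (iff_of_false hpx' fun h => hanti hx' (hsymm h1x'.2 hx'.2 h)))
  obtain ⟨g, hg, hgr⟩ := hxx'
  have hcr : ∀ {v}, v ∈ R → v * r ∈ R → g * v = v * g := fun {v} hv h =>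
    (c.cR_mul_iff hA hy hyZ hg hgr hv).mp (hsymm hv ⟨g, hg, hgr⟩ h)
  have hgK : g ∈ c.ker1 hy.1.1 := by
    set U := centralizer ({g} : Set G) ⊓ c.sGrp hy.1.1 with hU
    have hzU : z ∈ U := ⟨mem_centralizer_singleton_iff.mpr (mem_centralizer_singleton_iff.mp (c.Ez hg)).symm,
      c.z_sGrp _⟩
    have hin : ∀ {v}, v ∈ R → v * r ∈ R → v ∈ U := fun {v} hv h =>
      ⟨mem_centralizer_singleton_iff.mpr (hcr hv h).symm, (c.cR_sub hA hy hyZ hv).1⟩
    have hrS := (c.cR_sub hA hy hyZ ⟨g, hg, hgr⟩).1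
    have hrU : r ∈ U := hin ⟨g, hg, hgr⟩ (by
      rw [(c.cR_sub hA hy hyZ ⟨g, hg, hgr⟩).2.2]; exact c.one_cR y)
    have hr1U : r1 ∈ U := hin hr1R (hsymm ⟨g, hg, hgr⟩ hr1R hrr1)
    obtain ⟨hLW, hL8, henum, hLP⟩ := c.line_facts hA hp hgen (c.cR_sub hA hy hyZ hx.2).2.1 (c.T_not_Z hx.1)
    set M := c.lineOf p x ⊔ c.lineOf p r with hM
    have hML : c.lineOf p x ≤ U := c.lineOf_le hzU (hin hx.2 hxr) (hin h1x.2 hpr)
    have hMr : c.lineOf p r ≤ U := c.lineOf_le hzU hrU hr1U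
    have hrL : r ∉ c.lineOf p x := fun h => hx'L (by
      have := mul_mem (c.mem_lineOf_left p x).2.1 h
      rwa [hr, ← mul_assoc, (c.cR_sub hA hy hyZ hx.2).2.2, one_mul] at this)
    have hrW := hSW hrS
    have hrZ : r ∉ zpowers z := fun h => hrL (zpowers_le.mpr (c.mem_lineOf_left p x).1 h)
    have hMP : ∀ q ∈ P, ∀ e ∈ M, q * e * q⁻¹ ∈ M := by
      intro q hq
      have hle : M.map (MulAut.conj q).toMonoidHom ≤ M := by
        rw [hM, Subgroup.map_sup]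
        exact sup_le_sup (map_le_iff_le_comap.mpr (hLP q hq))
          (map_le_iff_le_comap.mpr ((c.line_facts hA hp hgen hrW hrZ).2.2.2 q hq))
      exact fun e he => hle ⟨e, he, rfl⟩
    have hMS : M ≤ c.sGrp hy.1.1 := sup_le (hML.trans inf_le_right) (hMr.trans inf_le_right)
    obtain ⟨m, -, hm⟩ := c.card_cases (W := M) ((hMS.trans hSW).trans (c.fixB_le A))
      (zpowers_le.mpr (mem_sup_left (c.mem_lineOf_left p x).1)) hMP
    have h8 : 8 < Nat.card M := by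
      by_contra hle
      push Not at hle
      have e := eq_of_le_of_card_ge (le_sup_left : c.lineOf p x ≤ M) (by rw [hL8]; exact hle)
      exact hrL (e.ge (mem_sup_right (c.mem_lineOf_left p r).2.1))
    have hMeq : M = c.sGrp hy.1.1 := eq_of_le_of_card_ge hMS (by
      rw [show Nat.card (c.sGrp hy.1.1) = 32 from hS32, hm]
      rw [hm] at h8
      have : 3 < 2 * m + 1 := (Nat.pow_lt_pow_iff_right (le_refl 2)).mp (show 2 ^ 3 < 2 ^ (2 * m + 1) from h8)
      calc 32 = 2 ^ 5 := by norm_num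
        _ ≤ _ := Nat.pow_le_pow_right (by norm_num) (by omega))
    exact c.ker_of_cent hA hy hyZ hg fun v hv =>
      mem_centralizer_singleton_iff.mp ((sup_le hML hMr : M ≤ U) (hMeq.ge hv)).1
  have h := commutatorElement_eq_one_iff_mul_comm.mpr (c.ker1_comm hy.1 g hgK).symm
  rw [hgr, hr] at h
  refine hx'L ?_
  have e : x' = x := by
    rw [← mul_one x, ← h, ← mul_assoc, (c.cR_sub hA hy hyZ hx.2).2.2, one_mul]
  rw [e]; exact (c.mem_lineOf_left p x).2.1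

end Ctx

end CfsgLib.JankoFour
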