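/-
The twenty-four stars and the pairs of stars of the elements of the small orbit.
-/
import Cfsg.Agent.Lib.JankoFour.OrbOrth

set_option autoImplicit false

namespace CfsgLib.JankoFour

open Cfsg Subgroup
open scoped commutatorElement

universe u

variable {G : Type u} [Group G] [Finite G] {z : G} {P E : Subgroup G}

namespace Ctx

variable {c : Ctx z P E} {A : Subgroup MTwoTwo}

/-- A star: three adjacent elements of W whose product is z. -/
def Orb.Star (o : c.Orb A) (σ : Set G) : Prop :=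
  ∃ a b, a ∈ c.Tset (c.vGrp A o.hA.1.1) ∧ a ∈ c.fixB A ∧ b ∈ c.fixB A ∧
    b ∈ c.Nb (c.vGrp A o.hA.1.1) a ∧ σ = {a, b, z * (a * b)}

/-- The stars at the two ends of an element. -/
def Orb.End (o : c.Orb A) (t : G) (σ : Set G) : Prop :=
  o.Star σ ∧ ∀ u ∈ σ, u = t ∨ u * t ∈ c.Tset (c.vGrp A o.hA.1.1)

theorem Orb.W_sq (o : c.Orb A) {a : G} (ha : a ∈ c.fixB A) : a * a = 1 := (c.hex_fix o.hA.1).2.2.1 a ha

theorem Orb.W_comm (o : c.Orb A) {a b : G} (ha : a ∈ c.fixB A) (hb : b ∈ c.fixB A) : a * b = b * a :=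
  c.vGrp_comm o.hA.1 (mem_sup_left ha) (mem_sup_left hb)

theorem Orb.zW (o : c.Orb A) : z ∈ c.fixB A := c.Z_le_fixB A (mem_zpowers z)

theorem Orb.nb_symm (o : c.Orb A) {a b : G} (ha : a ∈ c.Tset (c.vGrp A o.hA.1.1))
    (hb : b ∈ c.Nb (c.vGrp A o.hA.1.1) a) : a ∈ c.Nb (c.vGrp A o.hA.1.1) b :=
  ⟨ha, c.vGrp_comm o.hA.1 ha.1 hb.1.1 ▸ hb.2⟩

/-- The third element of a star. -/
theorem Orb.star_third (o : c.Orb A) {a b : G} (ha : a ∈ c.Tset (c.vGrp A o.hA.1.1)) (haW : a ∈ c.fixB A)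
    (hbW : b ∈ c.fixB A) (hb : b ∈ c.Nb (c.vGrp A o.hA.1.1) a) :
    z * (a * b) ∈ c.Nb (c.vGrp A o.hA.1.1) a ∧ z * (a * b) ∈ c.fixB A ∧ z * (a * (z * (a * b))) = b := by
  have hW := mul_mem o.zW (mul_mem haW hbW)
  have e : a * (z * (a * b)) = z * b := by
    rw [← mul_assoc, o.W_comm haW o.zW, mul_assoc, ← mul_assoc a a b, o.W_sq haW, one_mul]
  refine ⟨⟨c.T_zmul o.hA hb.2 (mul_mem haW hbW), ?_⟩, hW, by rw [e, ← mul_assoc, c.zz, one_mul]⟩
  rw [e]; exact c.T_zmul o.hA hb.1 hbW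

theorem Orb.star_facts (o : c.Orb A) {σ : Set G} (hσ : o.Star σ) :
    σ.ncard = 3 ∧ (∀ u ∈ σ, u ∈ c.Tset (c.vGrp A o.hA.1.1) ∧ u ∈ c.fixB A) ∧
      ∀ u ∈ σ, ∀ v ∈ σ, u ≠ v → v ∈ c.Nb (c.vGrp A o.hA.1.1) u ∧ σ = {u, v, z * (u * v)} := by
  obtain ⟨a, b, ha, haW, hbW, hb, rfl⟩ := hσ
  set V := c.vGrp A o.hA.1.1 with hV
  set d := z * (a * b) with hd
  obtain ⟨hdN, hdW, hdb⟩ := o.star_third ha haW hbW hb
  have hab : a ≠ b := fun e => hb.2.2.1 (e ▸ o.W_sq haW)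
  have had : a ≠ d := fun e => hdN.2.2.1 ((congrArg (a * ·) e.symm).trans (o.W_sq haW))
  have hbd : b ≠ d := fun e => c.T_not_Z ha (by
    have e' : b = (z * a) * b := by rw [mul_assoc]; exact e
    rw [right_eq_mul] at e'
    rw [eq_inv_of_mul_eq_one_right e']
    exact inv_mem (mem_zpowers z))
  have hbd' : d ∈ c.Nb V b ∧ z * (b * d) = a := by
    have e : b * d = z * a := by
      rw [hd, ← mul_assoc, o.W_comm hbW o.zW, mul_assoc, o.W_comm haW hbW, ← mul_assoc b b a, o.W_sq hbW, one_mul]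
    refine ⟨⟨hdN.1, ?_⟩, by rw [e, ← mul_assoc, c.zz, one_mul]⟩
    rw [e]; exact c.T_zmul o.hA ha haW
  refine ⟨Set.ncard_eq_three.mpr ⟨a, b, d, hab, had, hbd, rfl⟩, ?_, ?_⟩
  · rintro u (rfl | rfl | rfl)
    exacts [⟨ha, haW⟩, ⟨hb.1, hbW⟩, ⟨hdN.1, hdW⟩]
  · rintro u (rfl | rfl | rfl) v (rfl | rfl | rfl) hne
    · exact absurd rfl hne
    · exact ⟨hb, rfl⟩
    · exact ⟨hdN, by rw [hdb]; ext m; simp only [Set.mem_insert_iff, Set.mem_singleton_iff]; tauto⟩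
    · refine ⟨o.nb_symm ha hb, ?_⟩
      rw [o.W_comm hbW haW]; ext m; simp only [Set.mem_insert_iff, Set.mem_singleton_iff, hd]; tauto
    · exact absurd rfl hne
    · exact ⟨hbd'.1, by rw [hbd'.2]; ext m; simp only [Set.mem_insert_iff, Set.mem_singleton_iff]; tauto⟩
    · refine ⟨o.nb_symm ha hdN, ?_⟩
      rw [o.W_comm hdW haW, hdb]; ext m; simp only [Set.mem_insert_iff, Set.mem_singleton_iff]; tauto
    · refine ⟨o.nb_symm hb.1 hbd'.1, ?_⟩
      rw [o.W_comm hdW hbW, hbd'.2]; ext m; simp only [Set.mem_insert_iff, Set.mem_singleton_iff]; tauto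
    · exact absurd rfl hne

theorem Orb.star_inter (o : c.Orb A) {σ τ : Set G} (hσ : o.Star σ) (hτ : o.Star τ) {u v : G} (huv : u ≠ v)
    (h1 : u ∈ σ) (h2 : v ∈ σ) (h3 : u ∈ τ) (h4 : v ∈ τ) : σ = τ :=
  (((o.star_facts hσ).2.2 u h1 v h2 huv).2).trans ((o.star_facts hτ).2.2 u h3 v h4 huv).2.symm

/-- The stars through an element of W. -/
theorem Orb.two_stars (o : c.Orb A) {t : G} (ht : t ∈ c.Tset (c.vGrp A o.hA.1.1)) (htW : t ∈ c.fixB A) :
    ∃ σ τ, o.Star σ ∧ o.Star τ ∧ t ∈ σ ∧ t ∈ τ ∧ σ ≠ τ ∧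
      c.Nb (c.vGrp A o.hA.1.1) t ∩ (c.fixB A : Set G) ⊆ σ ∪ τ ∧ ∀ ρ, o.Star ρ → t ∈ ρ → ρ = σ ∨ ρ = τ := by
  classical
  obtain ⟨p, hp, -, hgen⟩ := c.exists_gen
  set N4 := c.Nb (c.vGrp A o.hA.1.1) t ∩ (c.fixB A : Set G) with hN4
  have h4 : N4.ncard = 4 := o.nb_W hp hgen ht htW
  obtain ⟨b, hb, hbW⟩ : N4.Nonempty := Set.nonempty_of_ncard_ne_zero (by omega)
  set σ : Set G := {t, b, z * (t * b)} with hσ
  have hσS : o.Star σ := ⟨t, b, ht, htW, hbW, hb, rfl⟩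
  obtain ⟨b', ⟨hb', hb'W⟩, hb'σ⟩ : ∃ b' ∈ N4, b' ∉ σ := by
    by_contra hall
    push Not at hall
    have := Set.ncard_le_ncard hall (Set.toFinite _)
    rw [h4, (o.star_facts hσS).1] at this
    omega
  set τ : Set G := {t, b', z * (t * b')} with hτ
  have hτS : o.Star τ := ⟨t, b', ht, htW, hb'W, hb', rfl⟩
  have hne : σ ≠ τ := fun e => hb'σ (e ▸ Or.inr (Or.inl rfl))
  have hsub : N4 ⊆ σ ∪ τ := by
    have hd : ∀ ρ, o.Star ρ → t ∈ ρ → (ρ \ {t}) ⊆ N4 ∧ (ρ \ {t}).ncard = 2 := fun ρ hρ htρ => by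
      refine ⟨fun u hu => ⟨((o.star_facts hρ).2.2 t htρ u hu.1 (Ne.symm hu.2)).1, ((o.star_facts hρ).2.1 u hu.1).2⟩, ?_⟩
      rw [Set.ncard_sdiff_singleton_of_mem htρ, (o.star_facts hρ).1]
    obtain ⟨h1, h1c⟩ := hd σ hσS (Or.inl rfl)
    obtain ⟨h2, h2c⟩ := hd τ hτS (Or.inl rfl)
    have hdis : Disjoint (σ \ {t}) (τ \ {t}) := by
      rw [Set.disjoint_left]
      exact fun u hu hu' => hne (o.star_inter hσS hτS hu.2 hu.1 (Or.inl rfl) hu'.1 (Or.inl rfl))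
    have e := Set.eq_of_subset_of_ncard_le (Set.union_subset h1 h2)
      (by rw [Set.ncard_union_eq hdis, h1c, h2c, h4]) (Set.toFinite _)
    rw [← e]
    exact Set.union_subset_union Set.sdiff_subset Set.sdiff_subset
  refine ⟨σ, τ, hσS, hτS, Or.inl rfl, Or.inl rfl, hne, hsub, fun ρ hρ htρ => ?_⟩
  obtain ⟨u, hu, hut⟩ : ∃ u ∈ ρ, u ≠ t := by
    by_contra hall
    push Not at hall
    have := Set.ncard_le_ncard (show ρ ⊆ {t} from hall) (Set.toFinite _)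
    rw [(o.star_facts hρ).1, Set.ncard_singleton] at this
    omega
  have hu4 : u ∈ N4 := ⟨((o.star_facts hρ).2.2 t htρ u hu hut.symm).1, ((o.star_facts hρ).2.1 u hu).2⟩
  rcases hsub hu4 with h | h
  · exact Or.inl (o.star_inter hρ hσS hut hu htρ h (Or.inl rfl))
  · exact Or.inr (o.star_inter hρ hτS hut hu htρ h (Or.inl rfl))

/-- The ends of an element of W are the stars through it. -/
theorem Orb.end_W (o : c.Orb A) {t : G} {σ : Set G} (ht : t ∈ c.Tset (c.vGrp A o.hA.1.1)) (htW : t ∈ c.fixB A) :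
    o.End t σ ↔ o.Star σ ∧ t ∈ σ := by
  classical
  constructor
  · rintro ⟨hσ, h⟩
    refine ⟨hσ, by_contra fun htσ => ?_⟩
    obtain ⟨σ1, τ1, hσ1, hτ1, ht1, ht2, -, hsub, -⟩ := o.two_stars ht htW
    obtain ⟨hc, hmem, -⟩ := o.star_facts hσ
    have hin : σ ⊆ σ1 ∪ τ1 := fun u hu => hsub ⟨⟨(hmem u hu).1, by
      rw [o.W_comm htW (hmem u hu).2]
      exact (h u hu).resolve_left fun e => htσ (e ▸ hu)⟩, (hmem u hu).2⟩
    -- two of the three elements lie in one of the two stars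
    have key : ∀ ρ, o.Star ρ → t ∈ ρ → ∀ u ∈ σ, ∀ v ∈ σ, u ≠ v → u ∈ ρ → v ∈ ρ → False :=
      fun ρ hρ htρ u hu v hv huv hu' hv' => htσ (o.star_inter hσ hρ huv hu hv hu' hv' ▸ htρ)
    obtain ⟨a, b, d, hab, had, hbd, e⟩ := Set.ncard_eq_three.mp hc
    have ha : a ∈ σ := e ▸ Or.inl rfl
    have hb : b ∈ σ := e ▸ Or.inr (Or.inl rfl)
    have hd : d ∈ σ := e ▸ Or.inr (Or.inr rfl)
    rcases hin ha with ha' | ha' <;> rcases hin hb with hb' | hb' <;> rcases hin hd with hd' | hd'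
    all_goals first
      | exact key σ1 hσ1 ht1 a ha b hb hab ha' hb'
      | exact key τ1 hτ1 ht2 a ha b hb hab ha' hb'
      | exact key σ1 hσ1 ht1 a ha d hd had ha' hd'
      | exact key τ1 hτ1 ht2 a ha d hd had ha' hd'
      | exact key σ1 hσ1 ht1 b hb d hd hbd hb' hd'
      | exact key τ1 hτ1 ht2 b hb d hd hbd hb' hd'
  · rintro ⟨hσ, htσ⟩
    refine ⟨hσ, fun u hu => or_iff_not_imp_left.mpr fun hut => ?_⟩
    exact ((o.star_facts hσ).2.2 u hu t htσ hut).1.2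

theorem Orb.tri_star (o : c.Orb A) {p y x : G} (hp : p ∈ P) (hgen : P = zpowers p)
    (hy : y ∈ c.twoGrp A o.hA.1.1) (hyZ : y ∉ zpowers z) (hny : ¬ c.IsZ y)
    (hx : x ∈ c.sig (c.vGrp A o.hA.1.1) y) : o.Star (c.tri p x) := by
  have h1 := o.sig_P hp hy hx
  have h2 := o.sig_P hp hy h1
  have hxW := (c.cR_sub o.hA hy hyZ hx.2).2.1
  have h1W := (c.cR_sub o.hA hy hyZ h1.2).2.1
  have e := c.eps_rule o hp hgen hy hyZ hny hx.2 hx.1
  refine ⟨x, p * x * p⁻¹, hx.1, hxW, h1W, ⟨h1.1, ?_⟩, ?_⟩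
  · rw [e]; exact c.T_zmul o.hA h2.1 (c.cR_sub o.hA hy hyZ h2.2).2.1
  · rw [e, ← mul_assoc, c.zz, one_mul]; rfl

/-- The ends of a lift. -/
theorem Orb.end_lift (o : c.Orb A) {p y : G} (hp : p ∈ P) (hgen : P = zpowers p)
    (hy : y ∈ c.twoGrp A o.hA.1.1) (hyZ : y ∉ zpowers z) (hny : ¬ c.IsZ y) {σ : Set G} :
    o.End y σ ↔ ∃ x ∈ c.sig (c.vGrp A o.hA.1.1) y, σ = c.tri p x := by
  have hyW : y ∉ c.fixB A := fun h => c.twoGrp_not_W o.hA (one_mem _) hy hyZ (by rwa [one_mul])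
  constructor
  · rintro ⟨hσ, h⟩
    obtain ⟨hc, hmem, hpair⟩ := o.star_facts hσ
    have hsig : ∀ u ∈ σ, u ∈ c.sig (c.vGrp A o.hA.1.1) y := fun u hu => by
      refine ⟨(hmem u hu).1, by_contra fun hn => ?_⟩
      exact ((h u hu).resolve_left fun e => hyW (e ▸ (hmem u hu).2)).2.2 ((o.fibre y hy hyZ hny u (hmem u hu).2).mpr hn)
    obtain ⟨x, hx⟩ : σ.Nonempty := Set.nonempty_of_ncard_ne_zero (by omega)
    refine ⟨x, hsig x hx, ?_⟩
    obtain ⟨hline, htL, -⟩ := o.line_cR hp hgen hy hyZ (hsig x hx)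
    have hsub : σ ⊆ c.tri p x := fun u hu => by
      by_cases e : u = x
      · rw [e]; exact Or.inl rfl
      rw [← hline]
      exact ⟨hsig u hu, ((o.W_adj hp hgen (hmem x hx).1 (hmem x hx).2 (hmem u hu).2).mp
        (hpair x hx u hu (Ne.symm e)).1).1⟩
    exact Set.eq_of_subset_of_ncard_le hsub
      (by rw [hc, o.tri_card hp hgen (hsig x hx).1 (hmem x hx).2]) (Set.toFinite _)
  · rintro ⟨x, hx, rfl⟩
    refine ⟨o.tri_star hp hgen hy hyZ hny hx, fun u hu => Or.inr ?_⟩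
    obtain ⟨hline, -, -⟩ := o.line_cR hp hgen hy hyZ hx
    rw [← hline] at hu
    exact (o.fib_mem hy hyZ hny ⟨u, hu.1.2, rfl⟩).1

/-- The ends of a lift are two stars on different lines. -/
theorem Orb.lift_two (o : c.Orb A) {p y : G} (hp : p ∈ P) (hgen : P = zpowers p)
    (hy : y ∈ c.twoGrp A o.hA.1.1) (hyZ : y ∉ zpowers z) (hny : ¬ c.IsZ y) :
    ∃ x x', x ∈ c.sig (c.vGrp A o.hA.1.1) y ∧ x' ∈ c.sig (c.vGrp A o.hA.1.1) y ∧
      x' ∉ c.lineOf p x ∧ Disjoint (c.tri p x) (c.tri p x') ∧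
      c.sig (c.vGrp A o.hA.1.1) y = c.tri p x ∪ c.tri p x' ∧
      ∀ σ, o.End y σ ↔ σ = c.tri p x ∨ σ = c.tri p x' := by
  classical
  have h6 := o.sig_card hy hyZ hny
  obtain ⟨x, hx⟩ : (c.sig (c.vGrp A o.hA.1.1) y).Nonempty := Set.nonempty_of_ncard_ne_zero (by omega)
  obtain ⟨hline, -, -⟩ := o.line_cR hp hgen hy hyZ hx
  have hxW := (c.cR_sub o.hA hy hyZ hx.2).2.1
  obtain ⟨x', hx', hx'L⟩ : ∃ x' ∈ c.sig (c.vGrp A o.hA.1.1) y, x' ∉ c.lineOf p x := by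
    by_contra hall
    push Not at hall
    have hsub : c.sig (c.vGrp A o.hA.1.1) y ⊆ c.tri p x := fun v hv => hline ▸ ⟨hv, hall v hv⟩
    have := Set.ncard_le_ncard hsub (Set.toFinite _)
    rw [h6, o.tri_card hp hgen hx.1 hxW] at this
    omega
  obtain ⟨hline', -, -⟩ := o.line_cR hp hgen hy hyZ hx'
  have hx'W := (c.cR_sub o.hA hy hyZ hx'.2).2.1
  have htL : c.tri p x ⊆ c.sig (c.vGrp A o.hA.1.1) y := hline ▸ Set.inter_subset_left
  have htL' : c.tri p x' ⊆ c.sig (c.vGrp A o.hA.1.1) y := hline' ▸ Set.inter_subset_left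
  have hdis : Disjoint (c.tri p x) (c.tri p x') := by
    rw [Set.disjoint_left]
    intro v hv hv'
    rw [← hline] at hv
    rw [← hline'] at hv'
    refine hx'L ?_
    have e1 := (c.line_T o.hA hp hgen hx.1 hxW hv.2 (c.T_not_Z hv.1.1)).2.2
    have e2 := (c.line_T o.hA hp hgen hx'.1 hx'W hv'.2 (c.T_not_Z hv.1.1)).2.2
    rw [← e1, e2]
    exact (c.mem_lineOf_left p x').2.1
  have hsig := (Set.eq_of_subset_of_ncard_le (Set.union_subset htL htL')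
    (by rw [Set.ncard_union_eq hdis, o.tri_card hp hgen hx.1 hxW, o.tri_card hp hgen hx'.1 hx'W, h6])
    (Set.toFinite _)).symm
  refine ⟨x, x', hx, hx', hx'L, hdis, hsig, fun σ => ⟨fun h => ?_, ?_⟩⟩
  · obtain ⟨v, hv, rfl⟩ := (o.end_lift hp hgen hy hyZ hny).mp h
    have hS := o.tri_star hp hgen hy hyZ hny hv
    have hmem : v ∈ c.tri p x ∪ c.tri p x' := hsig ▸ hv
    obtain ⟨hlv, -, -⟩ := o.line_cR hp hgen hy hyZ hv
    have key : ∀ w ∈ c.sig (c.vGrp A o.hA.1.1) y, v ∈ c.tri p w → c.tri p v = c.tri p w := fun w hw hvw => by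
      obtain ⟨hlw, -, -⟩ := o.line_cR hp hgen hy hyZ hw
      rw [← hlw] at hvw
      rw [← hlv, ← hlw, (c.line_T o.hA hp hgen hw.1 (c.cR_sub o.hA hy hyZ hw.2).2.1 hvw.2 (c.T_not_Z hv.1)).2.2]
    exact hmem.imp (key x hx) (key x' hx')
  · rintro (rfl | rfl)
    · exact (o.end_lift hp hgen hy hyZ hny).mpr ⟨x, hx, rfl⟩
    · exact (o.end_lift hp hgen hy hyZ hny).mpr ⟨x', hx', rfl⟩

/-- Conjugation by E. -/
theorem Orb.end_conj (o : c.Orb A) {f t : G} (hf : f ∈ E) {σ : Set G} (h : o.End t σ) :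
    o.End (f * t * f⁻¹) ((fun u => f * u * f⁻¹) '' σ) := by
  have hN := c.E_norm_V o.hA hf
  have hW : ∀ v ∈ c.fixB A, f * v * f⁻¹ ∈ c.fixB A := fun v hv =>
    c.vGrp_inf_E o.hA.1 ((mem_normalizer_iff.mp hN v).mp (mem_sup_left hv)) (c.conj_E (c.Ez hf) (c.fixB_le A hv))
  obtain ⟨⟨a, b, ha, haW, hbW, hb, rfl⟩, hu⟩ := h
  refine ⟨⟨f * a * f⁻¹, f * b * f⁻¹, c.norm_T hN ha, hW a haW, hW b hbW, ⟨c.norm_T hN hb.1, ?_⟩, ?_⟩, ?_⟩
  · rw [show f * a * f⁻¹ * (f * b * f⁻¹) = f * (a * b) * f⁻¹ by group]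
    exact c.norm_T hN hb.2
  · rw [Set.image_insert_eq, Set.image_insert_eq, Set.image_singleton]
    have e : f * (z * (a * b)) * f⁻¹ = z * (f * a * f⁻¹ * (f * b * f⁻¹)) := by
      rw [show f * (z * (a * b)) * f⁻¹ = (f * z * f⁻¹) * (f * a * f⁻¹ * (f * b * f⁻¹)) by group,
        c.Z_conj (c.Ez hf) (mem_zpowers z)]
    rw [e]
  · rintro _ ⟨u, hu', rfl⟩
    rcases hu u hu' with e | e
    · exact Or.inl (by rw [e])
    · refine Or.inr ?_
      show f * u * f⁻¹ * (f * t * f⁻¹) ∈ _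
      rw [show f * u * f⁻¹ * (f * t * f⁻¹) = f * (u * t) * f⁻¹ by group]
      exact c.norm_T hN e

theorem Orb.end_conj_iff (o : c.Orb A) {f t : G} (hf : f ∈ E) {σ : Set G} :
    o.End (f * t * f⁻¹) σ ↔ ∃ τ, o.End t τ ∧ σ = (fun u => f * u * f⁻¹) '' τ := by
  refine ⟨fun h => ⟨(fun u => f⁻¹ * u * f⁻¹⁻¹) '' σ, ?_, ?_⟩, fun ⟨τ, hτ, e⟩ => e ▸ o.end_conj hf hτ⟩
  · have h' := o.end_conj (inv_mem hf) h
    rwa [show f⁻¹ * (f * t * f⁻¹) * f⁻¹⁻¹ = t by group] at h'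
  · rw [Set.image_image]
    have : (fun u => f * (f⁻¹ * u * f⁻¹⁻¹) * f⁻¹) = id := funext fun u => by show _ = u; group
    rw [this, Set.image_id]

/-- Every element has two ends; outside W they are disjoint. -/
theorem Orb.two_ends (o : c.Orb A) {t : G} (ht : t ∈ c.Tset (c.vGrp A o.hA.1.1)) :
    ∃ σ τ, σ ≠ τ ∧ (∀ ρ, o.End t ρ ↔ ρ = σ ∨ ρ = τ) ∧ (t ∉ c.fixB A → Disjoint σ τ) := by
  by_cases htW : t ∈ c.fixB A
  · obtain ⟨σ, τ, hσ, hτ, h1, h2, hne, -, hall⟩ := o.two_stars ht htW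
    refine ⟨σ, τ, hne, fun ρ => ⟨fun h => ?_, ?_⟩, fun h => absurd htW h⟩
    · obtain ⟨hρ, htρ⟩ := (o.end_W ht htW).mp h
      exact hall ρ hρ htρ
    · rintro (rfl | rfl)
      · exact (o.end_W ht htW).mpr ⟨hσ, h1⟩
      · exact (o.end_W ht htW).mpr ⟨hτ, h2⟩
  · obtain ⟨p, hp, -, hgen⟩ := c.exists_gen
    obtain ⟨y, hy, hyZ, hny, f, hf, rfl⟩ := o.T_fibre ht htW
    obtain ⟨x, x', hx, hx', -, hdis, -, hall⟩ := o.lift_two hp hgen hy hyZ hny
    have hinj : Function.Injective fun u : G => f * u * f⁻¹ := fun a b e => mul_left_cancel (mul_right_cancel e)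
    have hne : c.tri p x ≠ c.tri p x' := fun e =>
      Set.disjoint_left.mp hdis (Or.inl rfl) (e ▸ (Or.inl rfl : x ∈ c.tri p x))
    refine ⟨_, _, fun e => hne (Set.image_injective.mpr hinj e), fun ρ => ?_,
      fun _ => (Set.disjoint_image_iff hinj).mpr hdis⟩
    rw [o.end_conj_iff hf]
    constructor
    · rintro ⟨τ, hτ, rfl⟩
      exact ((hall τ).mp hτ).imp (congrArg _) (congrArg _)
    · rintro (rfl | rfl)
      · exact ⟨_, (hall _).mpr (Or.inl rfl), rfl⟩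
      · exact ⟨_, (hall _).mpr (Or.inr rfl), rfl⟩

/-- The ends determine the element. -/
theorem Orb.end_inj (o : c.Orb A) {t t' : G} (ht : t ∈ c.Tset (c.vGrp A o.hA.1.1))
    (ht' : t' ∈ c.Tset (c.vGrp A o.hA.1.1)) (h : ∀ σ, o.End t σ ↔ o.End t' σ) : t = t' := by
  have hA := o.hA
  have key : ∀ {t t'}, t ∈ c.Tset (c.vGrp A hA.1.1) → t' ∈ c.Tset (c.vGrp A hA.1.1) →
      (∀ σ, o.End t σ ↔ o.End t' σ) → t ∈ c.fixB A → t' ∈ c.fixB A := by
    intro t t' ht ht' h htW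
    by_contra htW'
    obtain ⟨σ, τ, hne, hall, hdis⟩ := o.two_ends ht'
    exact Set.disjoint_left.mp (hdis htW') (((o.end_W ht htW).mp ((h σ).mpr ((hall σ).mpr (Or.inl rfl)))).2)
      (((o.end_W ht htW).mp ((h τ).mpr ((hall τ).mpr (Or.inr rfl)))).2)
  by_cases htW : t ∈ c.fixB A
  · have htW' := key ht ht' h htW
    obtain ⟨σ, τ, hσ, hτ, h1, h2, hne, -, -⟩ := o.two_stars ht htW
    by_contra htt
    exact hne (o.star_inter hσ hτ htt h1 ((o.end_W ht' htW').mp ((h σ).mp ((o.end_W ht htW).mpr ⟨hσ, h1⟩))).2 h2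
      ((o.end_W ht' htW').mp ((h τ).mp ((o.end_W ht htW).mpr ⟨hτ, h2⟩))).2)
  have htW' : t' ∉ c.fixB A := fun hh => htW (key ht' ht (fun σ => (h σ).symm) hh)
  obtain ⟨p, hp, -, hgen⟩ := c.exists_gen
  obtain ⟨y, hy, hyZ, hny, f, hf, rfl⟩ := o.T_fibre ht htW
  set s := f⁻¹ * t' * f⁻¹⁻¹ with hs
  have hsT : s ∈ c.Tset (c.vGrp A hA.1.1) := c.norm_T (inv_mem (c.E_norm_V hA hf)) ht'
  have hsW : s ∉ c.fixB A := fun hh => htW' (by
    have h2 := c.comm_E hf (c.fixB_le A hh)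
    rw [commutatorElement_def] at h2
    have := mul_mem (c.Z_le_fixB A h2) hh
    rwa [inv_mul_cancel_right, hs, show f * (f⁻¹ * t' * f⁻¹⁻¹) * f⁻¹ = t' by group] at this)
  have hys : ∀ σ, o.End y σ ↔ o.End s σ := fun σ => by
    constructor
    · intro hh
      have h3 := o.end_conj (inv_mem hf) ((h _).mp (o.end_conj hf hh))
      rw [Set.image_image] at h3
      have : (fun u => f⁻¹ * (f * u * f⁻¹) * f⁻¹⁻¹) = id := funext fun u => by show _ = u; group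
      rwa [this, Set.image_id] at h3
    · intro hh
      have h4 : f * s * f⁻¹ = t' := by rw [hs]; group
      have h3 := o.end_conj (inv_mem hf) ((h _).mpr (h4 ▸ o.end_conj hf hh))
      rw [Set.image_image] at h3
      have : (fun u => f⁻¹ * (f * u * f⁻¹) * f⁻¹⁻¹) = id := funext fun u => by show _ = u; group
      rwa [this, Set.image_id, show f⁻¹ * (f * y * f⁻¹) * f⁻¹⁻¹ = y by group] at h3
  suffices hgoal : s = y by
    calc f * y * f⁻¹ = f * s * f⁻¹ := by rw [hgoal]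
      _ = t' := by rw [hs]; group
  obtain ⟨y', hy', hy'Z, hny', f', hf', hfe⟩ := o.T_fibre hsT hsW
  have hconj : ∀ v ∈ c.sig (c.vGrp A hA.1.1) y', f' * v * f'⁻¹ ∈ c.sig (c.vGrp A hA.1.1) y := by
    intro v hv
    have h1 := o.end_conj hf' ((o.end_lift hp hgen hy' hy'Z hny').mpr ⟨v, hv, rfl⟩)
    rw [hfe] at h1
    obtain ⟨x, hx, e⟩ := (o.end_lift hp hgen hy hyZ hny).mp ((hys _).mpr h1)
    have hm : f' * v * f'⁻¹ ∈ c.tri p x := e ▸ ⟨v, Or.inl rfl, rfl⟩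
    rw [← (o.line_cR hp hgen hy hyZ hx).1] at hm
    exact hm.1
  have hKK : c.ker1 hy.1.1 ≤ c.ker1 hy'.1.1 := by
    intro g hg
    refine o.sig_gen hp hgen hy' hy'Z hny' (c.ker1_le _ hg) fun v hv => ?_
    obtain ⟨hvS', hvW, -⟩ := c.cR_sub hA hy' hy'Z hv.2
    have h1 := (c.cR_sub hA hy hyZ (hconj v hv).2).1
    have h2 := c.comm_E hf' hvS'.1
    rw [commutatorElement_def] at h2
    have h3 : v ∈ c.sGrp hy.1.1 := by
      have := mul_mem (inv_mem ((zpowers_le.mpr (c.z_sGrp hy.1.1) : zpowers z ≤ c.sGrp hy.1.1) h2)) h1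
      rwa [show (f' * v * f'⁻¹ * v⁻¹)⁻¹ * (f' * v * f'⁻¹) = v by group] at this
    exact mem_centralizer_iff.mp h3.2 g hg
  have hval := c.ker_inj hA hy hyZ hy' hy'Z (eq_of_le_of_card_ge hKK
    (by rw [c.rank_two hA hy hyZ, c.rank_two hA hy' hy'Z]))
  let i : c.Idx A := ⟨c.val y, hy.2.1, c.val_ne hA hy hyZ⟩
  have hyy : y' = y := (o.lift_eq (i := i) hy' hny' hval.symm).trans (o.lift_eq (i := i) hy hny rfl).symm
  subst hyy
  have hfK : f' ∈ c.ker1 hy'.1.1 := o.sig_gen hp hgen hy' hy'Z hny' hf' fun v hv => by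
    have h1 := (hconj v hv).2
    have hvW := (c.cR_sub hA hy' hy'Z hv.2).2.1
    have h2 := c.comm_E hf' (c.fixB_le A hvW)
    rw [commutatorElement_def] at h2
    have e : v = f' * v * f'⁻¹ := c.cR_uniq hA hy' hy'Z hv.2 h1 (by
      rw [show v⁻¹ * (f' * v * f'⁻¹) = v⁻¹ * (f' * v * f'⁻¹ * v⁻¹) * v by group, mul_assoc,
        ← c.Z_comm (c.Ez (c.fixB_le A hvW)) h2, inv_mul_cancel_left]
      exact h2)
    calc f' * v = f' * v * f'⁻¹ * f' := by group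
      _ = v * f' := by rw [← e]
  rw [← hfe, ← c.ker1_comm hy'.1 f' hfK, mul_inv_cancel_right]

/-- The set of stars. -/
def Orb.stars (o : c.Orb A) : Set (Set G) := {σ | o.Star σ}

theorem Orb.card_stars (o : c.Orb A) : o.stars.ncard = 24 := by
  classical
  set S := (Set.toFinite o.stars).toFinset with hS
  set F := (Set.toFinite (c.Tset (c.vGrp A o.hA.1.1) ∩ (c.fixB A : Set G))).toFinset with hF
  have hFc : F.card = 36 := by rw [hF, ← Set.ncard_eq_toFinset_card]; exact o.cardTW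
  have h1 : ∑ t ∈ F, (S.filter fun σ => t ∈ σ).card = ∑ σ ∈ S, (F.filter fun t => t ∈ σ).card := by
    simp only [Finset.card_filter]
    exact Finset.sum_comm
  have hrow : ∀ t ∈ F, (S.filter fun σ => t ∈ σ).card = 2 := fun t ht => by
    obtain ⟨htT, htW⟩ := (Set.Finite.mem_toFinset _).mp ht
    obtain ⟨σ, τ, hσ, hτ, h1, h2, hne, -, hall⟩ := o.two_stars htT htW
    have e : (S.filter fun σ => t ∈ σ) = {σ, τ} := by
      ext ρ
      simp only [Finset.mem_filter, hS, Set.Finite.mem_toFinset, Finset.mem_insert, Finset.mem_singleton]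
      refine ⟨fun h => hall ρ h.1 h.2, ?_⟩
      rintro (rfl | rfl)
      exacts [⟨hσ, h1⟩, ⟨hτ, h2⟩]
    rw [e, Finset.card_pair hne]
  have hcol : ∀ σ ∈ S, (F.filter fun t => t ∈ σ).card = 3 := fun σ hσ => by
    obtain ⟨hc, hmem, -⟩ := o.star_facts ((Set.Finite.mem_toFinset _).mp hσ : σ ∈ o.stars)
    have e : ((F.filter fun t => t ∈ σ : Finset G) : Set G) = σ := by
      ext t
      simp only [Finset.coe_filter, hF, Set.Finite.mem_toFinset, Set.mem_setOf_eq]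
      exact ⟨fun h => h.2, fun h => ⟨⟨(hmem t h).1, (hmem t h).2⟩, h⟩⟩
    rw [← hc, ← Set.ncard_coe_finset, e]
  rw [Finset.sum_congr rfl hrow, Finset.sum_congr rfl hcol, Finset.sum_const, Finset.sum_const, hFc, smul_eq_mul,
    smul_eq_mul] at h1
  rw [Set.ncard_eq_toFinset_card _ (Set.toFinite o.stars), ← hS]
  omega

/-- Two stars are the ends of one element. -/
theorem Orb.exists_join (o : c.Orb A) {σ τ : Set G} (hσ : o.Star σ) (hτ : o.Star τ) (hne : σ ≠ τ) :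
    ∃ t ∈ c.Tset (c.vGrp A o.hA.1.1), o.End t σ ∧ o.End t τ := by
  classical
  set F := (Set.toFinite (c.Tset (c.vGrp A o.hA.1.1))).toFinset with hF
  set S := (Set.toFinite o.stars).toFinset with hS
  let g : G → Finset (Set G) := fun t => S.filter fun ρ => o.End t ρ
  have hg : ∀ t ∈ F, ∀ ρ, ρ ∈ g t ↔ o.End t ρ := fun t _ ρ => by
    simp only [g, Finset.mem_filter, hS, Set.Finite.mem_toFinset]
    exact ⟨fun h => h.2, fun h => ⟨h.1, h⟩⟩
  have hinj : Set.InjOn g F := fun t ht t' ht' e =>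
    o.end_inj ((Set.Finite.mem_toFinset _).mp ht) ((Set.Finite.mem_toFinset _).mp ht') fun ρ => by
      rw [← hg t ht, ← hg t' ht', e]
  have hsub : F.image g ⊆ S.powersetCard 2 := by
    intro x hx
    obtain ⟨t, ht, rfl⟩ := Finset.mem_image.mp hx
    refine Finset.mem_powersetCard.mpr ⟨Finset.filter_subset _ _, ?_⟩
    obtain ⟨a, b, hab, hall, -⟩ := o.two_ends ((Set.Finite.mem_toFinset _).mp ht)
    have e : g t = {a, b} := by
      ext ρ
      rw [hg t ht, hall]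
      simp
    rw [e, Finset.card_pair hab]
  have heq := Finset.eq_of_subset_of_card_le hsub (by
    rw [Finset.card_powersetCard, Finset.card_image_of_injOn hinj, hS, hF, ← Set.ncard_eq_toFinset_card,
      ← Set.ncard_eq_toFinset_card, o.cardT, o.card_stars]
    decide)
  have hmem : ({σ, τ} : Finset (Set G)) ∈ F.image g := by
    rw [heq, Finset.mem_powersetCard]
    refine ⟨?_, Finset.card_pair hne⟩
    intro ρ hρ
    rw [hS, Set.Finite.mem_toFinset]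
    rcases Finset.mem_insert.mp hρ with rfl | h
    · exact hσ
    · exact (Finset.mem_singleton.mp h) ▸ hτ
  obtain ⟨t, ht, e⟩ := Finset.mem_image.mp hmem
  exact ⟨t, (Set.Finite.mem_toFinset _).mp ht, (hg t ht σ).mp (e ▸ Finset.mem_insert_self _ _),
    (hg t ht τ).mp (e ▸ Finset.mem_insert_of_mem (Finset.mem_singleton_self _))⟩

end Ctx

end CfsgLib.JankoFour
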