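/-
Products of elements sharing an end: the small orbit is the set of duads on the twenty-four stars.
-/
import Cfsg.Agent.Lib.JankoFour.OrbStar

set_option autoImplicit false

namespace CfsgLib.JankoFour

open Cfsg Subgroup
open scoped commutatorElement

universe u

variable {G : Type u} [Group G] [Finite G] {z : G} {P E : Subgroup G}

namespace Ctx

variable {c : Ctx z P E} {A : Subgroup MTwoTwo}

theorem Orb.ends_eq (o : c.Orb A) {t : G} (ht : t ∈ c.Tset (c.vGrp A o.hA.1.1)) {σ τ : Set G}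
    (h1 : o.End t σ) (h2 : o.End t τ) (hne : σ ≠ τ) (ρ : Set G) : o.End t ρ ↔ ρ = σ ∨ ρ = τ := by
  obtain ⟨a, b, hab, hall, -⟩ := o.two_ends ht
  rw [hall]
  rcases (hall σ).mp h1 with rfl | rfl <;> rcases (hall τ).mp h2 with rfl | rfl
  · exact absurd rfl hne
  · exact Iff.rfl
  · exact or_comm
  · exact absurd rfl hne

theorem Orb.join_eq (o : c.Orb A) {t s : G} (ht : t ∈ c.Tset (c.vGrp A o.hA.1.1))
    (hs : s ∈ c.Tset (c.vGrp A o.hA.1.1)) {σ τ : Set G} (h1 : o.End t σ) (h2 : o.End t τ) (h3 : o.End s σ)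
    (h4 : o.End s τ) (hne : σ ≠ τ) : t = s :=
  o.end_inj ht hs fun ρ => by rw [o.ends_eq ht h1 h2 hne, o.ends_eq hs h3 h4 hne]

theorem Orb.conj_E_W (o : c.Orb A) {f v : G} (hf : f ∈ E) (hv : v ∈ c.fixB A) : f * v * f⁻¹ ∈ c.fixB A :=
  c.vGrp_inf_E o.hA.1 ((mem_normalizer_iff.mp (c.E_norm_V o.hA hf) v).mp (mem_sup_left hv))
    (c.conj_E (c.Ez hf) (c.fixB_le A hv))

theorem Orb.conj_E_W_iff (o : c.Orb A) {f v : G} (hf : f ∈ E) : f * v * f⁻¹ ∈ c.fixB A ↔ v ∈ c.fixB A :=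
  ⟨fun h => by
    have := o.conj_E_W (inv_mem hf) h
    rwa [show f⁻¹ * (f * v * f⁻¹) * f⁻¹⁻¹ = v by group] at this, o.conj_E_W hf⟩

/-- Adjacency of an element of W to one outside. -/
theorem Orb.adj_out (o : c.Orb A) {a v : G} (ha : a ∈ c.Tset (c.vGrp A o.hA.1.1)) (haW : a ∈ c.fixB A)
    (hv : v ∈ c.Tset (c.vGrp A o.hA.1.1)) (hvW : v ∉ c.fixB A) :
    a * v ∈ c.Tset (c.vGrp A o.hA.1.1) ↔ ∃ ρ, o.End v ρ ∧ a ∈ ρ := by
  obtain ⟨p, hp, -, hgen⟩ := c.exists_gen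
  constructor
  · intro hav
    obtain ⟨y, hy, hyZ, hny, f, hf, rfl⟩ := o.T_fibre hv hvW
    have hN := inv_mem (c.E_norm_V o.hA hf)
    set a' := f⁻¹ * a * f⁻¹⁻¹ with ha'
    have hay : a' * y ∈ c.Tset (c.vGrp A o.hA.1.1) := by
      have := c.norm_T hN hav
      rwa [show f⁻¹ * (a * (f * y * f⁻¹)) * f⁻¹⁻¹ = a' * y by rw [ha']; group] at this
    have hsig : a' ∈ c.sig (c.vGrp A o.hA.1.1) y := by
      refine ⟨c.norm_T hN ha, by_contra fun hn => ?_⟩
      exact hay.2.2 ((o.fibre y hy hyZ hny a' (o.conj_E_W (inv_mem hf) haW)).mpr hn)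
    refine ⟨_, o.end_conj hf ((o.end_lift hp hgen hy hyZ hny).mpr ⟨a', hsig, rfl⟩), a', Or.inl rfl, ?_⟩
    show f * a' * f⁻¹ = a
    rw [ha']; group
  · rintro ⟨ρ, ⟨-, hρ⟩, haρ⟩
    exact (hρ a haρ).resolve_left fun e => hvW (e ▸ haW)

/-- Products within W. -/
theorem Orb.mul_WW (o : c.Orb A) {t s : G} (ht : t ∈ c.Tset (c.vGrp A o.hA.1.1)) (htW : t ∈ c.fixB A)
    (hs : s ∈ c.Tset (c.vGrp A o.hA.1.1)) (hsW : s ∈ c.fixB A) {σ α : Set G} (h1 : o.End t σ) (h2 : o.End t α)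
    (h3 : o.End s σ) (hα : α ≠ σ) (hts : t ≠ s) :
    t * s ∈ c.Tset (c.vGrp A o.hA.1.1) ∧ o.End (t * s) α := by
  obtain ⟨hσ, htσ⟩ := (o.end_W ht htW).mp h1
  obtain ⟨-, hsσ⟩ := (o.end_W hs hsW).mp h3
  obtain ⟨hnb, he⟩ := (o.star_facts hσ).2.2 t htσ s hsσ hts
  have htsT := hnb.2
  refine ⟨htsT, (o.end_W htsT (mul_mem htW hsW)).mpr ⟨h2.1, ?_⟩⟩
  have hzsW := mul_mem o.zW hsW
  have hzs : z * s ∈ c.Nb (c.vGrp A o.hA.1.1) t := by
    refine ⟨c.T_zmul o.hA hs hsW, ?_⟩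
    rw [← mul_assoc, o.W_comm htW o.zW, mul_assoc]
    exact c.T_zmul o.hA htsT (mul_mem htW hsW)
  set α' : Set G := {t, z * s, z * (t * (z * s))} with hα'
  have hmem : t * s ∈ α' := by
    refine Or.inr (Or.inr ?_)
    show t * s = z * (t * (z * s))
    rw [← mul_assoc t z s, o.W_comm htW o.zW, mul_assoc z t s, ← mul_assoc, c.zz, one_mul]
  have hne : α' ≠ σ := fun e => by
    have hm : z * s ∈ σ := e ▸ Or.inr (Or.inl rfl)
    rw [he] at hm
    rcases hm with h | h | h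
    · refine c.T_not_Z htsT ?_
      rw [← h, mul_assoc, o.W_sq hsW, mul_one]
      exact mem_zpowers z
    · exact c.z_ne_one (mul_eq_right.mp h)
    · have h' : z * s = z * (t * s) := h
      exact ht.2.1 (right_eq_mul.mp (mul_left_cancel h'))
  have hα'S : o.Star α' := ⟨t, z * s, ht, htW, hzsW, hzs, rfl⟩
  have hend : o.End t α' := (o.end_W ht htW).mpr ⟨hα'S, Or.inl rfl⟩
  rcases (o.ends_eq ht h1 h2 hα.symm α').mp hend with e | e
  · exact absurd e hne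
  · exact e ▸ hmem

/-- Products of an element of W with a lift. -/
theorem Orb.mul_Wy (o : c.Orb A) {t y : G} (ht : t ∈ c.Tset (c.vGrp A o.hA.1.1)) (htW : t ∈ c.fixB A)
    (hy : y ∈ c.twoGrp A o.hA.1.1) (hyZ : y ∉ zpowers z) (hny : ¬ c.IsZ y) {σ α β : Set G} (h1 : o.End t σ)
    (h2 : o.End t α) (h3 : o.End y σ) (h4 : o.End y β) (hα : α ≠ σ) (hβ : β ≠ σ) :
    t * y ∈ c.Tset (c.vGrp A o.hA.1.1) ∧ o.End (t * y) α ∧ o.End (t * y) β := by
  obtain ⟨p, hp, -, hgen⟩ := c.exists_gen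
  obtain ⟨hσ, htσ⟩ := (o.end_W ht htW).mp h1
  have hA := o.hA
  have htri : ∀ {ρ : Set G}, o.End y ρ → ρ ⊆ c.sig (c.vGrp A hA.1.1) y := fun {ρ} h => by
    obtain ⟨x, hx, rfl⟩ := (o.end_lift hp hgen hy hyZ hny).mp h
    rw [← (o.line_cR hp hgen hy hyZ hx).1]
    exact Set.inter_subset_left
  have hts := htri h3 htσ
  have htyT : t * y ∈ c.Tset (c.vGrp A hA.1.1) := (o.fib_mem hy hyZ hny ⟨t, hts.2, rfl⟩).1
  obtain ⟨g, hg, hgt⟩ := hts.2
  have hgy : g * y * g⁻¹ = t * y := by rw [← hgt, commutatorElement_def, inv_mul_cancel_right]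
  have hfix : ∀ {u}, u ∈ c.sig (c.vGrp A hA.1.1) y → t * u ∈ c.cR y → g * u * g⁻¹ = u := fun {u} hu h => by
    rw [(c.cR_mul_iff hA hy hyZ hg hgt hu.2).mp h, mul_inv_cancel_right]
  have hσ' : ∀ u ∈ β, g * u * g⁻¹ = u := fun u hu => by
    obtain ⟨x, hx, hσx⟩ := (o.end_lift hp hgen hy hyZ hny).mp h3
    refine hfix (htri h4 hu) (o.orth hp hgen hy hyZ hny hts (htri h4 hu) fun huL => ?_)
    obtain ⟨hl, -, -⟩ := o.line_cR hp hgen hy hyZ hts
    have hu' : u ∈ c.tri p t := hl ▸ ⟨htri h4 hu, huL⟩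
    have e : c.tri p t = σ := by
      have hend : o.End y (c.tri p t) := (o.end_lift hp hgen hy hyZ hny).mpr ⟨t, hts, rfl⟩
      rcases (o.ends_eq (o.fib_mem hy hyZ hny ⟨1, c.one_cR y, one_mul y⟩).1 h3 h4 hβ.symm _).mp hend with e | e
      · exact e
      · exfalso
        have htW' : t ∈ β := e ▸ Or.inl rfl
        obtain ⟨a, b, hab, hall, hdis⟩ := o.two_ends (o.fib_mem hy hyZ hny ⟨1, c.one_cR y, one_mul y⟩).1
        have hyW : y ∉ c.fixB A := fun h => c.twoGrp_not_W hA (one_mem _) hy hyZ (by rwa [one_mul])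
        rcases (hall σ).mp h3 with rfl | rfl <;> rcases (hall β).mp h4 with rfl | rfl
        · exact hβ rfl
        · exact Set.disjoint_left.mp (hdis hyW) htσ htW'
        · exact Set.disjoint_left.mp (hdis hyW) htW' htσ
        · exact hβ rfl
    rw [e] at hu'
    obtain ⟨a, b, hab, hall, hdis⟩ := o.two_ends (o.fib_mem hy hyZ hny ⟨1, c.one_cR y, one_mul y⟩).1
    have hyW : y ∉ c.fixB A := fun h => c.twoGrp_not_W hA (one_mem _) hy hyZ (by rwa [one_mul])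
    rcases (hall σ).mp h3 with rfl | rfl <;> rcases (hall β).mp h4 with rfl | rfl
    · exact hβ rfl
    · exact Set.disjoint_left.mp (hdis hyW) hu' hu
    · exact Set.disjoint_left.mp (hdis hyW) hu hu'
    · exact hβ rfl
  refine ⟨htyT, ?_, ?_⟩
  · have h5 := o.end_conj hg h3
    rw [hgy] at h5
    have hgtt : g * t * g⁻¹ = t := hfix hts (by rw [o.W_sq htW]; exact c.one_cR y)
    set ρ := (fun u => g * u * g⁻¹) '' σ with hρ
    have hρend : o.End t ρ := (o.end_W ht htW).mpr ⟨h5.1, t, htσ, hgtt⟩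
    rcases (o.ends_eq ht h1 h2 hα.symm ρ).mp hρend with e | e
    · exfalso
      obtain ⟨hc, hmem, hpair⟩ := o.star_facts hσ
      obtain ⟨u, hu, hut⟩ : ∃ u ∈ σ, u ≠ t := by
        by_contra hall
        push Not at hall
        have := Set.ncard_le_ncard (show σ ⊆ {t} from hall) (Set.toFinite _)
        rw [hc, Set.ncard_singleton] at this
        omega
      have hus := htri h3 hu
      obtain ⟨-, he⟩ := hpair t htσ u hu hut.symm
      have hw : z * (t * u) ∈ σ := he ▸ Or.inr (Or.inr rfl)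
      have htu : t * u ∉ c.cR y := by
        have h6 := (htri h3 hw).2
        have htuS : t * u ∈ c.sGrp hy.1.1 :=
          mul_mem (c.cR_sub hA hy hyZ hts.2).1 (c.cR_sub hA hy hyZ hus.2).1
        exact (c.cR_z_iff hA hy hyZ htuS).mp h6
      have hgu : g * u * g⁻¹ = z * u := by
        have hcom : ¬ g * u = u * g := fun h => htu ((c.cR_mul_iff hA hy hyZ hg hgt hus.2).mpr h)
        have huE := c.fixB_le A (hmem u hu).2
        have h7 : ⁅g, u⁆ = z := (c.mem_Z.mp (c.comm_E hg huE)).resolve_left fun h =>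
          hcom (commutatorElement_eq_one_iff_mul_comm.mp h)
        rw [← h7, commutatorElement_def, inv_mul_cancel_right]
      have hzu : z * u ∈ σ := by rw [← e, ← hgu]; exact ⟨u, hu, rfl⟩
      exact (c.cR_z_iff hA hy hyZ (c.cR_sub hA hy hyZ hus.2).1).mp (htri h3 hzu).2 hus.2
    · exact e ▸ h5
  · have h5 := o.end_conj hg h4
    rw [hgy] at h5
    have e : (fun u => g * u * g⁻¹) '' β = β := by
      ext v
      constructor
      · rintro ⟨u, hu, rfl⟩; show g * u * g⁻¹ ∈ β; rw [hσ' u hu]; exact hu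
      · exact fun hv => ⟨v, hv, hσ' v hv⟩
    rwa [e] at h5

/-- Products with an element of W. -/
theorem Orb.mul_W (o : c.Orb A) {t s : G} (ht : t ∈ c.Tset (c.vGrp A o.hA.1.1)) (htW : t ∈ c.fixB A)
    (hs : s ∈ c.Tset (c.vGrp A o.hA.1.1)) {σ α β : Set G} (h1 : o.End t σ)
    (h2 : o.End t α) (h3 : o.End s σ) (h4 : o.End s β) (hα : α ≠ σ) (hβ : β ≠ σ) (hne : α ≠ β) :
    t * s ∈ c.Tset (c.vGrp A o.hA.1.1) ∧ o.End (t * s) α ∧ o.End (t * s) β := by
  by_cases hsW : s ∈ c.fixB A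
  · have hts : t ≠ s := fun e => by
      rcases (o.ends_eq ht h1 h2 hα.symm β).mp (e ▸ h4) with h | h
      exacts [hβ h, hne h.symm]
    obtain ⟨hT, ha⟩ := o.mul_WW ht htW hs hsW h1 h2 h3 hα hts
    obtain ⟨-, hb⟩ := o.mul_WW hs hsW ht htW h3 h4 h1 hβ hts.symm
    rw [o.W_comm hsW htW] at hb
    exact ⟨hT, ha, hb⟩
  · obtain ⟨y, hy, hyZ, hny, f, hf, rfl⟩ := o.T_fibre hs hsW
    obtain ⟨σ', hσ', eσ⟩ := (o.end_conj_iff hf).mp h3
    obtain ⟨β', hβ', eβ⟩ := (o.end_conj_iff hf).mp h4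
    set t' := f⁻¹ * t * f⁻¹⁻¹ with ht'
    have hinv : ∀ {ρ}, o.End t ρ → o.End t' ((fun u => f⁻¹ * u * f⁻¹⁻¹) '' ρ) := o.end_conj (inv_mem hf)
    have hback : ∀ ρ : Set G, (fun u => f * u * f⁻¹) '' ((fun u => f⁻¹ * u * f⁻¹⁻¹) '' ρ) = ρ := fun ρ => by
      rw [Set.image_image]
      have : (fun u => f * (f⁻¹ * u * f⁻¹⁻¹) * f⁻¹) = id := funext fun u => by show _ = u; group
      rw [this, Set.image_id]
    have eσ' : (fun u => f⁻¹ * u * f⁻¹⁻¹) '' σ = σ' := by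
      rw [eσ, Set.image_image]
      have : (fun u => f⁻¹ * (f * u * f⁻¹) * f⁻¹⁻¹) = id := funext fun u => by show _ = u; group
      rw [this, Set.image_id]
    set α' := (fun u => f⁻¹ * u * f⁻¹⁻¹) '' α with hα'
    obtain ⟨hT, ha, hb⟩ := o.mul_Wy (c.norm_T (inv_mem (c.E_norm_V o.hA hf)) ht) (o.conj_E_W (inv_mem hf) htW)
      hy hyZ hny (eσ' ▸ hinv h1) (hinv h2) hσ' hβ'
      (fun e => hα ((hback α).symm.trans ((congrArg _ (e : α' = σ')).trans eσ.symm)))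
      (fun e => hβ (by rw [eβ, e, ← eσ]))
    have e : f * (t' * y) * f⁻¹ = t * (f * y * f⁻¹) := by rw [ht']; group
    refine ⟨e ▸ c.norm_T (c.E_norm_V o.hA hf) hT, ?_, ?_⟩
    · have := o.end_conj hf ha
      rw [hback α] at this
      exact e ▸ this
    · have := o.end_conj hf hb
      rwa [← eβ, e] at this

end Ctx

end CfsgLib.JankoFour
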