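/-
Elements of the small orbit are adjacent exactly when they share an end.
-/
import Cfsg.Agent.Lib.JankoFour.OrbAdj

set_option autoImplicit false

namespace CfsgLib.JankoFour

open Cfsg Subgroup
open scoped commutatorElement

universe u

variable {G : Type u} [Group G] [Finite G] {z : G} {P E : Subgroup G}

namespace Ctx

variable {c : Ctx z P E} {A : Subgroup MTwoTwo}

/-- No three independent elements with all products in the small orbit. -/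
theorem Orb.three_free (o : c.Orb A) {a b d : G} (ha : a ∈ c.Tset (c.vGrp A o.hA.1.1))
    (hb : b ∈ c.Tset (c.vGrp A o.hA.1.1)) (hd : d ∈ c.Tset (c.vGrp A o.hA.1.1))
    (hab : a * b ∈ c.Tset (c.vGrp A o.hA.1.1)) (had : a * d ∈ c.Tset (c.vGrp A o.hA.1.1))
    (hbd : b * d ∈ c.Tset (c.vGrp A o.hA.1.1)) (habd : a * (b * d) ∈ c.Tset (c.vGrp A o.hA.1.1)) : False := by
  classical
  set V := c.vGrp A o.hA.1.1 with hV
  have hsq : ∀ v ∈ V, v * v = 1 := fun v hv => c.vGrp_sq o.hA.1 hv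
  have hcm : ∀ v ∈ V, ∀ w ∈ V, v * w = w * v := fun v hv w hw => c.vGrp_comm o.hA.1 hv hw
  have haa := hsq a ha.1
  have h2 : ∀ x, x ∈ zpowers a → x = 1 ∨ x = a := fun x hx => by
    obtain ⟨k, rfl⟩ := hx
    obtain ⟨m, rfl⟩ | ⟨m, rfl⟩ := Int.even_or_odd k
    · exact Or.inl (by show a ^ (m + m) = 1; rw [← two_mul, zpow_mul, zpow_two, haa, one_zpow])
    · exact Or.inr (by show a ^ (2 * m + 1) = a; rw [zpow_add_one, zpow_mul, zpow_two, haa, one_zpow, one_mul])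
  have hb1 : b ∉ zpowers a := fun h => by
    rcases h2 b h with e | e
    · exact hb.2.1 e
    · exact hab.2.1 (e ▸ haa)
  obtain ⟨U, -, hUV, -, hUc, hUmem⟩ := exists_adj hsq hcm (zpowers_le.mpr ha.1 : zpowers a ≤ V) hb.1 hb1
  rw [Nat.card_zpowers, orderOf_eq_prime (p := 2) (by rw [sq]; exact haa) ha.2.1] at hUc
  have hform : ∀ x ∈ U, x = 1 ∨ x = a ∨ x = b ∨ x = a * b := fun x hx => by
    have ex : x = b * (b * x) := by rw [← mul_assoc, hsq b hb.1, one_mul]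
    rcases (hUmem x).mp hx with h | h <;> rcases h2 _ h with h | h
    · exact Or.inl h
    · exact Or.inr (Or.inl h)
    · exact Or.inr (Or.inr (Or.inl (by rw [ex, h, mul_one])))
    · exact Or.inr (Or.inr (Or.inr (by rw [ex, h, hcm b hb.1 a ha.1])))
  have hdU : d ∉ U := fun h => by
    rcases hform d h with e | e | e | e
    · exact hd.2.1 e
    · exact had.2.1 (e ▸ haa)
    · exact hbd.2.1 (e ▸ hsq b hb.1)
    · exact habd.2.1 (by rw [← mul_assoc, e]; exact hsq _ hab.1)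
  obtain ⟨U', -, hU'V, -, hU'c, hU'mem⟩ := exists_adj hsq hcm hUV hd.1 hdU
  have h4 := o.free_small hU'V fun x hx hxz => by
    have ex : x = d * (d * x) := by rw [← mul_assoc, hsq d hd.1, one_mul]
    rcases (hU'mem x).mp hx with h | h <;> rcases hform _ h with e | e | e | e
    · exact c.isZ_ne hxz e
    · exact ha.2.2 (e ▸ hxz)
    · exact hb.2.2 (e ▸ hxz)
    · exact hab.2.2 (e ▸ hxz)
    · exact hd.2.2 (by rw [e, mul_one] at ex; exact ex ▸ hxz)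
    · exact had.2.2 (by rw [e, hcm d hd.1 a ha.1] at ex; exact ex ▸ hxz)
    · exact hbd.2.2 (by rw [e, hcm d hd.1 b hb.1] at ex; exact ex ▸ hxz)
    · exact habd.2.2 (by rw [e, hcm d hd.1 _ hab.1, mul_assoc] at ex; exact ex ▸ hxz)
  omega

theorem Orb.share_W (o : c.Orb A) {a v : G} (ha : a ∈ c.Tset (c.vGrp A o.hA.1.1)) (haW : a ∈ c.fixB A)
    (hv : v ∈ c.Nb (c.vGrp A o.hA.1.1) a) : ∃ ρ, o.End a ρ ∧ o.End v ρ := by
  by_cases hvW : v ∈ c.fixB A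
  · obtain ⟨σ, τ, hσ, hτ, h1, h2, -, hsub, -⟩ := o.two_stars ha haW
    rcases hsub ⟨hv, hvW⟩ with h | h
    · exact ⟨σ, (o.end_W ha haW).mpr ⟨hσ, h1⟩, (o.end_W hv.1 hvW).mpr ⟨hσ, h⟩⟩
    · exact ⟨τ, (o.end_W ha haW).mpr ⟨hτ, h2⟩, (o.end_W hv.1 hvW).mpr ⟨hτ, h⟩⟩
  · obtain ⟨ρ, hρ, haρ⟩ := (o.adj_out ha haW hv.1 hvW).mp hv.2
    exact ⟨ρ, (o.end_W ha haW).mpr ⟨hρ.1, haρ⟩, hρ⟩

theorem Orb.other_end (o : c.Orb A) {v : G} (hv : v ∈ c.Tset (c.vGrp A o.hA.1.1)) (σ : Set G) :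
    ∃ τ, o.End v τ ∧ τ ≠ σ := by
  obtain ⟨a, b, hab, hall, -⟩ := o.two_ends hv
  by_cases e : a = σ
  · exact ⟨b, (hall b).mpr (Or.inr rfl), fun e' => hab (e.trans e'.symm)⟩
  · exact ⟨a, (hall a).mpr (Or.inl rfl), e⟩

/-- Elements with a given end correspond to their other ends. -/
theorem Orb.end_count (o : c.Orb A) {σ : Set G} (Q : G → Prop) :
    {τ | o.Star τ ∧ τ ≠ σ ∧ ∃ v, v ∈ c.Tset (c.vGrp A o.hA.1.1) ∧ Q v ∧ o.End v σ ∧ o.End v τ}.ncard =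
      {v | v ∈ c.Tset (c.vGrp A o.hA.1.1) ∧ Q v ∧ o.End v σ}.ncard := by
  classical
  set V := c.vGrp A o.hA.1.1 with hV
  have h1 : Set.InjOn (fun v => {ρ | o.End v ρ}) {v | v ∈ c.Tset V ∧ Q v ∧ o.End v σ} := fun v hv w hw e =>
    o.end_inj hv.1 hw.1 fun ρ => Set.ext_iff.mp e ρ
  have h2 : Set.InjOn (fun τ => ({σ, τ} : Set (Set G)))
      {τ | o.Star τ ∧ τ ≠ σ ∧ ∃ v, v ∈ c.Tset V ∧ Q v ∧ o.End v σ ∧ o.End v τ} := fun a ha b hb e => by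
    have : a ∈ ({σ, b} : Set (Set G)) := (Set.ext_iff.mp e a).mp (Or.inr rfl)
    exact this.resolve_left ha.2.1
  rw [← h2.ncard_image, ← h1.ncard_image]
  congr 1
  ext X
  constructor
  · rintro ⟨τ, ⟨-, hne, v, hv, hQ, h3, h4⟩, rfl⟩
    refine ⟨v, ⟨hv, hQ, h3⟩, Set.ext fun ρ => ?_⟩
    exact o.ends_eq hv h3 h4 hne.symm ρ
  · rintro ⟨v, ⟨hv, hQ, h3⟩, rfl⟩
    obtain ⟨τ, hτ, hne⟩ := o.other_end hv σ
    exact ⟨τ, ⟨hτ.1, hne, v, hv, hQ, h3, hτ⟩, Set.ext fun ρ => (o.ends_eq hv h3 hτ hne.symm ρ).symm⟩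

theorem Orb.card_end (o : c.Orb A) {σ : Set G} (hσ : o.Star σ) :
    {v | v ∈ c.Tset (c.vGrp A o.hA.1.1) ∧ True ∧ o.End v σ}.ncard = 23 := by
  rw [← o.end_count fun _ => True]
  have e : {τ | o.Star τ ∧ τ ≠ σ ∧ ∃ v, v ∈ c.Tset (c.vGrp A o.hA.1.1) ∧ True ∧ o.End v σ ∧ o.End v τ} =
      o.stars \ {σ} := Set.ext fun τ =>
    ⟨fun h => ⟨h.1, h.2.1⟩, fun h => by
      obtain ⟨v, hv, h1, h2⟩ := o.exists_join hσ h.1 (Ne.symm h.2)
      exact ⟨h.1, h.2, v, hv, trivial, h1, h2⟩⟩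
  rw [e, Set.ncard_sdiff_singleton_of_mem (show σ ∈ o.stars from hσ), o.card_stars]

theorem Orb.common_W (o : c.Orb A) {a b : G} (ha : a ∈ c.Tset (c.vGrp A o.hA.1.1)) (haW : a ∈ c.fixB A)
    (hbW : b ∈ c.fixB A) (hb : b ∈ c.Nb (c.vGrp A o.hA.1.1) a) :
    (c.Nb (c.vGrp A o.hA.1.1) a ∩ c.Nb (c.vGrp A o.hA.1.1) b).ncard = 22 := by
  classical
  set V := c.vGrp A o.hA.1.1 with hV
  obtain ⟨ρ, hρa, hρb⟩ := o.share_W ha haW hb
  obtain ⟨α, hα, hαρ⟩ := o.other_end ha ρ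
  obtain ⟨β, hβ, hβρ⟩ := o.other_end hb.1 ρ
  have hab : a ≠ b := fun e => hb.2.2.1 (e ▸ o.W_sq haW)
  have hαβ : α ≠ β := fun e => hab (o.join_eq ha hb.1 hρa hα hρb (e ▸ hβ) hαρ.symm)
  obtain ⟨habT, habα, habβ⟩ := o.mul_W ha haW hb.1 hρa hα hρb hβ hαρ hβρ hαβ
  set S := {v | v ∈ c.Tset V ∧ True ∧ o.End v ρ} with hS
  have e : c.Nb V a ∩ c.Nb V b = insert (a * b) (S \ {a, b}) := by
    ext v
    constructor
    · rintro ⟨hva, hvb⟩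
      obtain ⟨r1, hr1, hr1'⟩ := o.share_W ha haW hva
      obtain ⟨r2, hr2, hr2'⟩ := o.share_W hb.1 hbW hvb
      have hnm : v ∉ ({a, b} : Set G) := by
        rintro (rfl | rfl)
        · exact hva.2.2.1 (c.vGrp_sq o.hA.1 ha.1)
        · exact hvb.2.2.1 (c.vGrp_sq o.hA.1 hb.1.1)
      rcases (o.ends_eq ha hρa hα hαρ.symm r1).mp hr1 with rfl | rfl
      · exact Or.inr ⟨⟨hva.1, trivial, hr1'⟩, hnm⟩
      rcases (o.ends_eq hb.1 hρb hβ hβρ.symm r2).mp hr2 with rfl | rfl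
      · exact Or.inr ⟨⟨hvb.1, trivial, hr2'⟩, hnm⟩
      exact Or.inl (o.join_eq hva.1 habT hr1' hr2' habα habβ hαβ)
    · rintro (rfl | ⟨⟨hv, -, hvρ⟩, hnm⟩)
      · exact ⟨⟨habT, by rw [← mul_assoc, o.W_sq haW, one_mul]; exact hb.1⟩,
          ⟨habT, by rw [o.W_comm haW hbW, ← mul_assoc, o.W_sq hbW, one_mul]; exact ha⟩⟩
      · obtain ⟨δ, hδ, hδρ⟩ := o.other_end hv ρ
        have key : ∀ {d γ}, d ∈ c.Tset V → d ∈ c.fixB A → o.End d ρ → o.End d γ → γ ≠ ρ → v ≠ d →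
            v ∈ c.Nb V d := fun {d γ} hd hdW h1 h2 hγ hvd =>
          ⟨hv, (o.mul_W hd hdW hv h1 h2 hvρ hδ hγ hδρ fun e =>
            hvd (o.join_eq hv hd hvρ hδ h1 (e ▸ h2) hδρ.symm)).1⟩
        exact ⟨key ha haW hρa hα hαρ fun h => hnm (Or.inl h), key hb.1 hbW hρb hβ hβρ fun h => hnm (Or.inr h)⟩
  have habS : a * b ∉ S \ {a, b} := fun h => by
    rcases (o.ends_eq habT habα habβ hαβ ρ).mp h.1.2.2 with e | e
    exacts [hαρ e.symm, hβρ e.symm]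
  rw [e, Set.ncard_insert_of_notMem habS (Set.toFinite _),
    Set.ncard_sdiff (show ({a, b} : Set G) ⊆ S from Set.insert_subset ⟨ha, trivial, hρa⟩
      (Set.singleton_subset_iff.mpr ⟨hb.1, trivial, hρb⟩)), o.card_end hρa.1, Set.ncard_pair hab]

theorem Orb.common_all (o : c.Orb A) {t s : G} (ht : t ∈ c.Tset (c.vGrp A o.hA.1.1))
    (hs : s ∈ c.Nb (c.vGrp A o.hA.1.1) t) :
    (c.Nb (c.vGrp A o.hA.1.1) t ∩ c.Nb (c.vGrp A o.hA.1.1) s).ncard = 22 := by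
  set V := c.vGrp A o.hA.1.1 with hV
  obtain ⟨n, hn, hnt, hns⟩ := o.triangle_W ht hs.1 hs.2
  have hmove : ∀ {m a v}, m ∈ normalizer (V : Set G) → v ∈ c.Nb V a → m * v * m⁻¹ ∈ c.Nb V (m * a * m⁻¹) :=
    fun {m a v} hm hv => ⟨c.norm_T hm hv.1, by
      rw [show m * a * m⁻¹ * (m * v * m⁻¹) = m * (a * v) * m⁻¹ by group]; exact c.norm_T hm hv.2⟩
  rw [← o.common_W (c.norm_T hn ht) hnt hns (hmove hn hs),
    ← Set.ncard_image_of_injective (c.Nb V t ∩ c.Nb V s) (MulAut.conj n).injective]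
  congr 1
  ext v
  constructor
  · rintro ⟨w, hw, rfl⟩; exact ⟨hmove hn hw.1, hmove hn hw.2⟩
  · intro hv
    have h : ∀ {a}, v ∈ c.Nb V (n * a * n⁻¹) → n⁻¹ * v * n⁻¹⁻¹ ∈ c.Nb V a := fun {a} h => by
      have := hmove (inv_mem hn) h
      rwa [show n⁻¹ * (n * a * n⁻¹) * n⁻¹⁻¹ = a by group] at this
    exact ⟨_, ⟨h hv.1, h hv.2⟩, show n * (n⁻¹ * v * n⁻¹⁻¹) * n⁻¹ = v by group⟩

/-- Two stars joined by an element of W. -/
def Orb.Near (o : c.Orb A) (σ τ : Set G) : Prop :=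
  o.Star τ ∧ τ ≠ σ ∧ ∃ v, v ∈ c.Tset (c.vGrp A o.hA.1.1) ∧ v ∈ c.fixB A ∧ o.End v σ ∧ o.End v τ

/-- A star away from both ends. -/
def Orb.Far (o : c.Orb A) (σ σ' τ : Set G) : Prop :=
  o.Star τ ∧ τ ≠ σ ∧ τ ≠ σ' ∧ ¬ o.Near σ τ ∧ ¬ o.Near σ' τ

theorem Orb.Far.symm {o : c.Orb A} {σ σ' τ : Set G} (h : o.Far σ σ' τ) : o.Far σ' σ τ :=
  ⟨h.1, h.2.2.1, h.2.1, h.2.2.2.2, h.2.2.2.1⟩

theorem Orb.card_near (o : c.Orb A) {σ : Set G} (hσ : o.Star σ) : {τ | o.Near σ τ}.ncard = 3 := by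
  have h := o.end_count (σ := σ) fun v => v ∈ c.fixB A
  have e : {v | v ∈ c.Tset (c.vGrp A o.hA.1.1) ∧ v ∈ c.fixB A ∧ o.End v σ} = σ := Set.ext fun v => by
    constructor
    · exact fun hv => ((o.end_W hv.1 hv.2.1).mp hv.2.2).2
    · intro hv
      obtain ⟨h1, h2⟩ := (o.star_facts hσ).2.1 v hv
      exact ⟨h1, h2, (o.end_W h1 h2).mpr ⟨hσ, hv⟩⟩
  rw [e, (o.star_facts hσ).1] at h
  exact h

theorem Orb.near_disjoint (o : c.Orb A) {t : G} {σ σ' : Set G} (ht : t ∈ c.Tset (c.vGrp A o.hA.1.1))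
    (htW : t ∉ c.fixB A) (h1 : o.End t σ) (h2 : o.End t σ') (hne : σ ≠ σ') {τ : Set G}
    (h : o.Near σ τ) (h' : o.Near σ' τ) : False := by
  obtain ⟨-, hτ, w, hw, hwW, hwσ, hwτ⟩ := h
  obtain ⟨-, hτ', w', hw', hw'W, hw'σ, hw'τ⟩ := h'
  obtain ⟨hT, ha, hb⟩ := o.mul_W hw hwW hw' hwτ hwσ hw'τ hw'σ hτ.symm hτ'.symm hne
  exact htW (o.join_eq ht hT h1 h2 ha hb hne ▸ mul_mem hwW hw'W)

theorem Orb.card_far (o : c.Orb A) {t : G} {σ σ' : Set G} (ht : t ∈ c.Tset (c.vGrp A o.hA.1.1))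
    (htW : t ∉ c.fixB A) (h1 : o.End t σ) (h2 : o.End t σ') (hne : σ ≠ σ') :
    {τ | o.Far σ σ' τ}.ncard = 16 := by
  classical
  have hnot : ∀ {a b}, o.End t a → o.End t b → a ≠ b → ¬ o.Near a b := fun {a b} ha hb hab h => by
    obtain ⟨-, -, w, hw, hwW, hwa, hwb⟩ := h
    exact htW (o.join_eq ht hw ha hb hwa hwb hab ▸ hwW)
  set N1 := {τ | o.Near σ τ} with hN1
  set N2 := {τ | o.Near σ' τ} with hN2
  have e : {τ | o.Far σ σ' τ} = o.stars \ ({σ, σ'} ∪ N1 ∪ N2) := Set.ext fun τ => by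
    simp only [Orb.Far, Orb.stars, Set.mem_setOf_eq, Set.mem_sdiff, Set.mem_union, Set.mem_insert_iff,
      Set.mem_singleton_iff, hN1, hN2]
    tauto
  have hsub : ({σ, σ'} ∪ N1 ∪ N2 : Set (Set G)) ⊆ o.stars := by
    rintro τ (((rfl | rfl) | h) | h)
    exacts [h1.1, h2.1, h.1, h.1]
  have hd1 : Disjoint ({σ, σ'} : Set (Set G)) N1 := by
    rw [Set.disjoint_left]
    rintro τ (rfl | rfl) h
    exacts [h.2.1 rfl, hnot h1 h2 hne h]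
  have hd2 : Disjoint ({σ, σ'} ∪ N1) N2 := by
    rw [Set.disjoint_left]
    rintro τ ((rfl | rfl) | h) h'
    exacts [hnot h2 h1 hne.symm h', h'.2.1 rfl, o.near_disjoint ht htW h1 h2 hne h h']
  rw [e, Set.ncard_sdiff hsub, Set.ncard_union_eq hd2, Set.ncard_union_eq hd1, o.card_stars, Set.ncard_pair hne,
    hN1, hN2, o.card_near h1.1, o.card_near h2.1]

/-- Elements of W in different ends are not adjacent. -/
theorem Orb.cross (o : c.Orb A) {t : G} {σ σ' : Set G} (ht : t ∈ c.Tset (c.vGrp A o.hA.1.1))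
    (htW : t ∉ c.fixB A) (h1 : o.End t σ) (h2 : o.End t σ') (hne : σ ≠ σ') {x u : G} (hx : x ∈ σ) (hu : u ∈ σ') :
    x * u ∉ c.Tset (c.vGrp A o.hA.1.1) := by
  intro hxu
  obtain ⟨hxT, hxW⟩ := (o.star_facts h1.1).2.1 x hx
  obtain ⟨huT, huW⟩ := (o.star_facts h2.1).2.1 u hu
  obtain ⟨a, b, hab, hall, hdis⟩ := o.two_ends ht
  have hd : Disjoint σ σ' := by
    have := hdis htW
    rcases (hall σ).mp h1 with rfl | rfl <;> rcases (hall σ').mp h2 with rfl | rfl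
    exacts [absurd rfl hne, this, this.symm, absurd rfl hne]
  obtain ⟨ρ, hρx, hρu⟩ := o.share_W hxT hxW ⟨huT, hxu⟩
  obtain ⟨-, hxρ⟩ := (o.end_W hxT hxW).mp hρx
  obtain ⟨-, huρ⟩ := (o.end_W huT huW).mp hρu
  obtain ⟨hT, ha, hb⟩ := o.mul_W hxT hxW huT hρx ((o.end_W hxT hxW).mpr ⟨h1.1, hx⟩) hρu
    ((o.end_W huT huW).mpr ⟨h2.1, hu⟩) (fun e => Set.disjoint_left.mp hd (e ▸ huρ : u ∈ σ) hu)
    (fun e => Set.disjoint_left.mp hd hx (e ▸ hxρ : x ∈ σ')) hne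
  exact htW (o.join_eq ht hT h1 h2 ha hb hne ▸ mul_mem hxW huW)

end Ctx

end CfsgLib.JankoFour
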