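/-
The small orbit is the triangular graph on the twenty-four stars, with product of adjacent duads.
-/
import Cfsg.Agent.Lib.JankoFour.OrbShare

set_option autoImplicit false

namespace CfsgLib.JankoFour

open Cfsg Subgroup
open scoped commutatorElement

universe u

variable {G : Type u} [Group G] [Finite G] {z : G} {P E : Subgroup G}

namespace Ctx

variable {c : Ctx z P E} {A : Subgroup MTwoTwo}

theorem Orb.T_sq (o : c.Orb A) {v : G} (hv : v ∈ c.Tset (c.vGrp A o.hA.1.1)) : v * v = 1 :=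
  c.vGrp_sq o.hA.1 hv.1

theorem Orb.T_comm (o : c.Orb A) {v w : G} (hv : v ∈ c.Tset (c.vGrp A o.hA.1.1))
    (hw : w ∈ c.Tset (c.vGrp A o.hA.1.1)) : v * w = w * v :=
  c.vGrp_comm o.hA.1 hv.1 hw.1

theorem Orb.self_not_nb (o : c.Orb A) {t : G} (ht : t ∈ c.Tset (c.vGrp A o.hA.1.1)) :
    t ∉ c.Nb (c.vGrp A o.hA.1.1) t := fun h => h.2.2.1 (o.T_sq ht)

theorem Orb.end_disjoint (o : c.Orb A) {t : G} {σ σ' : Set G} (ht : t ∈ c.Tset (c.vGrp A o.hA.1.1))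
    (htW : t ∉ c.fixB A) (h1 : o.End t σ) (h2 : o.End t σ') (hne : σ ≠ σ') : Disjoint σ σ' := by
  obtain ⟨a, b, -, hall, hdis⟩ := o.two_ends ht
  have := hdis htW
  rcases (hall σ).mp h1 with rfl | rfl <;> rcases (hall σ').mp h2 with rfl | rfl
  exacts [absurd rfl hne, this, this.symm, absurd rfl hne]

/-- The elements of an end and their products with the element. -/
theorem Orb.end_elem (o : c.Orb A) {t : G} {σ σ' : Set G} (ht : t ∈ c.Tset (c.vGrp A o.hA.1.1))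
    (htW : t ∉ c.fixB A) (h1 : o.End t σ) (h2 : o.End t σ') (hne : σ ≠ σ') {x : G} (hx : x ∈ σ) :
    x ∈ c.Tset (c.vGrp A o.hA.1.1) ∧ x ∈ c.fixB A ∧ x ∈ c.Nb (c.vGrp A o.hA.1.1) t ∧
      x * t ∈ c.Nb (c.vGrp A o.hA.1.1) t ∧ o.End x σ ∧
      ∃ α, o.End x α ∧ α ≠ σ ∧ α ≠ σ' ∧ o.Near σ α ∧ o.End (x * t) α ∧ o.End (x * t) σ' := by
  obtain ⟨hxT, hxW⟩ := (o.star_facts h1.1).2.1 x hx
  have hxt : x * t ∈ c.Tset (c.vGrp A o.hA.1.1) := (h1.2 x hx).resolve_left fun e => htW (e ▸ hxW)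
  have hxσ : o.End x σ := (o.end_W hxT hxW).mpr ⟨h1.1, hx⟩
  obtain ⟨α, hα, hασ⟩ := o.other_end hxT σ
  have hασ' : α ≠ σ' := fun e =>
    Set.disjoint_left.mp (o.end_disjoint ht htW h1 h2 hne) hx (e ▸ ((o.end_W hxT hxW).mp hα).2)
  obtain ⟨-, ha, hb⟩ := o.mul_W hxT hxW ht hxσ hα h1 h2 hασ hne.symm hασ'
  refine ⟨hxT, hxW, ⟨hxT, o.T_comm ht hxT ▸ hxt⟩, ⟨hxt, ?_⟩, hxσ, α, hα, hασ, hασ',
    ⟨hα.1, hασ, x, hxT, hxW, hxσ, hα⟩, ha, hb⟩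
  rw [o.T_comm ht hxt, mul_assoc, o.T_sq ht, mul_one]
  exact hxT

/-- A far star is joined to one of two stars through an element of an end. -/
theorem Orb.far_cover (o : c.Orb A) {t : G} {σ σ' : Set G} (ht : t ∈ c.Tset (c.vGrp A o.hA.1.1))
    (htW : t ∉ c.fixB A) (h1 : o.End t σ) (h2 : o.End t σ') (hne : σ ≠ σ') {x : G} {α : Set G} (hx : x ∈ σ)
    (hα : o.End x α) (hασ : α ≠ σ) {τ : Set G} (hτ : o.Far σ σ' τ) :
    ∃ v ∈ c.Nb (c.vGrp A o.hA.1.1) t, o.End v τ ∧ (o.End v σ ∨ o.End v α) := by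
  classical
  set V := c.vGrp A o.hA.1.1 with hV
  obtain ⟨hxT, hxW, hxN, hxtN, hxσ, α', hα', hα'σ, hασ', hnear, hxtα, hxtσ'⟩ := o.end_elem ht htW h1 h2 hne hx
  obtain rfl : α = α' := (((o.ends_eq hxT hxσ hα hασ.symm α').mp hα').resolve_left hα'σ).symm
  set C := c.Nb V t ∩ c.Nb V x with hC
  have hC22 : C.ncard = 22 := o.common_all ht hxN
  set Cov := {v | v ∈ C ∧ ∃ ρ, o.Far σ σ' ρ ∧ o.End v ρ} with hCov
  -- the elements of C with a far end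
  have hfar : ∀ v ∈ C, ∀ ρ, o.Far σ σ' ρ → o.End v ρ → o.End v σ ∨ o.End v α := by
    intro v hv ρ hρ hvρ
    obtain ⟨r, hrx, hrv⟩ := o.share_W hxT hxW hv.2
    rcases (o.ends_eq hxT hxσ hα hασ.symm r).mp hrx with rfl | rfl
    exacts [Or.inl hrv, Or.inr hrv]
  have hsub : C ⊆ (σ \ {x}) ∪ {x * t} ∪ (fun u => u * t) '' σ' ∪ Cov := by
    intro v hv
    by_cases hvW : v ∈ c.fixB A
    · refine Or.inl (Or.inl (Or.inl ?_))
      have hvt : v * t ∈ c.Tset V := o.T_comm ht hv.1.1 ▸ hv.1.2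
      obtain ⟨r, hr, hvr⟩ := (o.adj_out hv.1.1 hvW ht htW).mp hvt
      rcases (o.ends_eq ht h1 h2 hne r).mp hr with rfl | rfl
      · exact ⟨hvr, fun e => o.self_not_nb hxT (by rw [Set.mem_singleton_iff] at e; exact e ▸ hv.2)⟩
      · exact absurd hv.2.2 (o.cross ht htW h1 h2 hne hx hvr)
    obtain ⟨r, hrx, hrv⟩ := o.share_W hxT hxW hv.2
    obtain ⟨ρ, hρ, hρr⟩ := o.other_end hv.1.1 r
    have hr := (o.ends_eq hxT hxσ hα hασ.symm r).mp hrx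
    by_cases e : ρ = σ'
    · subst e
      rcases hr with rfl | rfl
      · exact absurd (o.join_eq hv.1.1 ht hrv hρ h1 h2 hne ▸ hv.1) (o.self_not_nb ht)
      · exact Or.inl (Or.inl (Or.inr (o.join_eq hv.1.1 hxtN.1 hrv hρ hxtα hxtσ' hρr.symm)))
    by_cases e1 : ρ = σ
    · subst e1
      rcases hr with rfl | rfl
      · exact absurd rfl hρr
      · exact absurd (o.join_eq hv.1.1 hxT hrv hρ hα hxσ hασ ▸ hxW) hvW
    by_cases e2 : o.Near σ ρ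
    · exfalso
      obtain ⟨-, -, w, hw, hwW, hwσ, hwρ⟩ := e2
      rcases hr with rfl | rfl
      · exact hvW (o.join_eq hv.1.1 hw hrv hρ hwσ hwρ (Ne.symm e1) ▸ hwW)
      · obtain ⟨hT, ha, hb⟩ := o.mul_W hxT hxW hw hxσ hα hwσ hwρ hασ e1 hρr.symm
        exact hvW (o.join_eq hv.1.1 hT hrv hρ ha hb hρr.symm ▸ mul_mem hxW hwW)
    by_cases e3 : o.Near σ' ρ
    · obtain ⟨-, -, w, hw, hwW, hwσ', hwρ⟩ := e3
      have hwm := ((o.end_W hw hwW).mp hwσ').2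
      rcases hr with rfl | rfl
      · obtain ⟨hT, ha, hb⟩ := o.mul_W hw hwW ht hwσ' hwρ h2 h1 e hne e1
        exact Or.inl (Or.inr ⟨w, hwm, (o.join_eq hv.1.1 hT hρ hrv ha hb e1).symm⟩)
      · exfalso
        obtain ⟨hT, ha, hb⟩ := o.mul_W hw hwW hxtN.1 hwσ' hwρ hxtσ' hxtα e hασ' hρr
        have ev := o.join_eq hv.1.1 hT hρ hrv ha hb hρr
        refine o.cross ht htW h1 h2 hne hx hwm ?_
        have h3 := hv.1.2
        rwa [ev, o.T_comm ht hT, mul_assoc, mul_assoc, o.T_sq ht, mul_one, o.W_comm hwW hxW] at h3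
    exact Or.inr ⟨hv, ρ, ⟨hρ.1, e1, e, e2, e3⟩, hρ⟩
  have h16 := o.card_far ht htW h1 h2 hne
  set F := {ρ | o.Far σ σ' ρ} with hF
  let φ : G → Set G := fun v => if h : ∃ ρ, o.Far σ σ' ρ ∧ o.End v ρ then h.choose else ∅
  have hφ : ∀ v ∈ Cov, o.Far σ σ' (φ v) ∧ o.End v (φ v) := fun v hv => by
    simp only [φ]; rw [dif_pos hv.2]; exact hv.2.choose_spec
  have hinj : Set.InjOn φ Cov := by
    intro v hv w hw e
    obtain ⟨hρ, hvρ⟩ := hφ v hv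
    obtain ⟨-, hwρ⟩ := hφ w hw
    rw [← e] at hwρ
    have hρα : φ v ≠ α := fun h => hρ.2.2.2.1 (h ▸ hnear)
    have key : ∀ {v w ρ}, o.Far σ σ' ρ → v ∈ C → w ∈ C → o.End v ρ → o.End w ρ → o.End v σ → o.End w α →
        False := by
      intro v w ρ hρ hv hw hvρ hwρ a b
      have hρα : α ≠ ρ := fun h => hρ.2.2.2.1 (h ▸ hnear)
      obtain ⟨hT, ha, hb⟩ := o.mul_W hxT hxW hv.1.1 hxσ hα a hvρ hασ hρ.2.1 hρα
      have e := o.join_eq hw.1.1 hT b hwρ ha hb hρα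
      exact o.three_free ht hxT hv.1.1 (hxN.2) hv.1.2 hv.2.2 (e ▸ hw.1.2)
    rcases hfar v hv.1 _ hρ hvρ with a | a <;> rcases hfar w hw.1 _ hρ hwρ with b | b
    · exact o.join_eq hv.1.1.1 hw.1.1.1 a hvρ b hwρ hρ.2.1.symm
    · exact (key hρ hv.1 hw.1 hvρ hwρ a b).elim
    · exact (key hρ hw.1 hv.1 hwρ hvρ b a).elim
    · exact o.join_eq hv.1.1.1 hw.1.1.1 a hvρ b hwρ hρα.symm
  have himg : φ '' Cov ⊆ F := Set.image_subset_iff.mpr fun v hv => (hφ v hv).1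
  have hle : F.ncard ≤ (φ '' Cov).ncard := by
    rw [hinj.ncard_image, h16]
    have e1 : (σ \ {x}).ncard = 2 := by
      rw [Set.ncard_sdiff_singleton_of_mem hx, (o.star_facts h1.1).1]
    have e2 : ((fun u => u * t) '' σ').ncard ≤ 3 :=
      le_of_le_of_eq (Set.ncard_image_le (Set.toFinite _)) (o.star_facts h2.1).1
    have h := Set.ncard_le_ncard hsub (Set.toFinite _)
    have u1 := Set.ncard_union_le ((σ \ {x}) ∪ {x * t} ∪ (fun u => u * t) '' σ') Cov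
    have u2 := Set.ncard_union_le ((σ \ {x}) ∪ {x * t}) ((fun u => u * t) '' σ')
    have u3 := Set.ncard_union_le (σ \ {x}) {x * t}
    rw [Set.ncard_singleton] at u3
    omega
  have hall : τ ∈ φ '' Cov := by
    rw [Set.eq_of_subset_of_ncard_le himg hle (Set.toFinite _)]; exact hτ
  obtain ⟨v, hv, rfl⟩ := hall
  exact ⟨v, hv.1.1, (hφ v hv).2, hfar v hv.1 _ (hφ v hv).1 (hφ v hv).2⟩

/-- Each far star is joined to both ends. -/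
theorem Orb.far_join (o : c.Orb A) {t : G} {σ σ' : Set G} (ht : t ∈ c.Tset (c.vGrp A o.hA.1.1))
    (htW : t ∉ c.fixB A) (h1 : o.End t σ) (h2 : o.End t σ') (hne : σ ≠ σ') {τ₀ : Set G}
    (hτ₀ : o.Far σ σ' τ₀) : ∃ v ∈ c.Nb (c.vGrp A o.hA.1.1) t, o.End v τ₀ ∧ o.End v σ := by
  classical
  by_contra hnot
  set V := c.vGrp A o.hA.1.1 with hV
  obtain ⟨hc1, hm1, -⟩ := o.star_facts h1.1
  obtain ⟨hc2, hm2, -⟩ := o.star_facts h2.1
  obtain ⟨x, hx⟩ := Set.nonempty_of_ncard_ne_zero (s := σ) (by omega)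
  obtain ⟨u, hu⟩ := Set.nonempty_of_ncard_ne_zero (s := σ') (by omega)
  obtain ⟨x', hx', hxx⟩ := Set.exists_ne_of_one_lt_ncard (s := σ) (by omega) x
  obtain ⟨hxT, hxW, -, -, hxσ, α, hα, hασ, -, hαn, -, -⟩ := o.end_elem ht htW h1 h2 hne hx
  obtain ⟨huT, huW, -, -, huσ, β, hβ, hβσ, -, hβn, -, -⟩ := o.end_elem ht htW h2 h1 hne.symm hu
  obtain ⟨hx'T, hx'W, -, -, hx'σ, α', hα', hα'σ, -, hα'n, -, -⟩ := o.end_elem ht htW h1 h2 hne hx'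
  have hαα : α' ≠ α := fun e => hxx (o.join_eq hx'T hxT hx'σ hα' hxσ (e ▸ hα) hα'σ.symm)
  let S1 : Set (Set G) := {ρ | ρ = σ ∨ o.Near σ ρ}
  let S2 : Set (Set G) := {ρ | ρ = σ' ∨ o.Near σ' ρ}
  have hnn : ∀ {a b}, o.End t a → o.End t b → a ≠ b → ¬ o.Near a b := fun {a b} ha hb hab h => by
    obtain ⟨-, -, w, hw, hwW, hwa, hwb⟩ := h
    exact htW (o.join_eq ht hw ha hb hwa hwb hab ▸ hwW)
  have hS12 : ∀ {ρ}, ρ ∈ S1 → ρ ∈ S2 → False := by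
    rintro ρ (rfl | a) (rfl | b)
    exacts [hne rfl, hnn h2 h1 hne.symm b, hnn h1 h2 hne a, o.near_disjoint ht htW h1 h2 hne a b]
  have hFS : ∀ {ρ}, o.Far σ σ' ρ → ρ ∉ S1 ∧ ρ ∉ S2 := fun hρ =>
    ⟨fun h => h.elim hρ.2.1 hρ.2.2.2.1, fun h => h.elim hρ.2.2.1 hρ.2.2.2.2⟩
  -- an element with a far end has only one other
  have huniq : ∀ {v ρ r r'}, v ∈ c.Tset V → o.Far σ σ' ρ → o.End v ρ → o.End v r → o.End v r' →
      r ∈ S1 ∪ S2 → r' ∈ S1 ∪ S2 → r' = r := by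
    intro v ρ r r' hv hρ hvρ hvr hvr' hr hr'
    have hne' : ∀ {q}, q ∈ S1 ∪ S2 → q ≠ ρ := fun hq e => by
      rcases hq with h | h
      exacts [(hFS hρ).1 (e ▸ h), (hFS hρ).2 (e ▸ h)]
    exact ((o.ends_eq hv hvr hvρ (hne' hr) r').mp hvr').resolve_right (hne' hr')
  have h1F : ∀ ρ : Set G, ∃ v, o.Far σ σ' ρ →
      v ∈ c.Nb V t ∧ o.End v ρ ∧ (o.End v σ ∨ o.End v α) := fun ρ => by
    by_cases h : o.Far σ σ' ρ
    · obtain ⟨v, hv⟩ := o.far_cover ht htW h1 h2 hne hx hα hασ h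
      exact ⟨v, fun _ => hv⟩
    · exact ⟨1, fun h' => absurd h' h⟩
  have h2F : ∀ ρ : Set G, ∃ v, o.Far σ σ' ρ →
      v ∈ c.Nb V t ∧ o.End v ρ ∧ (o.End v σ' ∨ o.End v β) := fun ρ => by
    by_cases h : o.Far σ σ' ρ
    · obtain ⟨v, hv⟩ := o.far_cover ht htW h2 h1 hne.symm hu hβ hβσ h.symm
      exact ⟨v, fun _ => hv⟩
    · exact ⟨1, fun h' => absurd h' h⟩
  choose g1 hg1 using h1F
  choose g2 hg2 using h2F
  obtain ⟨e, heN, heτ, hee⟩ := o.far_cover ht htW h1 h2 hne hx' hα' hα'σ hτ₀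
  replace hee : o.End e α' := hee.resolve_left fun h => hnot ⟨e, heN, heτ, h⟩
  set K := (σ ∪ σ') ∪ (fun v => v * t) '' (σ ∪ σ') with hK
  set F := {ρ | o.Far σ σ' ρ} with hF
  have hmW : ∀ v ∈ σ ∪ σ', v ∈ c.fixB A := fun v hv => hv.elim (fun h => (hm1 v h).2) fun h => (hm2 v h).2
  have hKc : K.ncard = 12 := by
    have hd : Disjoint (σ ∪ σ') ((fun v => v * t) '' (σ ∪ σ')) := by
      rw [Set.disjoint_left]
      rintro v hv ⟨w, hw, rfl⟩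
      exact htW ((Subgroup.mul_mem_cancel_left _ (hmW w hw)).mp (hmW _ hv))
    rw [hK, Set.ncard_union_eq hd, Set.ncard_image_of_injective _ (mul_left_injective t),
      Set.ncard_union_eq (o.end_disjoint ht htW h1 h2 hne), hc1, hc2]
  -- elements of K have no far end
  have hKfar : ∀ v ∈ K, v ∈ c.Nb V t ∧ ∀ ρ, o.End v ρ → ρ ∈ S1 ∪ S2 := by
    have key : ∀ {a b}, o.End t a → o.End t b → a ≠ b →
        (∀ ρ, ρ = a ∨ o.Near a ρ ∨ ρ = b → ρ ∈ S1 ∪ S2) → ∀ w ∈ a,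
        (w ∈ c.Nb V t ∧ ∀ ρ, o.End w ρ → ρ ∈ S1 ∪ S2) ∧
        (w * t ∈ c.Nb V t ∧ ∀ ρ, o.End (w * t) ρ → ρ ∈ S1 ∪ S2) := by
      intro a b ha hb hab hS w hw
      obtain ⟨hwT, -, hwN, hwtN, hwa, γ, hγ, hγa, hγb, hγn, h3, h4⟩ := o.end_elem ht htW ha hb hab hw
      refine ⟨⟨hwN, fun ρ h => hS ρ ?_⟩, hwtN, fun ρ h => hS ρ ?_⟩
      · rcases (o.ends_eq hwT hwa hγ hγa.symm ρ).mp h with rfl | rfl
        exacts [Or.inl rfl, Or.inr (Or.inl hγn)]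
      · rcases (o.ends_eq hwtN.1 h3 h4 hγb ρ).mp h with rfl | rfl
        exacts [Or.inr (Or.inl hγn), Or.inr (Or.inr rfl)]
    have k1 := key h1 h2 hne fun ρ h => h.elim (fun e => Or.inl (Or.inl e)) fun h => h.elim
      (fun e => Or.inl (Or.inr e)) fun e => Or.inr (Or.inl e)
    have k2 := key h2 h1 hne.symm fun ρ h => h.elim (fun e => Or.inr (Or.inl e)) fun h => h.elim
      (fun e => Or.inr (Or.inr e)) fun e => Or.inl (Or.inl e)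
    rintro v ((h | h) | ⟨w, h | h, rfl⟩)
    exacts [(k1 v h).1, (k2 v h).1, (k1 w h).2, (k2 w h).2]
  have hs1 : ∀ {v ρ}, o.Far σ σ' ρ → g1 ρ = v → ∃ r ∈ S1, o.End v r ∧ o.End v ρ := fun {v ρ} hρ e => by
    subst e
    rcases (hg1 ρ hρ).2.2 with h | h
    exacts [⟨σ, Or.inl rfl, h, (hg1 ρ hρ).2.1⟩, ⟨α, Or.inr hαn, h, (hg1 ρ hρ).2.1⟩]
  have hs2 : ∀ {v ρ}, o.Far σ σ' ρ → g2 ρ = v → ∃ r ∈ S2, o.End v r ∧ o.End v ρ := fun {v ρ} hρ e => by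
    subst e
    rcases (hg2 ρ hρ).2.2 with h | h
    exacts [⟨σ', Or.inl rfl, h, (hg2 ρ hρ).2.1⟩, ⟨β, Or.inr hβn, h, (hg2 ρ hρ).2.1⟩]
  -- the far end is determined
  have hfu : ∀ {v ρ ρ' r}, v ∈ c.Tset V → o.Far σ σ' ρ → o.Far σ σ' ρ' → r ∈ S1 ∪ S2 → o.End v r →
      o.End v ρ → o.End v ρ' → ρ = ρ' := by
    intro v ρ ρ' r hv hρ hρ' hr hvr hvρ hvρ'
    have hne' : ∀ {q}, o.Far σ σ' q → r ≠ q := fun hq e => hr.elim (e ▸ (hFS hq).1) (e ▸ (hFS hq).2)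
    exact (((o.ends_eq hv hvr hvρ (hne' hρ) ρ').mp hvρ').resolve_left (hne' hρ').symm).symm
  have hi1 : Set.InjOn g1 F := fun a ha b hb e => by
    obtain ⟨r, hr, hvr, hva⟩ := hs1 ha rfl
    obtain ⟨-, -, -, hvb⟩ := hs1 hb e.symm
    exact hfu (hg1 a ha).1.1 ha hb (Or.inl hr) hvr hva hvb
  have hi2 : Set.InjOn g2 F := fun a ha b hb e => by
    obtain ⟨r, hr, hvr, hva⟩ := hs2 ha rfl
    obtain ⟨-, -, -, hvb⟩ := hs2 hb e.symm
    exact hfu (hg2 a ha).1.1 ha hb (Or.inr hr) hvr hva hvb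
  have hd12 : Disjoint (g1 '' F) (g2 '' F) := by
    rw [Set.disjoint_left]
    rintro v ⟨a, ha, rfl⟩ ⟨b, hb, e⟩
    obtain ⟨r, hr, hvr, hva⟩ := hs1 ha rfl
    obtain ⟨r', hr', hvr', -⟩ := hs2 hb e
    exact hS12 hr (huniq (hg1 a ha).1.1 ha hva hvr hvr' (Or.inl hr) (Or.inr hr') ▸ hr')
  have hdK : Disjoint K (g1 '' F ∪ g2 '' F) := by
    rw [Set.disjoint_left]
    rintro v hv (⟨a, ha, rfl⟩ | ⟨a, ha, rfl⟩)
    · exact ((hKfar _ hv).2 a (hg1 a ha).2.1).elim (hFS ha).1 (hFS ha).2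
    · exact ((hKfar _ hv).2 a (hg2 a ha).2.1).elim (hFS ha).1 (hFS ha).2
  have he : e ∉ K ∪ (g1 '' F ∪ g2 '' F) := by
    rintro (h | ⟨a, ha, h⟩ | ⟨a, ha, h⟩)
    · exact ((hKfar _ h).2 τ₀ heτ).elim (hFS hτ₀).1 (hFS hτ₀).2
    · obtain ⟨r, hr, hvr, hva⟩ := hs1 ha h
      obtain rfl : a = τ₀ := hfu heN.1 ha hτ₀ (Or.inl hr) hvr hva heτ
      rcases (hg1 _ ha).2.2 with h' | h' <;> rw [h] at h'
      · exact hnot ⟨e, heN, heτ, h'⟩
      · exact hαα (huniq heN.1 hτ₀ heτ h' hee (Or.inl (Or.inr hαn)) (Or.inl (Or.inr hα'n)))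
    · obtain ⟨r, hr, hvr, hva⟩ := hs2 ha h
      exact hS12 (Or.inr hα'n) (huniq heN.1 hτ₀ heτ hee hvr (Or.inl (Or.inr hα'n)) (Or.inr hr) ▸ hr)
  have hsub : insert e (K ∪ (g1 '' F ∪ g2 '' F)) ⊆ c.Nb V t := by
    rintro v (rfl | h | ⟨a, ha, rfl⟩ | ⟨a, ha, rfl⟩)
    exacts [heN, (hKfar _ h).1, (hg1 a ha).1, (hg2 a ha).1]
  have h := Set.ncard_le_ncard hsub (Set.toFinite _)
  rw [Set.ncard_insert_of_notMem he (Set.toFinite _), Set.ncard_union_eq hdK, hKc,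
    Set.ncard_union_eq hd12, hi1.ncard_image, hi2.ncard_image, hF, o.card_far ht htW h1 h2 hne,
    (o.five_two).1 t ht] at h
  omega

/-- Adjacency is sharing an end. -/
theorem Orb.share_all (o : c.Orb A) {t s : G} (ht : t ∈ c.Tset (c.vGrp A o.hA.1.1))
    (hs : s ∈ c.Tset (c.vGrp A o.hA.1.1)) :
    s ∈ c.Nb (c.vGrp A o.hA.1.1) t ↔ s ≠ t ∧ ∃ σ, o.End t σ ∧ o.End s σ := by
  classical
  set V := c.vGrp A o.hA.1.1 with hV
  by_cases htW : t ∈ c.fixB A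
  · refine ⟨fun h => ⟨fun e => o.self_not_nb ht (e ▸ h), o.share_W ht htW h⟩, ?_⟩
    rintro ⟨hst, σ, hσ, hsσ⟩
    obtain ⟨α, hα, hασ⟩ := o.other_end ht σ
    obtain ⟨β, hβ, hβσ⟩ := o.other_end hs σ
    exact ⟨hs, (o.mul_W ht htW hs hσ hα hsσ hβ hασ hβσ fun e =>
      hst (o.join_eq hs ht hsσ hβ hσ (e ▸ hα) hβσ.symm)).1⟩
  obtain ⟨σ, σ', hne, hall, -⟩ := o.two_ends ht
  have h1 := (hall σ).mpr (Or.inl rfl)
  have h2 := (hall σ').mpr (Or.inr rfl)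
  set S := fun ρ => {v | v ∈ c.Tset V ∧ True ∧ o.End v ρ} with hS
  set D := (S σ \ {t}) ∪ (S σ' \ {t}) with hD
  have hone : ∀ {a b}, o.End t a → o.End t b → a ≠ b → S a \ {t} ⊆ c.Nb V t := by
    rintro a b ha hb hab v ⟨⟨hv, -, hva⟩, hvt⟩
    rw [Set.mem_singleton_iff] at hvt
    obtain ⟨τ, hτ, hτa⟩ := o.other_end hv a
    by_cases e : τ = b
    · exact absurd (o.join_eq hv ht hva hτ ha (e ▸ hb) hτa.symm) hvt
    by_cases e1 : o.Near a τ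
    · obtain ⟨-, -, w, hw, hwW, hwa, hwτ⟩ := e1
      rw [o.join_eq hv hw hva hτ hwa hwτ hτa.symm]
      exact (o.end_elem ht htW ha hb hab ((o.end_W hw hwW).mp hwa).2).2.2.1
    by_cases e2 : o.Near b τ
    · obtain ⟨-, -, w, hw, hwW, hwb, hwτ⟩ := e2
      obtain ⟨hT, h3, h4⟩ := o.mul_W hw hwW ht hwb hwτ hb ha e hab hτa
      rw [o.join_eq hv hT hτ hva h3 h4 hτa]
      exact (o.end_elem ht htW hb ha hab.symm ((o.end_W hw hwW).mp hwb).2).2.2.2.1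
    obtain ⟨w, hw, hwτ, hwa⟩ := o.far_join ht htW ha hb hab ⟨hτ.1, hτa, e, e1, e2⟩
    rwa [o.join_eq hv hw.1 hτ hva hwτ hwa hτa]
  have hDsub : D ⊆ c.Nb V t := Set.union_subset (hone h1 h2 hne) (hone h2 h1 hne.symm)
  have hDc : D.ncard = 44 := by
    have hd : Disjoint (S σ \ {t}) (S σ' \ {t}) := by
      rw [Set.disjoint_left]
      rintro v ⟨⟨hv, -, a⟩, hvt⟩ ⟨⟨-, -, b⟩, -⟩
      exact hvt (o.join_eq hv ht a b h1 h2 hne)
    rw [hD, Set.ncard_union_eq hd, Set.ncard_sdiff_singleton_of_mem (show t ∈ S σ from ⟨ht, trivial, h1⟩),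
      Set.ncard_sdiff_singleton_of_mem (show t ∈ S σ' from ⟨ht, trivial, h2⟩), o.card_end h1.1, o.card_end h2.1]
  have hDeq : D = c.Nb V t :=
    Set.eq_of_subset_of_ncard_le hDsub (by rw [hDc, (o.five_two).1 t ht]) (Set.toFinite _)
  rw [← hDeq]
  constructor
  · rintro (⟨⟨-, -, h⟩, hst⟩ | ⟨⟨-, -, h⟩, hst⟩)
    exacts [⟨hst, σ, h1, h⟩, ⟨hst, σ', h2, h⟩]
  · rintro ⟨hst, ρ, hρ, hsρ⟩
    rcases (hall ρ).mp hρ with rfl | rfl
    exacts [Or.inl ⟨⟨hs, trivial, hsρ⟩, hst⟩, Or.inr ⟨⟨hs, trivial, hsρ⟩, hst⟩]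

/-- Products of adjacent duads. -/
theorem Orb.mul_ends (o : c.Orb A) {t s : G} (ht : t ∈ c.Tset (c.vGrp A o.hA.1.1))
    (hs : s ∈ c.Tset (c.vGrp A o.hA.1.1)) {σ α β : Set G} (h1 : o.End t σ)
    (h2 : o.End t α) (h3 : o.End s σ) (h4 : o.End s β) (hα : α ≠ σ) (hβ : β ≠ σ) (hne : α ≠ β) :
    t * s ∈ c.Tset (c.vGrp A o.hA.1.1) ∧ o.End (t * s) α ∧ o.End (t * s) β := by
  classical
  by_cases htW : t ∈ c.fixB A
  · exact o.mul_W ht htW hs h1 h2 h3 h4 hα hβ hne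
  by_cases hsW : s ∈ c.fixB A
  · obtain ⟨h, ha, hb⟩ := o.mul_W hs hsW ht h3 h4 h1 h2 hβ hα hne.symm
    rw [o.T_comm hs ht] at h ha hb
    exact ⟨h, hb, ha⟩
  have hts : t ≠ s := fun e => by
    rcases (o.ends_eq ht h1 h2 hα.symm β).mp (e ▸ h4) with h | h
    exacts [hβ h, hne h.symm]
  have hnb := (o.share_all ht hs).mpr ⟨hts.symm, σ, h1, h3⟩
  set d := t * s with hd
  have hdt : d ≠ t := fun e => hs.2.1 (mul_eq_left.mp e)
  have hds : d ≠ s := fun e => ht.2.1 (mul_eq_right.mp e)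
  have hdT : d ∈ c.Tset (c.vGrp A o.hA.1.1) := hnb.2
  have hno : ¬ o.End d σ := by
    intro hdσ
    obtain ⟨x, hx, hxd⟩ := Set.exists_ne_of_one_lt_ncard (s := σ) (by rw [(o.star_facts h1.1).1]; omega) d
    obtain ⟨hxT, hxW⟩ := (o.star_facts h1.1).2.1 x hx
    have hxt := (h1.2 x hx).resolve_left fun e => htW (e ▸ hxW)
    have hxs := (h3.2 x hx).resolve_left fun e => hsW (e ▸ hxW)
    have hxd' := (hdσ.2 x hx).resolve_left hxd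
    refine o.three_free hxT ht hs hxt hxs hnb.2 ?_
    exact hxd'
  obtain ⟨-, r, hrt, hrd⟩ := (o.share_all ht hdT).mp ⟨hdT, by
    rw [hd, ← mul_assoc, o.T_sq ht, one_mul]; exact hs⟩
  obtain ⟨-, r', hrs, hrd'⟩ := (o.share_all hs hdT).mp ⟨hdT, by
    rw [hd, o.T_comm ht hs, ← mul_assoc, o.T_sq hs, one_mul]; exact ht⟩
  rcases (o.ends_eq ht h1 h2 hα.symm r).mp hrt with rfl | rfl
  · exact absurd hrd hno
  rcases (o.ends_eq hs h3 h4 hβ.symm r').mp hrs with rfl | rfl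
  · exact absurd hrd' hno
  exact ⟨hdT, hrd, hrd'⟩

end Ctx

end CfsgLib.JankoFour
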