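/-
The normalizer of the group of order 2^11 induces the Mathieu group on the twenty-four stars.
-/
import Cfsg.Agent.Lib.JankoFour.OrbDuad
import Cfsg.Agent.Lib.GolayUnique.Bridge

set_option autoImplicit false

namespace CfsgLib.JankoFour

open Cfsg Subgroup
open scoped symmDiff Pointwise

universe u

section Duads

variable {α : Type*} [Fintype α] [DecidableEq α] {Γ : Type*} [CommGroup Γ]

/-- The duad product of a set of points. -/
def duadProd (d : α → α → Γ) (a : α) (s : Finset α) : Γ := ∏ i ∈ s, d a i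

omit [Fintype α] in
theorem duadProd_symm (hsq : ∀ x : Γ, x * x = 1) (d : α → α → Γ) (a : α) (s t : Finset α) :
    duadProd d a (s ∆ t) = duadProd d a s * duadProd d a t := by
  have hs : duadProd d a (s \ t) * duadProd d a (s ∩ t) = duadProd d a s := by
    rw [duadProd, duadProd, ← Finset.prod_union (Finset.disjoint_sdiff_inter s t), Finset.sdiff_union_inter]; rfl
  have ht : duadProd d a (t \ s) * duadProd d a (s ∩ t) = duadProd d a t := by
    rw [Finset.inter_comm, duadProd, duadProd, ← Finset.prod_union (Finset.disjoint_sdiff_inter t s),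
      Finset.sdiff_union_inter]; rfl
  rw [← hs, ← ht, mul_mul_mul_comm, hsq, mul_one, duadProd, symmDiff_def, Finset.sup_eq_union,
    Finset.prod_union disjoint_sdiff_sdiff]
  rfl

omit [Fintype α] in
/-- No even word of weight two, four or six. -/
theorem duad_min (hsq : ∀ x : Γ, x * x = 1) {d : α → α → Γ} (h3 : ∀ i j k, d i j * d j k = d i k)
    (h2 : ∀ i j, i ≠ j → d i j ≠ 1) (h4 : ∀ a b c e, [a, b, c, e].Nodup → d a b ≠ d c e)
    (h6 : ∀ a b c e g h, [a, b, c, e, g, h].Nodup → d a b * d c e ≠ d g h) {a0 : α} {s : Finset α}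
    (hev : s.card % 2 = 0) (hle : s.card ≤ 6) (h : duadProd d a0 s = 1) : s = ∅ := by
  have hd : ∀ i j, d a0 i * d a0 j = d i j := fun i j => by
    have h1 : d i i = 1 := mul_eq_left.mp (h3 i i i)
    have h0 : d i a0 * d a0 i = 1 := (h3 i a0 i).trans h1
    have e : d i a0 = d a0 i := (eq_inv_of_mul_eq_one_left h0).trans (inv_eq_of_mul_eq_one_left (hsq _))
    rw [← h3 i a0 j, e]
  have heq : ∀ {x y : Γ}, x * y = 1 → x = y := fun {x y} h =>
    (eq_inv_of_mul_eq_one_left h).trans (inv_eq_of_mul_eq_one_left (hsq _))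
  have hl := Finset.length_toList s
  have hnd := Finset.nodup_toList s
  rw [duadProd, ← Finset.prod_map_toList] at h
  match hm : s.toList with
  | [] => exact Finset.toList_eq_nil.mp hm
  | [_] => exfalso; rw [hm] at hl; simp at hl; omega
  | [i, j] =>
    exfalso
    rw [hm] at h hnd
    simp only [List.map_cons, List.map_nil, List.prod_cons, List.prod_nil, mul_one, hd] at h
    exact h2 i j (by simpa using hnd) h
  | [_, _, _] => exfalso; rw [hm] at hl; simp at hl; omega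
  | [i, j, k, l] =>
    exfalso
    rw [hm] at h hnd
    simp only [List.map_cons, List.map_nil, List.prod_cons, List.prod_nil, mul_one, hd] at h
    rw [← mul_assoc, hd] at h
    exact h4 i j k l hnd (heq h)
  | [_, _, _, _, _] => exfalso; rw [hm] at hl; simp at hl; omega
  | [i, j, k, l, m, n] =>
    exfalso
    rw [hm] at h hnd
    simp only [List.map_cons, List.map_nil, List.prod_cons, List.prod_nil, mul_one, hd] at h
    rw [← mul_assoc (d a0 k), hd k l, ← mul_assoc (d a0 i), hd i j, ← mul_assoc] at h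
    exact h6 i j k l m n hnd (heq h)
  | _ :: _ :: _ :: _ :: _ :: _ :: _ :: _ => exfalso; rw [hm] at hl; simp at hl; omega

/-- The words of weight eight. -/
def duadOct (d : α → α → Γ) (a : α) : Set (Finset α) := {s | s.card = 8 ∧ duadProd d a s = 1}

/-- A duad system on twenty-four points gives a Steiner system. -/
theorem duad_steiner [Fintype Γ] (hα : Fintype.card α = 24) (hΓ : Fintype.card Γ = 2048)
    (hsq : ∀ x : Γ, x * x = 1) {d : α → α → Γ} (h3 : ∀ i j k, d i j * d j k = d i k)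
    (h2 : ∀ i j, i ≠ j → d i j ≠ 1) (h4 : ∀ a b c e, [a, b, c, e].Nodup → d a b ≠ d c e)
    (h6 : ∀ a b c e g h, [a, b, c, e, g, h].Nodup → d a b * d c e ≠ d g h) (a0 : α) :
    IsSteinerSystem 5 8 (duadOct d a0) := by
  classical
  have hmin : ∀ u : Finset α, u.card % 2 = 0 → u.card ≤ 6 → duadProd d a0 u = 1 → u = ∅ :=
    fun u => duad_min hsq h3 h2 h4 h6
  refine ⟨fun b hb => hb.1, fun s hs => ?_⟩
  set S := (Finset.univ : Finset α).powersetCard 1 ∪ (Finset.univ : Finset α).powersetCard 3 with hS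
  have hmem : ∀ t ∈ S, t.card = 1 ∨ t.card = 3 := fun t ht => by
    simpa [hS, Finset.mem_powersetCard_univ] using ht
  have hSc : S.card = 2048 := by
    rw [hS, Finset.card_union_of_disjoint (Finset.disjoint_left.mpr fun t h1 h3 => by
      rw [Finset.mem_powersetCard_univ] at h1 h3; omega), Finset.card_powersetCard, Finset.card_powersetCard,
      Finset.card_univ, hα]
    decide
  have hinj : Set.InjOn (duadProd d a0) S := fun t ht u hu e => by
    have hc := CfsgCode.card_symmDiff' t u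
    have := hmem t ht
    have := hmem u hu
    refine symmDiff_eq_bot.mp (hmin _ (by omega) (by omega) ?_)
    rw [duadProd_symm hsq, e, hsq]
  have himg : S.image (duadProd d a0) = Finset.univ :=
    Finset.eq_univ_of_card _ (by rw [Finset.card_image_of_injOn hinj, hSc, hΓ])
  obtain ⟨t, ht, hts⟩ := Finset.mem_image.mp (himg ▸ Finset.mem_univ (duadProd d a0 s))
  have hu1 : duadProd d a0 (s ∆ t) = 1 := by rw [duadProd_symm hsq, hts, hsq]
  have hc := CfsgCode.card_symmDiff' s t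
  have := hmem t ht
  have h7 : ¬ (s ∆ t).card ≤ 6 := fun h => by
    have := hmin _ (by omega) h hu1
    rw [this, Finset.card_empty] at hc
    have h1 := Finset.card_le_card (Finset.inter_subset_right : s ∩ t ⊆ t)
    omega
  have h0 : s ∩ t = ∅ := Finset.card_eq_zero.mp (by omega)
  refine ⟨s ∆ t, ⟨⟨by omega, hu1⟩, fun x hx => Finset.mem_symmDiff.mpr (Or.inl ⟨hx, fun h =>
    Finset.notMem_empty x (h0 ▸ Finset.mem_inter.mpr ⟨hx, h⟩)⟩)⟩, ?_⟩
  rintro b ⟨⟨hb8, hb1⟩, hsb⟩
  have h5 : 5 ≤ (b ∩ (s ∆ t)).card := hs ▸ Finset.card_le_card (fun x hx => Finset.mem_inter.mpr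
    ⟨hsb hx, Finset.mem_symmDiff.mpr (Or.inl ⟨hx, fun h =>
      Finset.notMem_empty x (h0 ▸ Finset.mem_inter.mpr ⟨hx, h⟩)⟩)⟩)
  have hc2 := CfsgCode.card_symmDiff' b (s ∆ t)
  refine symmDiff_eq_bot.mp (hmin _ (by omega) (by omega) ?_)
  rw [duadProd_symm hsq, hb1, hu1, one_mul]

/-- Symmetries of a duad system preserve its octads. -/
theorem duad_aut (hsq : ∀ x : Γ, x * x = 1) {d : α → α → Γ} (h3 : ∀ i j k, d i j * d j k = d i k) (a0 : α)
    (π : Equiv.Perm α) (φ : Γ →* Γ) (hφ : ∀ i j, φ (d i j) = d (π i) (π j)) :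
    π ∈ setSystemAut (duadOct d a0) := by
  classical
  rw [MulAction.mem_stabilizer_iff, CfsgCode.smul_sys]
  refine Set.eq_of_subset_of_ncard_le ?_ (le_of_eq ?_) (Set.toFinite _)
  · rintro _ ⟨b, ⟨hb8, hb1⟩, rfl⟩
    refine ⟨by rw [Finset.card_image_of_injective _ π.injective, hb8], ?_⟩
    have h := congrArg φ hb1
    rw [duadProd, map_prod, map_one] at h
    simp only [hφ] at h
    rw [Finset.prod_congr rfl fun i _ => (h3 (π a0) a0 (π i)).symm] at h
    rw [Finset.prod_mul_distrib, Finset.prod_const, hb8, show (8 : ℕ) = 2 * 4 from rfl, pow_mul, sq, hsq, one_pow,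
      one_mul] at h
    rw [duadProd, Finset.prod_image π.injective.injOn]
    exact h
  · rw [Set.ncard_image_of_injective _ (Finset.image_injective π.injective)]

end Duads

namespace Ctx

variable {G : Type u} [Group G] [Finite G] {z : G} {P E : Subgroup G}
variable {c : Ctx z P E} {A : Subgroup MTwoTwo}

theorem Orb.card_norm (o : c.Orb A) :
    Nat.card ↥(normalizer (c.vGrp A o.hA.1.1 : Set G)) = 1771 * (2 ^ 21 * 135) := by
  rw [c.card_norm_V o.hA o.hinv, o.cardO]

/-- The small orbit generates. -/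
theorem Orb.closure_T (o : c.Orb A) : closure (c.Tset (c.vGrp A o.hA.1.1)) = c.vGrp A o.hA.1.1 := by
  classical
  haveI : Fact (Nat.Prime 23) := ⟨by norm_num⟩
  set V := c.vGrp A o.hA.1.1 with hV
  obtain ⟨g, hg⟩ := exists_prime_orderOf_dvd_card' (G := ↥(normalizer (V : Set G))) 23 (by
    rw [o.card_norm]; exact Dvd.dvd.mul_right (by norm_num) _)
  have hgo : orderOf (g : G) = 23 := by rw [Subgroup.orderOf_coe]; exact hg
  have hle : closure (c.Tset V) ≤ V := (closure_le _).mpr fun v hv => hv.1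
  have hinv : (g : G) ∈ normalizer ((closure (c.Tset V) : Subgroup G) : Set G) := mem_norm_of fun x hx => by
    have h : closure (c.Tset V) ≤ (closure (c.Tset V)).comap (MulAut.conj (g : G)).toMonoidHom :=
      (closure_le _).mpr fun v hv => subset_closure (c.norm_T g.2 hv)
    exact h hx
  rcases c.irreducible o.hA (Or.inl rfl) hgo g.2 hle hinv with h | h
  · exfalso
    obtain ⟨t, ht⟩ := Set.nonempty_of_ncard_ne_zero (s := c.Tset V) (by rw [o.cardT]; norm_num)
    exact ht.2.1 (mem_bot.mp (h ▸ subset_closure ht))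
  · exact h

/-- Conjugation maps the elements with a given end to the elements with a given end. -/
theorem Orb.end_move (o : c.Orb A) {n : G} (hn : n ∈ normalizer (c.vGrp A o.hA.1.1 : Set G)) {σ : Set G}
    (hσ : o.Star σ) : ∃ ρ, o.Star ρ ∧ ∀ t ∈ c.Tset (c.vGrp A o.hA.1.1), o.End t σ → o.End (n * t * n⁻¹) ρ := by
  classical
  set V := c.vGrp A o.hA.1.1 with hV
  have h23 := o.card_end hσ
  obtain ⟨t, ⟨ht, -, htσ⟩⟩ := Set.nonempty_of_ncard_ne_zero (s := {v | v ∈ c.Tset V ∧ True ∧ o.End v σ}) (by rw [hV, o.card_end hσ]; omega)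
  obtain ⟨s, ⟨hs, -, hsσ⟩, hst⟩ :=
    Set.exists_ne_of_one_lt_ncard (s := {v | v ∈ c.Tset V ∧ True ∧ o.End v σ}) (by rw [hV, o.card_end hσ]; omega) t
  have hT : ∀ {v}, v ∈ c.Tset V → n * v * n⁻¹ ∈ c.Tset V := fun hv => c.norm_T hn hv
  have hadj : ∀ {a b}, a ∈ c.Tset V → b ∈ c.Tset V → b ≠ a → o.End a σ → o.End b σ →
      ∃ r, o.End (n * a * n⁻¹) r ∧ o.End (n * b * n⁻¹) r := by
    intro a b ha hb hne h1 h2
    obtain ⟨-, hab⟩ := (o.share_all ha hb).mpr ⟨hne, σ, h1, h2⟩
    exact ((o.share_all (hT ha) (hT hb)).mp ⟨hT hb, by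
      rw [show n * a * n⁻¹ * (n * b * n⁻¹) = n * (a * b) * n⁻¹ by group]; exact hT hab⟩).2
  obtain ⟨ρ, h1, h2⟩ := hadj ht hs hst htσ hsσ
  obtain ⟨α, hα, hαρ⟩ := o.other_end (hT ht) ρ
  obtain ⟨β, hβ, hβρ⟩ := o.other_end (hT hs) ρ
  have hne : n * t * n⁻¹ ≠ n * s * n⁻¹ := fun e => hst (mul_left_cancel (mul_right_cancel e)).symm
  have hαβ : α ≠ β := fun e => hne (o.join_eq (hT ht) (hT hs) h1 hα h2 (e ▸ hβ) hαρ.symm)
  refine ⟨ρ, h1.1, fun v hv hvσ => ?_⟩
  by_cases hvt : v = t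
  · exact hvt ▸ h1
  by_cases hvs : v = s
  · exact hvs ▸ h2
  obtain ⟨a, ha1, ha2⟩ := hadj ht hv hvt htσ hvσ
  obtain ⟨b, hb1, hb2⟩ := hadj hs hv hvs hsσ hvσ
  rcases (o.ends_eq (hT ht) h1 hα hαρ.symm a).mp ha1 with rfl | rfl
  · exact ha2
  rcases (o.ends_eq (hT hs) h2 hβ hβρ.symm b).mp hb1 with rfl | rfl
  · exact hb2
  exfalso
  obtain ⟨hP, hPa, hPb⟩ := o.mul_ends (hT ht) (hT hs) h1 hα h2 hβ hαρ hβρ hαβ
  have e := o.join_eq (hT hv) hP ha2 hb2 hPa hPb hαβ
  rw [show n * t * n⁻¹ * (n * s * n⁻¹) = n * (t * s) * n⁻¹ by group] at e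
  have ev : v = t * s := mul_left_cancel (mul_right_cancel e)
  obtain ⟨γ, hγ, hγσ⟩ := o.other_end ht σ
  obtain ⟨ε, hε, hεσ⟩ := o.other_end hs σ
  have hγε : γ ≠ ε := fun h => hst (o.join_eq hs ht hsσ hε htσ (h ▸ hγ) hεσ.symm)
  obtain ⟨hQ, hQa, hQb⟩ := o.mul_ends ht hs htσ hγ hsσ hε hγσ hεσ hγε
  rcases (o.ends_eq hQ hQa hQb hγε σ).mp (ev ▸ hvσ) with h | h
  exacts [hγσ h.symm, hεσ h.symm]

theorem Orb.end_move_unique (o : c.Orb A) {n : G} (hn : n ∈ normalizer (c.vGrp A o.hA.1.1 : Set G)) {σ ρ ρ' : Set G}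
    (hσ : o.Star σ) (h : ∀ t ∈ c.Tset (c.vGrp A o.hA.1.1), o.End t σ → o.End (n * t * n⁻¹) ρ)
    (h' : ∀ t ∈ c.Tset (c.vGrp A o.hA.1.1), o.End t σ → o.End (n * t * n⁻¹) ρ') : ρ = ρ' := by
  classical
  by_contra hne
  set V := c.vGrp A o.hA.1.1 with hV
  have h23 := o.card_end hσ
  obtain ⟨t, ⟨ht, -, htσ⟩⟩ := Set.nonempty_of_ncard_ne_zero (s := {v | v ∈ c.Tset V ∧ True ∧ o.End v σ}) (by rw [hV, o.card_end hσ]; omega)
  obtain ⟨s, ⟨hs, -, hsσ⟩, hst⟩ :=
    Set.exists_ne_of_one_lt_ncard (s := {v | v ∈ c.Tset V ∧ True ∧ o.End v σ}) (by rw [hV, o.card_end hσ]; omega) t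
  exact hst (mul_left_cancel (mul_right_cancel (o.join_eq (c.norm_T hn hs) (c.norm_T hn ht) (h s hs hsσ)
    (h' s hs hsσ) (h t ht htσ) (h' t ht htσ) hne)))

/-- The Mathieu group as the quotient of the normalizer, with the point stabilisers. -/
theorem Orb.exists_duads (o : c.Orb A) :
    ∃ (θ : ↥(normalizer (c.vGrp A o.hA.1.1 : Set G)) →* ↥M24) (D : GolayPt → GolayPt → G), Function.Surjective θ ∧
      θ.ker = (c.vGrp A o.hA.1.1).subgroupOf (normalizer (c.vGrp A o.hA.1.1 : Set G)) ∧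
      (∀ p, D p p = 1) ∧ (∀ p q, p ≠ q → D p q ∈ c.Tset (c.vGrp A o.hA.1.1)) ∧
      (∀ p q r, D p q * D q r = D p r) ∧
      (∀ (n : ↥(normalizer (c.vGrp A o.hA.1.1 : Set G))) (p q : GolayPt),
        (n : G) * D p q * (n : G)⁻¹ = D ((θ n).1 p) ((θ n).1 q)) ∧
      (∀ p q r s, p ≠ q → D p q = D r s → r = p ∧ s = q ∨ r = q ∧ s = p) ∧
      ∀ t ∈ c.Tset (c.vGrp A o.hA.1.1), ∃ p q, p ≠ q ∧ D p q = t := by
  classical
  set V := c.vGrp A o.hA.1.1 with hV
  set N := normalizer (V : Set G) with hN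
  let α := {σ : Set G // o.Star σ}
  haveI : Fintype α := Fintype.ofFinite α
  have hα : Fintype.card α = 24 := by
    rw [← Nat.card_eq_fintype_card]; exact (Nat.card_coe_set_eq o.stars).trans o.card_stars
  letI : CommGroup V := { (inferInstance : Group V) with
    mul_comm := fun a b => Subtype.ext (c.vGrp_comm o.hA.1 a.2 b.2) }
  haveI : Fintype V := Fintype.ofFinite V
  have hΓ : Fintype.card V = 2048 := by
    rw [← Nat.card_eq_fintype_card, (c.vGrp_facts o.hA.1).2]; norm_num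
  have hsq : ∀ x : V, x * x = 1 := fun x => Subtype.ext (c.vGrp_sq o.hA.1 x.2)
  -- the duads
  have hj : ∀ i j : α, ∃ v : V, (i = j → v = 1) ∧
      (i ≠ j → (v : G) ∈ c.Tset V ∧ o.End v i.1 ∧ o.End v j.1) := fun i j => by
    by_cases e : i = j
    · exact ⟨1, fun _ => rfl, fun h => absurd e h⟩
    · obtain ⟨t, ht, h1, h2⟩ := o.exists_join i.2 j.2 fun h => e (Subtype.ext h)
      exact ⟨⟨t, ht.1⟩, fun h => absurd h e, fun _ => ⟨ht, h1, h2⟩⟩
  choose d hd0 hd using hj
  have huniq : ∀ {i j : α} {v : V}, i ≠ j → (v : G) ∈ c.Tset V → o.End v i.1 → o.End v j.1 → v = d i j :=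
    fun {i j v} hne hv h1 h2 =>
      Subtype.ext (o.join_eq hv (hd i j hne).1 h1 h2 (hd i j hne).2.1 (hd i j hne).2.2 fun h => hne (Subtype.ext h))
  have hval : ∀ {i j : α}, i ≠ j → i.1 ≠ j.1 := fun h e => h (Subtype.ext e)
  have hsymm : ∀ i j, d i j = d j i := fun i j => by
    by_cases e : i = j
    · rw [e]
    · exact huniq (Ne.symm e) (hd i j e).1 (hd i j e).2.2 (hd i j e).2.1
  have h3 : ∀ i j k, d i j * d j k = d i k := fun i j k => by
    by_cases eij : i = j
    · subst eij; rw [hd0 i i rfl, one_mul]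
    by_cases ejk : j = k
    · subst ejk; rw [hd0 j j rfl, mul_one]
    by_cases eik : i = k
    · subst eik; rw [hd0 i i rfl, hsymm j i, hsq]
    obtain ⟨hT, ha, hb⟩ := o.mul_ends (hd i j eij).1 (hd j k ejk).1 (hd i j eij).2.2 (hd i j eij).2.1
      (hd j k ejk).2.1 (hd j k ejk).2.2 (hval eij) (hval (Ne.symm ejk)) (hval eik)
    exact huniq eik hT ha hb
  have h2 : ∀ i j, i ≠ j → d i j ≠ 1 := fun i j h e => (hd i j h).1.2.1 (congrArg Subtype.val e)
  have hends : ∀ {i j k : α}, i ≠ j → o.End (d i j : G) k.1 → k = i ∨ k = j := fun {i j k} h hk =>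
    ((o.ends_eq (hd i j h).1 (hd i j h).2.1 (hd i j h).2.2 (hval h) k.1).mp hk).imp Subtype.ext Subtype.ext
  have h4 : ∀ a b c' e, [a, b, c', e].Nodup → d a b ≠ d c' e := by
    intro a b c' e hnd heq
    simp at hnd
    have hce : c' ≠ e := hnd.2.2
    rcases hends hnd.1.1 (heq ▸ (hd c' e hce).2.1) with h | h
    exacts [hnd.1.2.1 h.symm, hnd.2.1.1 h.symm]
  have h6 : ∀ a b c' e g h, [a, b, c', e, g, h].Nodup → d a b * d c' e ≠ d g h := by
    intro a b c' e g h hnd heq
    simp at hnd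
    obtain ⟨⟨hab, hac, hae, -⟩, ⟨hbc, hbe, -⟩, ⟨hce, -⟩, -, hgh⟩ := hnd
    have hnb : (d c' e : G) ∈ c.Nb V (d a b : G) := ⟨(hd c' e hce).1, by
      rw [← Subgroup.coe_mul, heq]; exact (hd g h hgh).1⟩
    obtain ⟨-, r, hr1, hr2⟩ := (o.share_all (hd a b hab).1 (hd c' e hce).1).mp hnb
    rcases hends (k := ⟨r, hr1.1⟩) hab hr1 with x | x <;> rcases hends (k := ⟨r, hr1.1⟩) hce hr2 with y | y
    exacts [hac (x.symm.trans y), hae (x.symm.trans y), hbc (x.symm.trans y), hbe (x.symm.trans y)]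
  obtain ⟨a0⟩ : Nonempty α := Fintype.card_pos_iff.mp (by omega)
  have hB := duad_steiner hα hΓ hsq h3 h2 h4 h6 a0
  obtain ⟨e, he⟩ := CfsgCode.sys_std hα hB
  -- the action on the stars
  choose f hfS hf using fun (n : N) (σ : α) => o.end_move n.2 σ.2
  let F : N → α → α := fun n σ => ⟨f n σ, hfS n σ⟩
  have hFu : ∀ (n : N) (σ ρ : α), (∀ t ∈ c.Tset V, o.End t σ.1 → o.End ((n : G) * t * (n : G)⁻¹) ρ.1) →
      F n σ = ρ := fun n σ ρ h => Subtype.ext (o.end_move_unique n.2 σ.2 (hf n σ) h)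
  have hF1 : ∀ σ, F 1 σ = σ := fun σ => hFu 1 σ σ fun t _ h => by simpa using h
  have hFm : ∀ m n σ, F (m * n) σ = F m (F n σ) := fun m n σ => hFu _ _ _ fun t ht h => by
    have := hf m (F n σ) _ (c.norm_T n.2 ht) (hf n σ t ht h)
    rwa [show ((m * n : N) : G) * t * ((m * n : N) : G)⁻¹ = (m : G) * ((n : G) * t * (n : G)⁻¹) * (m : G)⁻¹ by
      rw [Subgroup.coe_mul]; group]
  let φ : N →* Equiv.Perm α :=
    { toFun := fun n => ⟨F n, F n⁻¹, fun σ => by rw [← hFm, inv_mul_cancel, hF1],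
        fun σ => by rw [← hFm, mul_inv_cancel, hF1]⟩
      map_one' := Equiv.ext hF1
      map_mul' := fun m n => Equiv.ext (hFm m n) }
  have hmove : ∀ (n : N) (i j : α), (⟨(n : G) * (d i j : G) * (n : G)⁻¹,
      (mem_normalizer_iff.mp n.2 _).mp (d i j).2⟩ : V) = d (F n i) (F n j) := fun n i j => by
    by_cases h : i = j
    · subst h; rw [hd0 (F n i) (F n i) rfl]; exact Subtype.ext (by simp [hd0 i i rfl])
    · refine huniq (fun e' => h ((φ n).injective e')) (c.norm_T n.2 (hd i j h).1) ?_ ?_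
      · exact hf n i _ (hd i j h).1 (hd i j h).2.1
      · exact hf n j _ (hd i j h).1 (hd i j h).2.2
  have hmemB : ∀ n, φ n ∈ setSystemAut (duadOct d a0) := fun n =>
    duad_aut hsq h3 a0 (φ n)
      { toFun := fun x => ⟨(n : G) * x * (n : G)⁻¹, (mem_normalizer_iff.mp n.2 _).mp x.2⟩
        map_one' := Subtype.ext (by simp)
        map_mul' := fun x y => Subtype.ext (by simp [mul_assoc]) }
      (hmove n)
  let ι := (CfsgCode.autEquiv e he).trans (MulEquiv.subgroupCongr CfsgGolay.M24_eq_octadAut.symm)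
  let θ : N →* M24 := ι.toMonoidHom.comp (φ.codRestrict _ hmemB)
  have hθ : ∀ (n : N) (σ : α), (θ n).1 (e σ) = e (F n σ) := fun n σ => by
    show e.permCongr (φ n) (e σ) = _
    simp [φ]
  have hker : θ.ker = V.subgroupOf N := by
    ext n
    have h1 : θ n = 1 ↔ ∀ σ, F n σ = σ := by
      constructor
      · intro h σ
        have := hθ n σ
        rw [h] at this
        exact e.injective this.symm
      · intro h
        refine Subtype.ext (Equiv.ext fun x => ?_)
        obtain ⟨σ, rfl⟩ := e.surjective x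
        rw [hθ, h]; rfl
    rw [MonoidHom.mem_ker, h1, mem_subgroupOf]
    constructor
    · intro h
      refine c.cent_vGrp o.hA fun v hv => ?_
      have hle : closure (c.Tset V) ≤ centralizer ({(n : G)} : Set G) := (closure_le _).mpr fun t ht => by
        obtain ⟨a, b, hab, hall, -⟩ := o.two_ends ht
        have ha := (hall a).mpr (Or.inl rfl)
        have hb := (hall b).mpr (Or.inr rfl)
        have he' : (⟨t, ht.1⟩ : V) = d ⟨a, ha.1⟩ ⟨b, hb.1⟩ :=
          huniq (fun e' => hab (congrArg Subtype.val e')) ht ha hb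
        have hm := congrArg Subtype.val (hmove n ⟨a, ha.1⟩ ⟨b, hb.1⟩)
        rw [h, h, ← he'] at hm
        exact mem_centralizer_singleton_iff.mpr (mul_inv_eq_iff_eq_mul.mp hm).symm
      exact (mem_centralizer_singleton_iff.mp (hle (o.closure_T.symm ▸ hv : v ∈ closure (c.Tset V)))).symm
    · intro h σ
      refine hFu n σ σ fun t ht hσ => ?_
      rwa [c.vGrp_comm o.hA.1 h ht.1, mul_inv_cancel_right]
  refine ⟨θ, fun p q => (d (e.symm p) (e.symm q) : G), ?_, hker, fun p => by dsimp only; rw [hd0 _ _ rfl]; rfl,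
    fun p q h => (hd _ _ fun e' => h (e.symm.injective e')).1,
    fun p q r => by dsimp only; rw [← Subgroup.coe_mul, h3], fun n p q => ?_, fun p q r s hpq h => ?_, fun t ht => ?_⟩
  · rw [← MonoidHom.range_eq_top]
    refine eq_top_of_card_eq _ ?_
    have h1 := card_mul_index θ.ker
    rw [Subgroup.index_ker, hker, Nat.card_congr (subgroupOfEquivOfLe (le_normalizer)).toEquiv,
      (c.vGrp_facts o.hA.1).2, o.card_norm] at h1
    rw [CfsgGolay.card_M24]
    omega
  · have h1 := congrArg Subtype.val (hmove n (e.symm p) (e.symm q))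
    have e1 : ∀ x, e.symm ((θ n).1 x) = F n (e.symm x) := fun x => by
      rw [Equiv.symm_apply_eq, ← hθ, Equiv.apply_symm_apply]
    dsimp only
    rw [e1, e1]
    exact h1
  · have hne : e.symm p ≠ e.symm q := fun e' => hpq (e.symm.injective e')
    have h' : d (e.symm r) (e.symm s) = d (e.symm p) (e.symm q) := Subtype.ext h.symm
    have hrs : e.symm r ≠ e.symm s := fun e' => h2 _ _ hne (h'.symm.trans (hd0 _ _ e'))
    have ha := hends hne (k := e.symm r) (h' ▸ (hd _ _ hrs).2.1)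
    have hb := hends hne (k := e.symm s) (h' ▸ (hd _ _ hrs).2.2)
    rcases ha with a | a <;> rcases hb with b | b
    · exact absurd (a.trans b.symm) hrs
    · exact Or.inl ⟨e.symm.injective a, e.symm.injective b⟩
    · exact Or.inr ⟨e.symm.injective a, e.symm.injective b⟩
    · exact absurd (a.trans b.symm) hrs
  · obtain ⟨a, b, hab, hall, -⟩ := o.two_ends ht
    have ha := (hall a).mpr (Or.inl rfl)
    have hb := (hall b).mpr (Or.inr rfl)
    have hne : (⟨a, ha.1⟩ : α) ≠ ⟨b, hb.1⟩ := fun e' => hab (congrArg Subtype.val e')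
    refine ⟨e ⟨a, ha.1⟩, e ⟨b, hb.1⟩, fun h => hne (e.injective h), ?_⟩
    dsimp only
    rw [Equiv.symm_apply_apply, Equiv.symm_apply_apply]
    exact (congrArg Subtype.val (huniq hne (v := ⟨t, ht.1⟩) ht ha hb)).symm

/-- The Mathieu group as the quotient of the normalizer, with the point stabilisers. -/
theorem Orb.exists_M24 (o : c.Orb A) :
    ∃ θ : ↥(normalizer (c.vGrp A o.hA.1.1 : Set G)) →* ↥M24, Function.Surjective θ ∧
      θ.ker = (c.vGrp A o.hA.1.1).subgroupOf (normalizer (c.vGrp A o.hA.1.1 : Set G)) ∧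
      ∀ t ∈ c.Tset (c.vGrp A o.hA.1.1), ∃ p q : GolayPt, p ≠ q ∧
        ∀ n : ↥(normalizer (c.vGrp A o.hA.1.1 : Set G)),
          (n : G) * t * (n : G)⁻¹ = t ↔ ({p, q} : Finset GolayPt).image (θ n).1 = {p, q} := by
  classical
  obtain ⟨θ, D, hθ, hker, -, -, h3, hconj, hinj, hsurj⟩ := o.exists_duads
  refine ⟨θ, hθ, hker, fun t ht => ?_⟩
  obtain ⟨p, q, hpq, rfl⟩ := hsurj t ht
  refine ⟨p, q, hpq, fun n => ?_⟩
  rw [hconj, Finset.image_insert, Finset.image_singleton]
  constructor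
  · intro h
    rcases hinj p q _ _ hpq h.symm with ⟨a, b⟩ | ⟨a, b⟩
    · rw [a, b]
    · rw [a, b, Finset.pair_comm]
  · intro h
    have ha : (θ n).1 p = p ∨ (θ n).1 p = q := by
      simpa using (h ▸ Finset.mem_insert_self _ _ : (θ n).1 p ∈ ({p, q} : Finset GolayPt))
    have hb : (θ n).1 q = p ∨ (θ n).1 q = q := by
      simpa using (h ▸ Finset.mem_insert_of_mem (Finset.mem_singleton_self _) : (θ n).1 q ∈ ({p, q} : Finset GolayPt))
    rcases ha with a | a <;> rcases hb with b | b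
    · exact absurd ((θ n).1.injective (a.trans b.symm)) hpq
    · rw [a, b]
    · rw [a, b]
      obtain ⟨hTm, hmul⟩ : D p q ∈ c.Tset (c.vGrp A o.hA.1.1) ∧ D p q * D q p = 1 := by
        refine ⟨ht, ?_⟩
        have := h3 p q p
        rwa [show D p p = 1 from mul_eq_left.mp (h3 p p p)] at this
      rw [← inv_eq_of_mul_eq_one_right hmul, inv_eq_of_mul_eq_one_right (o.T_sq hTm)]
    · exact absurd ((θ n).1.injective (a.trans b.symm)) hpq

end Ctx

end CfsgLib.JankoFour
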