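/-
The normalizer of the group of order 2^11 splits over it.
-/
import Cfsg.Agent.Lib.JankoFour.OrbLift
import Cfsg.Agent.Lib.JankoFour.OrbM24
import Cfsg.Agent.Lib.TransferExtremal
import Cfsg.Agent.S0051

set_option autoImplicit false

namespace CfsgLib.JankoFour

open Cfsg Subgroup

universe u

variable {G : Type u} [Group G] [Finite G] {z : G} {P E : Subgroup G}

namespace Ctx

variable {c : Ctx z P E} {A : Subgroup MTwoTwo}

/-- What is needed of an element to split off: it fixes the two hexad groups and P. -/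
theorem stable_grps (c : Ctx z P E) {B : Subgroup MTwoTwo} (hB : HexLike B) {g : G}
    (hg : g ∈ centralizer ({z} : Set G)) (hx : ∀ x ∈ c.twoGrp B hB.1, g * x * g⁻¹ ∈ c.twoGrp B hB.1) :
    (∀ e ∈ c.fixB B, g * e * g⁻¹ ∈ c.fixB B) ∧ g ∈ normalizer (c.vGrp B hB.1 : Set G) := by
  have hn : g ∈ normalizer (c.twoGrp B hB.1 : Set G) := mem_norm_of hx
  have hW : ∀ e ∈ c.fixB B, g * e * g⁻¹ ∈ c.fixB B := fun e he =>
    c.fixed_conj hg (fun x hxm => show g⁻¹ * x * g ∈ c.two B from (mem_normalizer_iff''.mp hn x).mp hxm) he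
  refine ⟨hW, mem_norm_of fun v hv => ?_⟩
  obtain ⟨w, hw, y, hy, rfl⟩ := c.mem_vGrp hB hv
  rw [show g * (w * y) * g⁻¹ = g * w * g⁻¹ * (g * y * g⁻¹) by group]
  exact mul_mem (mem_sup_left (hW w hw)) (mem_sup_right (hx y hy))

theorem sup_two {H K : Subgroup G} (hH : IsPGroup 2 H) (hK : IsPGroup 2 K) (h : ∀ k ∈ K, ∀ x ∈ H, k * x * k⁻¹ ∈ H) :
    IsPGroup 2 (H ⊔ K : Subgroup G) :=
  haveI : Fact (Nat.Prime 2) := ⟨Nat.prime_two⟩
  (sup_comm K H ▸ IsPGroup.to_sup_of_normal_right' hK hH fun k hk => mem_norm_of (h k hk) :)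

theorem mem_sup_of_norm {H K : Subgroup G} (h : ∀ k ∈ K, ∀ x ∈ H, k * x * k⁻¹ ∈ H) {v : G} (hv : v ∈ H ⊔ K) :
    ∃ x ∈ H, ∃ k ∈ K, v = x * k := by
  rw [← SetLike.mem_coe, Subgroup.coe_mul_of_right_le_normalizer_left H K fun k hk => mem_norm_of (h k hk)] at hv
  obtain ⟨x, hx, k, hk, rfl⟩ := hv
  exact ⟨x, hx, k, hk, rfl⟩

theorem two_mul_card_le {H K : Subgroup G} (hlt : H < K) : 2 * Nat.card H ≤ Nat.card K := by
  obtain ⟨k, hk⟩ := card_dvd_of_le hlt.le
  rcases k with _ | _ | k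
  · rw [mul_zero] at hk; exact absurd hk Nat.card_pos.ne'
  · exact absurd (eq_of_le_of_card_ge hlt.le (by rw [hk, zero_add, mul_one])) hlt.ne
  · rw [hk]; nlinarith [Nat.zero_le (Nat.card H * k)]

theorem vGrp_H0 (c : Ctx z P E) {B : Subgroup MTwoTwo} (hB : HexLike B) {v : G} (hv : v ∈ c.vGrp B hB.1) :
    v ∈ c.H0 :=
  (sup_le ((c.fixB_le B).trans (c.EN.trans c.NH0)) (fun _ hq => c.cen_le_H0 hq.1) : c.vGrp B hB.1 ≤ c.H0) hv

theorem vGrp_cent (c : Ctx z P E) {B : Subgroup MTwoTwo} (hB : HexData B) {v : G} (hv : v ∈ c.vGrp B hB.1.1) :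
    v ∈ centralizer ({z} : Set G) :=
  c.H0le (c.vGrp_H0 hB.1 hv)

theorem mem_zpowers_two {X : Type*} [Group X] {s x : X} (hs : s * s = 1) (hx : x ∈ zpowers s) : x = 1 ∨ x = s := by
  obtain ⟨k, rfl⟩ := hx
  obtain ⟨m, rfl⟩ | ⟨m, rfl⟩ := Int.even_or_odd k
  · left
    show s ^ (m + m) = 1
    rw [← two_mul, zpow_mul, zpow_two, hs, one_zpow]
  · right
    show s ^ (2 * m + 1) = s
    rw [zpow_add_one, zpow_mul, zpow_two, hs, one_zpow, one_mul]

/-- An outer element with square z: no element times a conjugate by it is z. -/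
theorem Orb.no_z_comm (o : c.Orb A) {p f v : G} (hp : p ∈ P) (hgen : P = zpowers p) (hf : f ∈ centralizer ({z} : Set G))
    (hfP : f * p * f⁻¹ = p⁻¹) (hW : ∀ e ∈ c.fixB A, f * e * f⁻¹ ∈ c.fixB A)
    (hQ : ∀ y ∈ c.twoGrp A o.hA.1.1, f * y * f⁻¹ ∈ c.twoGrp A o.hA.1.1) (hv : v ∈ c.vGrp A o.hA.1.1) :
    f * v * f⁻¹ * v ≠ z := by
  intro h
  obtain ⟨e, he, y, hy, rfl⟩ := c.mem_vGrp o.hA.1 hv
  have he' := hW e he
  have hy' := hQ y hy
  have hcm : f * y * f⁻¹ * e = e * (f * y * f⁻¹) :=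
    c.vGrp_comm o.hA.1 (mem_sup_right hy') (mem_sup_left he)
  have h1 : (f * e * f⁻¹ * e) * (f * y * f⁻¹ * y) = z := by
    rw [← h]
    calc f * e * f⁻¹ * e * (f * y * f⁻¹ * y) = f * e * f⁻¹ * (e * (f * y * f⁻¹)) * y := by group
      _ = f * (e * y) * f⁻¹ * (e * y) := by rw [← hcm]; group
  have hd : f * y * f⁻¹ * y ∈ zpowers z := by
    refine c.E_inf_cen ?_ (mul_mem hy'.1 hy.1)
    rw [eq_inv_mul_of_mul_eq h1]
    exact mul_mem (inv_mem (c.fixB_le A (mul_mem he' he))) c.zE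
  rcases c.mem_Z.mp hd with hd | hd
  · rw [hd, mul_one] at h1
    have h2 := congrArg (c.pProd p) h1
    rw [c.pProd_mul o.hA.1 hp he' he, c.pProd_conj o.hA.1 hp (Or.inr hfP) he', c.pProd_Z hp (mem_zpowers z)] at h2
    have hmZ : c.pProd p e ∈ zpowers z := c.orbit_mem_Z hp hgen (c.fixB_le A he)
    rw [c.Z_comm hf hmZ, mul_inv_cancel_right, c.Z_sq hmZ] at h2
    exact c.z_ne_one h2.symm
  · by_cases hyZ : y ∈ zpowers z
    · rw [c.Z_comm hf hyZ, mul_inv_cancel_right, c.Z_sq hyZ] at hd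
      exact c.z_ne_one hd.symm
    · have hyy : y * y = 1 := c.vGrp_sq o.hA.1 (mem_sup_right hy)
      have e1 : f * y * f⁻¹ = z * y := by rw [← hd, mul_assoc (f * y * f⁻¹) y y, hyy, mul_one]
      have := o.twin y hy hyZ
      rw [← e1, c.isZ_iff] at this
      exact iff_not_self this

/-- A 2-subgroup of order 2^10 in the normalizer meeting V trivially. -/
theorem Orb.exists_compl_two (o : c.Orb A) (hex : ∃ h ∈ centralizer ({z} : Set G), h ∉ c.H0)
    (hfaith : ∀ h ∈ centralizer ({z} : Set G), (∀ x ∈ c.cen, h * x * h⁻¹ * x⁻¹ ∈ c.N) → h ∈ c.N) :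
    ∃ S : Subgroup G, S ≤ normalizer (c.vGrp A o.hA.1.1 : Set G) ∧ S ⊓ c.vGrp A o.hA.1.1 = ⊥ ∧ IsPGroup 2 S ∧
      2 ^ 10 ≤ Nat.card S := by
  classical
  haveI : Fact (Nat.Prime 2) := ⟨Nat.prime_two⟩
  obtain ⟨A', ma, mb, θ, hA', htop, hinf, hma, hmb, maa, mbb, hm4, hm2, hθ, hθ2, hθa, hθb, hθA, hθA'⟩ :=
    CfsgLib.JankoFour.exists_pair o.hA fun B hB => c.hex_conj hB o.hA.1
  obtain ⟨p, hp, -, hgen⟩ := c.exists_gen
  set V := c.vGrp A o.hA.1.1 with hV
  obtain ⟨f, hf, hf0, hfP, hfθ⟩ := c.outer_lift hex hfaith hθ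
  have hma1 : ma ≠ 1 := fun e => hm2 (by rw [e, one_mul, mbb])
  have hmb1 : mb ≠ 1 := fun e => hm2 (by rw [e, mul_one, maa])
  obtain ⟨ta, hta, taa, taz, tav⟩ := o.exists_zlift maa hma1
  obtain ⟨tb, htb, tbb, tbz, tbv⟩ := o.exists_zlift mbb hmb1
  set u := ta * tb with hu
  have huc : u ∈ c.cen := mul_mem hta htb
  have huv : c.val u = ma * mb := by rw [hu, c.val_mul (c.cen_le_H0 hta) (c.cen_le_H0 htb), tav, tbv]
  have hmo : orderOf (ma * mb) = 4 :=
    orderOf_eq_prime_pow (p := 2) (n := 1) (by rw [pow_one, sq]; exact hm2) hm4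
  have hau : ta * u * ta⁻¹ = u⁻¹ := by
    rw [hu, inv_eq_of_mul_eq_one_right taa, mul_inv_rev, inv_eq_of_mul_eq_one_right taa,
      inv_eq_of_mul_eq_one_right tbb, ← mul_assoc ta ta, taa, one_mul]
  have hu4 : u ^ 4 = 1 := by
    have hv1 : c.val (u ^ 4) = 1 := by rw [c.val_pow (c.cen_le_H0 huc), huv, hm4]
    obtain ⟨-, hcom, t, ht, q, hq, e⟩ := c.cen_ker (pow_mem huc 4) hv1
    have h2 : u ^ 4 * u ^ 4 = 1 := by
      have h' : ta * u ^ 4 * ta⁻¹ = (u ^ 4)⁻¹ := by rw [← conj_pow, hau, inv_pow]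
      rw [hcom ta hta, mul_inv_cancel_right] at h'
      nth_rewrite 1 [h']
      exact inv_mul_cancel _
    have hq1 : q = 1 := by
      have hc : t * q = q * t := (c.Z_comm (c.P_le hq) ht).symm
      rw [e, show t * q * (t * q) = t * (q * t) * q by group, ← hc, show t * (t * q) * q = t * t * (q * q) by group,
        c.Z_sq ht, one_mul] at h2
      have h3 := c.P_cube hq
      rwa [h2, one_mul] at h3
    have hz2 : u ^ 2 * u ^ 2 ∈ zpowers z := by rw [← pow_add, e, hq1, mul_one]; exact ht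
    rw [show u ^ 4 = u ^ 2 * u ^ 2 from pow_add u 2 2]
    refine c.sq_of_invol (pow_mem huc 2) ?_ hz2
    rw [c.val_pow (c.cen_le_H0 huc), huv, ← pow_add, hm4]
  have huo : orderOf u = 4 := orderOf_eq_prime_pow (p := 2) (n := 1) (fun e => hm2 (by
    rw [pow_one] at e
    rw [← sq, ← huv, ← c.val_pow (c.cen_le_H0 huc), e]; exact (c.val_eq_one (one_mem _)).mpr (one_mem _))) hu4
  have hnorm : ∀ k ∈ zpowers ta, ∀ x ∈ zpowers u, k * x * k⁻¹ ∈ zpowers u := by
    intro k hk x hx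
    obtain ⟨i, rfl⟩ := hx
    obtain ⟨j, rfl⟩ := hk
    have h1 : ta ∈ normalizer (zpowers u : Set G) := mem_norm_of fun y hy => by
      obtain ⟨l, rfl⟩ := hy
      show ta * u ^ l * ta⁻¹ ∈ _
      rw [← conj_zpow, hau, inv_zpow]
      exact inv_mem (zpow_mem (mem_zpowers u) l)
    exact (mem_normalizer_iff.mp (zpow_mem h1 j) _).mp (zpow_mem (mem_zpowers u) i)
  set D := zpowers u ⊔ zpowers ta with hD
  have hDp : IsPGroup 2 D := sup_two (IsPGroup.of_card (n := 2) (by rw [Nat.card_zpowers, huo]; rfl))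
    (IsPGroup.of_card (n := 1) (by
      rw [Nat.card_zpowers, orderOf_eq_prime (p := 2) (by rw [sq]; exact taa) (fun e => hma1 (by
        rw [← tav, e]; exact (c.val_eq_one (one_mem _)).mpr (one_mem _)))]; rfl)) hnorm
  have hDc : D ≤ c.cen := sup_le (zpowers_le.mpr huc) (zpowers_le.mpr hta)
  have hDN : ∀ d ∈ D, c.val d ∈ normalizer (A : Set MTwoTwo) ⊓ normalizer (A' : Set MTwoTwo) := by
    intro d hd
    obtain ⟨x, ⟨i, rfl⟩, k, hk, rfl⟩ := mem_sup_of_norm hnorm hd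
    have hk' : k = 1 ∨ k = ta := mem_zpowers_two taa hk
    have hxc : u ^ i ∈ c.cen := zpow_mem huc i
    have hxv : c.val (u ^ i) = (ma * mb) ^ i := by
      rw [c.val_eq (c.cen_le_H0 hxc), ← huv, c.val_eq (c.cen_le_H0 huc), ← map_zpow]
      rfl
    rcases hk' with rfl | rfl
    · rw [mul_one, hxv]; exact zpow_mem (mul_mem hma hmb) i
    · rw [c.val_mul (c.cen_le_H0 hxc) (c.cen_le_H0 hta), hxv, tav]
      exact mul_mem (zpow_mem (mul_mem hma hmb) i) hma
  have hDinj : ∀ d ∈ D, c.val d = 1 → d = 1 := by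
    intro d hd hdv
    obtain ⟨x, ⟨i, rfl⟩, k, hk, rfl⟩ := mem_sup_of_norm hnorm hd
    have hxc : u ^ i ∈ c.cen := zpow_mem huc i
    have hxv : c.val (u ^ i) = (ma * mb) ^ i := by
      rw [c.val_eq (c.cen_le_H0 hxc), ← huv, c.val_eq (c.cen_le_H0 huc), ← map_zpow]
      rfl
    rcases mem_zpowers_two taa hk with rfl | rfl
    · rw [mul_one] at hdv ⊢
      rw [hxv, ← orderOf_dvd_iff_zpow_eq_one, hmo] at hdv
      rw [← orderOf_dvd_iff_zpow_eq_one, huo]
      exact hdv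
    · exfalso
      rw [c.val_mul (c.cen_le_H0 hxc) (c.cen_le_H0 hta), hxv, tav] at hdv
      have hma' : ma = ((ma * mb) ^ i)⁻¹ := eq_inv_of_mul_eq_one_right hdv
      have hC : Commute (((ma * mb) ^ i)⁻¹) (ma * mb) := ((Commute.refl (ma * mb)).zpow_left i).inv_left
      rw [← hma'] at hC
      have hcomm : ma * (ma * mb) = ma * mb * ma := hC.eq
      refine hm2 ?_
      rw [← mul_assoc, maa, one_mul] at hcomm
      rw [show ma * mb * (ma * mb) = ma * mb * ma * mb by group, ← hcomm, mbb]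
  -- the kernel part
  set R6 := c.pKer hA'.1 hp with hR6
  have hR6E : R6 ≤ E := fun x hx => c.fixB_le A' hx.1
  have hstabD : ∀ {B : Subgroup MTwoTwo} (hB : HexLike B),
      (∀ d ∈ D, c.val d ∈ normalizer (B : Set MTwoTwo)) → ∀ d ∈ D, ∀ x ∈ c.twoGrp B hB.1,
        d * x * d⁻¹ ∈ c.twoGrp B hB.1 := fun hB h d hd x hx => c.two_conj (hDc hd) (h d hd) hx
  have hstabf : ∀ {B : Subgroup MTwoTwo} (hB : HexLike B), (∀ m ∈ B, θ m ∈ B) →
      ∀ x ∈ c.twoGrp B hB.1, f * x * f⁻¹ ∈ c.twoGrp B hB.1 := fun hB h x hx => by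
    obtain ⟨h1, h2⟩ := hfθ x hx.1
    refine ⟨h1, h2 ▸ h _ hx.2.1, ?_⟩
    rw [show f * x * f⁻¹ * (f * x * f⁻¹) = f * (x * x) * f⁻¹ by group, c.Z_comm hf hx.2.2, mul_inv_cancel_right]
    exact hx.2.2
  obtain ⟨hfW', -⟩ := c.stable_grps hA'.1 hf (hstabf hA'.1 hθA')
  obtain ⟨hfW, hfV⟩ := c.stable_grps o.hA.1 hf (hstabf o.hA.1 hθA)
  have hDR : ∀ d ∈ D, ∀ x ∈ R6, d * x * d⁻¹ ∈ R6 := fun d hd x hx => by
    have hW := (c.stable_grps hA'.1 (hDc hd).1 (hstabD hA'.1 (fun d hd => (hDN d hd).2) d hd)).1 x hx.1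
    refine ⟨hW, ?_⟩
    rw [c.pProd_conj hA'.1 hp (Or.inl ?_) hW, hx.2, mul_one, mul_inv_cancel]
    rw [c.cen_comm (hDc hd) hp, mul_inv_cancel_right]
  set R := R6 ⊔ D with hR
  have hRp : IsPGroup 2 R := sup_two ((IsPGroup.of_card (p := 2) c.hE).to_le hR6E) hDp hDR
  have hRN : R ≤ normalizer (V : Set G) := sup_le (fun x hx => c.E_norm_V o.hA (hR6E hx)) fun d hd =>
    (c.stable_grps o.hA.1 (hDc hd).1 (hstabD o.hA.1 (fun d hd => (hDN d hd).1) d hd)).2
  have hRH0 : R ≤ c.H0 := sup_le (fun x hx => c.NH0 (c.EN (hR6E hx))) fun d hd => c.cen_le_H0 (hDc hd)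
  have hRV : R ⊓ V = ⊥ := by
    rw [eq_bot_iff]
    rintro x ⟨hx, hxV⟩
    obtain ⟨r, hr, d, hd, rfl⟩ := mem_sup_of_norm hDR hx
    obtain ⟨w, hw, y, hy, hwy⟩ := c.mem_vGrp o.hA.1 hxV
    have e1 : c.val d = c.val y := by
      have h1 := congrArg c.val hwy
      rw [c.val_mul (c.NH0 (c.EN (hR6E hr))) (c.cen_le_H0 (hDc hd)), c.val_E (hR6E hr), one_mul,
        c.val_mul (c.NH0 (c.EN (c.fixB_le A hw))) (c.cen_le_H0 hy.1), c.val_E (c.fixB_le A hw), one_mul] at h1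
      exact h1
    have hd1 : d = 1 := hDinj d hd (mem_bot.mp (hinf ▸ mem_inf.mpr ⟨e1 ▸ hy.2.1, (hDN d hd).2⟩))
    subst hd1
    rw [mul_one] at hxV ⊢
    have hrW : r ∈ c.fixB A := c.vGrp_inf_E o.hA.1 hxV (hR6E hr)
    have hrZ := c.fixB_inf o.hA.1 hA'.1 htop hrW hr.1
    rw [mem_bot, ← c.pProd_Z hp hrZ]
    exact hr.2
  -- f commutes with D
  have hfcom : ∀ {t : G} {m : MTwoTwo}, t ∈ c.cen → t * t = 1 → c.IsZ t → c.val t = m → m ≠ 1 → θ m = m →
      f * t * f⁻¹ = t := by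
    intro t m ht htt htz htv hm hθm
    obtain ⟨h1, h2⟩ := hfθ t ht
    refine o.lift_unique h1 ht ?_ htt ((c.isZ_iff f t).mpr htz) htz (by rw [h2, htv, hθm]) (htv ▸ hm)
    rw [show f * t * f⁻¹ * (f * t * f⁻¹) = f * (t * t) * f⁻¹ by group, htt, mul_one, mul_inv_cancel]
  have hfta := hfcom hta taa taz tav hma1 hθa
  have hftb := hfcom htb tbb tbz tbv hmb1 hθb
  have hfu : f * u * f⁻¹ = u := by
    rw [hu, show f * (ta * tb) * f⁻¹ = f * ta * f⁻¹ * (f * tb * f⁻¹) by group, hfta, hftb]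
  have hfR : f ∈ normalizer (R : Set G) := mem_norm_of fun x hx => by
    have hle : R ≤ R.comap (MulAut.conj f).toMonoidHom := sup_le (fun r hr => ?_) (sup_le ?_ ?_)
    · exact hle hx
    · refine mem_sup_left ⟨hfW' r hr.1, ?_⟩
      rw [show (MulAut.conj f).toMonoidHom r = f * r * f⁻¹ from rfl,
        c.pProd_conj hA'.1 hp (Or.inr (hfP p hp)) (hfW' r hr.1), hr.2, mul_one, mul_inv_cancel]
    · exact zpowers_le.mpr (show f * u * f⁻¹ ∈ R by rw [hfu]; exact mem_sup_right (mem_sup_left (mem_zpowers u)))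
    · exact zpowers_le.mpr (show f * ta * f⁻¹ ∈ R by rw [hfta]; exact mem_sup_right (mem_sup_right (mem_zpowers ta)))
  -- orders
  have hR512 : 512 ≤ Nat.card R := by
    have hD8 : 8 ≤ Nat.card D := by
      have hlt : zpowers u < D := lt_of_le_of_ne le_sup_left fun e => hm2 (by
        have h1 : ta ∈ zpowers u := e ▸ (mem_sup_right (mem_zpowers ta) : ta ∈ D)
        obtain ⟨i, hi⟩ := h1
        have h2 : ta * u * ta⁻¹ = u := by
          rw [← hi]; exact mul_inv_eq_of_eq_mul ((Commute.refl u).zpow_left i).eq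
        rw [hau] at h2
        have h3 : u * u = 1 := by nth_rewrite 1 [← h2]; exact inv_mul_cancel u
        rw [← huv, ← c.val_mul (c.cen_le_H0 huc) (c.cen_le_H0 huc), h3]
        exact (c.val_eq_one (one_mem _)).mpr (one_mem _))
      have := two_mul_card_le hlt
      rw [Nat.card_zpowers, huo] at this
      omega
    have h64 := c.card_pKer hA'.1 hp hgen
    let F : R6 × D → R := fun x => ⟨(x.1 : G) * x.2, mul_mem (mem_sup_left x.1.2) (mem_sup_right x.2.2)⟩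
    have hF : Function.Injective F := by
      rintro ⟨r, d⟩ ⟨r', d'⟩ e
      have e' : (r : G) * d = (r' : G) * d' := congrArg Subtype.val e
      have h1 : (d' : G) * (d : G)⁻¹ = (r' : G)⁻¹ * r := by
        rw [eq_inv_mul_iff_mul_eq, ← mul_assoc, ← e', mul_inv_cancel_right]
      have h2 : (d' : G) * (d : G)⁻¹ = 1 := hDinj _ (mul_mem d'.2 (inv_mem d.2))
        (c.val_E (h1 ▸ hR6E (mul_mem (inv_mem r'.2) r.2)))
      have h3 : d = d' := Subtype.ext (mul_inv_eq_one.mp h2).symm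
      subst h3
      rw [Prod.mk.injEq]
      exact ⟨Subtype.ext (mul_right_cancel e'), rfl⟩
    have := Nat.card_le_card_of_injective F hF
    rw [Nat.card_prod] at this
    nlinarith [Nat.mul_le_mul h64 hD8]
  -- f has order two
  have hf2Z : f * f ∈ zpowers z := by
    have hc : f * f ∈ c.cen := ⟨mul_mem hf hf, mem_centralizer_iff.mpr fun q hq => by
      have e : f * f * q * (f * f)⁻¹ = q := by
        rw [show f * f * q * (f * f)⁻¹ = f * (f * q * f⁻¹) * f⁻¹ by group, hfP q hq, hfP _ (inv_mem hq), inv_inv]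
      exact (mul_inv_eq_iff_eq_mul.mp e).symm⟩
    have hv : c.val (f * f) = 1 := conj_m22_injective (MulEquiv.ext fun m => by
      obtain ⟨x, hx, rfl⟩ := c.exists_val m
      obtain ⟨h1, h2⟩ := hfθ x hx
      obtain ⟨-, h3⟩ := hfθ _ h1
      rw [map_one, MulAut.one_apply, MulAut.conj_apply, ← c.val_conj (c.cen_le_H0 hc) (c.cen_le_H0 hx),
        show f * f * x * (f * f)⁻¹ = f * (f * x * f⁻¹) * f⁻¹ by group, h3, h2, ← MulAut.mul_apply, hθ2,
        MulAut.one_apply])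
    obtain ⟨-, -, t, ht, q, hq, e⟩ := c.cen_ker hc hv
    have h1 : f * (f * f) * f⁻¹ = f * f := by group
    rw [e, show f * (t * q) * f⁻¹ = f * t * f⁻¹ * (f * q * f⁻¹) by group, c.Z_comm hf ht, mul_inv_cancel_right,
      hfP q hq] at h1
    have hqq : q * q = 1 := by
      nth_rewrite 1 [← mul_left_cancel h1]
      exact inv_mul_cancel q
    have hq1 : q = 1 := by
      have h3 := c.P_cube hq
      rwa [hqq, one_mul] at h3
    rw [e, hq1, mul_one]
    exact ht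
  have hfN : f ∈ normalizer (V : Set G) := hfV
  have hf2 : f * f = 1 := by
    refine (c.mem_Z.mp hf2Z).resolve_right fun hfz => ?_
    set N := normalizer (V : Set G) with hN
    obtain ⟨φ, hφ, hφk, -⟩ := o.exists_M24
    set Qb := (R.subgroupOf N).map φ with hQb
    set fb := φ ⟨f, hfN⟩ with hfb
    have hQ2 : IsPGroup 2 Qb := (hRp.of_equiv (subgroupOfEquivOfLe hRN).symm).map φ
    have hQc : 512 ≤ Nat.card Qb := by
      refine hR512.trans (Nat.card_le_card_of_injective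
        (fun r : R => (⟨φ ⟨r, hRN r.2⟩, ⟨⟨r, hRN r.2⟩, r.2, rfl⟩⟩ : Qb)) fun r r' e => ?_)
      have h1 : φ (⟨r, hRN r.2⟩⁻¹ * ⟨r', hRN r'.2⟩) = 1 := by
        rw [map_mul, map_inv, inv_mul_eq_one]; exact congrArg Subtype.val e
      rw [← MonoidHom.mem_ker, hφk, mem_subgroupOf] at h1
      have h2 : (r : G)⁻¹ * r' ∈ (⊥ : Subgroup G) := hRV ▸ mem_inf.mpr ⟨mul_mem (inv_mem r.2) r'.2, h1⟩
      exact Subtype.ext (inv_mul_eq_one.mp (mem_bot.mp h2))
    have hfb2 : fb * fb = 1 := by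
      rw [hfb, ← map_mul, ← MonoidHom.mem_ker, hφk, mem_subgroupOf]
      show f * f ∈ V
      rw [hfz]; exact (c.z_mem_vGrp o.hA)
    have hfQ : ∀ k ∈ zpowers fb, ∀ x ∈ Qb, k * x * k⁻¹ ∈ Qb := by
      rintro k hk _ ⟨x, hx, rfl⟩
      rcases mem_zpowers_two hfb2 hk with rfl | rfl
      · rw [one_mul, inv_one, mul_one]; exact ⟨x, hx, rfl⟩
      · rw [hfb, ← map_inv, ← map_mul, ← map_mul]
        exact ⟨_, (mem_normalizer_iff.mp hfR _).mp hx, rfl⟩
    set Pb := Qb ⊔ zpowers fb with hPb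
    have hPp : IsPGroup 2 Pb :=
      haveI := Fact.mk Nat.prime_two
      (sup_comm (zpowers fb) Qb ▸ IsPGroup.to_sup_of_normal_right'
        (fun x => ⟨1, Subtype.ext (by
          rcases mem_zpowers_two hfb2 x.2 with h | h <;> rw [pow_one, sq, Subgroup.coe_mul, h]
          · rw [one_mul]; rfl
          · rw [hfb2]; rfl)⟩) hQ2 (fun k hk => mem_norm_of (hfQ k hk)) :)
    have hlt : Qb < Pb := lt_of_le_of_ne le_sup_left fun e => by
      have h1 : fb ∈ Qb := e ▸ (mem_sup_right (mem_zpowers fb) : fb ∈ Pb)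
      obtain ⟨x, hx, hxe⟩ := h1
      have h2 : φ (x⁻¹ * ⟨f, hfN⟩) = 1 := by rw [map_mul, map_inv, hxe, hfb, inv_mul_cancel]
      rw [← MonoidHom.mem_ker, hφk, mem_subgroupOf] at h2
      have h3 : f = (x : G) * ((x : G)⁻¹ * f) := by group
      exact hf0 (h3 ▸ mul_mem (hRH0 hx) (c.vGrp_H0 o.hA.1 h2))
    have hP2 := two_mul_card_le hlt
    have hdvd : Nat.card Pb ∣ 2 ^ 10 := by
      obtain ⟨k, hk⟩ := (IsPGroup.iff_card).mp hPp
      rw [hk]
      refine Nat.pow_dvd_pow 2 ?_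
      have h1 : 2 ^ k ∣ Nat.card M24 := hk ▸ card_subgroup_dvd_card Pb
      rw [CfsgGolay.card_M24] at h1
      by_contra hlt'
      have h2 := dvd_trans (Nat.pow_dvd_pow 2 (show 11 ≤ k by omega)) h1
      norm_num at h2
    have hPc : Nat.card Pb = 2 ^ 10 := le_antisymm (Nat.le_of_dvd (by norm_num) hdvd) (by omega)
    let S2 : Sylow 2 M24 := Sylow.ofCard Pb (by
      rw [hPc, CfsgGolay.card_M24_facts.1])
    have hrel : Qb.relIndex Pb = 2 := by
      have h1 := relIndex_mul_relIndex (⊥ : Subgroup M24) Qb Pb bot_le le_sup_left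
      rw [relIndex_bot_left, relIndex_bot_left, hPc] at h1
      have h2 : Nat.card Qb = 512 := by omega
      rw [h2] at h1
      omega
    have hnoidx : ∀ K : Subgroup M24, K.Normal → K.index ≠ 2 := by
      intro K hK hi
      haveI := CfsgGolay.isSimple_M24
      rcases hK.eq_bot_or_eq_top with e | e <;> rw [e] at hi
      · rw [index_bot, CfsgGolay.card_M24] at hi; norm_num at hi
      · rw [index_top] at hi; norm_num at hi
    obtain ⟨gb, hgb, -⟩ := TransferExtremal.exists_conj hnoidx S2 Qb le_sup_left hrel fb (by rw [sq]; exact hfb2)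
    obtain ⟨r, hr, hre⟩ := hgb
    obtain ⟨g, rfl⟩ := hφ gb
    have hr2 : (r : G) * r = 1 := by
      have h1 : φ (r * r) = 1 := by
        rw [map_mul, hre, show φ g * fb * (φ g)⁻¹ * (φ g * fb * (φ g)⁻¹) = φ g * (fb * fb) * (φ g)⁻¹ by group,
          hfb2, mul_one, mul_inv_cancel]
      rw [← MonoidHom.mem_ker, hφk, mem_subgroupOf] at h1
      exact mem_bot.mp (hRV ▸ mem_inf.mpr ⟨mul_mem hr hr, h1⟩)
    have hw : (⟨f, hfN⟩⁻¹ * (g⁻¹ * r * g) : N) ∈ φ.ker := by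
      rw [MonoidHom.mem_ker, map_mul, map_mul, map_mul, map_inv, map_inv, hre, ← hfb]
      group
    rw [hφk, mem_subgroupOf] at hw
    set v := ((⟨f, hfN⟩⁻¹ * (g⁻¹ * r * g) : N) : G) with hv
    have e1 : f * v = (g : G)⁻¹ * r * g := by
      rw [hv]; simp only [Subgroup.coe_mul, Subgroup.coe_inv]; group
    have e2 : f * v * (f * v) = 1 := by
      rw [e1, show (g : G)⁻¹ * r * g * ((g : G)⁻¹ * r * g) = (g : G)⁻¹ * ((r : G) * r) * g by group, hr2]; group
    refine o.no_z_comm hp hgen hf (hfP p hp) hfW (hstabf o.hA.1 hθA) hw ?_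
    have e3 : f * v * f⁻¹ * (f * f) * v = 1 := by rw [← e2]; group
    rw [hfz, mem_centralizer_singleton_iff.mp (mul_mem (mul_mem hf (c.vGrp_cent o.hA hw)) (inv_mem hf)),
      mul_assoc] at e3
    rw [eq_inv_of_mul_eq_one_right e3, inv_eq_of_mul_eq_one_right c.zz]
  -- the complement
  refine ⟨R ⊔ zpowers f, sup_le hRN (zpowers_le.mpr hfN), ?_, ?_, ?_⟩
  · rw [eq_bot_iff]
    rintro x ⟨hx, hxV⟩
    obtain ⟨r, hr, k, hk, rfl⟩ := mem_sup_of_norm
      (fun k hk y hy => (mem_normalizer_iff.mp (zpowers_le.mpr hfR hk) y).mp hy) hx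
    rcases mem_zpowers_two hf2 hk with rfl | rfl
    · rw [mul_one] at hxV ⊢; exact hRV ▸ mem_inf.mpr ⟨hr, hxV⟩
    · exfalso
      have := mul_mem (inv_mem (hRH0 hr)) (c.vGrp_H0 o.hA.1 hxV)
      rw [inv_mul_cancel_left] at this
      exact hf0 this
  · exact sup_two hRp (fun x => ⟨1, Subtype.ext (by
      rcases mem_zpowers_two hf2 x.2 with h | h <;> rw [pow_one, sq, Subgroup.coe_mul, h]
      · rw [one_mul]; rfl
      · rw [hf2]; rfl)⟩) fun k hk y hy => (mem_normalizer_iff.mp (zpowers_le.mpr hfR hk) y).mp hy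
  · have := two_mul_card_le (show R < R ⊔ zpowers f from lt_of_le_of_ne le_sup_left fun e =>
      hf0 (hRH0 (e ▸ (mem_sup_right (mem_zpowers f) : f ∈ R ⊔ zpowers f))))
    omega

/-- The normalizer splits over V with complement M24. -/
theorem Orb.exists_compl (o : c.Orb A) (hex : ∃ h ∈ centralizer ({z} : Set G), h ∉ c.H0)
    (hfaith : ∀ h ∈ centralizer ({z} : Set G), (∀ x ∈ c.cen, h * x * h⁻¹ * x⁻¹ ∈ c.N) → h ∈ c.N) :
    ∃ K : Subgroup G, K ≤ normalizer (c.vGrp A o.hA.1.1 : Set G) ∧ K ⊓ c.vGrp A o.hA.1.1 = ⊥ ∧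
      K ⊔ c.vGrp A o.hA.1.1 = normalizer (c.vGrp A o.hA.1.1 : Set G) ∧ Nonempty (↥K ≃* ↥M24) := by
  classical
  haveI : Fact (Nat.Prime 2) := ⟨Nat.prime_two⟩
  obtain ⟨S, hSN, hSV, hSp, hSc⟩ := o.exists_compl_two hex hfaith
  set V := c.vGrp A o.hA.1.1 with hV
  set N := normalizer (V : Set G) with hN
  set K := V.subgroupOf N with hK
  haveI : K.Normal := Subgroup.normal_in_normalizer
  obtain ⟨hVel, hVc⟩ := c.vGrp_facts o.hA.1
  haveI : IsMulCommutative K := ⟨⟨fun a b => Subtype.ext (Subtype.ext (c.vGrp_comm o.hA.1 a.2 b.2))⟩⟩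
  set U := (V ⊔ S).subgroupOf N with hU
  have hKc : Nat.card K = 2 ^ 11 := by rw [Nat.card_congr (subgroupOfEquivOfLe le_normalizer).toEquiv, hVc]
  have hidx : U.index = 1771 * 135 := by
    have hp2 : IsPGroup 2 (V ⊔ S : Subgroup G) := sup_two (IsPGroup.of_card hVc) hSp
      fun k hk x hx => (mem_normalizer_iff.mp (hSN hk) x).mp hx
    obtain ⟨j, hj⟩ := (IsPGroup.iff_card).mp hp2
    have hge : 2 ^ 21 ≤ 2 ^ j := by
      rw [← hj]
      have : Nat.card V * Nat.card S ≤ Nat.card ↥(V ⊔ S) := by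
        rw [← Nat.card_prod]
        refine Nat.card_le_card_of_injective
          (fun x : V × S => (⟨(x.1 : G) * x.2, mul_mem (mem_sup_left x.1.2) (mem_sup_right x.2.2)⟩ : ↥(V ⊔ S)))
          fun x y e => ?_
        have e' : (x.1 : G) * x.2 = (y.1 : G) * y.2 := congrArg Subtype.val e
        have h1 : (x.2 : G) * (y.2 : G)⁻¹ = (x.1 : G)⁻¹ * y.1 := by
          rw [eq_inv_mul_iff_mul_eq, ← mul_assoc, e', mul_inv_cancel_right]
        have h2 : (x.2 : G) * (y.2 : G)⁻¹ ∈ (⊥ : Subgroup G) := hSV ▸ mem_inf.mpr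
          ⟨mul_mem x.2.2 (inv_mem y.2.2), h1 ▸ mul_mem (inv_mem x.1.2) y.1.2⟩
        rw [mem_bot, mul_inv_eq_one] at h2
        refine Prod.ext (Subtype.ext ?_) (Subtype.ext h2)
        rw [h2] at e'
        exact mul_right_cancel e'
      rw [hVc] at this
      exact le_trans (le_trans (le_of_eq (by norm_num)) (Nat.mul_le_mul_left (2 ^ 11) hSc)) this
    have h21 : 21 ≤ j := (Nat.pow_le_pow_iff_right (by norm_num)).mp hge
    have hUc : Nat.card U = 2 ^ j := by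
      rw [Nat.card_congr (subgroupOfEquivOfLe (sup_le le_normalizer hSN)).toEquiv, hj]
    have h1 := card_mul_index U
    rw [hUc, o.card_norm] at h1
    have hj21 : j = 21 := by
      by_contra hne
      have h2 : 2 ^ 22 ∣ 1771 * (2 ^ 21 * 135) :=
        dvd_trans (Nat.pow_dvd_pow 2 (show 22 ≤ j by omega)) ⟨_, h1.symm⟩
      norm_num at h2
    subst hj21
    omega
  obtain ⟨H, hH⟩ := Cfsg.Agent.S0051.result K U (fun x hx => mem_sup_left hx)
    (by rw [hKc, hidx]; norm_num) (S.subgroupOf N) (fun x hx => mem_sup_right hx)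
    (by
      rw [eq_bot_iff]
      intro x hx
      exact Subtype.ext (mem_bot.mp (hSV ▸ mem_inf.mpr ⟨hx.1, hx.2⟩)))
    (by rw [hK, hU, Subgroup.subgroupOf_sup le_normalizer hSN])
  obtain ⟨φ, hφ, hφk, -⟩ := o.exists_M24
  have hbij : Function.Bijective (φ.comp H.subtype) := by
    refine ⟨(injective_iff_map_eq_one _).mpr fun h hh => ?_, fun y => ?_⟩
    · have h1 : (h : N) ∈ φ.ker := MonoidHom.mem_ker.mpr hh
      rw [hφk] at h1
      have := hH.disjoint
      exact Subtype.ext (Subgroup.disjoint_def.mp this h1 h.2)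
    · obtain ⟨n, rfl⟩ := hφ y
      obtain ⟨⟨k, h⟩, hkh⟩ := hH.2 n
      refine ⟨h, ?_⟩
      have h1 : φ (k : N) = 1 := MonoidHom.mem_ker.mp (hφk.symm ▸ k.2 : (k : N) ∈ φ.ker)
      show φ (h : N) = φ n
      rw [← hkh, map_mul, h1, one_mul]
  refine ⟨H.map N.subtype, map_subtype_le _, ?_, ?_, ⟨(H.equivMapOfInjective N.subtype N.subtype_injective).symm.trans
    (MulEquiv.ofBijective _ hbij)⟩⟩
  · rw [eq_bot_iff]
    rintro _ ⟨⟨h, hh, rfl⟩, hV'⟩
    exact mem_bot.mpr (congrArg Subtype.val (Subgroup.disjoint_def.mp hH.disjoint (show h ∈ K from hV') hh))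
  · refine le_antisymm (sup_le (map_subtype_le _) le_normalizer) fun n hn => ?_
    obtain ⟨⟨k, h⟩, hkh⟩ := hH.2 ⟨n, hn⟩
    have e : n = ((k : N) : G) * ((h : N) : G) := congrArg Subtype.val hkh.symm
    rw [e]
    exact mul_mem (mem_sup_right k.2) (mem_sup_left ⟨_, h.2, rfl⟩)

end Ctx

end CfsgLib.JankoFour
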