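/-
The centralizer of an element of the small orbit normalizes the group of order 2^11.
-/
import Cfsg.Agent.Lib.JankoFour.OrbClosed
import Cfsg.Agent.Lib.ThreeTrans.Strong

set_option autoImplicit false

namespace CfsgLib.JankoFour

open Cfsg Subgroup
open scoped commutatorElement

universe u

variable {G : Type u} [Group G] [Finite G] {z : G} {P E : Subgroup G}

namespace Ctx

variable {c : Ctx z P E} {A : Subgroup MTwoTwo}

/-- Two classes with unique fixed cosets in the centralizer of a subgroup without conjugates of z. -/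
theorem Orb.cent_free (o : c.Orb A) {I0 : Subgroup G} (hI0 : I0 ≤ c.vGrp A o.hA.1.1)
    (hfree : ∀ x ∈ I0, ¬ c.IsZ x) {t a0 b0 : G} (ht : t ∈ I0) (ht1 : t ≠ 1)
    (ha0 : a0 ∈ c.Oset (c.vGrp A o.hA.1.1)) (hb0 : b0 ∈ c.Oset (c.vGrp A o.hA.1.1))
    (ha : ∀ x ∈ I0, x ≠ 1 → ¬ c.IsZ (a0 * x)) (hb : c.IsZ (b0 * t))
    (hnext : ∀ v ∈ c.vGrp A o.hA.1.1, v ∉ I0 → (∀ x ∈ I0, ¬ c.IsZ (v * x)) →
      ∀ g ∈ centralizer (I0 : Set G), g * v = v * g → g ∈ normalizer (c.vGrp A o.hA.1.1 : Set G)) :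
    centralizer (I0 : Set G) ≤ normalizer (c.vGrp A o.hA.1.1 : Set G) := by
  classical
  set V := c.vGrp A o.hA.1.1 with hV
  set D := centralizer (I0 : Set G) with hD
  set H := (normalizer (V : Set G)).subgroupOf D with hH
  have htT : t ∈ c.Tset V := ⟨hI0 ht, ht1, hfree t ht⟩
  have hVD : V ≤ D := fun v hv => mem_centralizer_iff.mpr fun x hx => (o.Vcomm v hv x (hI0 hx)).symm
  have hVN : ∀ v ∈ V, v ∈ normalizer (V : Set G) := fun v hv => le_normalizer hv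
  -- an element of D moving an element of the class of z into the normalizer lies there
  have hkey : ∀ d ∈ D, ∀ a ∈ c.Oset V, d * a * d⁻¹ ∈ normalizer (V : Set G) → d ∈ normalizer (V : Set G) := by
    intro d hd a ha hN
    refine o.closed htT ?_ ?_ (c.isZ_conj ha.2 d) hN
    · rw [mem_conjSub, mul_assoc, mem_centralizer_iff.mp hd t ht, inv_mul_cancel_left]
      exact hI0 ht
    · rw [mem_conjSub, show d⁻¹ * (d * a * d⁻¹) * d = a by group]
      exact ha.1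
  let a1 : D := ⟨a0, hVD ha0.1⟩
  let b1 : D := ⟨b0, hVD hb0.1⟩
  set I : Set D := {x | IsConj a1 x} with hI
  set J : Set D := {x | IsConj b1 x} with hJ
  have hcl : ∀ x ∈ I ∪ J, ∃ d : D, ∃ a ∈ c.Oset V, (x : G) = (d : G) * a * (d : G)⁻¹ := by
    rintro x (hx | hx)
    · obtain ⟨d, rfl⟩ := isConj_iff.mp hx
      exact ⟨d, a0, ha0, rfl⟩
    · obtain ⟨d, rfl⟩ := isConj_iff.mp hx
      exact ⟨d, b0, hb0, rfl⟩
  have hinH : ∀ x ∈ I ∪ J, x ∈ H → (x : G) ∈ c.Oset V := by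
    intro x hx hxH
    obtain ⟨d, a, haO, hxe⟩ := hcl x hx
    have h := mem_subgroupOf.mp hxH
    rw [hxe] at h ⊢
    exact c.norm_O (hkey d d.2 a haO h) haO
  have hord : ∀ v, v ∈ c.Oset V → ∀ h : v ∈ D, orderOf (⟨v, h⟩ : D) = 2 := fun v hv h => by
    refine orderOf_eq_prime (p := 2) (Subtype.ext ?_) fun e => c.isZ_ne hv.2 (congrArg Subtype.val e)
    show v ^ 2 = 1
    rw [sq]; exact o.Vsq v hv.1
  have htop := CfsgThreeTrans.two_classes_unique_cosets I J a1 b1 (hord a0 ha0 _) (hord b0 hb0 _) rfl rfl ?_ H ?_ ?_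
  · exact subgroupOf_eq_top.mp htop
  · intro hIJ
    have h : b1 ∈ I := hIJ ▸ IsConj.refl b1
    obtain ⟨d, hd⟩ := isConj_iff.mp h
    have hd' : (d : G) * a0 * (d : G)⁻¹ = b0 := congrArg Subtype.val hd
    refine ha t ht ht1 ((c.isZ_iff (d : G) (a0 * t)).mp ?_)
    rw [show (d : G) * (a0 * t) * (d : G)⁻¹ = (d : G) * a0 * (d : G)⁻¹ * ((d : G) * t * (d : G)⁻¹) by group, hd',
      ← mem_centralizer_iff.mp d.2 t ht, mul_inv_cancel_right]
    exact hb
  · intro x hx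
    obtain ⟨d, a, haO, hxe⟩ := hcl x hx
    refine ⟨QuotientGroup.mk d, CfsgThreeTrans.fixed_coset_iff.mpr (mem_subgroupOf.mpr ?_), fun q hq => ?_⟩
    · simp only [Subgroup.coe_mul, Subgroup.coe_inv]
      rw [hxe, show (d : G)⁻¹ * ((d : G) * a * (d : G)⁻¹) * (d : G) = a by group]
      exact hVN a haO.1
    · induction q using QuotientGroup.induction_on with
      | H k =>
        have h := mem_subgroupOf.mp (CfsgThreeTrans.fixed_coset_iff.mp hq)
        simp only [Subgroup.coe_mul, Subgroup.coe_inv] at h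
        refine QuotientGroup.eq.mpr (mem_subgroupOf.mpr ?_)
        simp only [Subgroup.coe_mul, Subgroup.coe_inv]
        refine hkey _ (mul_mem (inv_mem k.2) d.2) a haO ?_
        rwa [show (k : G)⁻¹ * (d : G) * a * ((k : G)⁻¹ * (d : G))⁻¹ =
          (k : G)⁻¹ * ((d : G) * a * (d : G)⁻¹) * (k : G) by group, ← hxe]
  · intro a haI haH b hb hbH hne hcomm g hg
    obtain ⟨haV, haz⟩ := hinH a (Or.inl haI) haH
    obtain ⟨hbV, hbz⟩ := hinH b hb hbH
    obtain ⟨d, hd⟩ := isConj_iff.mp haI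
    have hd' : (d : G) * a0 * (d : G)⁻¹ = (a : G) := congrArg Subtype.val hd
    have hax : ∀ x ∈ I0, x ≠ 1 → ¬ c.IsZ ((a : G) * x) := fun x hx hx1 h => by
      refine ha x hx hx1 ((c.isZ_iff (d : G) (a0 * x)).mp ?_)
      rwa [show (d : G) * (a0 * x) * (d : G)⁻¹ = (d : G) * a0 * (d : G)⁻¹ * ((d : G) * x * (d : G)⁻¹) by group, hd',
        ← mem_centralizer_iff.mp d.2 x hx, mul_inv_cancel_right]
    have hgab : (g : G) * ((a : G) * (b : G)) = (a : G) * (b : G) * (g : G) :=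
      congrArg Subtype.val (mem_centralizer_singleton_iff.mp hg)
    have hgI : ∀ x ∈ I0, (g : G) * x = x * (g : G) := fun x hx => (mem_centralizer_iff.mp g.2 x hx).symm
    refine mem_subgroupOf.mpr ?_
    have habV : (a : G) * (b : G) ∈ V := mul_mem haV hbV
    by_cases habz : c.IsZ ((a : G) * (b : G))
    · exact c.cent_ot o ⟨habV, habz⟩ htT hgab (hgI t ht)
    have habI : (a : G) * (b : G) ∉ I0 := fun h => by
      refine hax _ h (fun e => hne (Subtype.ext ?_)) ?_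
      · rw [← mul_one (a : G), ← o.Vsq _ hbV, ← mul_assoc, e, one_mul]
      · rw [← mul_assoc, o.Vsq _ haV, one_mul]; exact hbz
    by_cases hex : ∃ x ∈ I0, c.IsZ ((a : G) * (b : G) * x)
    · obtain ⟨x, hx, hxz⟩ := hex
      refine c.cent_ot o ⟨mul_mem habV (hI0 hx), hxz⟩ htT ?_ (hgI t ht)
      rw [← mul_assoc, hgab, mul_assoc _ (g : G), hgI x hx, ← mul_assoc]
    push Not at hex
    exact hnext _ habV habI hex g g.2 hgab

/-- An element of the class of z whose product with t is one too. -/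
theorem Orb.exists_mate (o : c.Orb A) {t : G} (ht : t ∈ c.Tset (c.vGrp A o.hA.1.1)) :
    ∃ b ∈ c.Oset (c.vGrp A o.hA.1.1), c.IsZ (b * t) := by
  obtain ⟨a, ha, -, -, -, -, a1, -⟩ := exists_three o.hA.1.2.1
  obtain ⟨y, hy, hyZ, -, hny⟩ := o.exists_lift ha a1
  obtain ⟨n, hn, hnt⟩ := o.T_to ht hy hyZ hny
  refine ⟨n⁻¹ * z * n⁻¹⁻¹, c.norm_O (inv_mem hn) ⟨o.z_mem, c.isZ_z⟩, ?_⟩
  have h := c.isZ_conj ((o.twin y hy hyZ).mpr hny) n⁻¹
  rwa [← hnt, show n⁻¹ * (z * (n * t * n⁻¹)) * n⁻¹⁻¹ = n⁻¹ * z * n⁻¹⁻¹ * t by group] at h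

/-- An element of the class of z whose products with the images in W avoid it. -/
theorem Orb.W_mate (o : c.Orb A) {n : G} (hn : n ∈ normalizer (c.vGrp A o.hA.1.1 : Set G)) {I0 : Subgroup G}
    (hI0 : I0 ≤ c.vGrp A o.hA.1.1) (hfree : ∀ x ∈ I0, ¬ c.IsZ x) (hW : ∀ x ∈ I0, n * x * n⁻¹ ∈ c.fixB A) :
    ∃ a ∈ c.Oset (c.vGrp A o.hA.1.1), ∀ x ∈ I0, x ≠ 1 → ¬ c.IsZ (a * x) := by
  refine ⟨n⁻¹ * z * n⁻¹⁻¹, c.norm_O (inv_mem hn) ⟨o.z_mem, c.isZ_z⟩, fun x hx hx1 h => ?_⟩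
  refine (c.T_zmul o.hA (c.norm_T hn ⟨hI0 hx, hx1, hfree x hx⟩) (hW x hx)).2.2 ?_
  have h2 := c.isZ_conj h n
  rwa [show n * (n⁻¹ * z * n⁻¹⁻¹ * x) * n⁻¹ = z * (n * x * n⁻¹) by group] at h2

/-- The centralizer of a triangle. -/
theorem Orb.cent_four (o : c.Orb A) {t s : G} (ht : t ∈ c.Tset (c.vGrp A o.hA.1.1))
    (hs : s ∈ c.Tset (c.vGrp A o.hA.1.1)) (hts : t * s ∈ c.Tset (c.vGrp A o.hA.1.1)) {g : G}
    (hgt : g * t = t * g) (hgs : g * s = s * g) : g ∈ normalizer (c.vGrp A o.hA.1.1 : Set G) := by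
  classical
  set V := c.vGrp A o.hA.1.1 with hV
  have htt := o.Vsq t ht.1
  have hst : s ∉ zpowers t := fun h => by
    rcases mem_zpowers_two htt h with h | h
    · exact hs.2.1 h
    · exact hts.2.1 (h.symm ▸ htt)
  obtain ⟨I0, hle, hI0, hsI, hc, hmem⟩ := exists_adj o.Vsq o.Vcomm (zpowers_le.mpr ht.1 : zpowers t ≤ V) hs.1 hst
  rw [Nat.card_zpowers, orderOf_eq_prime (p := 2) (by rw [sq]; exact htt) ht.2.1] at hc
  have hform : ∀ x ∈ I0, x = 1 ∨ x = t ∨ x = s ∨ x = t * s := fun x hx => by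
    have ex : x = s * (s * x) := by rw [← mul_assoc, o.Vsq s hs.1, one_mul]
    rcases (hmem x).mp hx with h | h <;> rcases mem_zpowers_two htt h with h | h
    · exact Or.inl h
    · exact Or.inr (Or.inl h)
    · exact Or.inr (Or.inr (Or.inl (by rw [ex, h, mul_one])))
    · exact Or.inr (Or.inr (Or.inr (by rw [ex, h, o.Vcomm s hs.1 t ht.1])))
  have hfree : ∀ x ∈ I0, ¬ c.IsZ x := fun x hx => by
    rcases hform x hx with rfl | rfl | rfl | rfl
    · exact fun h => c.isZ_ne h rfl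
    · exact ht.2.2
    · exact hs.2.2
    · exact hts.2.2
  obtain ⟨n, hn, hnt, hns⟩ := o.triangle_W ht hs hts
  obtain ⟨a0, ha0, ha⟩ := o.W_mate hn hI0 hfree fun x hx => by
    rcases hform x hx with rfl | rfl | rfl | rfl
    · simp
    · exact hnt
    · exact hns
    · rw [show n * (t * s) * n⁻¹ = n * t * n⁻¹ * (n * s * n⁻¹) by group]; exact mul_mem hnt hns
  obtain ⟨b0, hb0, hb⟩ := o.exists_mate ht
  refine o.cent_free hI0 hfree (hle (mem_zpowers t)) ht.2.1 ha0 hb0 ha hb (fun v hv hvI hvfree => ?_) ?_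
  · exfalso
    obtain ⟨U, -, hUV, -, hUc, hUmem⟩ := exists_adj o.Vsq o.Vcomm hI0 hv hvI
    have := o.free_small hUV fun x hx hxz => by
      rcases (hUmem x).mp hx with h | h
      · exact hfree x h hxz
      · exact hvfree _ h (by rwa [← mul_assoc, o.Vsq v hv, one_mul])
    omega
  · refine mem_centralizer_iff.mpr fun x hx => ?_
    rcases hform x hx with rfl | rfl | rfl | rfl
    · simp
    · exact hgt.symm
    · exact hgs.symm
    · rw [mul_assoc, ← hgs, ← mul_assoc, ← hgt, mul_assoc]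

/-- The centralizer of an element of the small orbit. -/
theorem Orb.cent_T (o : c.Orb A) {t : G} (ht : t ∈ c.Tset (c.vGrp A o.hA.1.1)) :
    centralizer ({t} : Set G) ≤ normalizer (c.vGrp A o.hA.1.1 : Set G) := by
  classical
  set V := c.vGrp A o.hA.1.1 with hV
  have htt := o.Vsq t ht.1
  have hfree : ∀ x ∈ zpowers t, ¬ c.IsZ x := fun x hx => by
    rcases mem_zpowers_two htt hx with rfl | rfl
    · exact fun h => c.isZ_ne h rfl
    · exact ht.2.2
  obtain ⟨t0, ht0⟩ : (c.Tset V ∩ (c.fixB A : Set G)).Nonempty :=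
    Set.nonempty_of_ncard_ne_zero (by rw [o.cardTW]; norm_num)
  obtain ⟨a, ha, -, -, -, -, a1, -⟩ := exists_three o.hA.1.2.1
  obtain ⟨y, hy, hyZ, -, hny⟩ := o.exists_lift ha a1
  obtain ⟨n1, hn1, e1⟩ := o.T_to ht hy hyZ hny
  obtain ⟨n2, hn2, e2⟩ := o.T_to ht0.1 hy hyZ hny
  obtain ⟨a0, ha0, hamate⟩ := o.W_mate (mul_mem (inv_mem hn2) hn1) (zpowers_le.mpr ht.1) hfree fun x hx => by
    rcases mem_zpowers_two htt hx with h | h
    · rw [h]; simp
    · rw [h, show n2⁻¹ * n1 * t * (n2⁻¹ * n1)⁻¹ = n2⁻¹ * (n1 * t * n1⁻¹) * n2 by group, e1, ← e2,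
        show n2⁻¹ * (n2 * t0 * n2⁻¹) * n2 = t0 by group]
      exact ht0.2
  obtain ⟨b0, hb0, hb⟩ := o.exists_mate ht
  intro g hg
  refine o.cent_free (zpowers_le.mpr ht.1) hfree (mem_zpowers t) ht.2.1 ha0 hb0 hamate hb
    (fun v hv hvI hvfree k hk hkv => ?_) ?_
  · have hv1 : v ≠ 1 := fun h => hvI (h ▸ one_mem _)
    have hvz : ¬ c.IsZ v := fun h => hvfree 1 (one_mem _) (by rwa [mul_one])
    have hvt : v * t ≠ 1 := fun h => hvI (by
      rw [← mul_one v, ← htt, ← mul_assoc, h, one_mul]; exact mem_zpowers t)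
    exact o.cent_four ⟨hv, hv1, hvz⟩ ht ⟨mul_mem hv ht.1, hvt, hvfree t (mem_zpowers t)⟩ hkv
      (mem_centralizer_iff.mp hk t (mem_zpowers t)).symm
  · refine mem_centralizer_iff.mpr fun x hx => ?_
    rcases mem_zpowers_two htt hx with rfl | rfl
    · simp
    · exact (mem_centralizer_singleton_iff.mp hg).symm

end Ctx

end CfsgLib.JankoFour
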