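/-
The normal subgroup of order eight in the centralizer of an element of order five and the complement over it.
-/
import Cfsg.Agent.Lib.JankoFour.FiveNorm

set_option autoImplicit false

namespace CfsgLib.JankoFour

open Cfsg Subgroup

universe u

variable {G : Type u} [Group G] [Finite G] {z : G} {P E : Subgroup G} {c : Ctx z P E} {m : FiveModel}

/-- The subgroup of order eight and the group of order 1344. -/
structure Eight (d : FiveData5 c m) : Type u where
  A : Subgroup G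
  J : Subgroup G
  s : G
  φ : ↥J →* Matrix.SpecialLinearGroup (Fin 3) (ZMod 2)
  AD : A ≤ d.D
  zA : z ∈ A
  cardA : Nat.card A = 8
  sqA : ∀ a ∈ A, a * a = 1
  commA : ∀ a ∈ A, ∀ b ∈ A, a * b = b * a
  Jcq : J ≤ d.cq
  AJ : A ≤ J
  cardJ : Nat.card J = 1344
  J_part : ∀ x ∈ d.cq, ∀ n : ℕ, Nat.Coprime n 5 → x ^ n = 1 → x ∈ J
  decomp : ∀ x ∈ d.cq, ∃ a ∈ zpowers d.q, ∃ j ∈ J, x = a * j
  norm : ∀ x ∈ d.cq, ∀ a ∈ A, x * a * x⁻¹ ∈ A
  νnorm : ∀ a ∈ A, d.ν * a * d.ν⁻¹ ∈ A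
  orbit : ∀ a ∈ A, a ≠ 1 → ∃ j ∈ J, j * z * j⁻¹ = a
  selfJ : ∀ j ∈ J, (∀ a ∈ A, j * a = a * j) → j ∈ A
  φsurj : Function.Surjective φ
  φker : ∀ j : J, φ j = 1 ↔ (j : G) ∈ A
  maxN : ∀ W : Subgroup G, W ≤ J → A ≤ W → (∀ j ∈ J, ∀ w ∈ W, j * w * j⁻¹ ∈ W) → W = A ∨ W = J
  sJ : s ∈ J
  order_s : orderOf s = 7
  sfix : ∀ a ∈ A, s * a * s⁻¹ = a → a = 1
  nonsplit : ∀ K : Subgroup G, K ≤ J → K ⊓ A = ⊥ → Nat.card K ≠ 168

namespace FiveData5

variable (d : FiveData5 c m)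

theorem conj_ν_cq {x : G} (hx : x ∈ d.cq) : d.ν⁻¹ * x * d.ν ∈ d.cq := by
  refine d.mem_cq.mpr ?_
  have hq2 : Commute x (d.q ^ 2) := Commute.pow_right (d.mem_cq.mp hx : Commute x d.q) 2
  have e : d.ν * d.q = d.q ^ 2 * d.ν := mul_inv_eq_iff_eq_mul.mp d.νq
  calc d.ν⁻¹ * x * d.ν * d.q = d.ν⁻¹ * x * (d.ν * d.q) := by group
    _ = d.ν⁻¹ * (x * d.q ^ 2) * d.ν := by rw [e]; group
    _ = d.ν⁻¹ * (d.q ^ 2 * x) * d.ν := by rw [hq2.eq]
    _ = d.ν⁻¹ * (d.ν * d.q * d.ν⁻¹) * x * d.ν := by rw [d.νq]; group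
    _ = d.q * (d.ν⁻¹ * x * d.ν) := by group

theorem exists_eight_base [IsSimpleGroup G] (hG : ¬ IsMulCommutative G)
    (hinv : ∃ n ∈ centralizer ({z} : Set G), ∀ q ∈ P, n * q * n⁻¹ = q⁻¹) : Nonempty (Eight d) := by
  classical
  obtain ⟨N, hN, hc, h2, h8, ⟨φ0⟩, hX, hns, -⟩ := d.quot_facts hG hinv
  haveI := hN
  haveI := hc
  have hab : ∀ a ∈ N, ∀ b ∈ N, a * b = b * a := fun a ha b hb =>
    congrArg Subtype.val (mul_comm' (⟨a, ha⟩ : N) ⟨b, hb⟩)
  have hsq : ∀ a ∈ N, a * a = 1 := fun a ha => by rw [← sq]; exact h2 a ha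
  haveI : Fact (Nat.Prime 2) := ⟨Nat.prime_two⟩
  haveI : Fact (Nat.Prime 7) := ⟨by norm_num⟩
  haveI hQsimple : IsSimpleGroup (d.X ⧸ N) := by
    haveI := Cfsg.Agent.S0249.result (F := ZMod 2) 3 (le_refl 3)
    obtain ⟨g⟩ := psl_equiv_sl
    haveI : Nontrivial (d.X ⧸ N) := Finite.one_lt_card_iff_nontrivial.mp (by
      rw [Nat.card_congr φ0.toEquiv, card_sl_three]; norm_num)
    exact IsSimpleGroup.isSimpleGroup_of_surjective (g.trans φ0.symm).toMonoidHom (g.trans φ0.symm).surjective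
  have hQcard : Nat.card (d.X ⧸ N) = 168 := by rw [Nat.card_congr φ0.toEquiv, card_sl_three]
  -- s lies in N
  have hs : d.s ∈ N := by
    have hT : IsPGroup 2 d.Tb := IsPGroup.of_card (n := 6) d.card_Tb
    have hsT : d.s ∈ d.Tb := d.Db_le_Tb (d.mem_Db.mpr ⟨z, d.Z_le_D (mem_zpowers z), rfl⟩)
    letI : MulAction d.Tb N := MulAction.compHom N ((MulAut.conjNormal (H := N)).comp d.Tb.subtype)
    obtain ⟨n, hn, hn1⟩ := hT.exists_fixed_point_of_prime_dvd_card_of_fixed_point (α := N) (by rw [h8]; norm_num)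
      (a := (1 : N)) (fun g => Subtype.ext (by
        show (g : d.X) * 1 * (g : d.X)⁻¹ = 1
        group))
    have hfix : ∀ g ∈ d.Tb, g * (n : d.X) = n * g := fun g hg =>
      mul_inv_eq_iff_eq_mul.mp (congrArg Subtype.val (hn ⟨g, hg⟩))
    have hnL : (n : d.X) ∈ d.L := mem_centralizer_singleton_iff.mpr (hfix _ hsT).symm
    have hnD : (n : d.X) ∈ d.Db := by
      have hp : IsPGroup 2 (N.subgroupOf d.L) := by
        intro x
        exact ⟨1, Subtype.ext (Subtype.ext (by rw [pow_one]; exact h2 _ x.2))⟩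
      exact mem_subgroupOf.mp ((CfsgLib.le_pCore hp).trans_eq d.pCore_L
        (show (⟨(n : d.X), hnL⟩ : d.L) ∈ N.subgroupOf d.L from mem_subgroupOf.mpr n.2))
    obtain ⟨e, he, hne⟩ := d.mem_Db.mp hnD
    have hz : e ∈ zpowers z := d.central_D he fun f hf => by
      refine d.img_inj_D (mul_mem hf he) (mul_mem he hf) ?_
      have := hfix _ (d.Db_le_Tb (d.mem_Db.mpr ⟨f, hf, rfl⟩))
      rw [hne, ← map_mul, ← map_mul] at this
      exact this
    rcases c.mem_Z.mp hz with rfl | rfl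
    · exact absurd (Subtype.ext (hne.trans (map_one d.img)) : n = 1) (Ne.symm hn1)
    · have := n.2
      rwa [hne] at this
  have hND : N ≤ d.Db := by
    intro x hx
    have hxL : x ∈ d.L := mem_centralizer_singleton_iff.mpr (hab x hx _ hs)
    have hp : IsPGroup 2 (N.subgroupOf d.L) := by
      intro y
      exact ⟨1, Subtype.ext (Subtype.ext (by rw [pow_one]; exact h2 _ y.2))⟩
    exact mem_subgroupOf.mp ((CfsgLib.le_pCore hp).trans_eq d.pCore_L
      (show (⟨x, hxL⟩ : d.L) ∈ N.subgroupOf d.L from mem_subgroupOf.mpr hx))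
  -- the subgroup of order eight
  let A : Subgroup G := d.D ⊓ (N.comap d.img).map d.cq.subtype
  have memA : ∀ {a}, a ∈ A ↔ ∃ h : a ∈ d.D, d.img ⟨a, d.D_le_cq h⟩ ∈ N := by
    intro a
    constructor
    · rintro ⟨h, x, hx, rfl⟩
      exact ⟨h, hx⟩
    · rintro ⟨h, hx⟩
      exact ⟨h, ⟨a, d.D_le_cq h⟩, hx, rfl⟩
  have hzA : z ∈ A := memA.mpr ⟨d.Z_le_D (mem_zpowers z), hs⟩
  have hA8 : Nat.card A = 8 := by
    rw [← h8]
    refine Nat.card_congr (Equiv.ofBijective (fun a : A => (⟨_, (memA.mp a.2).choose_spec⟩ : N)) ⟨?_, ?_⟩)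
    · exact fun a b e => Subtype.ext (d.img_inj_D (memA.mp a.2).choose (memA.mp b.2).choose (congrArg Subtype.val e))
    · rintro ⟨x, hx⟩
      obtain ⟨e, he, rfl⟩ := d.mem_Db.mp (hND hx)
      exact ⟨⟨e, memA.mpr ⟨he, hx⟩⟩, rfl⟩
  have hAsq : ∀ a ∈ A, a * a = 1 := by
    intro a ha
    obtain ⟨h, hx⟩ := memA.mp ha
    refine d.img_inj_D (mul_mem h h) (one_mem _) ?_
    rw [show (⟨a * a, d.D_le_cq (mul_mem h h)⟩ : d.cq) = ⟨a, d.D_le_cq h⟩ * ⟨a, d.D_le_cq h⟩ from rfl, map_mul,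
      hsq _ hx]
    exact (map_one d.img).symm
  have hAcomm : ∀ a ∈ A, ∀ b ∈ A, a * b = b * a := by
    intro a ha b hb
    have hm := hAsq _ (A.mul_mem ha hb)
    calc a * b = (a * b)⁻¹ := eq_inv_of_mul_eq_one_left hm
      _ = b⁻¹ * a⁻¹ := mul_inv_rev a b
      _ = b * a := by rw [inv_eq_of_mul_eq_one_left (hAsq a ha), inv_eq_of_mul_eq_one_left (hAsq b hb)]
  have hnorm : ∀ x ∈ d.cq, ∀ a ∈ A, x * a * x⁻¹ ∈ A := by
    intro x hx a ha
    obtain ⟨h, hm⟩ := memA.mp ha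
    have h1 : d.img ⟨x, hx⟩ * d.img ⟨a, d.D_le_cq h⟩ * (d.img ⟨x, hx⟩)⁻¹ ∈ N := hN.conj_mem _ hm _
    obtain ⟨e, he, hee⟩ := d.mem_Db.mp (hND h1)
    have heA : e ∈ A := memA.mpr ⟨he, hee ▸ h1⟩
    rw [← map_mul, ← map_inv, ← map_mul] at hee
    set w := e⁻¹ * (x * a * x⁻¹) with hw
    have hwQ : w ∈ zpowers d.q := (d.img_eq_one (x := ⟨e, d.D_le_cq he⟩⁻¹ * (⟨x, hx⟩ * ⟨a, d.D_le_cq h⟩ * ⟨x, hx⟩⁻¹))).mp
      (by rw [map_mul, map_inv, inv_mul_eq_one]; exact hee.symm)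
    have hew : Commute e w := by
      obtain ⟨k, hk⟩ := mem_zpowers_iff.mp hwQ
      rw [← hk]
      exact Commute.zpow_right (d.mem_cq.mp (d.D_le_cq he) : Commute e d.q) k
    have hsq2 : (e * w) ^ 2 = 1 := by
      rw [hw, mul_inv_cancel_left, conj_pow, sq a, hAsq a ha, mul_one, mul_inv_cancel]
    rw [hew.mul_pow, sq e, hAsq e heA, one_mul] at hsq2
    have := d.small hwQ hsq2 (by norm_num)
    rw [hw, inv_mul_eq_one] at this
    exact this ▸ heA
  have hνA : ∀ a ∈ A, d.ν * a * d.ν⁻¹ ∈ A := by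
    intro a ha
    have hcq : ∀ b ∈ A, d.ν * b * d.ν⁻¹ ∈ d.D := by
      intro b hb
      obtain ⟨h, -⟩ := memA.mp hb
      refine d.mem_D.mpr ⟨c.conj_E d.νc.1 (d.mem_D.mp h).1, ?_⟩
      have hb2 : Commute b (d.q ^ 3) := Commute.pow_right ((d.mem_D.mp h).2.symm) 3
      have e : d.ν * d.q ^ 3 * d.ν⁻¹ = d.q := by
        rw [← conj_pow, d.νq, ← pow_mul, show 2 * 3 = 5 + 1 from rfl, pow_succ, d.q5, one_mul]
      calc d.q * (d.ν * b * d.ν⁻¹) = (d.ν * d.q ^ 3 * d.ν⁻¹) * (d.ν * b * d.ν⁻¹) := by rw [e]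
        _ = d.ν * (d.q ^ 3 * b) * d.ν⁻¹ := by group
        _ = d.ν * (b * d.q ^ 3) * d.ν⁻¹ := by rw [hb2.eq]
        _ = (d.ν * b * d.ν⁻¹) * (d.ν * d.q ^ 3 * d.ν⁻¹) := by group
        _ = d.ν * b * d.ν⁻¹ * d.q := by rw [e]
    set B : Subgroup d.X := ((A.map (MulAut.conj d.ν).toMonoidHom).subgroupOf d.cq).map d.img with hB
    have hBn : B.Normal := ⟨fun y hy g => by
      obtain ⟨g, rfl⟩ := QuotientGroup.mk'_surjective d.Qc g
      obtain ⟨y, hy, rfl⟩ := hy
      obtain ⟨b, hb, hby⟩ := mem_subgroupOf.mp hy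
      refine ⟨g * y * g⁻¹, mem_subgroupOf.mpr ?_, by rw [map_mul, map_mul, map_inv]⟩
      refine ⟨(d.ν⁻¹ * g * d.ν) * b * (d.ν⁻¹ * g * d.ν)⁻¹, hnorm _ (d.conj_ν_cq g.2) _ hb, ?_⟩
      simp only [MulEquiv.coe_toMonoidHom, MulAut.conj_apply, Subgroup.coe_mul, Subgroup.coe_inv] at hby ⊢
      rw [← hby]; group⟩
    have hBcard : Nat.card B = 8 := by
      have hle : A.map (MulAut.conj d.ν).toMonoidHom ≤ d.cq := by
        rintro _ ⟨b, hb, rfl⟩; exact d.D_le_cq (hcq b hb)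
      rw [hB, d.card_image hle (by rw [card_map_of_injective (MulAut.conj d.ν).injective, hA8]; norm_num),
        card_map_of_injective (MulAut.conj d.ν).injective, hA8]
    haveI := hBn
    have hBN : B ≤ N := by
      rcases (hBn.map (QuotientGroup.mk' N) (QuotientGroup.mk'_surjective N)).eq_bot_or_eq_top with h | h
      · rw [Subgroup.map_eq_bot_iff, QuotientGroup.ker_mk'] at h; exact h
      · exfalso
        have := Subgroup.card_le_of_le (le_of_eq h.symm)
        have h' := Nat.le_of_dvd Nat.card_pos (B.card_map_dvd (QuotientGroup.mk' N))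
        rw [card_top, hQcard] at this
        omega
    refine memA.mpr ⟨hcq a ha, hBN ⟨⟨_, d.D_le_cq (hcq a ha)⟩, mem_subgroupOf.mpr ⟨a, ha, rfl⟩, rfl⟩⟩
  -- the complement of q
  obtain ⟨J0, hJ0⟩ := Subgroup.exists_right_complement'_of_coprime (N := d.Qc) (by
    rw [d.card_Qc, Subgroup.index_eq_card, hX]; norm_num)
  have hbij : Function.Bijective (d.img.comp J0.subtype) := by
    refine ⟨(injective_iff_map_eq_one _).mpr fun x hx => Subtype.ext ?_, fun y => ?_⟩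
    · exact disjoint_def.mp hJ0.disjoint ((QuotientGroup.eq_one_iff _).mp hx) x.2
    · obtain ⟨x, rfl⟩ := QuotientGroup.mk'_surjective d.Qc y
      obtain ⟨⟨⟨a, ha⟩, b⟩, hab', -⟩ := hJ0.existsUnique x
      refine ⟨b, ?_⟩
      rw [show x = a * b from hab'.symm]
      show d.img b = d.img (a * b)
      rw [map_mul, show d.img a = 1 from (QuotientGroup.eq_one_iff a).mpr ha, one_mul]
  set J : Subgroup G := J0.map d.cq.subtype with hJ
  let ι : ↥J ≃* d.X :=
    (J0.equivMapOfInjective d.cq.subtype d.cq.subtype_injective).symm.trans (MulEquiv.ofBijective _ hbij)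
  have hι : ∀ (j : J) (h : (j : G) ∈ d.cq), ι j = d.img ⟨j, h⟩ := by
    intro j h
    obtain ⟨k, rfl⟩ := (J0.equivMapOfInjective d.cq.subtype d.cq.subtype_injective).surjective j
    show d.img ((J0.equivMapOfInjective _ d.cq.subtype_injective).symm
      (J0.equivMapOfInjective _ d.cq.subtype_injective k) : d.cq) = _
    rw [MulEquiv.symm_apply_apply]
    rfl
  have hJcard : Nat.card J = 1344 := by rw [Nat.card_congr ι.toEquiv, hX]
  have hdec : ∀ x ∈ d.cq, ∃ a ∈ zpowers d.q, ∃ j ∈ J, x = a * j := by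
    intro x hx
    obtain ⟨⟨⟨a, ha⟩, ⟨b, hb⟩⟩, hab', -⟩ := hJ0.existsUnique ⟨x, hx⟩
    exact ⟨a, mem_subgroupOf.mp ha, b, ⟨b, hb, rfl⟩, (congrArg Subtype.val hab').symm⟩
  have hpart : ∀ x ∈ d.cq, ∀ n : ℕ, Nat.Coprime n 5 → x ^ n = 1 → x ∈ J := by
    intro x hx n hn hxn
    obtain ⟨a, ha, j, hj, rfl⟩ := hdec x hx
    obtain ⟨b, hb, rfl⟩ := hj
    have hc' : Commute a (b : G) := by
      obtain ⟨k, rfl⟩ := mem_zpowers_iff.mp ha
      exact ((Commute.zpow_right (d.mem_cq.mp b.2 : Commute (b : G) d.q) k).symm)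
    change (a * (b : G)) ^ n = 1 at hxn
    rw [hc'.mul_pow] at hxn
    have hmem : (⟨a ^ n, d.Q_le_cq (pow_mem ha n)⟩ : d.cq) ∈ J0 := by
      have : (⟨a ^ n, d.Q_le_cq (pow_mem ha n)⟩ : d.cq) = (b ^ n)⁻¹ :=
        Subtype.ext (eq_inv_of_mul_eq_one_left hxn)
      rw [this]; exact inv_mem (pow_mem hb n)
    have h1 := congrArg Subtype.val
      (disjoint_def.mp hJ0.disjoint (mem_subgroupOf.mpr (pow_mem ha n)) hmem)
    rw [d.small ha (show a ^ n = 1 from h1) hn, one_mul]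
    exact ⟨b, hb, rfl⟩
  have hJcq : J ≤ d.cq := map_subtype_le J0
  have hAJ : A ≤ J := fun a ha => hpart a (d.D_le_cq (memA.mp ha).1) 2 (by norm_num) (by rw [sq]; exact hAsq a ha)
  have hmemA : ∀ j : J, ι j ∈ N ↔ (j : G) ∈ A := by
    intro j
    constructor
    · intro hj
      obtain ⟨e, he, hje⟩ := d.mem_Db.mp (hND hj)
      have heA : e ∈ A := memA.mpr ⟨he, hje ▸ hj⟩
      have : (⟨e, hAJ heA⟩ : J) = j := ι.injective ((hι _ (d.D_le_cq he)).trans hje.symm)
      rw [← this]; exact heA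
    · intro hj
      rw [hι j (hJcq j.2)]
      exact (memA.mp hj).2
  let φ : ↥J →* Matrix.SpecialLinearGroup (Fin 3) (ZMod 2) :=
    (φ0.toMonoidHom.comp (QuotientGroup.mk' N)).comp ι.toMonoidHom
  have hφker : ∀ j : J, φ j = 1 ↔ (j : G) ∈ A := fun j => by
    show φ0 (QuotientGroup.mk' N (ι j)) = 1 ↔ _
    rw [EmbeddingLike.map_eq_one_iff, ← hmemA]
    exact QuotientGroup.eq_one_iff _
  -- orbit of s
  have horb : ∀ n ∈ N, n ≠ 1 → ∃ g : d.X, g * d.s * g⁻¹ = n := by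
    intro n hn hn1
    let Φ : d.X ⧸ d.L → {y : N // y ≠ 1} := Quotient.lift
      (fun g => (⟨⟨g * d.s * g⁻¹, hN.conj_mem _ hs g⟩, fun h =>
        d.s_ne_one (conj_eq_one_iff.mp (congrArg Subtype.val h))⟩ : {y : N // y ≠ 1})) (fun a b hab' => by
      have hl : a⁻¹ * b ∈ d.L := QuotientGroup.leftRel_apply.mp hab'
      refine Subtype.ext (Subtype.ext ?_)
      show a * d.s * a⁻¹ = b * d.s * b⁻¹
      have hc' := mem_centralizer_singleton_iff.mp hl
      calc a * d.s * a⁻¹ = a * (d.s * (a⁻¹ * b)) * b⁻¹ := by group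
        _ = a * ((a⁻¹ * b) * d.s) * b⁻¹ := by rw [hc']
        _ = b * d.s * b⁻¹ := by group)
    have hΦ : Function.Injective Φ := by
      intro x y
      induction x using QuotientGroup.induction_on with | H a => ?_
      induction y using QuotientGroup.induction_on with | H b => ?_
      intro e
      have e' : a * d.s * a⁻¹ = b * d.s * b⁻¹ := congrArg (fun t : {y : N // y ≠ 1} => ((t : N) : d.X)) e
      rw [QuotientGroup.eq]
      refine mem_centralizer_singleton_iff.mpr ?_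
      calc a⁻¹ * b * d.s = a⁻¹ * (b * d.s * b⁻¹) * b := by group
        _ = a⁻¹ * (a * d.s * a⁻¹) * b := by rw [e']
        _ = d.s * (a⁻¹ * b) := by group
    have hidx : Nat.card (d.X ⧸ d.L) = 7 := by
      have := Subgroup.card_mul_index d.L
      rw [d.card_L, hX, Subgroup.index_eq_card] at this
      omega
    haveI : Fintype N := Fintype.ofFinite _
    have hsurj := ((Nat.bijective_iff_injective_and_card Φ).mpr ⟨hΦ, by
      rw [hidx, Nat.card_eq_fintype_card, Fintype.card_subtype_compl, Fintype.card_subtype_eq,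
        ← Nat.card_eq_fintype_card, h8]⟩).2
    obtain ⟨x, hx⟩ := hsurj ⟨⟨n, hn⟩, fun h => hn1 (congrArg Subtype.val h)⟩
    induction x using QuotientGroup.induction_on with | H a => ?_
    exact ⟨a, congrArg (fun t : {y : N // y ≠ 1} => ((t : N) : d.X)) hx⟩
  have hzJ : z ∈ J := hAJ hzA
  have hιz : ι ⟨z, hzJ⟩ = d.s := hι _ d.z_cq
  have horbit : ∀ a ∈ A, a ≠ 1 → ∃ j ∈ J, j * z * j⁻¹ = a := by
    intro a ha ha1
    obtain ⟨g, hg⟩ := horb (ι ⟨a, hAJ ha⟩) ((hmemA _).mpr ha)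
      (fun h => ha1 (congrArg Subtype.val ((EmbeddingLike.map_eq_one_iff (f := ι)).mp h)))
    obtain ⟨j, rfl⟩ := ι.surjective g
    rw [← hιz, ← map_mul, ← map_inv, ← map_mul] at hg
    exact ⟨j, j.2, congrArg Subtype.val (ι.injective hg)⟩
  -- self centralizing
  have hselfN : ∀ x : d.X, (∀ n ∈ N, x * n = n * x) → x ∈ N := by
    intro x hx
    have hCn : (centralizer (N : Set d.X)).Normal := inferInstance
    rcases (hCn.map (QuotientGroup.mk' N) (QuotientGroup.mk'_surjective N)).eq_bot_or_eq_top with h | h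
    · rw [Subgroup.map_eq_bot_iff, QuotientGroup.ker_mk'] at h
      exact h (mem_centralizer_iff.mpr fun n hn => (hx n hn).symm)
    · exfalso
      have hNC : N ≤ centralizer (N : Set d.X) := fun n hn => mem_centralizer_iff.mpr fun y hy => hab y hy n hn
      have htop : centralizer (N : Set d.X) = ⊤ := by
        have := congrArg (Subgroup.comap (QuotientGroup.mk' N)) h
        rwa [comap_top, comap_map_eq, QuotientGroup.ker_mk', sup_eq_left.mpr hNC] at this
      have hle : N ≤ zpowers d.s := fun n hn => by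
        have hcen : ∀ y : d.X, y * n = n * y := fun y =>
          (mem_centralizer_iff.mp (htop ▸ mem_top y : y ∈ centralizer (N : Set d.X)) n hn).symm
        exact d.center_L (mem_centralizer_singleton_iff.mpr (hcen d.s).symm) (hsq n hn) fun y _ => hcen y
      have := card_le_of_le hle
      rw [h8, Nat.card_zpowers, d.order_s] at this
      norm_num at this
  have hselfJ : ∀ j ∈ J, (∀ a ∈ A, j * a = a * j) → j ∈ A := by
    intro j hj hcomm
    refine (hmemA ⟨j, hj⟩).mp (hselfN _ fun n hn => ?_)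
    obtain ⟨k, rfl⟩ := ι.surjective n
    rw [← map_mul, ← map_mul]
    exact congrArg ι (Subtype.ext (hcomm k ((hmemA k).mp hn)))
  -- an element of order seven
  obtain ⟨x, hx⟩ := exists_prime_orderOf_dvd_card' (G := J) 7 (by rw [hJcard]; norm_num)
  have hsfix : ∀ a ∈ A, (x : G) * a * (x : G)⁻¹ = a → a = 1 := by
    intro a ha hxa
    by_contra ha1
    let F : Subgroup J :=
      { carrier := {g | (g : G) ∈ A ∧ (x : G) * g * (x : G)⁻¹ = g}
        one_mem' := ⟨A.one_mem, by simp⟩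
        mul_mem' := fun {g h} hg hh => ⟨A.mul_mem hg.1 hh.1, by
          rw [Subgroup.coe_mul, show (x : G) * (g * h) * (x : G)⁻¹ = (x * g * (x : G)⁻¹) * (x * h * (x : G)⁻¹) by group,
            hg.2, hh.2]⟩
        inv_mem' := fun {g} hg => ⟨A.inv_mem hg.1, by
          rw [Subgroup.coe_inv, show (x : G) * (g : G)⁻¹ * (x : G)⁻¹ = ((x : G) * g * (x : G)⁻¹)⁻¹ by group, hg.2]⟩ }
    letI : MulAction (zpowers x) A :=
      { smul := fun k b => ⟨((k : J) : G) * b * ((k : J) : G)⁻¹, hnorm _ (hJcq (k : J).2) b b.2⟩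
        one_smul := fun b => Subtype.ext (by
          show (1 : G) * b * (1 : G)⁻¹ = b
          group)
        mul_smul := fun k l b => Subtype.ext (by
          show ((k : J) : G) * (l : J) * b * (((k : J) : G) * (l : J))⁻¹ = _ * (_ * b * _) * _
          group) }
    have h7 := (IsPGroup.of_card (n := 1) (show Nat.card (zpowers x) = 7 ^ 1 by
      rw [Nat.card_zpowers, hx, pow_one])).card_modEq_card_fixedPoints (α := A)
    rw [hA8] at h7
    have hfx : Nat.card (MulAction.fixedPoints (zpowers x) A) = Nat.card F := by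
      refine Nat.card_congr
        { toFun := fun b => ⟨⟨b.1, hAJ b.1.2⟩, b.1.2, congrArg Subtype.val (b.2 ⟨x, mem_zpowers x⟩)⟩
          invFun := fun g => ⟨⟨g.1, g.2.1⟩, ?_⟩
          left_inv := fun _ => rfl
          right_inv := fun _ => rfl }
      rintro ⟨k, hk⟩
      obtain ⟨i, rfl⟩ := mem_zpowers_iff.mp hk
      refine Subtype.ext ?_
      show ((x ^ i : J) : G) * (g.1 : G) * ((x ^ i : J) : G)⁻¹ = g.1
      have hcomm : Commute (x : G) (g.1 : G) := mul_inv_eq_iff_eq_mul.mp g.2.2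
      rw [Subgroup.coe_zpow, (hcomm.zpow_left i).eq, mul_inv_cancel_right]
    rw [hfx] at h7
    have hdvd : Nat.card F ∣ 2 ^ 3 := by
      rw [show (2 : ℕ) ^ 3 = 8 from rfl, ← hA8, ← Nat.card_congr (subgroupOfEquivOfLe hAJ).toEquiv]
      exact card_dvd_of_le fun g hg => hg.1
    have hF1 : Nat.card F ≠ 1 := fun h => ha1 (by
      have hmem : (⟨a, hAJ ha⟩ : J) ∈ F := ⟨ha, hxa⟩
      rw [Subgroup.eq_bot_of_card_eq _ h, mem_bot] at hmem
      exact congrArg Subtype.val hmem)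
    obtain ⟨i, hi, hic⟩ := (Nat.dvd_prime_pow Nat.prime_two).mp hdvd
    have hi3 : i = 3 := by
      rw [hic] at h7 hF1
      unfold Nat.ModEq at h7
      interval_cases i <;> first | rfl | (exfalso; norm_num at h7; done) | exact absurd rfl hF1
    subst hi3
    have hFA : F = A.subgroupOf J := eq_of_le_of_card_ge (fun g hg => hg.1)
      (by rw [hic, Nat.card_congr (subgroupOfEquivOfLe hAJ).toEquiv, hA8]; norm_num)
    have hxA := hselfJ x x.2 fun b hb => mul_inv_eq_iff_eq_mul.mp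
      (show (⟨b, hAJ hb⟩ : J) ∈ F by rw [hFA]; exact hb).2
    have := hAsq x hxA
    rw [← sq, ← Subgroup.coe_pow] at this
    have h2' : x ^ 2 = 1 := Subtype.ext this
    have := orderOf_dvd_of_pow_eq_one h2'
    rw [hx] at this
    norm_num at this
  refine ⟨{
    A := A, J := J, s := x, φ := φ
    AD := fun a ha => (memA.mp ha).1
    zA := hzA, cardA := hA8, sqA := hAsq, commA := hAcomm, Jcq := hJcq, AJ := hAJ, cardJ := hJcard
    J_part := hpart, decomp := hdec, norm := hnorm, νnorm := hνA, orbit := horbit, selfJ := hselfJ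
    φsurj := φ0.surjective.comp ((QuotientGroup.mk'_surjective N).comp ι.surjective)
    φker := hφker
    maxN := ?_
    sJ := x.2
    order_s := by rw [Subgroup.orderOf_coe, hx]
    sfix := hsfix
    nonsplit := ?_ }⟩
  · intro W hWJ hAW hW
    let W' : Subgroup d.X := (W.subgroupOf J).map ι.toMonoidHom
    have hW'n : W'.Normal := ⟨fun y hy g => by
      obtain ⟨k, rfl⟩ := ι.surjective g
      obtain ⟨w, hw, rfl⟩ := hy
      exact ⟨k * w * k⁻¹, mem_subgroupOf.mpr (hW k k.2 w (mem_subgroupOf.mp hw)), by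
        rw [MulEquiv.coe_toMonoidHom, map_mul, map_mul, map_inv]⟩⟩
    rcases (hW'n.map (QuotientGroup.mk' N) (QuotientGroup.mk'_surjective N)).eq_bot_or_eq_top with h | h
    · left
      rw [Subgroup.map_eq_bot_iff, QuotientGroup.ker_mk'] at h
      exact le_antisymm (fun w hw => (hmemA ⟨w, hWJ hw⟩).mp (h ⟨_, mem_subgroupOf.mpr hw, rfl⟩)) hAW
    · right
      refine le_antisymm hWJ fun j hj => ?_
      obtain ⟨y, ⟨w, hw, rfl⟩, e⟩ := (h ▸ mem_top (QuotientGroup.mk' N (ι ⟨j, hj⟩)) :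
        QuotientGroup.mk' N (ι ⟨j, hj⟩) ∈ W'.map (QuotientGroup.mk' N))
      have h1 : ι (w⁻¹ * ⟨j, hj⟩) ∈ N := by
        rw [← QuotientGroup.eq_one_iff, map_mul, map_inv]
        show QuotientGroup.mk' N ((ι w)⁻¹ * ι ⟨j, hj⟩) = 1
        rw [map_mul, map_inv, inv_mul_eq_one]
        exact e
      have h2 := W.mul_mem (mem_subgroupOf.mp hw) (hAW ((hmemA _).mp h1))
      simpa using h2
  · intro K hKJ hKA hKc
    refine hns ((K.subgroupOf J).map ι.toMonoidHom) ?_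
    refine isComplement'_of_card_mul_and_disjoint ?_ (disjoint_def.mpr fun {y} hy hy' => ?_)
    · rw [h8, card_map_of_injective (f := ι.toMonoidHom) ι.injective,
        Nat.card_congr (subgroupOfEquivOfLe hKJ).toEquiv, hKc, hX]
    · obtain ⟨k, hk, rfl⟩ := hy'
      have : (k : G) ∈ K ⊓ A := ⟨mem_subgroupOf.mp hk, (hmemA k).mp hy⟩
      rw [hKA, mem_bot] at this
      rw [show k = 1 from Subtype.ext this, map_one]

end FiveData5

end CfsgLib.JankoFour
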