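/-
Data on the stabilizer of a duad in M22 (checked in Lib/JankoFour/EightModel.lean).
-/
import Mathlib.Data.Nat.Notation

set_option autoImplicit false
set_option maxRecDepth 20000

namespace CfsgLib.JankoFour.EightData

/-- Carries the duad group to the one normalized by the element of order five and the one of order four. -/
def gDuad : ℕ := 972606756865356205032894319257913664

/-- An element of order three as a word. -/
def threeWord : List ℕ := [16, 4]

/-- The generators of a Sylow 2-subgroup as words. -/
def sylWord : List (List ℕ) := [[16, 3, 16, 3], [8, 16, 11], [16, 9, 16, 9], [12, 16, 7, 16, 4], [16, 11, 16, 3], [16, 9, 16, 11], [16, 12, 16, 17, 4]]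

/-- The elements of the duad group as words. -/
def duadWord : List (List ℕ) := [[], [16, 3, 16, 3], [16, 9, 16, 9], [16, 11, 16, 11], [16, 11, 16, 3], [16, 9, 16, 1], [16, 3, 16, 11], [8], [16, 9, 16, 11], [16, 11, 16, 9], [2], [16, 3, 16, 1], [16, 3, 16, 9], [10], [16, 11, 16, 1], [16, 9, 16, 3]]

end CfsgLib.JankoFour.EightData
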