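/-
The group generated by a hexad group and the normalizing elements of order five and four: the stabilizer of a duad.
-/
import Cfsg.Agent.Lib.JankoFour.EightData
import Cfsg.Agent.Lib.JankoFour.FiveModel

set_option autoImplicit false
set_option maxRecDepth 20000

namespace CfsgLib.JankoFour

open Cfsg CfsgGolay M22Data FiveData EightData
open Out23 (eqCode eqCode_iff cN)

attribute [local irreducible] codeL octadL dodecadL

local notation "M" => MTwoTwo

/-- What is used about the stabilizer of the duad. -/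
structure EightModel (m : FiveModel) where
  R : Subgroup M
  cardR : Nat.card R = 16
  big : ∀ V : Subgroup M, m.AThree ≤ V → m.q ∈ V → m.ν ∈ V → 1920 ∣ Nat.card V ∧ R ≤ V
  AR : m.AThree ≤ Subgroup.normalizer (R : Set M)
  qR : m.q ∈ Subgroup.normalizer (R : Set M)
  νR : m.ν ∈ Subgroup.normalizer (R : Set M)
  sqR : m.ν * m.ν ∉ R

namespace EightChk

open FiveChk

/-- The generators. -/
def gensU : List ℕ := hexC gThree ++ [cN, nuC]

/-- The conjugate of an element of the Sylow 2-subgroup. -/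
def dc (i : ℕ) : ℕ := cj gDuad (wd i)

theorem words_checked : (memB gDuad &&
    ((List.range 7).all fun k => eqCode (evalW gensU (sylWord.getD k [])) (cj gDuad (sylB.getD k 0))) &&
    ((List.range 16).all fun k => eqCode (evalW gensU (duadWord.getD k [])) (dc (duadI.getD k 0))) &&
    eqCode (ppow (evalW gensU threeWord) 3) pid && !eqCode (evalW gensU threeWord) pid) = true := by decide +kernel

theorem normal_checked : ((gensU.all fun c => normB (mv gDuad c gDuad) duadI) &&
    duadI.all fun i => !eqCode (pcomp nuC nuC) (dc i)) = true := by decide +kernel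

theorem exists_model_at : ∃ (m : FiveModel) (g3 : M), Repr gThree ((g3 : M) : Equiv.Perm GolayPt) ∧
    m.AThree = hexA.map (MulAut.conj g3).toMonoidHom ∧ Repr cN ((m.q : M) : Equiv.Perm GolayPt) ∧
    Repr nuC ((m.ν : M) : Equiv.Perm GolayPt) := by
  have hm := FiveChk.mem_checked
  simp only [List.all_eq_true, List.mem_cons, List.not_mem_nil, or_false, forall_eq_or_imp, forall_eq] at hm
  obtain ⟨m1, m2, m3, mν, mq1, mn, mq⟩ := hm
  obtain ⟨g1, r1⟩ := exists_el m1
  obtain ⟨g2, r2⟩ := exists_el m2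
  obtain ⟨g3, r3⟩ := exists_el m3
  obtain ⟨ν, rν⟩ := exists_el mν
  obtain ⟨q1, rq1⟩ := exists_el mq1
  obtain ⟨nn, rn⟩ := exists_el mn
  obtain ⟨q, rq⟩ := exists_el mq
  have hr := FiveChk.rel_checked
  simp only [Bool.and_eq_true, Bool.not_eq_true', List.contains_iff_mem] at hr
  obtain ⟨⟨⟨⟨⟨⟨⟨hq5, hqne⟩, h15⟩, h1ne⟩, hν4⟩, hνq⟩, hsq⟩, hidx⟩ := hr
  have hμc := FiveChk.mu_checked
  simp only [Bool.and_eq_true] at hμc
  obtain ⟨⟨⟨⟨⟨hp, hk⟩, h0⟩, h23⟩, hμ2⟩, hμq⟩ := hμc
  obtain ⟨x, rx⟩ := exists_repr_of_permOK hp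
  have hx24 := mem_M24_of_gensKept rx hk
  have x0 : x (pt 0) = pt 23 := by rw [rx.apply_pt (by norm_num), Nat.eq_of_beq_eq_true h0]
  have x23 : x (pt 23) = pt 0 := by rw [rx.apply_pt (by norm_num), Nat.eq_of_beq_eq_true h23]
  have hxx : x * x = 1 := (eqCode_iff (rx.comp rx) repr_pid).mp hμ2
  have hxi : x⁻¹ = x := inv_eq_of_mul_eq_one_left hxx
  have hnorm := mu_normalizes hx24 x0 x23
  let μ : MulAut M :=
    { toFun := fun g => ⟨x * g * x⁻¹, hnorm _ g.2⟩
      invFun := fun g => ⟨x * g * x⁻¹, hnorm _ g.2⟩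
      left_inv := fun g => Subtype.ext (by
        show x * (x * (g : Equiv.Perm GolayPt) * x⁻¹) * x⁻¹ = _
        rw [hxi, ← mul_assoc, ← mul_assoc, hxx, one_mul, mul_assoc, hxx, mul_one])
      right_inv := fun g => Subtype.ext (by
        show x * (x * (g : Equiv.Perm GolayPt) * x⁻¹) * x⁻¹ = _
        rw [hxi, ← mul_assoc, ← mul_assoc, hxx, one_mul, mul_assoc, hxx, mul_one])
      map_mul' := fun g h => Subtype.ext (by
        show x * ((g : Equiv.Perm GolayPt) * h) * x⁻¹ = x * g * x⁻¹ * (x * h * x⁻¹)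
        group) }
  have hn := FiveChk.norm_checked
  simp only [Bool.and_eq_true] at hn
  obtain ⟨⟨⟨⟨⟨⟨⟨n1, n2⟩, n12⟩, n21⟩, n3⟩, n3q⟩, n3n⟩, nμ⟩ := hn
  have hw := FiveChk.words_checked
  simp only [Bool.and_eq_true, List.all_eq_true, List.mem_range] at hw
  obtain ⟨⟨w12, wb⟩, worb⟩ := hw
  have eqM : ∀ {a b : ℕ} {g g' : M}, Repr a ((g : M) : Equiv.Perm GolayPt) → Repr b ((g' : M) : Equiv.Perm GolayPt) →
      (eqCode a b = true ↔ g = g') := fun ha hb => (eqCode_iff ha hb).trans Subtype.ext_iff.symm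
  haveI : Fact (Nat.Prime 5) := ⟨by norm_num⟩
  have rconj : Repr (cj nnC qOne) (((nn * q1 * nn⁻¹ : M)) : Equiv.Perm GolayPt) := by
    simp only [Subgroup.coe_mul, Subgroup.coe_inv]
    exact (rn.comp rq1).comp rn.inv
  refine ⟨{
    q := q, ν := ν, qOne := q1, nn := nn
    AOne := hexA.map (MulAut.conj g1).toMonoidHom
    ATwo := hexA.map (MulAut.conj g2).toMonoidHom
    AThree := hexA.map (MulAut.conj g3).toMonoidHom
    μ := μ
    q5 := orderOf_eq_prime ((eqM (repr_pow rq 5) repr_one).mp hq5)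
      (fun e => by rw [(eqM rq repr_one).mpr e] at hqne; exact Bool.noConfusion hqne)
    selfC := ?_
    νq := mul_inv_eq_iff_eq_mul.mpr ((eqM (repr_mul rν rq) (repr_mul (repr_pow rq 2) rν)).mp hνq)
    ν4 := (eqM (repr_pow rν 4) repr_one).mp hν4
    hexOne := hexA_hex.map _
    hexTwo := hexA_hex.map _
    hexThree := hexA_hex.map _
    qAOne := norm_of rq r1 n1
    qATwo := norm_of rq r2 n2
    νOne := carry_el rν r1 r2 n12
    νTwo := carry_el rν r2 r1 n21
    νThree := norm_of rν r3 n3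
    sqThree := ?_
    qOne5 := orderOf_eq_prime ((eqM (repr_pow rq1 5) repr_one).mp h15)
      (fun e => by rw [(eqM rq1 repr_one).mpr e] at h1ne; exact Bool.noConfusion h1ne)
    qOneThree := norm_of rq1 r3 n3q
    nnThree := norm_of rn r3 n3n
    gen12 := fun V h1 h2 => nine_words w12 V fun c hc => (List.mem_append.mp hc).elim (gens_hex r1 h1 c) (gens_hex r2 h2 c)
    genBase := ?_
    genOrb := ?_
    genOrbit := ?_
    μq := ?_
    μμ := ?_
    μOne := ?_ }, g3, r3, rfl, rq, rν⟩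
  · intro g hg
    have hgs : (g : Equiv.Perm GolayPt) ∈ subG [0, 23] [] := M22_eq ▸ g.2
    obtain ⟨t, ht⟩ := FiveSelf.self_cent rq hgs (congrArg Subtype.val hg)
    exact ⟨t, Subtype.ext (by rw [ht, Subgroup.coe_pow])⟩
  · refine ⟨we idxI, mem_hexA.mpr ⟨_, hidx, rfl⟩, ((eqM (g := ν ^ 2) ?_ ?_).mp hsq).symm⟩
    · rw [sq]; exact repr_mul rν rν
    · simp only [MulEquiv.coe_toMonoidHom, MulAut.conj_apply, Subgroup.coe_mul, Subgroup.coe_inv]
      exact (r3.comp (we_repr _)).comp r3.inv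
  · intro V hA hq1 hnq
    refine nine_words wb V fun c hc => ?_
    rcases List.mem_append.mp hc with hc | hc
    · exact gens_hex r3 hA c hc
    · simp only [List.mem_cons, List.not_mem_nil, or_false] at hc
      rcases hc with rfl | rfl
      exacts [⟨_, hq1, rq1⟩, ⟨_, hnq, rconj⟩]
  · intro V hA hq hq1
    refine nine_words (worb 0 (by norm_num)) V fun c hc => ?_
    rcases List.mem_append.mp hc with hc | hc
    · exact gens_hex r3 hA c hc
    · simp only [List.mem_cons, List.not_mem_nil, or_false, if_true] at hc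
      rcases hc with rfl | rfl
      exacts [⟨_, hq, rq⟩, ⟨_, hq1, rq1⟩]
  · intro k hk V hA hq hy
    refine nine_words (worb (k + 1) (by omega)) V fun c hc => ?_
    rcases List.mem_append.mp hc with hc | hc
    · exact gens_hex r3 hA c hc
    · simp only [List.mem_cons, List.not_mem_nil, or_false, Nat.succ_ne_zero, if_false, Nat.add_sub_cancel] at hc
      rcases hc with rfl | rfl
      · exact ⟨_, hq, rq⟩
      · refine ⟨_, hy, ?_⟩
        simp only [Subgroup.coe_mul, Subgroup.coe_inv, Subgroup.coe_pow]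
        exact ((rq1.pow k).comp ((rn.comp rq1).comp rn.inv)).comp (rq1.pow k).inv
  · refine Subtype.ext ?_
    show x * (q : Equiv.Perm GolayPt) * x⁻¹ = q
    exact mul_inv_eq_iff_eq_mul.mpr ((eqCode_iff (rx.comp rq) (rq.comp rx)).mp hμq)
  · refine MulEquiv.ext fun g => Subtype.ext ?_
    show x * (x * (g : Equiv.Perm GolayPt) * x⁻¹) * x⁻¹ = g
    rw [hxi, ← mul_assoc, ← mul_assoc, hxx, one_mul, mul_assoc, hxx, mul_one]
  · intro a ha
    obtain ⟨b, hb, e⟩ := carry rx r1 r2 nμ a ha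
    exact (Subtype.ext e.symm : μ a = b) ▸ hb

theorem exists_eight_model : ∃ m : FiveModel, Nonempty (EightModel m) := by
  classical
  obtain ⟨m, g3, r3, hA3, rq, rν⟩ := exists_model_at
  have hw := words_checked
  simp only [Bool.and_eq_true, List.all_eq_true, List.mem_range, Bool.not_eq_true'] at hw
  obtain ⟨⟨⟨⟨hmem, hsyl⟩, hdu⟩, h3⟩, h3'⟩ := hw
  obtain ⟨g, rg⟩ := exists_el hmem
  have hs := sets_checked
  simp only [Bool.and_eq_true, List.contains_iff_mem, decide_eq_true_eq] at hs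
  obtain ⟨⟨⟨⟨⟨⟨⟨-, hd⟩, -⟩, hdl⟩, -⟩, hd0⟩, -⟩, hdn⟩ := hs
  obtain ⟨D, hD⟩ := idx_subgroup hd hd0
  have hlen : duadI.length = 16 := Nat.eq_of_beq_eq_true hdl
  have hcD : Nat.card D = 16 := by
    rw [← hlen, ← card_idxSet hd hdn, ← hD]; rfl
  set R := D.map (MulAut.conj g).toMonoidHom with hR
  have eqM : ∀ {a b : ℕ} {g g' : M}, Repr a ((g : M) : Equiv.Perm GolayPt) → Repr b ((g' : M) : Equiv.Perm GolayPt) →
      (eqCode a b = true ↔ g = g') := fun ha hb => (eqCode_iff ha hb).trans Subtype.ext_iff.symm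
  have rdc : ∀ i, Repr (dc i) ((g * we i * g⁻¹ : M) : Equiv.Perm GolayPt) := fun i => by
    simp only [Subgroup.coe_mul, Subgroup.coe_inv]
    exact (rg.comp (we_repr i)).comp rg.inv
  have hgens : ∀ V : Subgroup M, m.AThree ≤ V → m.q ∈ V → m.ν ∈ V →
      ∀ c ∈ gensU, ∃ a ∈ V, Repr c ((a : M) : Equiv.Perm GolayPt) := by
    intro V h1 h2 h3 c hc
    rcases List.mem_append.mp hc with hc | hc
    · exact gens_hex r3 (hA3 ▸ h1) c hc
    · simp only [List.mem_cons, List.not_mem_nil, or_false] at hc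
      rcases hc with rfl | rfl
      exacts [⟨_, h2, rq⟩, ⟨_, h3, rν⟩]
  have heval : ∀ V : Subgroup M, m.AThree ≤ V → m.q ∈ V → m.ν ∈ V →
      ∀ l, ∃ a ∈ V, Repr (evalW gensU l) ((a : M) : Equiv.Perm GolayPt) := by
    intro V h1 h2 h3 l
    induction l with
    | nil => exact ⟨1, one_mem _, repr_one⟩
    | cons i l ih =>
      obtain ⟨a, ha, hr⟩ := ih
      by_cases hi : i < gensU.length
      · obtain ⟨b, hb, hrb⟩ := hgens V h1 h2 h3 _ (List.getElem_mem hi)
        refine ⟨b * a, mul_mem hb ha, ?_⟩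
        rw [evalW, List.getD_eq_getElem _ _ hi]
        exact repr_mul hrb hr
      · refine ⟨1 * a, mul_mem (one_mem _) ha, ?_⟩
        rw [evalW, List.getD_eq_default _ _ (by omega)]
        exact repr_mul repr_one hr
  have hnorm : ∀ c ∈ gensU, ∀ x : M, Repr c ((x : M) : Equiv.Perm GolayPt) →
      x ∈ Subgroup.normalizer (R : Set M) := by
    intro c hc x hx
    have hn := normal_checked
    simp only [Bool.and_eq_true, List.all_eq_true] at hn
    have hr : Repr (mv gDuad c gDuad) ((g⁻¹ * (x * g) : M) : Equiv.Perm GolayPt) := by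
      simp only [Subgroup.coe_mul, Subgroup.coe_inv]
      exact rg.inv.comp (hx.comp rg)
    have hy := normB_spec hr (hn.1 c hc) hD
    have : x = MulAut.conj g (g⁻¹ * (x * g)) := by rw [MulAut.conj_apply]; group
    rw [hR, this, show ((D.map (MulAut.conj g).toMonoidHom : Subgroup M) : Set M) = _ from rfl,
      ← Subgroup.map_equiv_normalizer_eq]
    exact ⟨_, hy, rfl⟩
  haveI : Fact (Nat.Prime 3) := ⟨Nat.prime_three⟩
  refine ⟨m, ⟨⟨R, by rw [hR, Subgroup.card_map_of_injective (MulAut.conj g).injective, hcD], ?_, fun a ha => ?_,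
    hnorm cN (by simp [gensU]) _ rq, hnorm nuC (by simp [gensU]) _ rν, ?_⟩⟩⟩
  · intro V h1 h2 hν
    have hS : sylS.map (MulAut.conj g).toMonoidHom ≤ V := by
      rw [sylS, MonoidHom.map_closure, Subgroup.closure_le]
      rintro _ ⟨a, ⟨c, hc, hac⟩, rfl⟩
      obtain ⟨k, hk, rfl⟩ := List.getElem_of_mem hc
      obtain ⟨b, hb, hrb⟩ := heval V h1 h2 hν (sylWord.getD k [])
      have := hsyl k (by simpa [sylB] using hk)
      rw [List.getD_eq_getElem _ 0 hk] at this
      have e : b = g * a * g⁻¹ := (eqM hrb (by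
        simp only [Subgroup.coe_mul, Subgroup.coe_inv]
        exact (rg.comp hac).comp rg.inv)).mp this
      exact (show g * a * g⁻¹ ∈ V from e ▸ hb)
    have h128 : 128 ∣ Nat.card V := by
      have := Subgroup.card_dvd_of_le hS
      rwa [Subgroup.card_map_of_injective (MulAut.conj g).injective, card_sylS] at this
    have h5 : 5 ∣ Nat.card V := by
      have := Subgroup.card_dvd_of_le (Subgroup.zpowers_le.mpr h2)
      rwa [Nat.card_zpowers, m.q5] at this
    have h3dvd : 3 ∣ Nat.card V := by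
      obtain ⟨b, hb, hrb⟩ := heval V h1 h2 hν threeWord
      have hb3 : b ^ 3 = 1 := (eqM (repr_pow hrb 3) repr_one).mp h3
      have hb1 : b ≠ 1 := fun e => by
        rw [(eqM hrb repr_one).mpr e] at h3'; exact Bool.noConfusion h3'
      have := Subgroup.card_dvd_of_le (Subgroup.zpowers_le.mpr hb)
      rwa [Nat.card_zpowers, orderOf_eq_prime hb3 hb1] at this
    refine ⟨Nat.Coprime.mul_dvd_of_dvd_of_dvd (by norm_num : Nat.Coprime 128 15) h128
      (Nat.Coprime.mul_dvd_of_dvd_of_dvd (by norm_num : Nat.Coprime 3 5) h3dvd h5), ?_⟩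
    rintro _ ⟨a, ha, rfl⟩
    rw [SetLike.mem_coe, ← SetLike.mem_coe, hD] at ha
    obtain ⟨i, hi, rfl⟩ := ha
    obtain ⟨k, hk, rfl⟩ := List.getElem_of_mem hi
    obtain ⟨b, hb, hrb⟩ := heval V h1 h2 hν (duadWord.getD k [])
    have := hdu k (hlen ▸ hk)
    rw [List.getD_eq_getElem _ 0 hk] at this
    have e : b = g * we (duadI[k]) * g⁻¹ := (eqM hrb (rdc _)).mp this
    exact (show g * we (duadI[k]) * g⁻¹ ∈ V from e ▸ hb)
  · rw [hA3] at ha
    obtain ⟨j, hj, rfl⟩ := ha
    obtain ⟨i, hi, rfl⟩ := mem_hexA.mp hj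
    refine hnorm (cj gThree (wd i)) (List.mem_append_left _ (List.mem_map.mpr ⟨i, hi, rfl⟩)) _ ?_
    simp only [MulEquiv.coe_toMonoidHom, MulAut.conj_apply, Subgroup.coe_mul, Subgroup.coe_inv]
    exact (r3.comp (we_repr _)).comp r3.inv
  · rintro ⟨a, ha, e⟩
    rw [SetLike.mem_coe, ← SetLike.mem_coe, hD] at ha
    obtain ⟨i, hi, rfl⟩ := ha
    have hn := normal_checked
    simp only [Bool.and_eq_true, List.all_eq_true, Bool.not_eq_true'] at hn
    have h := hn.2 i hi
    rw [(eqM (repr_mul rν rν) (rdc i)).mpr e.symm] at h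
    exact Bool.noConfusion h

end EightChk

end CfsgLib.JankoFour
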