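/-
The centralizer of the subgroup of order eight and its map onto the stabilizer of a duad.
-/
import Cfsg.Agent.Lib.JankoFour.EightBase
import Cfsg.Agent.Lib.JankoFour.EightModel
import Cfsg.Agent.Lib.JankoFour.SevenFix

set_option autoImplicit false

namespace CfsgLib.JankoFour

open Cfsg Subgroup
open scoped commutatorElement

universe u

variable {G : Type u} [Group G] [Finite G] {z : G} {P E : Subgroup G}

/-- A subgroup of order eight above the centre invariant under P. -/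
structure SecEight (c : Ctx z P E) (W : Subgroup G) : Prop where
  le : W ≤ E
  zW : z ∈ W
  card : Nat.card W = 8
  inv : ∀ p ∈ P, ∀ a ∈ W, p * a * p⁻¹ ∈ W

namespace Ctx

/-- The elements of W fixed modulo the centre. -/
def modFix (c : Ctx z P E) {W : Subgroup G} (hW : W ≤ E) {x : G} (hx : x ∈ centralizer ({z} : Set G)) :
    Subgroup G where
  carrier := {a | a ∈ W ∧ ⁅x, a⁆ ∈ zpowers z}
  one_mem' := ⟨one_mem _, by rw [commutatorElement_one_right]; exact one_mem _⟩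
  mul_mem' := by
    rintro a b ⟨ha, ha'⟩ ⟨hb, hb'⟩
    refine ⟨mul_mem ha hb, ?_⟩
    rw [commutatorElement_mul_right_eq_mul_conj, mul_assoc _ a, mul_assoc ⁅x, a⁆, c.Z_conj (c.Ez (hW ha)) hb']
    exact mul_mem ha' hb'
  inv_mem' := by
    rintro a ⟨ha, ha'⟩
    refine ⟨inv_mem ha, ?_⟩
    rw [commutatorElement_inv_right, c.Z_comm (c.Ez (inv_mem (hW ha))) (by
      rw [← commutatorElement_inv]; exact inv_mem ha'), inv_mul_cancel_right, ← commutatorElement_inv]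
    exact inv_mem ha'

theorem mem_modFix (c : Ctx z P E) {W : Subgroup G} {hW : W ≤ E} {x a : G}
    {hx : x ∈ centralizer ({z} : Set G)} : a ∈ c.modFix hW hx ↔ a ∈ W ∧ ⁅x, a⁆ ∈ zpowers z := Iff.rfl

theorem modFix_inv (c : Ctx z P E) {W : Subgroup G} {hW : W ≤ E} {x : G} (hx : x ∈ c.cen)
    (hWP : ∀ p ∈ P, ∀ a ∈ W, p * a * p⁻¹ ∈ W) :
    ∀ p ∈ P, ∀ a ∈ c.modFix hW hx.1, p * a * p⁻¹ ∈ c.modFix hW hx.1 := fun p hp a ha => ⟨hWP p hp a ha.1, by
  have hpx : x * p = p * x := c.cen_comm hx hp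
  rw [show ⁅x, p * a * p⁻¹⁆ = (x * p) * a * (x * p)⁻¹ * (p * a⁻¹ * p⁻¹) by
    rw [commutatorElement_def]; group, hpx,
    show p * x * a * (p * x)⁻¹ * (p * a⁻¹ * p⁻¹) = p * ⁅x, a⁆ * p⁻¹ by rw [commutatorElement_def]; group,
    c.Z_conj (c.P_le hp) ha.2]
  exact ha.2⟩

theorem Z_le_modFix (c : Ctx z P E) {W : Subgroup G} {hW : W ≤ E} {x : G} (hx : x ∈ centralizer ({z} : Set G))
    (hzW : z ∈ W) : zpowers z ≤ c.modFix hW hx := fun t ht => ⟨zpowers_le.mpr hzW ht, by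
  rw [commutatorElement_def, c.Z_comm hx ht, mul_inv_cancel_right, mul_inv_cancel]; exact one_mem _⟩

/-- A P-invariant subgroup of E strictly above a given such subgroup of order two or eight. -/
theorem card_ge_eight (c : Ctx z P E) {F : Subgroup G} (hFE : F ≤ E) (hzF : z ∈ F)
    (hFP : ∀ p ∈ P, ∀ a ∈ F, p * a * p⁻¹ ∈ F) {x : G} (hx : x ∈ F) (hxZ : x ∉ zpowers z) : 8 ≤ Nat.card F := by
  obtain ⟨k, -, hk⟩ := c.card_cases hFE (zpowers_le.mpr hzF) hFP
  have hk0 : k ≠ 0 := by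
    rintro rfl
    have heq : zpowers z = F := eq_of_le_of_card_ge (zpowers_le.mpr hzF) (by rw [hk, c.card_Z]; norm_num)
    exact hxZ (heq ▸ hx)
  rw [hk]
  exact le_trans (by norm_num) (Nat.pow_le_pow_right (by norm_num) (show 3 ≤ 2 * k + 1 by omega))

end Ctx

namespace SecEight

variable {c : Ctx z P E} {W : Subgroup G} (w : SecEight c W)
include w

theorem exists_e : ∃ e ∈ W, e ∉ zpowers z := by
  by_contra hall
  push Not at hall
  have := card_le_of_le hall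
  rw [w.card, c.card_Z] at this
  norm_num at this

/-- An element commuting with P and fixing e modulo the centre fixes all of W modulo the centre. -/
theorem modFix_all {x e : G} (hx : x ∈ c.cen) (he : e ∈ W) (heZ : e ∉ zpowers z) (h : ⁅x, e⁆ ∈ zpowers z) :
    ∀ a ∈ W, ⁅x, a⁆ ∈ zpowers z := by
  have h8 := c.card_ge_eight (F := c.modFix w.le hx.1) (fun a ha => w.le ha.1) (c.Z_le_modFix (hW := w.le) hx.1 w.zW (mem_zpowers z))
    (c.modFix_inv hx w.inv) (show e ∈ c.modFix w.le hx.1 from ⟨he, h⟩) heZ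
  have heq : c.modFix w.le hx.1 = W := eq_of_le_of_card_ge (fun a ha => ha.1) (by rw [w.card]; exact h8)
  exact fun a ha => (heq.symm ▸ ha : a ∈ c.modFix w.le hx.1).2

/-- A subgroup containing z, e and its image under P contains W. -/
theorem W_le {p e : G} (hp : p ∈ P) (hgen : P = zpowers p) (he : e ∈ W) (heZ : e ∉ zpowers z) {F : Subgroup G}
    (hzF : z ∈ F) (heF : e ∈ F) (hpF : p * e * p⁻¹ ∈ F) : W ≤ F := by
  classical
  have hS : ∀ x ∈ ({1, z, e, z * e, p * e * p⁻¹} : Finset G), x ∈ W ⊓ F := by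
    intro x hx
    simp only [Finset.mem_insert, Finset.mem_singleton] at hx
    rcases hx with rfl | rfl | rfl | rfl | rfl
    exacts [one_mem _, ⟨w.zW, hzF⟩, ⟨he, heF⟩, ⟨mul_mem w.zW he, mul_mem hzF heF⟩, ⟨w.inv p hp e he, hpF⟩]
  have h1 : ∀ t ∈ zpowers z, e ≠ t := fun t ht h => heZ (h ▸ ht)
  have h2 : ∀ t ∈ zpowers z, p * e * p⁻¹ ≠ t := fun t ht h => heZ (by
    have := c.Z_conj (inv_mem (c.P_le hp)) ht
    rw [← h, show p⁻¹ * (p * e * p⁻¹) * p⁻¹⁻¹ = e by group] at this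
    rw [this, h]; exact ht)
  have hmove : ∀ t ∈ zpowers z, p * e * p⁻¹ ≠ t * e := fun t ht h =>
    heZ (c.fixed_mem_Z hp hgen (w.le he) (by rw [h, mul_inv_cancel_right]; exact ht))
  have hz1 := c.z_ne_one
  have h3 : p * e * p⁻¹ ≠ e := fun h => hmove 1 (one_mem _) (by rw [one_mul]; exact h)
  have h4 : p * e * p⁻¹ ≠ z * e := hmove z (mem_zpowers z)
  have h5 : ({1, z, e, z * e, p * e * p⁻¹} : Finset G).card = 5 := by
    have e1 : (1 : G) ≠ z * e := fun h => h1 z⁻¹ (inv_mem (mem_zpowers z)) (eq_inv_of_mul_eq_one_right h.symm)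
    have e2 : z ≠ z * e := fun h => h1 1 (one_mem _) (by simpa using h)
    have e3 : e ≠ z * e := fun h => hz1 (by simpa using h)
    simp [hz1.symm, (h1 1 (one_mem _)).symm, (h1 z (mem_zpowers z)).symm, (h2 1 (one_mem _)).symm,
      (h2 z (mem_zpowers z)).symm, h3.symm, h4.symm, e1, e2, e3]
  have hcard : 5 ≤ Nat.card ↥(W ⊓ F) := by
    rw [← h5, ← Nat.card_eq_finsetCard]
    exact Nat.card_le_card_of_injective (fun x => (⟨x.1, hS x.1 x.2⟩ : ↥(W ⊓ F)))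
      (fun a b h => Subtype.ext (congrArg (fun y : ↥(W ⊓ F) => (y : G)) h))
  have hd : Nat.card ↥(W ⊓ F) ∣ 8 := w.card ▸ card_dvd_of_le inf_le_left
  have hle := Nat.le_of_dvd (by norm_num) hd
  refine inf_eq_left.mp (eq_of_le_of_card_ge inf_le_left ?_)
  rw [w.card]
  interval_cases h : Nat.card ↥(W ⊓ F) <;> first | rfl | omega | (exfalso; norm_num at hd)

/-- The elements of W modulo the centre. -/
theorem three_cosets {p e : G} (hp : p ∈ P) (hgen : P = zpowers p) (he : e ∈ W) (heZ : e ∉ zpowers z) {a : G}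
    (ha : a ∈ W) (haZ : a ∉ zpowers z) :
    ∃ i : ℕ, i < 3 ∧ ∃ t ∈ zpowers z, a = t * (p ^ i * e * (p ^ i)⁻¹) := by
  classical
  have p3 : p ^ 3 = 1 := by rw [pow_succ, sq]; exact c.P_cube hp
  have hpi : ∀ i : ℕ, p ^ i * e * (p ^ i)⁻¹ ∈ W := fun i => w.inv _ (pow_mem hp i) e he
  let Φ : Option (Fin 3) × zpowers z → W := fun x =>
    ⟨(x.2 : G) * x.1.elim 1 (fun i => p ^ (i : ℕ) * e * (p ^ (i : ℕ))⁻¹), mul_mem (zpowers_le.mpr w.zW x.2.2) (by
      rcases x.1 with _ | i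
      · exact one_mem _
      · exact hpi i)⟩
  have hnot : ∀ (i : ℕ) (t : G), t ∈ zpowers z → p ^ i * e * (p ^ i)⁻¹ ≠ t := fun i t ht h => heZ (by
    have := c.Z_conj (inv_mem (pow_mem (c.P_le hp) i)) ht
    rw [← h, show (p ^ i)⁻¹ * (p ^ i * e * (p ^ i)⁻¹) * (p ^ i)⁻¹⁻¹ = e by group] at this
    rw [this, h]; exact ht)
  have key : ∀ i j : Fin 3, ∀ t ∈ zpowers z,
      p ^ (i : ℕ) * e * (p ^ (i : ℕ))⁻¹ = t * (p ^ (j : ℕ) * e * (p ^ (j : ℕ))⁻¹) → i = j := by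
    intro i j t ht h
    set k := 3 - (j : ℕ) with hk
    have hkj : p ^ k * p ^ (j : ℕ) = 1 := by rw [← pow_add, hk, Nat.sub_add_cancel j.2.le, p3]
    have h1 : p ^ (k + i) * e * (p ^ (k + i))⁻¹ = t * e := by
      calc p ^ (k + i) * e * (p ^ (k + i))⁻¹ = p ^ k * (p ^ (i : ℕ) * e * (p ^ (i : ℕ))⁻¹) * (p ^ k)⁻¹ := by
            rw [pow_add]; group
        _ = (p ^ k * t * (p ^ k)⁻¹) * ((p ^ k * p ^ (j : ℕ)) * e * (p ^ k * p ^ (j : ℕ))⁻¹) := by rw [h]; group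
        _ = t * e := by rw [hkj, c.Z_conj (pow_mem (c.P_le hp) k) ht]; group
    by_contra hij
    have h0 : (k + i) % 3 ≠ 0 := fun h0 => hij (Fin.ext (by omega))
    refine heZ (c.fixed_mem_Z (pow_mem hp (k + i)) ?_ (w.le he) (by rw [h1, mul_inv_cancel_right]; exact ht))
    rw [hgen]
    refine le_antisymm (zpowers_le.mpr ?_) (zpowers_le.mpr (pow_mem (mem_zpowers p) _))
    have hlt := Nat.mod_lt (k + i) (show 3 > 0 by norm_num)
    rw [pow_eq_pow_mod _ p3]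
    interval_cases hm : (k + i) % 3
    · exact absurd rfl h0
    · rw [pow_one]; exact mem_zpowers p
    · refine ⟨2, ?_⟩
      show (p ^ 2) ^ (2 : ℤ) = p
      rw [zpow_ofNat, ← pow_mul, show 2 * 2 = 3 + 1 from rfl, pow_succ, p3, one_mul]
  have hΦ : Function.Injective Φ := by
    rintro ⟨_ | i, ⟨t, ht⟩⟩ ⟨_ | j, ⟨t', ht'⟩⟩ h
    · have h' : t * 1 = t' * 1 := congrArg Subtype.val h
      rw [mul_one, mul_one] at h'
      subst h'; rfl
    · have h' : t * 1 = t' * (p ^ (j : ℕ) * e * (p ^ (j : ℕ))⁻¹) := congrArg Subtype.val h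
      exact absurd (inv_mul_eq_iff_eq_mul.mpr ((mul_one t).symm.trans h')).symm
        (hnot j (t'⁻¹ * t) (mul_mem (inv_mem ht') ht))
    · have h' : t * (p ^ (i : ℕ) * e * (p ^ (i : ℕ))⁻¹) = t' * 1 := congrArg Subtype.val h
      exact absurd (eq_inv_mul_iff_mul_eq.mpr (h'.trans (mul_one t'))) (hnot i (t⁻¹ * t') (mul_mem (inv_mem ht) ht'))
    · have h' : t * (p ^ (i : ℕ) * e * (p ^ (i : ℕ))⁻¹) = t' * (p ^ (j : ℕ) * e * (p ^ (j : ℕ))⁻¹) :=
        congrArg Subtype.val h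
      obtain rfl : i = j := key i j (t⁻¹ * t') (mul_mem (inv_mem ht) ht') (by
        rw [mul_assoc t⁻¹ t', ← h', inv_mul_cancel_left])
      have : t = t' := mul_right_cancel h'
      subst this; rfl
  have hs := ((Nat.bijective_iff_injective_and_card Φ).mpr ⟨hΦ, by
    rw [Nat.card_prod, c.card_Z, w.card, Nat.card_eq_fintype_card, Fintype.card_option, Fintype.card_fin]⟩).2
  obtain ⟨⟨x, ⟨t, ht⟩⟩, hx⟩ := hs ⟨a, ha⟩
  have hx' : t * x.elim 1 (fun i => p ^ (i : ℕ) * e * (p ^ (i : ℕ))⁻¹) = a := congrArg Subtype.val hx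
  rcases x with _ | i
  · exact absurd (by rw [← hx']; simpa using ht) haZ
  · exact ⟨i, i.2, t, ht, hx'.symm⟩

/-- An element of cen whose fourth power is central and which normalizes W fixes it modulo the centre. -/
theorem fix_of_four {x : G} (hx : x ∈ c.cen) (h4 : x ^ 4 ∈ zpowers z) (hxW : ∀ a ∈ W, x * a * x⁻¹ ∈ W) :
    ∀ a ∈ W, ⁅x, a⁆ ∈ zpowers z := by
  obtain ⟨e, he, heZ⟩ := w.exists_e
  refine w.modFix_all hx he heZ ?_
  obtain ⟨p, hp, -, hgen⟩ := c.exists_gen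
  have p3 : p ^ 3 = 1 := by rw [pow_succ, sq]; exact c.P_cube hp
  have hxeZ : x * e * x⁻¹ ∉ zpowers z := fun h => heZ (by
    have := c.Z_conj (inv_mem hx.1) h
    rw [show x⁻¹ * (x * e * x⁻¹) * x⁻¹⁻¹ = e by group] at this
    rw [this]; exact h)
  obtain ⟨i, hi, t, ht, hxi⟩ := w.three_cosets hp hgen he heZ (hxW e he) hxeZ
  have hit : ∀ n : ℕ, ∃ t' ∈ zpowers z, x ^ n * e * (x ^ n)⁻¹ = t' * (p ^ (n * i) * e * (p ^ (n * i))⁻¹) := by
    intro n
    induction n with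
    | zero => exact ⟨1, one_mem _, by simp⟩
    | succ n ih =>
      obtain ⟨t', ht', hn⟩ := ih
      have hc : Commute x (p ^ (n * i)) := Commute.pow_right (c.cen_comm hx hp) _
      refine ⟨t' * t, mul_mem ht' ht, ?_⟩
      calc x ^ (n + 1) * e * (x ^ (n + 1))⁻¹ = x * (x ^ n * e * (x ^ n)⁻¹) * x⁻¹ := by
            rw [pow_succ']; group
        _ = (x * t' * x⁻¹) * ((x * p ^ (n * i)) * e * (x * p ^ (n * i))⁻¹) := by rw [hn]; group
        _ = t' * ((p ^ (n * i) * x) * e * (p ^ (n * i) * x)⁻¹) := by rw [c.Z_conj hx.1 ht', hc.eq]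
        _ = t' * ((p ^ (n * i) * t * (p ^ (n * i))⁻¹) * (p ^ (n * i + i) * e * (p ^ (n * i + i))⁻¹)) := by
            rw [show (p ^ (n * i) * x) * e * (p ^ (n * i) * x)⁻¹ =
              p ^ (n * i) * (x * e * x⁻¹) * (p ^ (n * i))⁻¹ by group, hxi, pow_add p (n * i) i]
            group
        _ = t' * t * (p ^ ((n + 1) * i) * e * (p ^ ((n + 1) * i))⁻¹) := by
            rw [c.Z_conj (pow_mem (c.P_le hp) _) ht, Nat.succ_mul]; simp only [mul_assoc]
  obtain ⟨t4, ht4, h4'⟩ := hit 4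
  rw [← c.Z_comm (c.Ez (w.le he)) h4, mul_inv_cancel_right,
    show p ^ (4 * i) = p ^ i by rw [show 4 * i = 3 * i + i by ring, pow_add, pow_mul, p3, one_pow, one_mul]] at h4'
  rw [commutatorElement_def, hxi,
    show p ^ i * e * (p ^ i)⁻¹ = t4⁻¹ * e from eq_inv_mul_iff_mul_eq.mpr h4'.symm,
    show t * (t4⁻¹ * e) * e⁻¹ = t * t4⁻¹ by group]
  exact mul_mem ht (inv_mem ht4)

end SecEight

namespace Eight

variable {c : Ctx z P E} {m : FiveModel} {d : FiveData5 c m} (o : Eight d)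

theorem AE : o.A ≤ E := fun _ ha => (d.mem_D.mp (o.AD ha)).1

theorem sec : SecEight c o.A := ⟨o.AE, o.zA, o.cardA, fun p hp a ha => o.norm p (d.P_le_cq hp) a ha⟩

theorem ν_fix : ∀ a ∈ o.A, ⁅d.ν, a⁆ ∈ zpowers z := o.sec.fix_of_four d.νc d.ν4 o.νnorm

/-- A is fixed modulo the centre above the third hexad group. -/
theorem A_fixB [IsSimpleGroup G] (hG : ¬ IsMulCommutative G) : o.A ≤ c.fixB m.AThree := by
  classical
  obtain ⟨A0, hA0, -, -, -, -⟩ := c.exists_w hG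
  obtain ⟨x, hx, hxZ⟩ := d.exists_three (c.hexData_three m hA0)
  obtain ⟨p, hp, -, hgen⟩ := c.exists_gen
  set F := d.fixA m.AThree with hFdef
  by_cases hAF : ∀ a ∈ o.A, a ∈ F → a ∈ zpowers z
  swap
  · push Not at hAF
    obtain ⟨a, ha, haF, haZ⟩ := hAF
    exact fun b hb => (o.sec.W_le hp hgen ha haZ (F := F) (d.Z_le_fixA _ (mem_zpowers z)) haF
      (d.P_fixA hp haF) hb).1
  exfalso
  have hDE : d.D ≤ E := fun a ha => (d.mem_D.mp ha).1
  have hDP : ∀ q ∈ P, ∀ a ∈ d.D, q * a * q⁻¹ ∈ d.D := fun q hq a ha => d.mem_D.mpr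
    ⟨c.conj_E (c.P_le hq) (hDE ha), (((show Commute q d.q from d.q_comm_P hq).mul_left
      ((d.mem_D.mp ha).2).symm).mul_left (show Commute q d.q from d.q_comm_P hq).inv_left).eq.symm⟩
  -- the element of order four fixes the fixed group of the hexad group modulo the centre
  have hF8 : Nat.card F = 8 := by
    have hle : F ≤ d.D := d.fixA_le _
    obtain ⟨k, -, hk⟩ := c.card_cases (hle.trans hDE) (d.Z_le_fixA _) (fun q hq a ha => d.P_fixA hq ha)
    have hge := c.card_ge_eight (hle.trans hDE) (d.Z_le_fixA _ (mem_zpowers z))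
      (fun q hq a ha => d.P_fixA hq ha) hx hxZ
    have hne : F ≠ d.D := fun h => by
      obtain ⟨e, he, heZ⟩ := o.sec.exists_e
      exact heZ (hAF e he (h.symm ▸ o.AD he))
    have hlt : Nat.card F < 32 := by
      rw [← d.D_eq.1]
      by_contra hc
      exact hne (eq_of_le_of_card_ge hle (Nat.le_of_not_lt hc))
    rw [hk] at hge hlt ⊢
    have hk2 : 2 * k + 1 < 5 := (Nat.pow_lt_pow_iff_right (a := 2) (by norm_num)).mp hlt
    have hk1 : k ≤ 1 := by omega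
    interval_cases k <;> first | rfl | (exfalso; norm_num at hge)
  have hFsec : SecEight c F :=
    ⟨(d.fixA_le _).trans hDE, d.Z_le_fixA _ (mem_zpowers z), hF8, fun q hq a ha => d.P_fixA hq ha⟩
  have hνF : ∀ a ∈ F, d.ν * a * d.ν⁻¹ ∈ F := fun a ha => by
    refine ⟨c.fixB_conj d.νc (by rw [d.νv]; exact m.νThree) ha.1, ?_⟩
    have hb : Commute a (d.q ^ 3) := Commute.pow_right
      ((mem_centralizer_singleton_iff.mp ha.2 : Commute a d.q)) 3
    have e : d.ν * d.q ^ 3 * d.ν⁻¹ = d.q := by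
      rw [← conj_pow, d.νq, ← pow_mul, show 2 * 3 = 5 + 1 from rfl, pow_succ, d.q5, one_mul]
    refine mem_centralizer_singleton_iff.mpr ?_
    calc d.ν * a * d.ν⁻¹ * d.q = d.ν * a * d.ν⁻¹ * (d.ν * d.q ^ 3 * d.ν⁻¹) := by rw [e]
      _ = d.ν * (a * d.q ^ 3) * d.ν⁻¹ := by group
      _ = d.ν * (d.q ^ 3 * a) * d.ν⁻¹ := by rw [hb.eq]
      _ = (d.ν * d.q ^ 3 * d.ν⁻¹) * (d.ν * a * d.ν⁻¹) := by group
      _ = d.q * (d.ν * a * d.ν⁻¹) := by rw [e]
  have hfF := hFsec.fix_of_four d.νc d.ν4 hνF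
  -- so it fixes D modulo the centre
  set S := c.modFix hDE d.νc.1 with hS
  have hSP := c.modFix_inv (hW := hDE) d.νc hDP
  have hSle : S ≤ d.D := fun a ha => ha.1
  have hAS : o.A ≤ S := fun a ha => ⟨o.AD ha, o.ν_fix a ha⟩
  have hSeq : S = d.D := by
    obtain ⟨k, -, hk⟩ := c.card_cases (hSle.trans hDE)
      (c.Z_le_modFix (hW := hDE) d.νc.1 (d.Z_le_D (mem_zpowers z))) hSP
    have hne : o.A ≠ S := fun h => hxZ (hAF x
      (h.symm ▸ (⟨d.fixA_le _ hx, hfF x hx⟩ : x ∈ S)) hx)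
    have hlt : 8 < Nat.card S := by
      rw [← o.cardA]
      by_contra hc
      exact hne (eq_of_le_of_card_ge hAS (Nat.le_of_not_lt hc))
    rw [hk] at hlt
    refine eq_of_le_of_card_ge hSle ?_
    rw [d.D_eq.1, hk]
    have : 3 < 2 * k + 1 := (Nat.pow_lt_pow_iff_right (a := 2) (by norm_num)).mp hlt
    exact le_trans (by norm_num) (Nat.pow_le_pow_right (by norm_num) (show 5 ≤ 2 * k + 1 by omega))
  obtain ⟨a, ha, haZ⟩ := d.exists_out m.hexOne m.qAOne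
  refine haZ (d.meet ha.1 ?_)
  have h1 : d.ν * a * d.ν⁻¹ ∈ c.fixB m.ATwo := by
    refine c.fixB_map d.νc (fun b hb => ?_) ha.1
    rw [d.νv]
    have h3 := m.νTwo _ (m.νOne _ (m.νTwo b hb))
    have e : m.ν * m.ν * m.ν = m.ν⁻¹ := eq_inv_of_mul_eq_one_left (by
      rw [show m.ν * m.ν * m.ν * m.ν = m.ν ^ 4 by simp only [pow_succ, pow_zero, one_mul], m.ν4])
    rwa [show m.ν * (m.ν * (m.ν * b * m.ν⁻¹) * m.ν⁻¹) * m.ν⁻¹ = (m.ν * m.ν * m.ν) * b * (m.ν * m.ν * m.ν)⁻¹ by group,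
      e, inv_inv] at h3
  have h2 : ⁅d.ν, a⁆ ∈ zpowers z := (hSeq.symm ▸ d.fixA_le _ ha : a ∈ S).2
  have h3 := mul_mem (inv_mem (c.Z_le_fixB m.ATwo h2)) h1
  rwa [show ⁅d.ν, a⁆⁻¹ * (d.ν * a * d.ν⁻¹) = a by rw [commutatorElement_def]; group] at h3

end Eight

end CfsgLib.JankoFour
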