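/-
The centralizer of the subgroup of order eight maps onto the stabilizer of a duad.
-/
import Cfsg.Agent.Lib.JankoFour.EightStab

set_option autoImplicit false

namespace CfsgLib.JankoFour

open Cfsg Subgroup
open scoped commutatorElement

universe u

variable {G : Type u} [Group G] [Finite G] {z : G} {P E : Subgroup G}

/-- The map of the centralizer of A to M22. -/
structure EightC {c : Ctx z P E} {m : FiveModel} {d : FiveData5 c m} (o : Eight d) (em : EightModel m) : Type u where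
  U : Subgroup MTwoTwo
  φ : ↥(centralizer (o.A : Set G)) →* MTwoTwo
  range : φ.range = U
  CH : centralizer (o.A : Set G) ≤ centralizer ({z} : Set G)
  φker : ∀ x, φ x = 1 ↔ (x : G) ∈ E
  qC : d.q ∈ centralizer (o.A : Set G)
  φq : φ ⟨d.q, qC⟩ = m.q
  cardE : Nat.card ↥(E ⊓ centralizer (o.A : Set G)) = 2 ^ 11
  cardU : Nat.card U = 1920
  qU : m.q ∈ U
  νU : m.ν ∈ U
  RU : em.R ≤ U
  UR : U ≤ normalizer (em.R : Set MTwoTwo)

namespace Ctx

/-- An element of odd order fixing an element of E modulo the centre centralizes it. -/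
theorem exact_odd (c : Ctx z P E) {x a : G} {n : ℕ} (hn : Odd n) (hx : x ∈ centralizer ({z} : Set G))
    (hxn : x ^ n = 1) (h : ⁅x, a⁆ ∈ zpowers z) : x * a = a * x := by
  set t := ⁅x, a⁆ with ht
  have h1 : ∀ k : ℕ, x ^ k * a * (x ^ k)⁻¹ = t ^ k * a := by
    intro k
    induction k with
    | zero => simp
    | succ k ih =>
      calc x ^ (k + 1) * a * (x ^ (k + 1))⁻¹ = x * (x ^ k * a * (x ^ k)⁻¹) * x⁻¹ := by rw [pow_succ']; group
        _ = (x * t ^ k * x⁻¹) * (t * a) := by rw [ih, ht, commutatorElement_def]; group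
        _ = t ^ (k + 1) * a := by rw [c.Z_conj hx (pow_mem h k), pow_succ, mul_assoc]
  have h2 := h1 n
  rw [hxn, one_mul, inv_one, mul_one] at h2
  have h3 : t ^ n = 1 := mul_eq_right.mp h2.symm
  obtain ⟨k, rfl⟩ := hn
  rw [pow_succ, pow_mul, sq, c.Z_sq h, one_pow, one_mul, ht, commutatorElement_eq_one_iff_mul_comm] at h3
  exact h3

/-- Lift of an element of prime order of the image of a stabilizer. -/
theorem lift_stab (c : Ctx z P E) {w : G} {u : MTwoTwo} (hu : u ∈ c.image (c.stab w)) {p k : ℕ}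
    (hup : u ^ p = 1) (hk6 : 6 ∣ k) (hk : k % p = 1) :
    ∃ x ∈ c.cen, x ∈ c.stab w ∧ c.val x = u ∧ x ^ p = 1 := by
  obtain ⟨x, hx, hxs, hv⟩ := c.mem_image.mp hu
  refine ⟨x ^ k, pow_mem hx k, pow_mem hxs k, ?_, ?_⟩
  · rw [c.val_pow (c.cen_le_H0 hx), hv, ← Nat.div_add_mod k p, pow_add, pow_mul, hup, one_pow, one_mul, hk, pow_one]
  · obtain ⟨j, rfl⟩ := hk6
    have h6 := (c.cen_ker (pow_mem hx p) (by rw [c.val_pow (c.cen_le_H0 hx), hv, hup])).1
    rw [← pow_mul, show 6 * j * p = p * 6 * j by ring, pow_mul, pow_mul, h6, one_pow]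

end Ctx

namespace Eight

variable {c : Ctx z P E} {m : FiveModel} {d : FiveData5 c m} (o : Eight d)

/-- The stabilizer of an element of A modulo the centre has no element of order seven or eleven. -/
theorem no_prime {e : G} (he : e ∈ o.A) (heZ : e ∉ zpowers z) {u : MTwoTwo} (hu : u ∈ c.image (c.stab e))
    {p : ℕ} (hp : p = 7 ∨ p = 11) (hup : u ^ p = 1) : u = 1 := by
  by_contra hu1
  have key : ∀ k : ℕ, 6 ∣ k → k % p = 1 → ∃ x ∈ c.cen, c.val x = u ∧ x ^ p = 1 ∧
      o.A ≤ E ⊓ centralizer ({x} : Set G) := by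
    intro k hk6 hk
    obtain ⟨x, hx, hxs, hv, hxp⟩ := c.lift_stab hu hup hk6 hk
    refine ⟨x, hx, hv, hxp, fun a ha => ⟨o.AE ha, mem_centralizer_singleton_iff.mpr ?_⟩⟩
    have h := o.sec.modFix_all hx he heZ (by rw [commutatorElement_def]; exact (c.mem_stab.mp hxs).2) a ha
    exact (c.exact_odd (by rcases hp with rfl | rfl <;> decide) hx.1 hxp h).symm
  rcases hp with rfl | rfl
  · obtain ⟨x, hx, hv, hxp, hA⟩ := key 36 (by norm_num) (by norm_num)
    exact heZ (c.seven_fix hx hxp (by rw [hv]; exact hu1) ▸ hA he)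
  · obtain ⟨x, hx, hv, hxp, hA⟩ := key 12 (by norm_num) (by norm_num)
    obtain ⟨h8, a, ha, b, hb, hab⟩ := c.eleven_fix hx hxp (by rw [hv]; exact hu1)
    have heq : o.A = E ⊓ centralizer ({x} : Set G) := eq_of_le_of_card_ge hA (by rw [h8, o.cardA])
    exact hab (o.commA a (heq.symm ▸ ha) b (heq.symm ▸ hb))

theorem q_cent : d.q ∈ centralizer (o.A : Set G) :=
  mem_centralizer_iff.mpr fun _ ha => ((d.mem_D.mp (o.AD ha)).2).symm

/-- The image of the stabilizer of an element of A modulo the centre. -/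
theorem image_facts [IsSimpleGroup G] (hG : ¬ IsMulCommutative G) (em : EightModel m) {e : G} (he : e ∈ o.A)
    (heZ : e ∉ zpowers z) :
    Nat.card (c.image (c.stab e)) = 1920 ∧ m.q ∈ c.image (c.stab e) ∧ m.ν ∈ c.image (c.stab e) ∧
      em.R ≤ c.image (c.stab e) ∧ c.image (c.stab e) ≤ normalizer (em.R : Set MTwoTwo) := by
  classical
  set U := c.image (c.stab e) with hU
  have hA3 : m.AThree ≤ U := c.image_stab_hex m.hexThree (o.A_fixB hG he)
  have hq : m.q ∈ U := c.mem_image.mpr ⟨d.q, d.qc, c.mem_stab.mpr ⟨d.qc, by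
    rw [(d.mem_D.mp (o.AD he)).2, mul_inv_cancel_right, mul_inv_cancel]; exact one_mem _⟩, d.qv⟩
  have hν : m.ν ∈ U := c.mem_image.mpr ⟨d.ν, d.νc, c.mem_stab.mpr ⟨d.νc, by
    rw [← commutatorElement_def]; exact o.ν_fix e he⟩, d.νv⟩
  obtain ⟨h1920, hR⟩ := em.big U hA3 hq hν
  have hcard : Nat.card U = 1920 := by
    obtain ⟨k, hk⟩ := h1920
    have hdvd : Nat.card U ∣ 443520 := CfsgGolay.card_sporM22 ▸ card_subgroup_dvd_card U
    rw [hk] at hdvd ⊢
    have hk' : k ∣ 231 := by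
      rwa [show (443520 : ℕ) = 1920 * 231 from rfl, Nat.mul_dvd_mul_iff_left (by norm_num)] at hdvd
    have h9 : ¬ 3 ∣ k := fun h => heZ (c.fixed_nine m.hexThree (o.AE he) (by
      rw [← hU, hk]
      obtain ⟨j, rfl⟩ := h
      exact ⟨640 * j, by ring⟩))
    have hno : ∀ p, p.Prime → p = 7 ∨ p = 11 → ¬ p ∣ k := by
      intro p hp hp' hpk
      haveI := Fact.mk hp
      obtain ⟨u, hu⟩ := exists_prime_orderOf_dvd_card' (G := U) p (by rw [hk]; exact hpk.mul_left _)
      have hu1 : (u : MTwoTwo) = 1 := o.no_prime he heZ u.2 hp' (by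
        rw [← hu, ← Subgroup.orderOf_coe]; exact pow_orderOf_eq_one _)
      rw [← Subgroup.orderOf_coe, hu1, orderOf_one] at hu
      exact hp.ne_one hu.symm
    have h7 := hno 7 (by norm_num) (Or.inl rfl)
    have h11 := hno 11 (by norm_num) (Or.inr rfl)
    have hk1 : k = 1 := by
      have hmem : k ∈ Nat.divisors 231 := Nat.mem_divisors.mpr ⟨hk', by norm_num⟩
      have hall : ∀ j ∈ Nat.divisors 231, j = 1 ∨ j % 3 = 0 ∨ j % 7 = 0 ∨ j % 11 = 0 := by decide +kernel
      rcases hall k hmem with h | h | h | h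
      · exact h
      all_goals exact absurd (Nat.dvd_of_mod_eq_zero h) (by assumption)
    rw [hk1]
  refine ⟨hcard, hq, hν, hR, ?_⟩
  obtain ⟨h', -⟩ := em.big (U ⊓ normalizer (em.R : Set MTwoTwo)) (le_inf hA3 em.AR) ⟨hq, em.qR⟩ ⟨hν, em.νR⟩
  exact inf_eq_left.mp (eq_of_le_of_card_ge inf_le_left (by rw [hcard]; exact Nat.le_of_dvd Nat.card_pos h'))

/-- The centralizer of A lies in the inner part of H and maps onto the stabilizer. -/
theorem exists_eightC [IsSimpleGroup G] (hG : ¬ IsMulCommutative G) (em : EightModel m) :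
    Nonempty (EightC o em) := by
  classical
  obtain ⟨p, hp, hp1, hgen⟩ := c.exists_gen
  obtain ⟨e, he, heZ⟩ := o.sec.exists_e
  have hpe : p * e * p⁻¹ ∈ o.A := o.sec.inv p hp e he
  have heE := o.AE he
  have hCH : centralizer (o.A : Set G) ≤ centralizer ({z} : Set G) := centralizer_le (Set.singleton_subset_iff.mpr o.zA)
  -- commutation of E with an element modulo the centre
  have hmod : ∀ f ∈ E, ∀ a ∈ o.A, ⁅f, a⁆ ∈ zpowers z := fun f hf a ha => c.comm_E hf (o.AE ha)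
  have hinner : centralizer (o.A : Set G) ≤ c.H0 := by
    intro x hx
    by_contra hx0
    obtain ⟨f, hf, n, hn, hxe, hinv⟩ := c.outer x (hCH hx) hx0
    have hfix : ∀ a ∈ o.A, n * a * n⁻¹ * a⁻¹ ∈ zpowers z := by
      intro a ha
      have h1 : x * a * x⁻¹ = a := by
        rw [← mem_centralizer_iff.mp hx a ha, mul_inv_cancel_right]
      have h2 : n * a * n⁻¹ = f⁻¹ * a * f := by
        calc n * a * n⁻¹ = f⁻¹ * ((f * n) * a * (f * n)⁻¹) * f := by group
          _ = f⁻¹ * a * f := by rw [← hxe, h1]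
      rw [h2, show f⁻¹ * a * f * a⁻¹ = ⁅f⁻¹, a⁆ by rw [commutatorElement_def, inv_inv]]
      exact hmod _ (inv_mem hf) a ha
    set e2 := p * e * p⁻¹ with he2
    have h3 := hfix e he
    have h4 := hfix e2 hpe
    have hnp : n * p = p⁻¹ * n := mul_inv_eq_iff_eq_mul.mp (hinv p hp)
    have h5 : n * e2 * n⁻¹ = n * e * n⁻¹ * e⁻¹ * (p⁻¹ * e * p) := by
      calc n * e2 * n⁻¹ = (n * p) * e * (n * p)⁻¹ := by rw [he2]; group
        _ = p⁻¹ * (n * e * n⁻¹ * e⁻¹) * p⁻¹⁻¹ * (p⁻¹ * e * p) := by rw [hnp]; group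
        _ = n * e * n⁻¹ * e⁻¹ * (p⁻¹ * e * p) := by rw [c.Z_conj (inv_mem (c.P_le hp)) h3]
    have h6 : p⁻¹ * e * p * e2⁻¹ ∈ zpowers z := by
      rw [h5, mul_assoc] at h4
      have := mul_mem (inv_mem h3) h4
      rwa [inv_mul_cancel_left] at this
    have h7 : (p * p) * e * (p * p)⁻¹ * e⁻¹ ∈ zpowers z := by
      have := inv_mem (show p * (p⁻¹ * e * p * e2⁻¹) * p⁻¹ ∈ zpowers z by rw [c.Z_conj (c.P_le hp) h6]; exact h6)
      rwa [show (p * (p⁻¹ * e * p * e2⁻¹) * p⁻¹)⁻¹ = (p * p) * e * (p * p)⁻¹ * e⁻¹ by rw [he2]; simp [mul_assoc]] at this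
    refine heZ (c.fixed_mem_Z (mul_mem hp hp) ?_ heE h7)
    rw [hgen]
    refine le_antisymm (zpowers_le.mpr ⟨2, ?_⟩) (zpowers_le.mpr (mul_mem (mem_zpowers p) (mem_zpowers p)))
    show (p * p) ^ (2 : ℤ) = p
    rw [zpow_ofNat, sq, show p * p * (p * p) = p * p * p * p by group, c.P_cube hp, one_mul]
  -- the map
  let φ : ↥(centralizer (o.A : Set G)) →* MTwoTwo := c.ψ.comp (Subgroup.inclusion hinner)
  have hφv : ∀ x, φ x = c.val x := fun x => (c.val_eq (hinner x.2)).symm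
  have hφker : ∀ x, φ x = 1 ↔ (x : G) ∈ E := by
    intro x
    rw [hφv, c.val_eq_one (hinner x.2)]
    refine ⟨fun hN => ?_, fun h => c.EN h⟩
    obtain ⟨f, hf, r, hr, hxe⟩ := c.N_decomp hN
    suffices r = 1 by rw [hxe, this, mul_one]; exact hf
    by_contra hr1
    refine heZ (c.fixed_mem_Z hr ?_ heE ?_)
    · refine (eq_of_le_of_card_ge (zpowers_le.mpr hr) ?_).symm
      rw [Nat.card_zpowers, c.hP, orderOf_eq_prime (p := 3) (hp := ⟨by norm_num⟩)
        (by rw [pow_succ, sq]; exact c.P_cube hr) hr1]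
    · have h1 : (x : G) * e * (x : G)⁻¹ = e := by rw [← mem_centralizer_iff.mp x.2 e he, mul_inv_cancel_right]
      have h2 : r * e * r⁻¹ * e⁻¹ = ⁅f⁻¹, e⁆ := by
        rw [commutatorElement_def, inv_inv]
        calc r * e * r⁻¹ * e⁻¹ = f⁻¹ * ((f * r) * e * (f * r)⁻¹) * f * e⁻¹ := by group
          _ = f⁻¹ * e * f * e⁻¹ := by rw [← hxe, h1]
      rw [h2]; exact hmod _ (inv_mem hf) e he
  set CE := E ⊓ centralizer (o.A : Set G) with hCE
  have hCEcard : Nat.card CE = 2 ^ 11 := by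
    have := c.cent_card o.AE o.zA
    rw [o.cardA] at this
    rw [hCE]; omega
  -- the pairing with A
  let θ : ↥E →* ↥(zpowers z) × ↥(zpowers z) :=
    { toFun := fun f => (⟨⁅(f : G), e⁆, hmod _ f.2 e he⟩, ⟨⁅(f : G), p * e * p⁻¹⁆, hmod _ f.2 _ hpe⟩)
      map_one' := by
        refine Prod.ext (Subtype.ext ?_) (Subtype.ext ?_) <;> exact commutatorElement_one_left _
      map_mul' := fun f g => Prod.ext (Subtype.ext (c.comm_mul_left f.2 g.2 heE))
        (Subtype.ext (c.comm_mul_left f.2 g.2 (o.AE hpe))) }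
  have hθker : θ.ker.map E.subtype ≤ CE := by
    rintro _ ⟨f, hf, rfl⟩
    have h := Prod.ext_iff.mp (MonoidHom.mem_ker.mp hf)
    have h1 : ⁅(f : G), e⁆ = 1 := congrArg Subtype.val h.1
    have h2 : ⁅(f : G), p * e * p⁻¹⁆ = 1 := congrArg Subtype.val h.2
    refine ⟨f.2, mem_centralizer_iff.mpr fun a ha => ?_⟩
    have hle := o.sec.W_le hp hgen he heZ (F := centralizer ({(f : G)} : Set G))
      (mem_centralizer_singleton_iff.mpr (c.Z_comm (c.Ez f.2) (mem_zpowers z)).symm)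
      (mem_centralizer_singleton_iff.mpr (commutatorElement_eq_one_iff_mul_comm.mp h1).symm)
      (mem_centralizer_singleton_iff.mpr (commutatorElement_eq_one_iff_mul_comm.mp h2).symm)
    exact mem_centralizer_singleton_iff.mp (hle ha)
  have hθsurj : Function.Surjective θ := by
    rw [← MonoidHom.range_eq_top]
    refine eq_top_of_le_card _ ?_
    have hk : Nat.card θ.ker ≤ 2 ^ 11 := by
      rw [← hCEcard, ← card_map_of_injective (f := E.subtype) E.subtype_injective]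
      exact card_le_of_le hθker
    have h := Subgroup.card_mul_index θ.ker
    rw [Subgroup.index_ker, c.hE] at h
    rw [Nat.card_prod, c.card_Z]
    nlinarith
  -- the image
  have hrange : φ.range = c.image (c.stab e) := by
    ext u
    constructor
    · rintro ⟨x, rfl⟩
      obtain ⟨f, hf, k, hk, hxe⟩ := c.decomp x (hinner x.2)
      refine c.mem_image.mpr ⟨k, hk, c.mem_stab.mpr ⟨hk, ?_⟩, ?_⟩
      · have h1 : (x : G) * e * (x : G)⁻¹ = e := by rw [← mem_centralizer_iff.mp x.2 e he, mul_inv_cancel_right]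
        have h2 : k * e * k⁻¹ * e⁻¹ = ⁅f⁻¹, e⁆ := by
          rw [commutatorElement_def, inv_inv]
          calc k * e * k⁻¹ * e⁻¹ = f⁻¹ * ((f * k) * e * (f * k)⁻¹) * f * e⁻¹ := by group
            _ = f⁻¹ * e * f * e⁻¹ := by rw [← hxe, h1]
        rw [h2]; exact hmod _ (inv_mem hf) e he
      · rw [hφv, hxe, c.val_mul (c.NH0 (c.EN hf)) (c.cen_le_H0 hk), c.val_E hf, one_mul]
    · intro hu
      obtain ⟨x, hx, hxs, rfl⟩ := c.mem_image.mp hu
      have hall := o.sec.modFix_all hx he heZ (by rw [commutatorElement_def]; exact (c.mem_stab.mp hxs).2)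
      obtain ⟨f, hf⟩ := hθsurj (⟨⁅x, e⁆, hall e he⟩, ⟨⁅x, p * e * p⁻¹⁆, hall _ hpe⟩)
      have hf1 : ⁅(f : G), e⁆ = ⁅x, e⁆ := congrArg Subtype.val (Prod.ext_iff.mp hf).1
      have hf2 : ⁅(f : G), p * e * p⁻¹⁆ = ⁅x, p * e * p⁻¹⁆ := congrArg Subtype.val (Prod.ext_iff.mp hf).2
      have hfix : ∀ a ∈ o.A, ⁅(f : G), a⁆ = ⁅x, a⁆ → a * ((f : G) * x) = (f : G) * x * a := by
        intro a ha h
        have hxa : x * a * x⁻¹ = ⁅x, a⁆ * a := by rw [commutatorElement_def, inv_mul_cancel_right]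
        have h1 : (f : G) * x * a * ((f : G) * x)⁻¹ = a := by
          rw [show (f : G) * x * a * ((f : G) * x)⁻¹ = (f : G) * (x * a * x⁻¹) * (f : G)⁻¹ by group, hxa,
            show (f : G) * (⁅x, a⁆ * a) * (f : G)⁻¹ = ((f : G) * ⁅x, a⁆ * (f : G)⁻¹) * (⁅(f : G), a⁆ * a) by
              rw [commutatorElement_def (f : G) a]; group,
            c.Z_conj (c.Ez f.2) (hall a ha), h, ← mul_assoc, c.Z_sq (hall a ha), one_mul]
        exact (mul_inv_eq_iff_eq_mul.mp h1).symm
      have hmem : (f : G) * x ∈ centralizer (o.A : Set G) := by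
        have hle := o.sec.W_le hp hgen he heZ (F := centralizer ({(f : G) * x} : Set G))
          (mem_centralizer_singleton_iff.mpr (c.Z_comm (mul_mem (c.Ez f.2) hx.1) (mem_zpowers z)).symm)
          (mem_centralizer_singleton_iff.mpr (hfix e he hf1))
          (mem_centralizer_singleton_iff.mpr (hfix _ hpe hf2))
        exact mem_centralizer_iff.mpr fun a ha => mem_centralizer_singleton_iff.mp (hle ha)
      refine ⟨⟨_, hmem⟩, ?_⟩
      rw [hφv, c.val_mul (c.NH0 (c.EN f.2)) (c.cen_le_H0 hx), c.val_E f.2, one_mul]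
  obtain ⟨hcard, hq, hν, hR, hUR⟩ := o.image_facts hG em he heZ
  exact ⟨⟨c.image (c.stab e), φ, hrange, hCH, hφker, o.q_cent, (hφv _).trans d.qv, hCEcard, hcard, hq, hν, hR, hUR⟩⟩

end Eight

end CfsgLib.JankoFour
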