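/-
Every noncentral involution of E lies in the fixed group of some hexad group.
-/
import Cfsg.Agent.Lib.JankoFour.OrbLift
import Cfsg.Agent.Lib.JankoFour.OrbStar
import Cfsg.Agent.Lib.JankoFour.EightCent
import Cfsg.Agent.Lib.JankoFour.Cen

set_option autoImplicit false

namespace CfsgLib.JankoFour

open Cfsg Subgroup
open scoped commutatorElement

universe u

variable {G : Type u} [Group G] [Finite G] {z : G} {P E : Subgroup G}

namespace Ctx

/-- An involution of E is not fixed modulo the centre by an element of order eleven. -/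
theorem no_eleven_invol (c : Ctx z P E) {e x : G} (he : e ∈ E) (hee : e * e = 1) (heZ : e ∉ zpowers z)
    (hx : x ∈ c.cen) (hx11 : x ^ 11 = 1) (hx1 : c.val x ≠ 1) (hxe : x * e = e * x) : False := by
  classical
  obtain ⟨p, hp, -, hgen⟩ := c.exists_gen
  obtain ⟨h8, a, ha, b, hb, hab⟩ := c.eleven_fix hx hx11 hx1
  set C := E ⊓ centralizer ({x} : Set G) with hC
  have hconj : ∀ q ∈ P, ∀ y ∈ C, q * y * q⁻¹ ∈ C := fun q hq y hy => ⟨c.conj_E (c.P_le hq) hy.1,
    mem_centralizer_singleton_iff.mpr (by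
      have hxq : Commute x q := c.cen_comm hx hq
      have hxy : Commute x y := (mem_centralizer_singleton_iff.mp hy.2).symm
      exact (((hxq.mul_right hxy).mul_right hxq.inv_right).eq).symm)⟩
  have heC : e ∈ C := ⟨he, mem_centralizer_singleton_iff.mpr hxe.symm⟩
  set f := p * e * p⁻¹ with hf
  have hfC : f ∈ C := hconj p hp e heC
  set g := p⁻¹ * e * p with hg
  have hgg : g * g = 1 := by
    rw [hg, show p⁻¹ * e * p * (p⁻¹ * e * p) = p⁻¹ * (e * e) * p by group, hee]; group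
  have hff : f * f = 1 := by
    rw [hf, show p * e * p⁻¹ * (p * e * p⁻¹) = p * (e * e) * p⁻¹ by group, hee]; group
  have hef : e * f = f * e := by
    have ht : f * e * g ∈ zpowers z := c.orbit_mem_Z hp hgen he
    set t := f * e * g with hte
    have h2 : t * t = 1 := c.Z_sq ht
    have hcf : e * f * t = t * (e * f) := by
      rw [← c.Z_comm (c.Ez (mul_mem he hfC.1)) ht]
    have hge : g = e * f * t := by
      rw [hte, show e * f * (f * e * g) = e * (f * f) * e * g by group, hff, mul_one, hee, one_mul]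
    have h4 : e * f * (e * f) = 1 := by
      rw [hge, show e * f * t * (e * f * t) = e * f * (t * (e * f)) * t by group, ← hcf,
        show e * f * (e * f * t) * t = e * f * (e * f) * (t * t) by group, h2, mul_one] at hgg
      exact hgg
    calc e * f = (e * f)⁻¹ := eq_inv_of_mul_eq_one_left h4
      _ = f⁻¹ * e⁻¹ := by group
      _ = f * e := by rw [inv_eq_of_mul_eq_one_right hee, inv_eq_of_mul_eq_one_right hff]
  haveI := Subgroup.isMulCommutative_closure (k := ({z, e, f} : Set G)) (by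
    have h1 : z * e = e * z := (mem_centralizer_singleton_iff.mp (c.Ez he)).symm
    have h2 : z * f = f * z := (mem_centralizer_singleton_iff.mp (c.Ez hfC.1)).symm
    simp only [Set.mem_insert_iff, Set.mem_singleton_iff]
    rintro s (rfl | rfl | rfl) t (rfl | rfl | rfl) <;> first | rfl | assumption | (symm; assumption))
  set K := closure ({z, e, f} : Set G) with hK
  have hzC : z ∈ C := ⟨c.zE, mem_centralizer_singleton_iff.mpr (mem_centralizer_singleton_iff.mp hx.1).symm⟩
  have hKC : K ≤ C := (closure_le _).mpr (by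
    intro s hs
    simp only [Set.mem_insert_iff, Set.mem_singleton_iff] at hs
    rcases hs with rfl | rfl | rfl <;> assumption)
  have hKeq : K = C := by
    refine eq_of_le_of_card_ge hKC ?_
    rw [h8]
    by_contra hlt
    obtain ⟨i, hi, hic⟩ := (Nat.dvd_prime_pow Nat.prime_two).mp
      (show Nat.card K ∣ 2 ^ 3 by rw [show (2 : ℕ) ^ 3 = 8 from rfl, ← h8]; exact card_dvd_of_le hKC)
    have hi2 : Nat.card K ≤ 4 := by
      rw [hic] at hlt ⊢
      interval_cases i <;> simp_all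
    have hm : ∀ s ∈ ({z, e, f} : Finset G), s ∈ K := fun s hs => subset_closure (by simpa using hs)
    have hzK : z ∈ K := hm z (by simp)
    have heK : e ∈ K := hm e (by simp)
    have hfK : f ∈ K := hm f (by simp)
    have hsub : ({1, z, e, z * e, f} : Finset G).card ≤ Nat.card K := by
      rw [← Set.ncard_coe_finset, ← SetLike.coe_sort_coe, Nat.card_coe_set_eq]
      refine Set.ncard_le_ncard ?_ (Set.toFinite _)
      intro s hs
      simp only [Finset.coe_insert, Finset.coe_singleton, Set.mem_insert_iff, Set.mem_singleton_iff] at hs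
      rcases hs with rfl | rfl | rfl | rfl | rfl
      exacts [one_mem _, hzK, heK, mul_mem hzK heK, hfK]
    have hf1 : ∀ t ∈ zpowers z, f ≠ t * e := fun t ht h => heZ (c.fixed_mem_Z hp hgen he (by
      rw [← hf, h, mul_inv_cancel_right]; exact ht))
    have hfZ : f ∉ zpowers z := fun h => heZ (by
      have := c.Z_comm (c.P_le (inv_mem hp)) h
      have e2 : e = p⁻¹ * f * p := by rw [hf]; group
      rwa [e2, this, inv_mul_cancel_right])
    have h5 : ({1, z, e, z * e, f} : Finset G).card = 5 := by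
      have a1 : (1 : G) ≠ z := c.z_ne_one.symm
      have a2 : (1 : G) ≠ e := fun h => heZ (h ▸ one_mem _)
      have a3 : (1 : G) ≠ z * e := fun h => heZ (by
        rw [show e = z⁻¹ from eq_inv_of_mul_eq_one_right h.symm]; exact inv_mem (mem_zpowers z))
      have a4 : (1 : G) ≠ f := fun h => hfZ (h ▸ one_mem _)
      have a5 : z ≠ e := fun h => heZ (h ▸ mem_zpowers z)
      have a6 : z ≠ z * e := fun h => a2 (left_eq_mul.mp h).symm
      have a7 : z ≠ f := fun h => hfZ (h ▸ mem_zpowers z)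
      have a8 : e ≠ z * e := fun h => a1 (right_eq_mul.mp h).symm
      have a9 : e ≠ f := fun h => hf1 1 (one_mem _) (by rw [one_mul]; exact h.symm)
      have a10 : z * e ≠ f := fun h => hf1 z (mem_zpowers z) h.symm
      simp [a1, a2, a3, a4, a5, a6, a7, a8, a9, a10]
    omega
  have hcomm : (⟨a, hKeq.symm ▸ ha⟩ : K) * ⟨b, hKeq.symm ▸ hb⟩ = ⟨b, hKeq.symm ▸ hb⟩ * ⟨a, hKeq.symm ▸ ha⟩ :=
    IsMulCommutative.is_comm.comm _ _
  exact hab (congrArg Subtype.val hcomm)

/-- The stabiliser of an involution of E modulo the centre. -/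
theorem card_stab_le (c : Ctx z P E) {A : Subgroup MTwoTwo} (hA : HexLike A) {e : G} (he : e ∈ E)
    (hee : e * e = 1) (heZ : e ∉ zpowers z) : Nat.card (c.stab e) ≤ 3840 := by
  classical
  obtain ⟨p, hp, -, hgen⟩ := c.exists_gen
  set U := c.image (c.stab e) with hU
  have hno : ∀ q, q.Prime → q = 7 ∨ q = 11 → ¬ q ∣ Nat.card U := by
    intro q hq hq' hqU
    haveI := Fact.mk hq
    obtain ⟨u, hu⟩ := exists_prime_orderOf_dvd_card' (G := U) q hqU
    rw [← Subgroup.orderOf_coe] at hu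
    have hu1 : (u : MTwoTwo) ≠ 1 := fun h => by
      rw [h, orderOf_one] at hu
      exact hq.ne_one hu.symm
    have huq : (u : MTwoTwo) ^ q = 1 := hu ▸ pow_orderOf_eq_one _
    rcases hq' with rfl | rfl
    · obtain ⟨x, hx, hxs, hv, hxp⟩ := c.lift_stab u.2 huq (k := 36) (by norm_num) (by norm_num)
      have hc := c.exact_odd (n := 7) (by decide) hx.1 hxp
        (by rw [commutatorElement_def]; exact (c.mem_stab.mp hxs).2)
      exact heZ (c.seven_fix hx hxp (by rw [hv]; exact hu1) ▸ ⟨he, mem_centralizer_singleton_iff.mpr hc.symm⟩)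
    · obtain ⟨x, hx, hxs, hv, hxp⟩ := c.lift_stab u.2 huq (k := 12) (by norm_num) (by norm_num)
      have hc := c.exact_odd (n := 11) (by decide) hx.1 hxp
        (by rw [commutatorElement_def]; exact (c.mem_stab.mp hxs).2)
      exact c.no_eleven_invol he hee heZ hx hxp (by rw [hv]; exact hu1) hc
  have hUc : Nat.card U ≤ 1920 := by
    have h1 : Nat.card U ∣ 443520 := CfsgGolay.card_sporM22 ▸ card_subgroup_dvd_card U
    have h7 : Nat.Coprime (Nat.card U) 7 :=
      ((Nat.Prime.coprime_iff_not_dvd (by norm_num)).mpr (hno 7 (by norm_num) (Or.inl rfl))).symm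
    have h11 : Nat.Coprime (Nat.card U) 11 :=
      ((Nat.Prime.coprime_iff_not_dvd (by norm_num)).mpr (hno 11 (by norm_num) (Or.inr rfl))).symm
    have h2 : Nat.card U ∣ 5760 :=
      (h7.mul_right h11).dvd_of_dvd_mul_right (show Nat.card U ∣ 5760 * (7 * 11) by simpa using h1)
    obtain ⟨k, hk⟩ := h2
    by_contra hbig
    have hk3 : k < 3 := by nlinarith
    have hk0 : k ≠ 0 := by rintro rfl; simp at hk
    refine heZ (c.fixed_nine hA he ?_)
    rw [← hU]
    interval_cases k <;> omega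
  set S := (c.stab e).subgroupOf c.cen with hS
  have hScard : Nat.card (c.stab e) = Nat.card S :=
    (Nat.card_congr (subgroupOfEquivOfLe (fun x hx => (c.mem_stab.mp hx).1)).toEquiv).symm
  let φ := c.cenHom.comp S.subtype
  have hr : φ.range = U := MonoidHom.range_comp _ _ |>.trans (by rw [Subgroup.range_subtype]; rfl)
  have hk : Nat.card φ.ker ≤ 2 := by
    rw [← c.card_Z]
    refine Nat.card_le_card_of_injective (fun k : φ.ker => (⟨((k : S) : c.cen), ?_⟩ : zpowers z)) fun k k' h =>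
      Subtype.ext (Subtype.ext (Subtype.ext (congrArg (fun y : zpowers z => (y : G)) h)))
    have hv : c.val ((k : S) : c.cen) = 1 := k.2
    obtain ⟨-, -, t, ht, q, hq, hkeq⟩ := c.cen_ker (((k : S) : c.cen)).2 hv
    have hks : (((k : S) : c.cen) : G) ∈ c.stab e := (k : S).2
    rw [hkeq] at hks ⊢
    by_cases hq1 : q = 1
    · rw [hq1, mul_one]; exact ht
    exfalso
    have hqs : q ∈ c.stab e := by
      have := mul_mem (show t⁻¹ ∈ c.stab e from c.mem_stab.mpr ⟨inv_mem (c.Z_le_cen ht), by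
        rw [c.Z_comm (c.Ez he) (inv_mem ht) |>.symm, mul_inv_cancel_right, mul_inv_cancel]; exact one_mem _⟩) hks
      rwa [inv_mul_cancel_left] at this
    have hord : orderOf q = 3 := orderOf_eq_prime (hp := ⟨by norm_num⟩) (by
      rw [pow_succ, sq]; exact c.P_cube hq) hq1
    have hqgen : P = zpowers q := (eq_of_le_of_card_ge (zpowers_le.mpr hq)
      (by rw [Nat.card_zpowers, hord, c.hP])).symm
    exact heZ (c.fixed_mem_Z hq hqgen he (c.mem_stab.mp hqs).2)
  have h1 := card_mul_index φ.ker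
  rw [Subgroup.index_ker, hr] at h1
  rw [hScard, ← h1]
  calc Nat.card φ.ker * Nat.card U ≤ 2 * 1920 := Nat.mul_le_mul hk hUc
    _ = 3840 := rfl

variable {c : Ctx z P E} {A : Subgroup MTwoTwo}

/-- The hexad group of a T element in W is unique. -/
theorem Orb.line_hex (o : c.Orb A) {s : G} (hs : s ∈ c.Tset (c.vGrp A o.hA.1.1)) (hsW : s ∈ c.fixB A)
    {A' : Subgroup MTwoTwo} (hA' : HexData A') (hsV' : s ∈ c.vGrp A' hA'.1.1) : A' = A := by
  have hA := o.hA
  obtain ⟨p, hp, -, hgen⟩ := c.exists_gen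
  refine hex_eq_of_norm (c.not_duad hA) (c.not_duad hA') hA.1.1 hA'.1.1 hA.1.2.1 hA'.1.2.1 ?_
  refine le_trans ?_ (c.line_stab o hp hgen hs hsW)
  intro a ha
  obtain ⟨q, hq, hqa⟩ := c.twoGrp_lift hA'.1.1 ha
  have hsF := c.vGrp_inf_E hA'.1 hsV' (c.fixB_le A hsW)
  obtain ⟨-, -, -, hFQ'⟩ := c.hex_fix hA'.1
  refine ⟨⟨q, hq.1⟩, mem_subgroupOf.mpr (mem_norm_of fun v hv => ?_), hqa⟩
  have hvF : v ∈ c.fixB A' :=
    c.lineOf_le (c.Z_le_fixB A' (mem_zpowers z)) hsF (c.fixB_P hp hsF) hv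
  rw [hFQ' v hvF q hq, mul_inv_cancel_right]; exact hv

theorem fixB_move (hA : HexData A) {n : G} (hn : n ∈ c.cen) {w : G} (hw : w ∈ c.fixB A) :
    n * w * n⁻¹ ∈ c.fixB (A.map (MulAut.conj (c.val n)).toMonoidHom) := by
  have hA' : HexData (A.map (MulAut.conj (c.val n)).toMonoidHom) := hA.map _
  refine c.vGrp_inf_E hA'.1 ?_ (c.conj_E hn.1 (c.fixB_le A hw))
  rw [← c.vGrp_map hA.1 hA'.1 hn rfl]
  exact ⟨w, mem_sup_left hw, rfl⟩

theorem card_le_fibres {α β : Type*} [Finite α] {f : α → β} {U : Set β} (hU : U.Finite) (hmem : ∀ a, f a ∈ U)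
    {n : ℕ} (hfib : ∀ b, {a | f a = b}.ncard ≤ n) : Nat.card α ≤ n * U.ncard := by
  classical
  haveI : Fintype α := Fintype.ofFinite α
  rw [Nat.card_eq_fintype_card, Set.ncard_eq_toFinset_card U hU]
  refine Finset.card_le_mul_card_image_of_maps_to (f := f) (s := Finset.univ) (fun a _ => by simp [hmem]) n ?_
  intro b _
  refine le_trans (le_of_eq ?_) (hfib b)
  rw [← Set.ncard_coe_finset]
  congr 1
  ext a; simp

/-- The involutions of E in the fixed groups of hexad groups: at least 2772 and 1386 in the two classes. -/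
theorem Orb.hex_count (o : c.Orb A) :
    2772 ≤ {e : G | (∃ B : Subgroup MTwoTwo, HexData B ∧ e ∈ c.fixB B ∧ e ∉ zpowers z) ∧ ¬ c.IsZ e}.ncard ∧
      1386 ≤ {e : G | (∃ B : Subgroup MTwoTwo, HexData B ∧ e ∈ c.fixB B ∧ e ∉ zpowers z) ∧ c.IsZ e}.ncard := by
  classical
  have hA := o.hA
  obtain ⟨hW7, hWc, hWsq, -⟩ := c.hex_fix hA.1
  set W := c.fixB A with hW
  set U : Set G := {e | ∃ B : Subgroup MTwoTwo, HexData B ∧ e ∈ c.fixB B ∧ e ∉ zpowers z} with hU
  choose L hL hLv using c.exists_val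
  obtain ⟨oc, hoc⟩ := c.exists_octHex hA
  set T := c.Tset (c.vGrp A hA.1.1) ∩ (W : Set G) with hT
  set UT : Set G := {y | ∃ n ∈ c.cen, ∃ t ∈ T, y = n * t * n⁻¹} with hUT
  have hTU : UT ⊆ {e | e ∈ U ∧ ¬ c.IsZ e} := by
    rintro _ ⟨n, hn, t, ht, rfl⟩
    exact ⟨⟨_, hA.map _, fixB_move hA hn ht.2, fun h => c.T_not_Z ht.1 (by
      have := c.Z_comm (inv_mem hn.1) h
      rwa [show t = n⁻¹ * (n * t * n⁻¹) * n by group, this, inv_mul_cancel_right])⟩,
      fun h => ht.1.2.2 ((c.isZ_iff n t).mp h)⟩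
  have h2772 : 2772 ≤ UT.ncard := by
    have h1 : Nat.card (MTwoTwo × T) ≤ 5760 * UT.ncard := by
      refine card_le_fibres (f := fun x : MTwoTwo × T => L x.1 * x.2 * (L x.1)⁻¹) (Set.toFinite _)
        (fun x => (show ∃ n ∈ c.cen, ∃ t ∈ T, _ = n * t * n⁻¹ from ⟨_, hL x.1, _, x.2.2, rfl⟩)) fun y => ?_
      rcases Set.eq_empty_or_nonempty {x : MTwoTwo × T | L x.1 * x.2 * (L x.1)⁻¹ = y} with h | ⟨⟨g0, t0⟩, h0⟩
      · rw [h, Set.ncard_empty]; norm_num
      rw [← hoc.card_norm, ← SetLike.coe_sort_coe, Nat.card_coe_set_eq]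
      refine Set.ncard_le_ncard_of_injOn (fun x => g0⁻¹ * x.1) ?_ ?_ (Set.toFinite _)
      · rintro ⟨g, t⟩ hx
        change L g * (t : G) * (L g)⁻¹ = y at hx
        change L g0 * (t0 : G) * (L g0)⁻¹ = y at h0
        set n := (L g0)⁻¹ * L g with hn
        have hnc : n ∈ c.cen := mul_mem (inv_mem (hL g0)) (hL g)
        have hnv : c.val n = g0⁻¹ * g := by
          rw [hn, c.val_mul (c.cen_le_H0 (inv_mem (hL g0))) (c.cen_le_H0 (hL g)),
            c.val_inv (c.cen_le_H0 (hL g0)), hLv, hLv]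
        have ht0 : (t0 : G) = n * t * n⁻¹ := by
          rw [hn, show (L g0)⁻¹ * L g * (t : G) * ((L g0)⁻¹ * L g)⁻¹ = (L g0)⁻¹ * (L g * (t : G) * (L g)⁻¹) * L g0 by
            group, hx, ← h0]
          group
        have hA'' : HexData (A.map (MulAut.conj (c.val n)).toMonoidHom) := hA.map _
        have heq : A.map (MulAut.conj (c.val n)).toMonoidHom = A :=
          o.line_hex t0.2.1 t0.2.2 hA'' (mem_sup_left (ht0 ▸ fixB_move hA hnc t.2.2))
        show g0⁻¹ * g ∈ normalizer (A : Set MTwoTwo)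
        rw [← hnv]
        exact mem_norm_of fun a ha => heq.le ⟨a, ha, rfl⟩
      · rintro ⟨g, t⟩ hx ⟨g', t'⟩ hx' h
        obtain rfl : g = g' := mul_left_cancel h
        refine Prod.ext rfl (Subtype.ext ?_)
        exact mul_left_cancel (mul_right_cancel (hx.trans hx'.symm))
    rw [Nat.card_prod, Nat.card_coe_set_eq, o.cardTW, show Nat.card MTwoTwo = 443520 from CfsgGolay.card_sporM22] at h1
    omega
  obtain ⟨e0, he0W, he0⟩ : ∃ e0 ∈ W, e0 ∉ (T ∪ {1, z}) := by
    by_contra h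
    push Not at h
    have h1 := (Set.ncard_le_ncard (show (W : Set G) ⊆ T ∪ {1, z} from h) (Set.toFinite _)).trans
      (Set.ncard_union_le _ _)
    rw [Set.ncard_pair c.z_ne_one.symm, ← Nat.card_coe_set_eq, o.cardTW] at h1
    change Nat.card W ≤ _ at h1
    rw [hW7] at h1
    norm_num at h1
  simp only [Set.mem_union, Set.mem_insert_iff, Set.mem_singleton_iff, not_or] at he0
  obtain ⟨he0T, he01, he0z⟩ := he0
  have he0Z : e0 ∉ zpowers z := fun h => (c.mem_Z.mp h).elim he01 he0z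
  have hz0 : c.IsZ e0 := by
    by_contra h
    exact he0T ⟨⟨mem_sup_left he0W, he01, h⟩, he0W⟩
  have hz0' : c.IsZ (z * e0) := by
    by_contra h
    have h1 : z * e0 ≠ 1 := fun h => he0Z (by
      rw [eq_inv_of_mul_eq_one_right h]; exact inv_mem (mem_zpowers z))
    have hzW : z * e0 ∈ W := mul_mem (c.Z_le_fixB A (mem_zpowers z)) he0W
    have := (c.T_zmul hA ⟨mem_sup_left hzW, h1, h⟩ hzW).2.2
    rw [← mul_assoc, c.zz, one_mul] at this
    exact this hz0
  set UO : Set G := {y | ∃ n ∈ c.cen, ∃ s ∈ zpowers z, y = n * (s * e0) * n⁻¹} with hUO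
  have hsZ : ∀ s ∈ zpowers z, s * e0 ∈ W ∧ s * e0 ∉ zpowers z ∧ c.IsZ (s * e0) := fun s hs =>
    ⟨mul_mem (c.Z_le_fixB A hs) he0W, fun h => he0Z (by simpa using mul_mem (inv_mem hs) h), by
      rcases c.mem_Z.mp hs with rfl | rfl
      · rwa [one_mul]
      · exact hz0'⟩
  have hOU : UO ⊆ {e | e ∈ U ∧ c.IsZ e} := by
    rintro _ ⟨n, hn, s, hs, rfl⟩
    exact ⟨⟨_, hA.map _, fixB_move hA hn (hsZ s hs).1, fun h => (hsZ s hs).2.1 (by
      have := c.Z_comm (inv_mem hn.1) h
      rwa [show s * e0 = n⁻¹ * (n * (s * e0) * n⁻¹) * n by group, this, inv_mul_cancel_right])⟩,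
      (c.isZ_iff n _).mpr (hsZ s hs).2.2⟩
  have h1386 : 1386 ≤ UO.ncard := by
    have h1 : Nat.card (c.cen × zpowers z) ≤ 3840 * UO.ncard := by
      refine card_le_fibres (f := fun x : c.cen × zpowers z => (x.1 : G) * (x.2 * e0) * (x.1 : G)⁻¹) (Set.toFinite _)
        (fun x => (show ∃ n ∈ c.cen, ∃ t ∈ zpowers z, _ = n * (t * e0) * n⁻¹ from ⟨_, x.1.2, _, x.2.2, rfl⟩)) fun y => ?_
      rcases Set.eq_empty_or_nonempty {x : c.cen × zpowers z | (x.1 : G) * (x.2 * e0) * (x.1 : G)⁻¹ = y} with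
        h | ⟨⟨n0, s0⟩, h0⟩
      · rw [h, Set.ncard_empty]; norm_num
      refine le_trans ?_ (c.card_stab_le hA.1 (c.fixB_le A he0W) (hWsq _ he0W) he0Z)
      change _ ≤ Nat.card ((c.stab e0 : Set G) : Type u)
      rw [Nat.card_coe_set_eq]
      change (n0 : G) * ((s0 : G) * e0) * (n0 : G)⁻¹ = y at h0
      refine Set.ncard_le_ncard_of_injOn (fun x => (n0 : G)⁻¹ * x.1) ?_ ?_ (Set.toFinite _)
      · rintro ⟨n, s⟩ hx
        change (n : G) * ((s : G) * e0) * (n : G)⁻¹ = y at hx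
        refine c.mem_stab.mpr ⟨mul_mem (inv_mem n0.2) n.2, ?_⟩
        set m := (n0 : G)⁻¹ * n with hm
        have hms : m * s * m⁻¹ = s := c.Z_conj (mul_mem (inv_mem n0.2) n.2 : m ∈ c.cen).1 s.2
        have h2 : (s : G) * (m * e0 * m⁻¹) = s0 * e0 := by
          nth_rewrite 1 [← hms]
          rw [show m * s * m⁻¹ * (m * e0 * m⁻¹) = (n0 : G)⁻¹ * ((n : G) * (s * e0) * (n : G)⁻¹) * n0 by
            rw [hm]; group, hx, ← h0]
          group
        show m * e0 * m⁻¹ * e0⁻¹ ∈ zpowers z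
        rw [show m * e0 * m⁻¹ = (s : G)⁻¹ * (s0 * e0) by rw [← h2]; group]
        rw [show (s : G)⁻¹ * (s0 * e0) * e0⁻¹ = (s : G)⁻¹ * s0 by group]
        exact mul_mem (inv_mem s.2) s0.2
      · rintro ⟨n, s⟩ hx ⟨n', s'⟩ hx' h
        obtain rfl : n = n' := Subtype.ext (mul_left_cancel h)
        refine Prod.ext rfl (Subtype.ext ?_)
        exact mul_right_cancel (mul_left_cancel (mul_right_cancel (hx.trans hx'.symm)))
    rw [Nat.card_prod, c.card_Z, c.card_cen] at h1
    omega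
  exact ⟨h2772.trans (Set.ncard_le_ncard hTU (Set.toFinite _)), h1386.trans (Set.ncard_le_ncard hOU (Set.toFinite _))⟩

/-- Every noncentral involution of E lies in the fixed group of a hexad group. -/
theorem Orb.invol_E (o : c.Orb A) {e : G} (he : e ∈ E) (hee : e * e = 1) (heZ : e ∉ zpowers z) :
    ∃ B : Subgroup MTwoTwo, HexData B ∧ e ∈ c.fixB B := by
  classical
  have hA := o.hA
  obtain ⟨p, hp, -, hgen⟩ := c.exists_gen
  obtain ⟨hW7, hWc, hWsq, -⟩ := c.hex_fix hA.1
  set W := c.fixB A with hW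
  set I : Set G := {e | e ∈ E ∧ e * e = 1 ∧ e ∉ zpowers z} with hI
  set U : Set G := {e | ∃ B : Subgroup MTwoTwo, HexData B ∧ e ∈ c.fixB B ∧ e ∉ zpowers z} with hU
  have hUI : U ⊆ I := fun e ⟨B, hB, heB, heZ⟩ => ⟨c.fixB_le B heB, (c.hex_fix hB.1).2.2.1 e heB, heZ⟩
  suffices hcard : I.ncard ≤ U.ncard by
    obtain ⟨B, hB, heB, -⟩ : e ∈ U := Set.eq_of_subset_of_ncard_le hUI hcard (Set.toFinite I) ▸
      (⟨he, hee, heZ⟩ : e ∈ I)
    exact ⟨B, hB, heB⟩
  -- from above
  have hupper : I.ncard ≤ 4158 := by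
    obtain ⟨A', -, -, -, hA', htop, -⟩ := CfsgLib.JankoFour.exists_pair hA fun B hB => c.hex_conj hB hA.1
    set R := c.pKer hA'.1 hp with hR
    have hRE : R ≤ E := fun x hx => c.fixB_le A' hx.1
    have hRW : ∀ r ∈ R, r ∈ W → r = 1 := fun r hr hrW => by
      have hrZ := c.fixB_inf hA.1 hA'.1 htop hrW hr.1
      rw [← c.pProd_Z hp hrZ]; exact hr.2
    let F : R × W → E := fun x => ⟨(x.1 : G) * x.2, mul_mem (hRE x.1.2) (c.fixB_le A x.2.2)⟩
    have hF : Function.Injective F := by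
      rintro ⟨r, w⟩ ⟨r', w'⟩ h
      have h' : (r : G) * w = (r' : G) * w' := congrArg Subtype.val h
      have h1 : (r' : G)⁻¹ * r = (w' : G) * (w : G)⁻¹ := by
        rw [eq_mul_inv_iff_mul_eq, mul_assoc, h', inv_mul_cancel_left]
      have h2 := hRW _ (mul_mem (inv_mem r'.2) r.2) (h1 ▸ mul_mem w'.2 (inv_mem w.2))
      have h3 : r = r' := Subtype.ext (inv_mul_eq_one.mp h2).symm
      subst h3
      exact Prod.ext rfl (Subtype.ext (mul_left_cancel h'))
    have hRc : Nat.card R = 64 := by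
      have h1 := Nat.card_le_card_of_injective F hF
      rw [Nat.card_prod, hW7, c.hE] at h1
      have := c.card_pKer hA'.1 hp hgen
      rw [← hR] at this
      norm_num at h1
      omega
    have hbij : Function.Bijective F :=
      hF.bijective_of_nat_card_le (le_of_eq (by rw [Nat.card_prod, hRc, hW7, c.hE]; norm_num))
    let S : Set (R × W) := {x | (x.1 : G) * x.2 = (x.2 : G) * x.1}
    have hsub : I ∪ {1, z} ⊆ (fun x : R × W => (x.1 : G) * x.2) '' S := by
      intro y hy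
      have hyE : y ∈ E ∧ y * y = 1 := by
        rcases hy with hy | rfl | rfl
        exacts [⟨hy.1, hy.2.1⟩, ⟨one_mem _, one_mul 1⟩, ⟨c.zE, c.zz⟩]
      obtain ⟨⟨r, w⟩, hrw⟩ := hbij.2 ⟨y, hyE.1⟩
      have hval : (r : G) * w = y := congrArg Subtype.val hrw
      refine ⟨(r, w), ?_, hval⟩
      have hr2 := (c.hex_fix hA'.1).2.2.1 _ r.2.1
      calc (r : G) * w = ((r : G) * w)⁻¹ := eq_inv_of_mul_eq_one_left (by rw [hval]; exact hyE.2)
        _ = (w : G)⁻¹ * (r : G)⁻¹ := mul_inv_rev _ _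
        _ = (w : G) * r := by rw [inv_eq_of_mul_eq_one_right (hWsq _ w.2), inv_eq_of_mul_eq_one_right hr2]
    have hfib : ∀ r : R, r ≠ 1 → {x | x ∈ S ∧ x.1 = r}.ncard ≤ 64 := by
      intro r hr
      set C := W ⊓ centralizer ({(r : G)} : Set G) with hC
      have hlt : C < W := lt_of_le_of_ne inf_le_left fun h => hr (Subtype.ext (hRW r r.2 (by
        have h1 : (r : G) ∈ E ⊓ centralizer (W : Set G) := ⟨hRE r.2, mem_centralizer_iff.mpr fun w hw =>
          mem_centralizer_singleton_iff.mp (show w ∈ C by rw [h]; exact hw).2⟩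
        rwa [hWc] at h1)))
      have h2 := two_mul_card_le' hlt
      rw [hW7] at h2
      calc {x | x ∈ S ∧ x.1 = r}.ncard ≤ (C : Set G).ncard := Set.ncard_le_ncard_of_injOn (fun x => (x.2 : G))
            (fun x ⟨hx, hxr⟩ => ⟨x.2.2, mem_centralizer_singleton_iff.mpr (by
              have : (x.1 : G) * x.2 = x.2 * x.1 := hx
              rw [hxr] at this; exact this.symm)⟩)
            (fun x ⟨_, hxr⟩ y ⟨_, hyr⟩ h => Prod.ext (hxr.trans hyr.symm) (Subtype.ext h)) (Set.toFinite _)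
        _ ≤ 64 := by rw [← Nat.card_coe_set_eq]; change Nat.card C ≤ 64; norm_num at h2; omega
    have hS : S.ncard ≤ 128 + 63 * 64 := by
      haveI : Fintype R := Fintype.ofFinite R
      have hsplit : S ⊆ {x | x ∈ S ∧ x.1 = 1} ∪ ⋃ r ∈ ((Finset.univ : Finset R).erase 1), {x | x ∈ S ∧ x.1 = r} := by
        intro x hx
        by_cases h : x.1 = 1
        · exact Or.inl ⟨hx, h⟩
        · exact Or.inr (Set.mem_biUnion (Finset.mem_erase.mpr ⟨h, Finset.mem_univ _⟩) ⟨hx, rfl⟩)
      refine (Set.ncard_le_ncard hsplit (Set.toFinite _)).trans ((Set.ncard_union_le _ _).trans (Nat.add_le_add ?_ ?_))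
      · refine (Set.ncard_le_ncard_of_injOn (fun x : R × W => x.2) (t := Set.univ) (fun _ _ => trivial)
          (fun x hx y hy h => Prod.ext (hx.2.trans hy.2.symm) h) (Set.toFinite _)).trans ?_
        rw [Set.ncard_univ, hW7]; norm_num
      · refine (Finset.set_ncard_biUnion_le _ _).trans ?_
        refine (Finset.sum_le_card_nsmul _ _ 64 fun r hr => hfib r (Finset.mem_erase.mp hr).1).trans ?_
        rw [Finset.card_erase_of_mem (Finset.mem_univ _), Finset.card_univ, ← Nat.card_eq_fintype_card, hRc]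
        norm_num
    have h1 := (Set.ncard_le_ncard hsub (Set.toFinite _)).trans ((Set.ncard_image_le (Set.toFinite _)).trans hS)
    rw [Set.ncard_union_eq (by
      rw [Set.disjoint_left]
      intro y hy hy2
      rw [Set.mem_insert_iff, Set.mem_singleton_iff] at hy2
      exact hy.2.2 (c.mem_Z.mpr hy2)) (Set.toFinite _) (Set.toFinite _),
      Set.ncard_pair c.z_ne_one.symm] at h1
    omega
  -- from below
  obtain ⟨hT2, hZ2⟩ := o.hex_count
  have h3 := Set.ncard_le_ncard (show {e : G | e ∈ U ∧ ¬ c.IsZ e} ∪ {e : G | e ∈ U ∧ c.IsZ e} ⊆ U from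
    Set.union_subset (fun e h => h.1) fun e h => h.1) (Set.toFinite U)
  rw [Set.ncard_union_eq (Set.disjoint_left.mpr fun e h h' => h.2 h'.2) (Set.toFinite _) (Set.toFinite _)] at h3
  have h2772 : 2772 ≤ {e : G | e ∈ U ∧ ¬ c.IsZ e}.ncard := hT2
  have h1386 : 1386 ≤ {e : G | e ∈ U ∧ c.IsZ e}.ncard := hZ2
  omega
where
  two_mul_card_le' {H K : Subgroup G} (hlt : H < K) : 2 * Nat.card H ≤ Nat.card K := by
    obtain ⟨k, hk⟩ := card_dvd_of_le hlt.le
    rcases k with _ | _ | k
    · rw [mul_zero] at hk; exact absurd hk Nat.card_pos.ne'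
    · exact absurd (eq_of_le_of_card_ge hlt.le (by rw [hk, zero_add, mul_one])) hlt.ne
    · rw [hk]; nlinarith [Nat.zero_le (Nat.card H * k)]

end Ctx

end CfsgLib.JankoFour
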