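/-
Involutions of M24: the two classes, and the pairs of fixed points under the centraliser.
-/
import Cfsg.Agent.Lib.Golay.ElemCent

set_option autoImplicit false

namespace CfsgLib.JankoFour

open Cfsg CfsgGolay

attribute [local irreducible] codeL octadL dodecadL slpCodes

/-- One step of closing a list of masks. -/
def growMasks (L : List GenT) (ms : List ℕ) : List ℕ :=
  (ms ++ ms.flatMap fun m => L.map fun e => pmT e m).eraseDups

/-- Repeated closing of a list of masks. -/
def iterMasks (L : List GenT) : ℕ → List ℕ → List ℕ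
  | 0, ms => ms
  | n + 1, ms => iterMasks L n (growMasks L ms)

theorem iterMasks_sound {L : List GenT} (hL : gensOK L = true) (S : Finset GolayPt) : ∀ (n : ℕ) (ms : List ℕ),
    (∀ m ∈ ms, m < 2 ^ 24 ∧ ∃ g ∈ Gr L, toSet m = S.image g) →
    ∀ m ∈ iterMasks L n ms, ∃ g ∈ Gr L, toSet m = S.image g := by
  intro n
  induction n with
  | zero => exact fun ms h m hm => (h m hm).2
  | succ n ih =>
    intro ms h
    refine ih _ fun m hm => ?_
    simp only [growMasks, List.mem_eraseDups, List.mem_append, List.mem_flatMap, List.mem_map] at hm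
    rcases hm with hm | ⟨m', hm', e, he, rfl⟩
    · exact h m hm
    · obtain ⟨hlt, g, hg, hS⟩ := h m' hm'
      obtain ⟨k, -, hk⟩ := exists_good hL he
      obtain ⟨h1, h2⟩ := hk.toSet_pmT hlt
      refine ⟨h2, k * g, mul_mem (mem_Gr he hk) hg, ?_⟩
      rw [h1, hS, Finset.image_image]
      rfl

theorem pair_mask_pt (p q : GolayPt) : toSet (2 ^ idx p ||| 2 ^ idx q) = {p, q} := by
  ext x
  rw [mem_toSet, Nat.testBit_or, Bool.or_eq_true, Nat.testBit_two_pow, Nat.testBit_two_pow,
    decide_eq_true_iff, decide_eq_true_iff, idx_inj, idx_inj, Finset.mem_insert, Finset.mem_singleton,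
    eq_comm (a := p), eq_comm (a := q)]

theorem pairs_checked : gensOK gC2A = true ∧ commB e2A gC2A = true ∧
    ((List.range 24).all fun i => (List.range 24).all fun j => Nat.beq i j || !(Nat.testBit 8536111 i) ||
      !(Nat.testBit 8536111 j) || (iterMasks gC2A 6 [3]).contains (2 ^ i ||| 2 ^ j)) = true := by decide +kernel

theorem cent_pairs_std {p q r s : GolayPt} (hp : p ∈ fixF r2A) (hq : q ∈ fixF r2A) (hr : r ∈ fixF r2A)
    (hs : s ∈ fixF r2A) (hpq : p ≠ q) (hrs : r ≠ s) :
    ∃ c ∈ centM r2A, ({p, q} : Finset GolayPt).image c = {r, s} := by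
  classical
  obtain ⟨hL, hcomm, hchk⟩ := pairs_checked
  have hmask : ∀ {a b : GolayPt}, a ∈ fixF r2A → b ∈ fixF r2A → a ≠ b →
      ∃ g ∈ centM r2A, toSet (2 ^ idx a ||| 2 ^ idx b) = (toSet 3).image g := by
    intro a b ha hb hab
    rw [fix_2A, O0, mem_toSet] at ha hb
    have h := List.all_eq_true.mp (List.all_eq_true.mp hchk (idx a) (List.mem_range.mpr (idx_lt a))) (idx b)
      (List.mem_range.mpr (idx_lt b))
    rw [ha, hb] at h
    simp only [Bool.not_true, Bool.or_false, Bool.or_eq_true, List.contains_iff_mem] at h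
    rcases h with h | h
    · exact absurd (idx_injective (Nat.eq_of_beq_eq_true h)) hab
    · obtain ⟨g, hg, hS⟩ := iterMasks_sound hL (toSet 3) 6 [3] (fun m hm => by
        rw [List.mem_singleton] at hm
        subst hm
        exact ⟨by norm_num, 1, one_mem _, by simp⟩) _ h
      exact ⟨g, Gr_le_centM hL good_2A.1 hcomm hg, hS⟩
  obtain ⟨g, hg, eg⟩ := hmask hp hq hpq
  obtain ⟨k, hk, ek⟩ := hmask hr hs hrs
  rw [pair_mask_pt] at eg ek
  refine ⟨k * g⁻¹, mul_mem hk (inv_mem hg), ?_⟩
  rw [eg, ek, Finset.image_image]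
  exact Finset.image_congr fun x _ => by simp

/-- An involution of M24 fixes eight points or none. -/
theorem invol_fix_card {g : Equiv.Perm GolayPt} (hg : g ∈ M24) (h2 : g * g = 1) (h1 : g ≠ 1) :
    (fixF g).card = 8 ∨ (fixF g).card = 0 := by
  obtain ⟨k, -, e | e⟩ := class_two hg (orderOf_eq_prime (by rw [sq]; exact h2) h1)
  · left; rw [← card_fixF_conj k, e, card_fix_2A]
  · right; rw [← card_fixF_conj k, e, card_fix_2B]

/-- Involutions with the same number of fixed points are conjugate. -/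
theorem invol_conj_of_fix {g h : Equiv.Perm GolayPt} (hg : g ∈ M24) (h2 : g * g = 1) (h1 : g ≠ 1) (hh : h ∈ M24)
    (hh2 : h * h = 1) (hh1 : h ≠ 1) (hcard : (fixF g).card = (fixF h).card) : ∃ c ∈ M24, c * g * c⁻¹ = h := by
  have key : ∀ {f : Equiv.Perm GolayPt}, f ∈ M24 → f * f = 1 → f ≠ 1 →
      ∃ k ∈ M24, k * f * k⁻¹ = if (fixF f).card = 8 then r2A else r2B := by
    intro f hf hf2 hf1
    obtain ⟨k, hk, e | e⟩ := class_two hf (orderOf_eq_prime (by rw [sq]; exact hf2) hf1)
    · exact ⟨k, hk, by rw [if_pos (by rw [← card_fixF_conj k, e, card_fix_2A]), e]⟩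
    · exact ⟨k, hk, by rw [if_neg (by rw [← card_fixF_conj k, e, card_fix_2B]; norm_num), e]⟩
  obtain ⟨a, ha, ea⟩ := key hg h2 h1
  obtain ⟨b, hb, eb⟩ := key hh hh2 hh1
  refine ⟨b⁻¹ * a, mul_mem (inv_mem hb) ha, ?_⟩
  rw [hcard, ← eb] at ea
  rw [show b⁻¹ * a * g * (b⁻¹ * a)⁻¹ = b⁻¹ * (a * g * a⁻¹) * b by group, ea]
  group

/-- The centraliser of an involution fixing eight points moves any pair of them to any other. -/
theorem cent_pairs {g : Equiv.Perm GolayPt} (hg : g ∈ M24) (h2 : g * g = 1) (h8 : (fixF g).card = 8)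
    {p q r s : GolayPt} (hp : g p = p) (hq : g q = q) (hr : g r = r) (hs : g s = s) (hpq : p ≠ q) (hrs : r ≠ s) :
    ∃ c ∈ M24, c * g = g * c ∧ ({p, q} : Finset GolayPt).image c = {r, s} := by
  classical
  have h1 : g ≠ 1 := fun e => by
    rw [e, show fixF (1 : Equiv.Perm GolayPt) = Finset.univ from
      Finset.eq_univ_of_forall fun x => mem_fixF.mpr (by simp), Finset.card_univ] at h8
    exact absurd h8 (by decide)
  obtain ⟨k, hk, e | e⟩ := class_two hg (orderOf_eq_prime (by rw [sq]; exact h2) h1)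
  swap
  · rw [← card_fixF_conj k, e, card_fix_2B] at h8; norm_num at h8
  have hm : ∀ {x}, g x = x → k x ∈ fixF r2A := fun {x} hx => by
    rw [← e, fixF_conj]; exact Finset.mem_image_of_mem _ (mem_fixF.mpr hx)
  obtain ⟨c, hc, hcp⟩ := cent_pairs_std (hm hp) (hm hq) (hm hr) (hm hs) (fun h => hpq (k.injective h))
    (fun h => hrs (k.injective h))
  obtain ⟨hcM, hcc⟩ := (centM_conj hk e (c := k⁻¹ * c * k)).mpr (by
    rwa [show k * (k⁻¹ * c * k) * k⁻¹ = c by group])
  refine ⟨k⁻¹ * c * k, hcM, hcc, Finset.image_injective k.injective ?_⟩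
  simp only [Finset.image_insert, Finset.image_singleton] at hcp ⊢
  simpa using hcp

end CfsgLib.JankoFour
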