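/-
The action of an involution of N(V)/V = M24 on the group V.
-/
import Cfsg.Agent.Lib.JankoFour.OrbM24
import Cfsg.Agent.Lib.JankoFour.PairTrans

set_option autoImplicit false

namespace CfsgLib.JankoFour

open Cfsg Subgroup CfsgGolay

universe u

variable {G : Type u} [Group G] [Finite G] {z : G} {P E : Subgroup G}

namespace Ctx

variable {c : Ctx z P E} {A : Subgroup MTwoTwo}

/-- The duad coordinates of V. -/
structure Orb.Duads (o : c.Orb A) : Type u where
  θ : ↥(normalizer (c.vGrp A o.hA.1.1 : Set G)) →* ↥M24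
  D : GolayPt → GolayPt → G
  surj : Function.Surjective θ
  ker : θ.ker = (c.vGrp A o.hA.1.1).subgroupOf (normalizer (c.vGrp A o.hA.1.1 : Set G))
  self : ∀ p, D p p = 1
  mem : ∀ p q, p ≠ q → D p q ∈ c.Tset (c.vGrp A o.hA.1.1)
  mul : ∀ p q r, D p q * D q r = D p r
  conj : ∀ (n : ↥(normalizer (c.vGrp A o.hA.1.1 : Set G))) (p q : GolayPt),
    (n : G) * D p q * (n : G)⁻¹ = D ((θ n).1 p) ((θ n).1 q)
  inj : ∀ p q r s, p ≠ q → D p q = D r s → r = p ∧ s = q ∨ r = q ∧ s = p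
  onto : ∀ t ∈ c.Tset (c.vGrp A o.hA.1.1), ∃ p q, p ≠ q ∧ D p q = t

theorem Orb.duads (o : c.Orb A) : Nonempty o.Duads := by
  obtain ⟨θ, D, h1, h2, h3, h4, h5, h6, h7, h8⟩ := o.exists_duads
  exact ⟨⟨θ, D, h1, h2, h3, h4, h5, h6, h7, h8⟩⟩

namespace Orb.Duads

variable {o : c.Orb A} (d : o.Duads)

theorem memV (p q : GolayPt) : d.D p q ∈ (c.vGrp A o.hA.1.1) := by
  by_cases h : p = q
  · rw [h, d.self]; exact one_mem _
  · exact (d.mem p q h).1

theorem sq (p q : GolayPt) : d.D p q * d.D p q = 1 := c.vGrp_sq o.hA.1 (d.memV p q)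

theorem symm (p q : GolayPt) : d.D p q = d.D q p := by
  have h : d.D p q * d.D q p = 1 := by rw [d.mul, d.self]
  rw [← inv_eq_of_mul_eq_one_right h, inv_eq_of_mul_eq_one_right (d.sq p q)]

theorem theta_one (n : ↥(normalizer (c.vGrp A o.hA.1.1 : Set G))) : d.θ n = 1 ↔ (n : G) ∈ (c.vGrp A o.hA.1.1) := by
  rw [← MonoidHom.mem_ker, d.ker, mem_subgroupOf]

/-- The commutators of V with an element of its normalizer. -/
def rV (_d : o.Duads) (k : ↥(normalizer (c.vGrp A o.hA.1.1 : Set G))) : Subgroup G where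
  carrier := {x | ∃ u ∈ (c.vGrp A o.hA.1.1), (k : G) * u * (k : G)⁻¹ * u = x}
  one_mem' := ⟨1, one_mem _, by group⟩
  mul_mem' := by
    rintro _ _ ⟨u, hu, rfl⟩ ⟨w, hw, rfl⟩
    have h := c.vGrp_comm o.hA.1 hu ((mem_normalizer_iff.mp k.2 w).mp hw)
    refine ⟨u * w, mul_mem hu hw, ?_⟩
    calc (k : G) * (u * w) * (k : G)⁻¹ * (u * w)
        = (k : G) * u * (k : G)⁻¹ * ((k : G) * w * (k : G)⁻¹ * u) * w := by group
      _ = (k : G) * u * (k : G)⁻¹ * u * ((k : G) * w * (k : G)⁻¹ * w) := by rw [← h]; group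
  inv_mem' := by
    rintro _ ⟨u, hu, rfl⟩
    refine ⟨u, hu, (inv_eq_of_mul_eq_one_right ?_).symm⟩
    exact c.vGrp_sq o.hA.1 (mul_mem ((mem_normalizer_iff.mp k.2 u).mp hu) hu)

theorem mem_rV {k : ↥(normalizer (c.vGrp A o.hA.1.1 : Set G))} {x : G} : x ∈ d.rV k ↔ ∃ u ∈ (c.vGrp A o.hA.1.1), (k : G) * u * (k : G)⁻¹ * u = x := Iff.rfl

/-- The size of the fixed group and the commutator group multiply to that of V. -/
theorem card_mul (k : ↥(normalizer (c.vGrp A o.hA.1.1 : Set G))) :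
    Nat.card ↥((c.vGrp A o.hA.1.1) ⊓ centralizer ({(k : G)} : Set G)) * Nat.card ↥(d.rV k) = 2 ^ 11 := by
  let f : ↥(c.vGrp A o.hA.1.1) →* ↥(d.rV k) :=
    { toFun := fun u => ⟨(k : G) * u * (k : G)⁻¹ * u, u, u.2, rfl⟩
      map_one' := Subtype.ext (by simp)
      map_mul' := fun u w => Subtype.ext (by
        have h := c.vGrp_comm o.hA.1 u.2 ((mem_normalizer_iff.mp k.2 w).mp w.2)
        show (k : G) * ((u : G) * w) * (k : G)⁻¹ * ((u : G) * w) = _
        calc (k : G) * ((u : G) * w) * (k : G)⁻¹ * ((u : G) * w)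
            = (k : G) * u * (k : G)⁻¹ * ((k : G) * w * (k : G)⁻¹ * u) * w := by group
          _ = (k : G) * u * (k : G)⁻¹ * u * ((k : G) * w * (k : G)⁻¹ * w) := by rw [← h]; group) }
  have hsurj : Function.Surjective f := by
    rintro ⟨_, u, hu, rfl⟩
    exact ⟨⟨u, hu⟩, rfl⟩
  have hker : f.ker = ((c.vGrp A o.hA.1.1) ⊓ centralizer ({(k : G)} : Set G)).subgroupOf (c.vGrp A o.hA.1.1) := by
    ext u
    rw [MonoidHom.mem_ker, Subtype.ext_iff, mem_subgroupOf, mem_inf, mem_centralizer_singleton_iff]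
    show (k : G) * u * (k : G)⁻¹ * u = 1 ↔ _
    constructor
    · intro h
      refine ⟨u.2, ?_⟩
      have h1 : (k : G) * u * (k : G)⁻¹ = u :=
        (eq_inv_of_mul_eq_one_left h).trans (inv_eq_of_mul_eq_one_right (c.vGrp_sq o.hA.1 u.2))
      exact (mul_inv_eq_iff_eq_mul.mp h1).symm
    · rintro ⟨-, h⟩
      rw [← h, mul_inv_cancel_right]
      exact c.vGrp_sq o.hA.1 u.2
  have h := card_mul_index f.ker
  rw [Subgroup.index_ker, MonoidHom.range_eq_top.mpr hsurj, card_top, hker,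
    Nat.card_congr (subgroupOfEquivOfLe inf_le_left).toEquiv, (c.vGrp_facts o.hA.1).2] at h
  exact h

theorem rV_le {k : ↥(normalizer (c.vGrp A o.hA.1.1 : Set G))} (hk : (k : G) * k ∈ (c.vGrp A o.hA.1.1)) : d.rV k ≤ (c.vGrp A o.hA.1.1) ⊓ centralizer ({(k : G)} : Set G) := by
  rintro _ ⟨u, hu, rfl⟩
  have hu' := (mem_normalizer_iff.mp k.2 u).mp hu
  refine ⟨mul_mem hu' hu, mem_centralizer_singleton_iff.mpr ?_⟩
  refine (mul_inv_eq_iff_eq_mul.mp ?_).symm
  rw [show (k : G) * ((k : G) * u * (k : G)⁻¹ * u) * (k : G)⁻¹ =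
      (k : G) * k * u * ((k : G) * k)⁻¹ * ((k : G) * u * (k : G)⁻¹) by group,
    c.vGrp_comm o.hA.1 hk hu, mul_inv_cancel_right]
  exact c.vGrp_comm o.hA.1 hu hu'

/-- An element commuting with k modulo V preserves the commutator group. -/
theorem rV_conj {k n : ↥(normalizer (c.vGrp A o.hA.1.1 : Set G))} (h : d.θ n * d.θ k = d.θ k * d.θ n) {x : G} (hx : x ∈ d.rV k) :
    (n : G) * x * (n : G)⁻¹ ∈ d.rV k := by
  obtain ⟨u, hu, rfl⟩ := hx
  set w := (k⁻¹ * (n * k * n⁻¹) : ↥(normalizer (c.vGrp A o.hA.1.1 : Set G))) with hw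
  have hwV : (w : G) ∈ (c.vGrp A o.hA.1.1) := (d.theta_one w).mp (by
    rw [hw, map_mul, map_mul, map_mul, map_inv, map_inv, h, mul_inv_cancel_right, inv_mul_cancel])
  have hu' := (mem_normalizer_iff.mp n.2 u).mp hu
  refine ⟨(n : G) * u * (n : G)⁻¹, hu', ?_⟩
  have e : (n : G) * k * (n : G)⁻¹ = (k : G) * w := by
    rw [hw]; simp only [Subgroup.coe_mul, Subgroup.coe_inv]; group
  symm
  calc (n : G) * ((k : G) * u * (k : G)⁻¹ * u) * (n : G)⁻¹
      = (n : G) * k * (n : G)⁻¹ * ((n : G) * u * (n : G)⁻¹) * ((n : G) * k * (n : G)⁻¹)⁻¹ *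
          ((n : G) * u * (n : G)⁻¹) := by group
    _ = (k : G) * ((w : G) * ((n : G) * u * (n : G)⁻¹) * (w : G)⁻¹) * (k : G)⁻¹ * ((n : G) * u * (n : G)⁻¹) := by
        rw [e]; group
    _ = (k : G) * ((n : G) * u * (n : G)⁻¹) * (k : G)⁻¹ * ((n : G) * u * (n : G)⁻¹) := by
        rw [c.vGrp_comm o.hA.1 hwV hu', mul_inv_cancel_right]

/-- A set of pairs with distinct ends in a subgroup of V bounds its order. -/
theorem count_pairs (S : Finset (GolayPt × GolayPt)) (H : Subgroup G) (hne : ∀ x ∈ S, x.1 ≠ x.2)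
    (hH : ∀ x ∈ S, d.D x.1 x.2 ∈ H) : S.card ≤ 2 * (Nat.card H - 1) := by
  classical
  have hfin : ((H : Set G) \ {1}).Finite := Set.toFinite _
  have hc : hfin.toFinset.card = Nat.card H - 1 := by
    rw [← Set.ncard_eq_toFinset_card _ hfin, Set.ncard_sdiff (Set.singleton_subset_iff.mpr (one_mem _)),
      Set.ncard_singleton]
    rfl
  rw [← hc]
  refine Finset.card_le_mul_card_image_of_maps_to (f := fun x : GolayPt × GolayPt => d.D x.1 x.2) (fun x hx => ?_) 2 ?_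
  · rw [Set.Finite.mem_toFinset]
    exact ⟨hH x hx, fun h => (d.mem _ _ (hne x hx)).2.1 h⟩
  · intro b _
    rcases Finset.eq_empty_or_nonempty (S.filter fun x => d.D x.1 x.2 = b) with h | ⟨y, hy⟩
    · rw [h]; norm_num
    rw [Finset.mem_filter] at hy
    refine (Finset.card_le_card (t := {(y.1, y.2), (y.2, y.1)}) fun x hx => ?_).trans Finset.card_le_two
    rw [Finset.mem_filter] at hx
    rcases d.inj y.1 y.2 x.1 x.2 (hne y hy.1) (hy.2.trans hx.2.symm) with ⟨a, b⟩ | ⟨a, b⟩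
    · exact Finset.mem_insert.mpr (Or.inl (Prod.ext a b))
    · exact Finset.mem_insert_of_mem (Finset.mem_singleton.mpr (Prod.ext a b))

/-- An involution fixing eight points: the fixed group in V. -/
theorem fix_eight {k : ↥(normalizer (c.vGrp A o.hA.1.1 : Set G))} (hk : (d.θ k).1 * (d.θ k).1 = 1) (h8 : (fixF (d.θ k).1).card = 8) :
    Nat.card ↥((c.vGrp A o.hA.1.1) ⊓ centralizer ({(k : G)} : Set G)) = 128 ∧
    (∀ i j, (d.θ k).1 i = i → (d.θ k).1 j = j → i ≠ j →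
      d.D i j ∈ (c.vGrp A o.hA.1.1) ⊓ centralizer ({(k : G)} : Set G) ∧ d.D i j ∉ d.rV k) ∧
    ∀ v ∈ (c.vGrp A o.hA.1.1) ⊓ centralizer ({(k : G)} : Set G), v ∉ d.rV k →
      ∃ i j, (d.θ k).1 i = i ∧ (d.θ k).1 j = j ∧ i ≠ j ∧ ∃ r ∈ d.rV k, v = d.D i j * r := by
  classical
  set g := (d.θ k).1 with hg
  set C := (c.vGrp A o.hA.1.1) ⊓ centralizer ({(k : G)} : Set G) with hC
  set R := d.rV k with hR
  set F := fixF g with hF
  have hkk : (k : G) * k ∈ (c.vGrp A o.hA.1.1) := by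
    have h : d.θ (k * k) = 1 := by rw [map_mul]; exact Subtype.ext hk
    exact (d.theta_one _).mp h
  obtain ⟨i0, hi0⟩ := Finset.card_pos.mp (show 0 < F.card by rw [h8]; norm_num)
  have hiF : g i0 = i0 := mem_fixF.mp hi0
  have hswap : ∀ p, g p ≠ p → d.D p (g p) ∈ R := fun p _ => by
    refine ⟨d.D p i0, d.memV _ _, ?_⟩
    rw [d.conj, ← hg, hiF, d.symm p i0, d.mul, d.symm]
  have hmul := d.card_mul k
  rw [← hC, ← hR] at hmul
  have hRC : Nat.card R ≤ Nat.card C := card_le_of_le (d.rV_le hkk)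
  obtain ⟨a, ha, hRa⟩ := (Nat.dvd_prime_pow Nat.prime_two).mp (show Nat.card R ∣ 2 ^ 11 from ⟨_, by rw [mul_comm]; exact hmul.symm⟩)
  have hR32 : Nat.card R ≤ 32 := by
    rw [hRa]
    by_contra h
    have h6 : 6 ≤ a := by
      by_contra h'
      exact h ((Nat.pow_le_pow_right (show 1 ≤ 2 by norm_num) (show a ≤ 5 by omega)).trans (by norm_num))
    have : 2 ^ 6 ≤ Nat.card R := hRa ▸ Nat.pow_le_pow_right (by norm_num) h6
    nlinarith
  set S2 := (Finset.univ \ F).image fun p => (p, g p) with hS2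
  have hS2c : S2.card = 16 := by
    rw [hS2, Finset.card_image_of_injective _ fun p q h => (Prod.ext_iff.mp h).1,
      Finset.card_sdiff_of_subset (Finset.subset_univ _), Finset.card_univ, h8]
    rfl
  have hS2h : ∀ x ∈ S2, x.1 ≠ x.2 ∧ g x.1 ≠ x.1 ∧ d.D x.1 x.2 ∈ R := fun x hx => by
    obtain ⟨p, hp, rfl⟩ := Finset.mem_image.mp hx
    rw [Finset.mem_sdiff, hF, mem_fixF] at hp
    exact ⟨fun h => hp.2 h.symm, hp.2, hswap p hp.2⟩
  have hR16 : 16 ≤ Nat.card R := by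
    have h := d.count_pairs S2 R (fun x hx => (hS2h x hx).1) fun x hx => (hS2h x hx).2.2
    rw [hS2c] at h
    rw [hRa] at h ⊢
    by_contra h'
    have h4 : a < 4 := by
      by_contra hh
      exact h' ((show (16 : ℕ) = 2 ^ 4 by norm_num) ▸ Nat.pow_le_pow_right (by norm_num) (by omega : 4 ≤ a))
    interval_cases a <;> norm_num at h
  have hfixC : ∀ i j, g i = i → g j = j → d.D i j ∈ C := fun i j hi hj => by
    refine ⟨d.memV i j, mem_centralizer_singleton_iff.mpr (mul_inv_eq_iff_eq_mul.mp ?_).symm⟩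
    rw [d.conj, ← hg, hi, hj]
  have hnot : ∀ i j, g i = i → g j = j → i ≠ j → d.D i j ∉ R := by
    intro i j hi hj hij hmem
    set S1 := F.offDiag with hS1
    have hall : ∀ x ∈ S1, d.D x.1 x.2 ∈ R := fun x hx => by
      obtain ⟨h1, h2, h3⟩ := Finset.mem_offDiag.mp hx
      obtain ⟨m, hm, hmg, him⟩ := cent_pairs (d.θ k).2 hk h8 hi hj (mem_fixF.mp h1) (mem_fixF.mp h2) hij h3
      obtain ⟨n, hn⟩ := d.surj ⟨m, hm⟩
      have h := d.rV_conj (k := k) (n := n) (Subtype.ext (by rw [hn]; exact hmg)) hmem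
      rw [d.conj, hn] at h
      rw [Finset.image_insert, Finset.image_singleton] at him
      have hne : m i ≠ m j := fun e => hij (m.injective e)
      have ha : m i = x.1 ∨ m i = x.2 := by simpa using (him ▸ Finset.mem_insert_self _ _ : m i ∈ ({x.1, x.2} : Finset GolayPt))
      have hb : m j = x.1 ∨ m j = x.2 := by
        simpa using (him ▸ Finset.mem_insert_of_mem (Finset.mem_singleton_self _) : m j ∈ ({x.1, x.2} : Finset GolayPt))
      rcases ha with a' | a' <;> rcases hb with b' | b'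
      · exact absurd (a'.trans b'.symm) hne
      · rwa [show (⟨m, hm⟩ : M24).1 i = x.1 from a', show (⟨m, hm⟩ : M24).1 j = x.2 from b'] at h
      · rw [show (⟨m, hm⟩ : M24).1 i = x.2 from a', show (⟨m, hm⟩ : M24).1 j = x.1 from b', d.symm] at h
        exact h
      · exact absurd (a'.trans b'.symm) hne
    have hdis : Disjoint S1 S2 := Finset.disjoint_left.mpr fun x hx hx' =>
      (hS2h x hx').2.1 (mem_fixF.mp (Finset.mem_offDiag.mp hx).1)
    have h := d.count_pairs (S1 ∪ S2) R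
      (fun x hx => (Finset.mem_union.mp hx).elim (fun h => (Finset.mem_offDiag.mp h).2.2) fun h => (hS2h x h).1)
      (fun x hx => (Finset.mem_union.mp hx).elim (hall x) fun h => (hS2h x h).2.2)
    rw [Finset.card_union_of_disjoint hdis, hS1, Finset.offDiag_card, h8, hS2c] at h
    omega
  let Φ : F × R → C := fun x => ⟨d.D i0 x.1 * x.2,
    mul_mem (hfixC _ _ hiF (mem_fixF.mp x.1.2)) (d.rV_le hkk x.2.2)⟩
  have hΦ : Function.Injective Φ := by
    rintro ⟨j, r⟩ ⟨l, r'⟩ h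
    have h' : d.D i0 j * (r : G) = d.D i0 l * r' := congrArg Subtype.val h
    have hjl : j = l := by
      by_contra hne
      refine hnot j l (mem_fixF.mp j.2) (mem_fixF.mp l.2) (fun e => hne (Subtype.ext e)) ?_
      have e : d.D (j : GolayPt) l = (r : G) * (r' : G)⁻¹ := by
        rw [← d.mul (j : GolayPt) i0 l, d.symm (j : GolayPt) i0,
          show (d.D i0 l : G) = d.D i0 j * r * (r' : G)⁻¹ by rw [h', mul_inv_cancel_right],
          ← mul_assoc, ← mul_assoc, d.sq, one_mul]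
      rw [e]; exact mul_mem r.2 (inv_mem r'.2)
    subst hjl
    exact Prod.ext rfl (Subtype.ext (mul_left_cancel h'))
  have hcard := Nat.card_le_card_of_injective Φ hΦ
  have hF8 : Nat.card F = 8 := by rw [Nat.card_eq_fintype_card, Fintype.card_coe, h8]
  rw [Nat.card_prod, hF8] at hcard
  have hC128 : Nat.card C = 128 ∧ Nat.card R = 16 := by
    constructor <;> nlinarith
  have hbij := hΦ.bijective_of_nat_card_le (le_of_eq (by
    rw [Nat.card_prod, hF8, hC128.1, hC128.2]))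
  refine ⟨hC128.1, fun i j hi hj hij => ⟨hfixC i j hi hj, hnot i j hi hj hij⟩, fun v hv hvR => ?_⟩
  obtain ⟨⟨j, r⟩, hjr⟩ := hbij.2 ⟨v, hv⟩
  have h' : d.D i0 j * (r : G) = v := congrArg Subtype.val hjr
  refine ⟨i0, j, hiF, mem_fixF.mp j.2, fun e => hvR ?_, r, r.2, h'.symm⟩
  rw [← h', ← e, d.self, one_mul]
  exact r.2

end Orb.Duads

end Ctx

end CfsgLib.JankoFour
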