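/-
Every involution is conjugate to z or to an element of the short orbit in V.
-/
import Cfsg.Agent.Lib.JankoFour.OrbFix
import Cfsg.Agent.Lib.JankoFour.OrbSplit
import Cfsg.Agent.Lib.JankoFour.OrbCover
import Cfsg.Agent.Lib.JankoFour.WeakClos

set_option autoImplicit false

namespace CfsgLib.JankoFour

open Cfsg Subgroup CfsgGolay
open scoped commutatorElement

universe u

variable {G : Type u} [Group G] [Finite G] {z : G} {P E : Subgroup G}

namespace Ctx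

variable {c : Ctx z P E} {A : Subgroup MTwoTwo}

theorem Orb.decomp_K (o : c.Orb A) {K : Subgroup G} (hKN : K ≤ normalizer (c.vGrp A o.hA.1.1 : Set G))
    (hKsup : K ⊔ c.vGrp A o.hA.1.1 = normalizer (c.vGrp A o.hA.1.1 : Set G)) {n : G}
    (hn : n ∈ normalizer (c.vGrp A o.hA.1.1 : Set G)) : ∃ v ∈ c.vGrp A o.hA.1.1, ∃ k ∈ K, n = v * k := by
  rw [← hKsup, sup_comm] at hn
  exact mem_sup_of_norm (fun k hk x hx => (mem_normalizer_iff.mp (hKN hk) x).mp hx) hn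

/-- The elements of E modulo W are realised in the complement. -/
theorem Orb.E_in_K (o : c.Orb A) {K : Subgroup G} (hKN : K ≤ normalizer (c.vGrp A o.hA.1.1 : Set G))
    (hKV : K ⊓ c.vGrp A o.hA.1.1 = ⊥)
    (hKsup : K ⊔ c.vGrp A o.hA.1.1 = normalizer (c.vGrp A o.hA.1.1 : Set G)) {e : G} (he : e ∈ E) :
    ∃ l ∈ K, l ∈ E ∧ l⁻¹ * e ∈ c.fixB A := by
  classical
  have hA := o.hA
  set V := c.vGrp A hA.1.1 with hV
  set W := c.fixB A with hW
  set Q := c.twoGrp A hA.1.1 with hQ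
  obtain ⟨p, hp, -, hgen⟩ := c.exists_gen
  have hQE : ∀ y ∈ Q, ∀ x ∈ E, y * x * y⁻¹ ∈ E := fun y hy x hx => c.conj_E hy.1.1 hx
  have hVEQ : V ≤ E ⊔ Q := sup_le ((c.fixB_le A).trans le_sup_left) le_sup_right
  have hval : ∀ {x}, x ∈ E ⊔ Q → ∃ f ∈ E, ∃ y ∈ Q, x = f * y ∧ x ∈ c.H0 ∧ c.val x = c.val y := by
    intro x hx
    obtain ⟨f, hf, y, hy, rfl⟩ := mem_sup_of_norm hQE hx
    refine ⟨f, hf, y, hy, rfl, mul_mem (c.NH0 (c.EN hf)) (c.cen_le_H0 hy.1), ?_⟩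
    rw [c.val_mul (c.NH0 (c.EN hf)) (c.cen_le_H0 hy.1), c.val_E hf, one_mul]
  have hpN : p ∈ normalizer (V : Set G) :=
    c.cen_norm_V hA.1 (c.P_le_cen hp) (by rw [c.val_P hp]; exact one_mem _)
  obtain ⟨v0, hv0, r, hr, hpr⟩ := o.decomp_K hKN hKsup hpN
  have hre : r = v0⁻¹ * p := by rw [hpr, inv_mul_cancel_left]
  set L := K ⊓ (E ⊔ Q) with hL
  have hpnorm : ∀ x ∈ E ⊔ Q, p * x * p⁻¹ ∈ E ⊔ Q := by
    intro x hx
    obtain ⟨f, hf, y, hy, rfl, -, -⟩ := hval hx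
    rw [show p * (f * y) * p⁻¹ = p * f * p⁻¹ * (p * y * p⁻¹) by group, ← c.cen_comm hy.1 hp, mul_inv_cancel_right]
    exact mul_mem (mem_sup_left (c.conj_E (c.P_le hp) hf)) (mem_sup_right hy)
  have hrH0 : r ∈ c.H0 ∧ c.val r ∈ A := by
    obtain ⟨f, hf, y, hy, -, h0, hv⟩ := hval (hVEQ (inv_mem hv0))
    rw [hre]
    refine ⟨mul_mem h0 (c.cen_le_H0 (c.P_le_cen hp)), ?_⟩
    rw [c.val_mul h0 (c.cen_le_H0 (c.P_le_cen hp)), c.val_P hp, mul_one, hv]
    exact hy.2.1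
  have hcomm : ∀ l ∈ L, r * l * r⁻¹ * l⁻¹ ∈ K ⊓ E := by
    intro l hl
    refine mem_inf.mpr ⟨mul_mem (mul_mem (mul_mem hr hl.1) (inv_mem hr)) (inv_mem hl.1), ?_⟩
    have hmem : r * l * r⁻¹ * l⁻¹ ∈ E ⊔ Q := by
      refine mul_mem ?_ (inv_mem hl.2)
      rw [hre, show v0⁻¹ * p * l * (v0⁻¹ * p)⁻¹ = v0⁻¹ * (p * l * p⁻¹) * v0 by group]
      exact mul_mem (mul_mem (hVEQ (inv_mem hv0)) (hpnorm l hl.2)) (hVEQ hv0)
    obtain ⟨f, hf, y, hy, e', -, hv⟩ := hval hmem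
    obtain ⟨g, -, w, hw, -, hl0, hlv⟩ := hval hl.2
    have h1 : c.val (r * l * r⁻¹ * l⁻¹) = 1 := by
      rw [c.val_mul (mul_mem (mul_mem hrH0.1 hl0) (inv_mem hrH0.1)) (inv_mem hl0), c.val_conj hrH0.1 hl0,
        c.val_inv hl0, hlv]
      have hab : c.val r * c.val w = c.val w * c.val r := by
        haveI := hA.1.1.1
        exact congrArg Subtype.val (IsMulCommutative.is_comm.comm (⟨_, hrH0.2⟩ : A) ⟨_, hw.2.1⟩)
      rw [hab, mul_inv_cancel_right, mul_inv_cancel]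
    rw [e']
    exact mul_mem hf (c.Z_le (c.two_ker hy (hv ▸ h1)))
  have hinj : ∀ m ∈ L, r * m * r⁻¹ = m → m = 1 := by
    intro m hm h
    obtain ⟨f, hf, y, hy, rfl, -, -⟩ := hval hm.2
    have hmN : f * y ∈ normalizer (V : Set G) := hKN hm.1
    have h1 : (f * y)⁻¹ * (p * (f * y) * p⁻¹) ∈ V := by
      rw [hpr, show v0 * r * (f * y) * (v0 * r)⁻¹ = v0 * (r * (f * y) * r⁻¹) * v0⁻¹ by group, h,
        show (f * y)⁻¹ * (v0 * (f * y) * v0⁻¹) = (f * y)⁻¹ * v0 * (f * y)⁻¹⁻¹ * v0⁻¹ by group]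
      exact mul_mem ((mem_normalizer_iff.mp (inv_mem hmN) _).mp hv0) (inv_mem hv0)
    have hfw : f⁻¹ * (p * f * p⁻¹) ∈ W := by
      refine c.vGrp_inf_E hA.1 ?_ (mul_mem (inv_mem hf) (c.conj_E (c.P_le hp) hf))
      rw [show p * (f * y) * p⁻¹ = p * f * p⁻¹ * (p * y * p⁻¹) by group, ← c.cen_comm hy.1 hp,
        mul_inv_cancel_right] at h1
      have hyN : y ∈ normalizer (V : Set G) := le_normalizer (mem_sup_right hy)
      have := (mem_normalizer_iff.mp hyN _).mp h1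
      rwa [show y * ((f * y)⁻¹ * (p * f * p⁻¹ * y)) * y⁻¹ = f⁻¹ * (p * f * p⁻¹) by group] at this
    set w := f⁻¹ * (p * f * p⁻¹) with hw
    have hw' : f⁻¹ * (p⁻¹ * f * p) ∈ W := by
      rw [show f⁻¹ * (p⁻¹ * f * p) = (p⁻¹ * w * p)⁻¹ by rw [hw]; group]
      exact inv_mem (c.fixB_P' hp hfw)
    have ht := c.Z_le_fixB A (c.orbit_mem_Z hp hgen hf)
    have hff := c.Z_le_fixB A (c.sq_mem_Z hf)
    rw [show p * f * p⁻¹ * f * (p⁻¹ * f * p) = f * (w * (f * f) * (f⁻¹ * (p⁻¹ * f * p))) by rw [hw]; group] at ht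
    have hfW : f ∈ W := by
      have := mul_mem ht (inv_mem (mul_mem (mul_mem hfw hff) hw'))
      rwa [mul_inv_cancel_right] at this
    have hmV : f * y ∈ K ⊓ V := ⟨hm.1, mul_mem (mem_sup_left hfW) (mem_sup_right hy)⟩
    rwa [hKV, mem_bot] at hmV
  let F : L → L := fun l => ⟨r * l * r⁻¹ * (l : G)⁻¹, (hcomm l l.2).1, mem_sup_left (hcomm l l.2).2⟩
  have hF : Function.Injective F := by
    intro l l' h
    have h' : r * l * r⁻¹ * (l : G)⁻¹ = r * l' * r⁻¹ * (l' : G)⁻¹ := congrArg Subtype.val h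
    refine Subtype.ext (inv_mul_eq_one.mp (hinj _ (mul_mem (inv_mem l'.2) l.2) ?_)).symm
    calc r * ((l' : G)⁻¹ * l) * r⁻¹ = (r * l' * r⁻¹)⁻¹ * (r * l * r⁻¹ * (l : G)⁻¹ * l) := by group
      _ = (l' : G)⁻¹ * l := by rw [h']; group
  have hLE : ∀ l ∈ L, l ∈ E := by
    intro l hl
    obtain ⟨m, hm⟩ := (Finite.injective_iff_surjective.mp hF) ⟨l, hl⟩
    have e' : r * m * r⁻¹ * (m : G)⁻¹ = l := congrArg Subtype.val hm
    exact e' ▸ (hcomm m m.2).2
  obtain ⟨v, hv, l, hl, hel⟩ := o.decomp_K hKN hKsup (c.E_norm_V hA he)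
  have hlL : l ∈ L := ⟨hl, by
    rw [show l = v⁻¹ * e by rw [hel, inv_mul_cancel_left]]
    exact mul_mem (hVEQ (inv_mem hv)) (mem_sup_left he)⟩
  have hlE := hLE l hlL
  refine ⟨l, hl, hlE, c.vGrp_inf_E hA.1 ?_ (mul_mem (inv_mem hlE) he)⟩
  rw [hel, show l⁻¹ * (v * l) = l⁻¹ * v * l⁻¹⁻¹ by group]
  exact (mem_normalizer_iff.mp (inv_mem (hKN hl)) _).mp hv

/-- The commutators of V with an element of E lie in W. -/
theorem Orb.comm_V (o : c.Orb A) {f v : G} (hf : f ∈ E) (hv : v ∈ c.vGrp A o.hA.1.1) :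
    f * v * f⁻¹ * v ∈ c.fixB A := by
  obtain ⟨w, hw, y, hy, rfl⟩ := c.mem_vGrp o.hA.1 hv
  have h1 := c.Z_le_fixB A (c.comm_E hf (c.fixB_le A hw))
  have h2 := c.comm_twoGrp o.hA hy hf
  have h3 : y * w = w * y := ((c.hex_fix o.hA.1).2.2.2 w hw y hy)
  have hww : w * w = 1 := (c.hex_fix o.hA.1).2.2.1 w hw
  have hyy : y * y = 1 := c.vGrp_sq o.hA.1 (mem_sup_right hy)
  have h4 : ⁅f, y⁆ * y * w = ⁅f, y⁆ * w * y := by rw [mul_assoc, h3, mul_assoc]
  rw [show f * (w * y) * f⁻¹ * (w * y) = ⁅f, w⁆ * w * (⁅f, y⁆ * y * w) * y by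
    simp only [commutatorElement_def]; group, h4,
    show ⁅f, w⁆ * w * (⁅f, y⁆ * w * y) * y = ⁅f, w⁆ * w * ⁅f, y⁆ * w * (y * y) by group, hyy, mul_one]
  exact mul_mem (mul_mem (mul_mem h1 hw) h2) hw

/-- The part of W fixed by an element of E is at most a hyperplane down. -/
theorem Orb.cent_W_le (o : c.Orb A) {k : G} (hk : k ∈ E) :
    64 ≤ Nat.card ↥(c.fixB A ⊓ centralizer ({k} : Set G)) := by
  classical
  set C := c.fixB A ⊓ centralizer ({k} : Set G) with hC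
  obtain ⟨hW7, -, -, -⟩ := c.hex_fix o.hA.1
  have h : Nat.card (c.fixB A) ≤ Nat.card C * (zpowers z : Set G).ncard := by
    refine card_le_fibres (f := fun w : c.fixB A => ⁅k, (w : G)⁆) (Set.toFinite _)
      (fun w => c.comm_E hk (c.fixB_le A w.2)) fun b => ?_
    rcases Set.eq_empty_or_nonempty {w : c.fixB A | ⁅k, (w : G)⁆ = b} with h | ⟨w0, h0⟩
    · rw [h, Set.ncard_empty]; exact Nat.zero_le _
    change _ ≤ Nat.card ((C : Set G) : Type u)
    rw [Nat.card_coe_set_eq]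
    refine Set.ncard_le_ncard_of_injOn (fun w => (w0 : G)⁻¹ * w) (fun w hw => ?_)
      (fun w _ w' _ h => Subtype.ext (mul_left_cancel h)) (Set.toFinite _)
    refine mem_inf.mpr ⟨mul_mem (inv_mem w0.2) w.2, mem_centralizer_singleton_iff.mpr ?_⟩
    have h1 : k * (w : G) * k⁻¹ * (w : G)⁻¹ = k * (w0 : G) * k⁻¹ * (w0 : G)⁻¹ := by
      rw [← commutatorElement_def, ← commutatorElement_def]
      exact (hw : ⁅k, (w : G)⁆ = b).trans h0.symm
    refine (mul_inv_eq_iff_eq_mul.mp ?_).symm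
    calc k * ((w0 : G)⁻¹ * w) * k⁻¹ = (k * (w0 : G) * k⁻¹)⁻¹ * (k * (w : G) * k⁻¹ * (w : G)⁻¹ * w) := by group
      _ = (w0 : G)⁻¹ * w := by rw [h1]; group
  rw [← Nat.card_coe_set_eq, SetLike.coe_sort_coe, c.card_Z, hW7] at h
  norm_num at h
  omega

/-- Every involution is a conjugate of z or of an element of the short orbit. -/
theorem Orb.invol_class (o : c.Orb A) {K : Subgroup G} (hKN : K ≤ normalizer (c.vGrp A o.hA.1.1 : Set G))
    (hKV : K ⊓ c.vGrp A o.hA.1.1 = ⊥)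
    (hKsup : K ⊔ c.vGrp A o.hA.1.1 = normalizer (c.vGrp A o.hA.1.1 : Set G)) {x : G} (hx2 : x * x = 1)
    (hx1 : x ≠ 1) : c.IsZ x ∨ ∃ g : G, g * x * g⁻¹ ∈ c.Tset (c.vGrp A o.hA.1.1) := by
  classical
  haveI : Fact (Nat.Prime 2) := ⟨Nat.prime_two⟩
  have hA := o.hA
  obtain ⟨d⟩ := o.duads
  set V := c.vGrp A hA.1.1 with hV
  set W := c.fixB A with hW
  obtain ⟨hW7, hWc, hWsq, hWQ⟩ := c.hex_fix hA.1
  obtain ⟨hVel, hVc⟩ := c.vGrp_facts hA.1
  have hKinj : ∀ {k} (hk : k ∈ K), d.θ ⟨k, hKN hk⟩ = 1 → k = 1 := fun {k} hk h =>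
    mem_bot.mp (hKV ▸ mem_inf.mpr ⟨hk, (d.theta_one _).mp h⟩)
  have hKeq : ∀ {k l} (hk : k ∈ K) (hl : l ∈ K), d.θ ⟨k, hKN hk⟩ = d.θ ⟨l, hKN hl⟩ → k = l := fun {k l} hk hl h =>
    inv_mul_eq_one.mp (hKinj (mul_mem (inv_mem hk) hl) (by
      rw [show (⟨k⁻¹ * l, hKN (mul_mem (inv_mem hk) hl)⟩ : ↥(normalizer (V : Set G))) = ⟨k, hKN hk⟩⁻¹ * ⟨l, hKN hl⟩
        from rfl, map_mul, map_inv, h, inv_mul_cancel]))
  have hKsurj : ∀ m : M24, ∃ k, ∃ hk : k ∈ K, d.θ ⟨k, hKN hk⟩ = m := fun m => by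
    obtain ⟨n, rfl⟩ := d.surj m
    obtain ⟨v, hv, k, hk, hn⟩ := o.decomp_K hKN hKsup n.2
    refine ⟨k, hk, ?_⟩
    rw [show n = (⟨v, le_normalizer hv⟩ : ↥(normalizer (V : Set G))) * ⟨k, hKN hk⟩ from Subtype.ext hn, map_mul,
      (d.theta_one ⟨v, le_normalizer hv⟩).mpr hv, one_mul]
  have hVW : ∀ {v}, v ∈ V → v ∈ E → v ∈ W := fun hv he => c.vGrp_inf_E hA.1 hv he
  have hKW : ∀ {k}, k ∈ K → k ∈ W → k = 1 := fun hk hkW =>
    mem_bot.mp (hKV ▸ mem_inf.mpr ⟨hk, mem_sup_left hkW⟩)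
  have hksq : ∀ {k}, k ∈ K → k ∈ E → k * k = 1 := fun {k} hk hkE =>
    hKW (mul_mem hk hk) (c.Z_le_fixB A (c.sq_mem_Z hkE))
  have hWlt : ∀ {k}, k ∈ K → k ∈ E → k ≠ 1 → Nat.card ↥(W ⊓ centralizer ({k} : Set G)) ≤ 64 := by
    intro k hk hkE hk1
    have hlt : W ⊓ centralizer ({k} : Set G) < W := lt_of_le_of_ne inf_le_left fun h => hk1 (hKW hk (by
      have h1 : k ∈ E ⊓ centralizer (W : Set G) := ⟨hkE, mem_centralizer_iff.mpr fun w hw =>
        mem_centralizer_singleton_iff.mp (show w ∈ W ⊓ centralizer ({k} : Set G) by rw [h]; exact hw).2⟩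
      rwa [hWc] at h1))
    have h2 := two_mul_card_le hlt
    rw [hW7] at h2
    exact Nat.le_of_mul_le_mul_left (h2 : 2 * _ ≤ 2 * 64) two_pos
  have hg1 : ∀ {k} (hk : k ∈ K), k * k = 1 → k ≠ 1 →
      (d.θ ⟨k, hKN hk⟩).1 * (d.θ ⟨k, hKN hk⟩).1 = 1 ∧ (d.θ ⟨k, hKN hk⟩).1 ≠ 1 := by
    intro k hk hk2 hk1
    refine ⟨?_, fun h => hk1 (hKinj hk (Subtype.ext h))⟩
    have := congrArg Subtype.val (map_mul d.θ ⟨k, hKN hk⟩ ⟨k, hKN hk⟩)
    rw [show (⟨k, hKN hk⟩ : ↥(normalizer (V : Set G))) * ⟨k, hKN hk⟩ = 1 from Subtype.ext hk2, map_one] at this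
    exact this.symm
  -- an element of K ∩ E centralizing nothing outside W fixes no point
  have hsmall : ∀ {k} (hk : k ∈ K), k ∈ E → k ≠ 1 → (∀ v ∈ V, k * v = v * k → v ∈ W) →
      (fixF (d.θ ⟨k, hKN hk⟩).1).card = 0 := by
    intro k hk hkE hk1 hkW
    obtain ⟨hg2, hgne⟩ := hg1 hk (hksq hk hkE) hk1
    rcases invol_fix_card (d.θ _).2 hg2 hgne with h | h
    · exfalso
      obtain ⟨h128, -, -⟩ := d.fix_eight hg2 h
      have hle := card_le_of_le (show V ⊓ centralizer ({k} : Set G) ≤ W ⊓ centralizer ({k} : Set G) from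
        fun v hv => ⟨hkW v hv.1 (mem_centralizer_singleton_iff.mp hv.2).symm, hv.2⟩)
      have hw := hWlt hk hkE hk1
      change Nat.card ↥(V ⊓ centralizer ({k} : Set G)) = 128 at h128
      omega
    · exact h
  -- the number of such elements
  have hKE64 : 64 ≤ Nat.card ↥(K ⊓ E) := by
    have h : Nat.card E ≤ Nat.card W * ((K ⊓ E : Subgroup G) : Set G).ncard := by
      choose l hl hlE hlW using fun e : E => o.E_in_K hKN hKV hKsup e.2
      refine card_le_fibres (f := l) (U := ((K ⊓ E : Subgroup G) : Set G)) (Set.toFinite _) (fun e => ⟨hl e, hlE e⟩) fun b => ?_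
      change _ ≤ Nat.card ((W : Set G) : Type u)
      rw [Nat.card_coe_set_eq]
      refine Set.ncard_le_ncard_of_injOn (fun e => b⁻¹ * (e : G)) (fun e he => ?_)
        (fun e _ e' _ h => Subtype.ext (mul_left_cancel h)) (Set.toFinite _)
      rw [show b = l e from (he : l e = b).symm]
      exact hlW e
    rw [← Nat.card_coe_set_eq, SetLike.coe_sort_coe, c.hE, hW7] at h
    exact Nat.le_of_mul_le_mul_left (show 2 ^ 7 * 64 ≤ 2 ^ 7 * _ from le_trans (le_of_eq (by norm_num)) h) (by norm_num)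
  obtain ⟨k0, hk0, hk0E, hk01, hk0W⟩ :
      ∃ k ∈ K, k ∈ E ∧ k ≠ 1 ∧ ∀ v ∈ V, k * v = v * k → v ∈ W := by
    by_contra hcon
    push Not at hcon
    set S : Set G := ((K ⊓ E : Subgroup G) : Set G) \ {1} with hS
    choose v hv hvk hvW using fun k : S => hcon (k : G) k.2.1.1 k.2.1.2 k.2.2
    have hdec : ∀ k : S, ∃ y ∈ c.twoGrp A hA.1.1, y ∉ zpowers z ∧ ⁅(k : G), y⁆ ∈ zpowers z ∧
        c.val (v k) = c.val y := by
      intro k
      obtain ⟨w, hw, y, hy, e⟩ := c.mem_vGrp hA.1 (hv k)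
      refine ⟨y, hy, fun h => hvW k (e ▸ mul_mem hw (c.Z_le_fixB A h)), ?_, ?_⟩
      · have hkE := k.2.1.2
        have h1 := c.comm_E hkE (c.fixB_le A hw)
        have h2 : (k : G) * v k * (k : G)⁻¹ = v k := mul_inv_eq_iff_eq_mul.mpr (hvk k)
        rw [e, show (k : G) * (w * y) * (k : G)⁻¹ = ⁅(k : G), w⁆ * w * ⁅(k : G), y⁆ * y by
          simp only [commutatorElement_def]; group] at h2
        have h3 := mul_right_cancel h2
        rw [show ⁅(k : G), y⁆ = (⁅(k : G), w⁆ * w)⁻¹ * w by rw [eq_inv_mul_iff_mul_eq]; exact h3,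
          mul_inv_rev, mul_assoc, c.Z_inv h1, c.Z_comm (c.Ez (c.fixB_le A hw)) h1 |>.symm,
          inv_mul_cancel_left]
        exact h1
      · rw [e, c.val_mul (c.NH0 (c.EN (c.fixB_le A hw))) (c.cen_le_H0 hy.1), c.val_E (c.fixB_le A hw), one_mul]
    choose y hy hyZ hky hvy using hdec
    have hB : ((A : Set MTwoTwo) \ {1}).ncard = 15 := by
      rw [Set.ncard_sdiff (Set.singleton_subset_iff.mpr (one_mem _)), Set.ncard_singleton, ← Nat.card_coe_set_eq]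
      change Nat.card A - 1 = 15
      rw [hA.1.2.1]
    have h : Nat.card S ≤ 3 * ((A : Set MTwoTwo) \ {1}).ncard := by
      refine card_le_fibres (f := fun k : S => c.val (y k)) (U := (A : Set MTwoTwo) \ {1}) (Set.toFinite _)
        (fun k => ⟨(hy k).2.1, c.val_ne hA (hy k) (hyZ k)⟩) fun b => ?_
      rcases Set.eq_empty_or_nonempty {k : S | c.val (y k) = b} with h | ⟨k1, h1⟩
      · rw [h, Set.ncard_empty]; norm_num
      set M := c.ker1 (hy k1).1.1 with hM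
      obtain ⟨h32, -, hWM, -⟩ := c.kernel_facts hA (hy k1) (hyZ k1)
      have hMc : Nat.card M = 512 := by
        have := c.cent_card (F := M) (c.ker1_le _) (c.Z_le_ker1 _ (mem_zpowers z))
        rw [h32] at this
        norm_num at this
        omega
      set J := K ⊓ M with hJ
      have hJ4 : Nat.card J ≤ 4 := by
        have h2 : Nat.card (J × W) ≤ Nat.card M :=
          Nat.card_le_card_of_injective (fun x => (⟨(x.1 : G) * x.2, mul_mem x.1.2.2 (hWM x.2.2)⟩ : M)) (by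
            rintro ⟨j, w⟩ ⟨j', w'⟩ e
            have e' : (j : G) * w = (j' : G) * w' := congrArg Subtype.val e
            have h3 : (j' : G)⁻¹ * j = (w' : G) * (w : G)⁻¹ := by
              rw [eq_mul_inv_iff_mul_eq, mul_assoc, e', inv_mul_cancel_left]
            have h4 := hKW (mul_mem (inv_mem j'.2.1) j.2.1) (h3 ▸ mul_mem w'.2 (inv_mem w.2))
            obtain rfl : j = j' := Subtype.ext (inv_mul_eq_one.mp h4).symm
            exact Prod.ext rfl (Subtype.ext (mul_left_cancel e')))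
        rw [Nat.card_prod, hW7, hMc] at h2
        norm_num at h2
        omega
      calc {k : S | c.val (y k) = b}.ncard ≤ ((J : Set G) \ {1}).ncard := by
            refine Set.ncard_le_ncard_of_injOn (fun k : S => (k : G)) (fun k hk => ⟨⟨k.2.1.1, ?_⟩, k.2.2⟩)
              (fun _ _ _ _ h => Subtype.ext h) (Set.toFinite _)
            refine c.mem_ker1.mpr ⟨k.2.1.2, ?_⟩
            set t := (y k)⁻¹ * y k1 with ht
            have htZ : t ∈ zpowers z := c.twoGrp_val_eq (hy k1) (hy k) (h1.trans hk.symm)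
            have h5 : (k : G) * y k * (k : G)⁻¹ * (y k)⁻¹ ∈ zpowers z := by
              rw [← commutatorElement_def]; exact hky k
            have h6 : y k1 = y k * t := (mul_inv_cancel_left _ _).symm
            have h7 : (k : G) * y k1 * (k : G)⁻¹ * (y k1)⁻¹ = (k : G) * y k * (k : G)⁻¹ * (y k)⁻¹ := by
              rw [h6, show (k : G) * (y k * t) * (k : G)⁻¹ * (y k * t)⁻¹ =
                (k : G) * y k * (k : G)⁻¹ * ((k : G) * t * (k : G)⁻¹) * t⁻¹ * (y k)⁻¹ by group,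
                c.Z_conj (c.Ez k.2.1.2) htZ, mul_inv_cancel_right]
            rw [← commutatorElement_inv, commutatorElement_def, h7]
            exact inv_mem h5
        _ ≤ 3 := by
            rw [Set.ncard_sdiff (Set.singleton_subset_iff.mpr (one_mem _)), Set.ncard_singleton,
              ← Nat.card_coe_set_eq]
            change Nat.card J - 1 ≤ 3
            omega
    rw [hB, Nat.card_coe_set_eq, hS, Set.ncard_sdiff (Set.singleton_subset_iff.mpr (one_mem _)), Set.ncard_singleton,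
      ← Nat.card_coe_set_eq, SetLike.coe_sort_coe] at h
    omega
  have hk00 := hsmall hk0 hk0E hk01 hk0W
  have hconjK : ∀ {k l} (hk : k ∈ K) (hl : l ∈ K), k * k = 1 → k ≠ 1 → l * l = 1 → l ≠ 1 →
      (fixF (d.θ ⟨k, hKN hk⟩).1).card = (fixF (d.θ ⟨l, hKN hl⟩).1).card → ∃ n ∈ K, n * k * n⁻¹ = l := by
    intro k l hk hl hk2 hk1 hl2 hl1 hfix
    obtain ⟨hg2, hgne⟩ := hg1 hk hk2 hk1
    obtain ⟨hh2, hhne⟩ := hg1 hl hl2 hl1
    obtain ⟨m, hm, hconj⟩ := invol_conj_of_fix (d.θ _).2 hg2 hgne (d.θ _).2 hh2 hhne hfix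
    obtain ⟨n, hn, hnm⟩ := hKsurj ⟨m, hm⟩
    refine ⟨n, hn, hKeq (mul_mem (mul_mem hn hk) (inv_mem hn)) hl ?_⟩
    rw [show (⟨n * k * n⁻¹, hKN (mul_mem (mul_mem hn hk) (inv_mem hn))⟩ : ↥(normalizer (V : Set G))) =
      ⟨n, hKN hn⟩ * ⟨k, hKN hk⟩ * ⟨n, hKN hn⟩⁻¹ from rfl, map_mul, map_mul, map_inv, hnm]
    exact Subtype.ext hconj
  -- elements fixing no point centralize nothing outside W
  have hzero : ∀ {k} (hk : k ∈ K), k ∈ E → k ≠ 1 → (fixF (d.θ ⟨k, hKN hk⟩).1).card = 0 →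
      ∀ v ∈ V, k * v = v * k → v ∈ W := by
    intro k hk hkE hk1 hk0' v hv hkv
    obtain ⟨n, hn, hnk⟩ := hconjK hk hk0 (hksq hk hkE) hk1 (hksq hk0 hk0E) hk01 (hk0'.trans hk00.symm)
    set C := V ⊓ centralizer ({k} : Set G) with hC
    set C' := W ⊓ centralizer ({k} : Set G) with hC'
    have hle : C' ≤ C := fun w hw => ⟨mem_sup_left hw.1, hw.2⟩
    have hCc : Nat.card C ≤ 64 := by
      refine le_trans ?_ (hWlt hk0 hk0E hk01)
      refine Nat.card_le_card_of_injective (fun w : C => (⟨n * (w : G) * n⁻¹, ?_⟩ : ↥(W ⊓ centralizer ({k0} : Set G))))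
        fun a b h => Subtype.ext (mul_left_cancel (mul_right_cancel (congrArg Subtype.val h)))
      have h1 : n * (w : G) * n⁻¹ * k0 = k0 * (n * (w : G) * n⁻¹) := by
        rw [← hnk, show n * (w : G) * n⁻¹ * (n * k * n⁻¹) = n * ((w : G) * k) * n⁻¹ by group,
          mem_centralizer_singleton_iff.mp w.2.2]
        group
      exact ⟨hk0W _ ((mem_normalizer_iff.mp (hKN hn) _).mp w.2.1) h1.symm, mem_centralizer_singleton_iff.mpr h1⟩
    have heq := eq_of_le_of_card_ge hle (hCc.trans (o.cent_W_le hkE))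
    exact (show v ∈ C' by rw [heq]; exact ⟨hv, mem_centralizer_singleton_iff.mpr hkv.symm⟩).1
  obtain ⟨k1, hk1, hk1E, hk11, hk18⟩ : ∃ k, ∃ hk : k ∈ K, k ∈ E ∧ k ≠ 1 ∧ (fixF (d.θ ⟨k, hKN hk⟩).1).card = 8 := by
    obtain ⟨a, ha, -, -, -, -, a1, -⟩ := exists_three hA.1.2.1
    obtain ⟨y, hy, hyZ, -, -⟩ := o.exists_lift ha a1
    obtain ⟨-, -, hWker, f1, hf1, f2, hf2, hne⟩ := c.kernel_facts hA hy hyZ
    obtain ⟨f, hf, hfW⟩ : ∃ f ∈ c.ker1 hy.1.1, f ∉ W := by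
      by_contra hall
      push Not at hall
      exact hne (c.vGrp_comm hA.1 (mem_sup_left (hall _ hf1)) (mem_sup_left (hall _ hf2)))
    obtain ⟨l, hl, hlE, hlf⟩ := o.E_in_K hKN hKV hKsup (c.ker1_le _ hf)
    have hlker : l ∈ c.ker1 hy.1.1 := by
      rw [show l = f * (l⁻¹ * f)⁻¹ by group]; exact mul_mem hf (inv_mem (hWker hlf))
    have hlW : l ∉ W := fun h => hfW (by
      rw [show f = l * (l⁻¹ * f) by group]; exact mul_mem h hlf)
    have hl1 : l ≠ 1 := fun h => hlW (h ▸ one_mem _)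
    obtain ⟨w, hw, hwy⟩ : ∃ w ∈ W, l * (w * y) = w * y * l := by
      rcases c.mem_Z.mp (c.mem_ker1.mp hlker).2 with h | h
      · exact ⟨1, one_mem _, by rw [one_mul]; exact (commutatorElement_eq_one_iff_mul_comm.mp h).symm⟩
      obtain ⟨w, hw, hwl⟩ : ∃ w ∈ W, l * w ≠ w * l := by
        by_contra hall
        push Not at hall
        have h1 : l ∈ E ⊓ centralizer (W : Set G) := ⟨hlE, mem_centralizer_iff.mpr fun w hw => (hall w hw).symm⟩
        rw [hWc] at h1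
        exact hlW h1
      refine ⟨w, hw, ?_⟩
      have hlw : ⁅l, w⁆ = z := (c.mem_Z.mp (c.comm_E hlE (c.fixB_le A hw))).resolve_left
        fun h' => hwl (commutatorElement_eq_one_iff_mul_comm.mp h')
      rw [commutatorElement_def] at h hlw
      have e1 : y * l = z * (l * y) := by rw [← h]; group
      have e2 : l * w = z * (w * l) := by rw [← hlw]; group
      have e3 : w * z = z * w := mem_centralizer_singleton_iff.mp (c.Ez (c.fixB_le A hw))
      rw [← mul_assoc, e2, mul_assoc w y, e1, ← mul_assoc w z, e3]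
      group
    refine ⟨l, hl, hlE, hl1, ?_⟩
    obtain ⟨hg2, hgne⟩ := hg1 hl (hksq hl hlE) hl1
    refine (invol_fix_card (d.θ _).2 hg2 hgne).resolve_right fun h0 => ?_
    exact c.twoGrp_not_W hA hw hy hyZ (hzero hl hlE hl1 h0 _ (mul_mem (mem_sup_left hw) (mem_sup_right hy)) hwy)
  -- into the normalizer
  obtain ⟨T, hTH, hET⟩ := c.exists_sylow
  obtain ⟨V1, ⟨hV1T, hV1el, hV1c⟩, huniq⟩ := c.unique_two_eleven T hTH hET
  obtain ⟨g1, hg1'⟩ := c.two_eleven_conj hA.1 hV1el hV1c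
  have hxp : IsPGroup 2 (zpowers x) := IsPGroup.of_card (n := 1) (by
    rw [Nat.card_zpowers, orderOf_eq_prime (by rw [sq]; exact hx2) hx1]; rfl)
  obtain ⟨S, hS⟩ := hxp.exists_le_sylow
  obtain ⟨g0, hg0⟩ := MulAction.exists_smul_eq G S T
  have hy : g0 * x * g0⁻¹ ∈ (T : Subgroup G) := by
    rw [← hg0, Sylow.coe_subgroup_smul, Subgroup.pointwise_smul_def]
    exact ⟨x, hS (mem_zpowers x), rfl⟩
  have hTN : ∀ t ∈ (T : Subgroup G), ∀ v ∈ V1, t * v * t⁻¹ ∈ V1 := by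
    intro t ht v hv
    have h1 : V1.map (MulAut.conj t).toMonoidHom = V1 := huniq _ ⟨by
      rintro _ ⟨a, ha, rfl⟩
      exact mul_mem (mul_mem ht (hV1T ha)) (inv_mem ht), elem_map _ hV1el,
      by rw [card_map_of_injective (MulAut.conj t).injective, hV1c]⟩
    exact h1.le ⟨v, hv, rfl⟩
  set g := g1⁻¹ * g0 with hg
  set x' := g * x * g⁻¹ with hx'
  have hxN : x' ∈ normalizer (V : Set G) := mem_norm_of fun v hv => by
    have h1 : g1 * v * g1⁻¹ ∈ V1 := hg1'.le ⟨v, hv, rfl⟩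
    obtain ⟨a, ha, e⟩ := hg1'.ge (hTN _ hy _ h1)
    have e' : g1 * a * g1⁻¹ = g0 * x * g0⁻¹ * (g1 * v * g1⁻¹) * (g0 * x * g0⁻¹)⁻¹ := e
    have e'' : x' * v * x'⁻¹ = a := by
      rw [show a = g1⁻¹ * (g1 * a * g1⁻¹) * g1 by group, e', hx', hg]; group
    rw [e'']; exact ha
  have hx'2 : x' * x' = 1 := by
    rw [hx', show g * x * g⁻¹ * (g * x * g⁻¹) = g * (x * x) * g⁻¹ by group, hx2, mul_one, mul_inv_cancel]
  -- reduction to E or V
  suffices hred : ∃ h : G, h * x' * h⁻¹ ∈ E ∨ h * x' * h⁻¹ ∈ V by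
    obtain ⟨h, hh⟩ := hred
    have key : ∀ {b : G}, b * x * b⁻¹ ∈ V → c.IsZ x ∨ ∃ g : G, g * x * g⁻¹ ∈ c.Tset V := by
      intro b hb
      by_cases hz : c.IsZ (b * x * b⁻¹)
      · exact Or.inl ((c.isZ_iff b x).mp hz)
      · exact Or.inr ⟨b, hb, fun e => hx1 (conj_eq_one_iff.mp e), hz⟩
    rw [hx', show h * (g * x * g⁻¹) * h⁻¹ = h * g * x * (h * g)⁻¹ by group] at hh
    rcases hh with hE | hVm
    · set e := h * g * x * (h * g)⁻¹ with he
      have hee : e * e = 1 := by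
        rw [he, show h * g * x * (h * g)⁻¹ * (h * g * x * (h * g)⁻¹) = h * g * (x * x) * (h * g)⁻¹ by group, hx2,
          mul_one, mul_inv_cancel]
      by_cases heZ : e ∈ zpowers z
      · rcases c.mem_Z.mp heZ with e1 | e1
        · exact absurd (conj_eq_one_iff.mp e1) hx1
        · exact Or.inl ((c.isZ_iff (h * g) x).mp (by rw [← he, e1]; exact c.isZ_z))
      · obtain ⟨B, hB, heB⟩ := o.invol_E hE hee heZ
        obtain ⟨m, hm⟩ := c.hex_conj hB.1 hA.1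
        obtain ⟨n, hn, hnm⟩ := c.exists_val m
        have hmap := c.vGrp_map hB.1 hA.1 hn (by rw [hnm, hm])
        refine key (b := n * (h * g)) ?_
        rw [show n * (h * g) * x * (n * (h * g))⁻¹ = n * e * n⁻¹ by rw [he]; group]
        exact hmap.le ⟨e, mem_sup_left heB, rfl⟩
    · exact key hVm
  obtain ⟨v, hv, k, hk, hxe⟩ := o.decomp_K hKN hKsup hxN
  by_cases hk1' : k = 1
  · exact ⟨1, Or.inr (by rw [one_mul, inv_one, mul_one, hxe, hk1', mul_one]; exact hv)⟩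
  have hkv' : k * k = 1 := by
    have h1 : v * (k * v * k⁻¹) * (k * k) = 1 := by
      rw [← hx'2, hxe]; group
    refine mem_bot.mp (hKV ▸ mem_inf.mpr ⟨mul_mem hk hk, ?_⟩)
    rw [eq_inv_of_mul_eq_one_right h1]
    exact inv_mem (mul_mem hv ((mem_normalizer_iff.mp (hKN hk) v).mp hv))
  have hkv : k * v = v * k := by
    have h1 : v * (k * v * k⁻¹) * (k * k) = 1 := by
      rw [← hx'2, hxe]; group
    rw [hkv', mul_one] at h1
    exact mul_inv_eq_iff_eq_mul.mp ((eq_inv_of_mul_eq_one_right h1).trans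
      (inv_eq_of_mul_eq_one_right (c.vGrp_sq hA.1 hv)))
  obtain ⟨hg2, hgne⟩ := hg1 hk hkv' hk1'
  have move : ∀ {n}, n ∈ K → n * x' * n⁻¹ = n * v * n⁻¹ * (n * k * n⁻¹) := fun {n} _ => by rw [hxe]; group
  have hcomm : ∀ {n l}, n * k * n⁻¹ = l → l * (n * v * n⁻¹) = n * v * n⁻¹ * l := fun {n l} h => by
    rw [← h, show n * k * n⁻¹ * (n * v * n⁻¹) = n * (k * v) * n⁻¹ by group, hkv]; group
  rcases invol_fix_card (d.θ _).2 hg2 hgne with h8 | h0
  swap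
  · obtain ⟨n, hn, hnk⟩ := hconjK hk hk0 hkv' hk1' (hksq hk0 hk0E) hk01 (h0.trans hk00.symm)
    refine ⟨n, Or.inl ?_⟩
    rw [move hn, hnk]
    exact mul_mem (c.fixB_le A (hk0W _ ((mem_normalizer_iff.mp (hKN hn) v).mp hv) (hcomm hnk))) hk0E
  obtain ⟨n, hn, hnk⟩ := hconjK hk hk1 hkv' hk1' (hksq hk1 hk1E) hk11 (h8.trans hk18.symm)
  set v' := n * v * n⁻¹ with hv'
  have hv'V : v' ∈ V := (mem_normalizer_iff.mp (hKN hn) v).mp hv
  have hv'k := hcomm hnk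
  set N1 : ↥(normalizer (V : Set G)) := ⟨k1, hKN hk1⟩ with hN1
  obtain ⟨hh2, -⟩ := hg1 hk1 (hksq hk1 hk1E) hk11
  obtain ⟨h128, hfix, hcls⟩ := d.fix_eight hh2 hk18
  have hRW : ∀ r ∈ d.rV N1, r ∈ W := by
    rintro r ⟨u, hu, rfl⟩
    exact o.comm_V hk1E hu
  by_cases hvR : v' ∈ d.rV N1
  · refine ⟨n, Or.inl ?_⟩
    rw [move hn, hnk]
    exact mul_mem (c.fixB_le A (hRW _ hvR)) hk1E
  obtain ⟨i, j, hi, hj, hij, r, hr, hvr⟩ := hcls v' ⟨hv'V, mem_centralizer_singleton_iff.mpr hv'k.symm⟩ hvR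
  -- some fixed duad lies in W
  obtain ⟨a, b, ha, hb, hab, habW⟩ : ∃ a b, (d.θ N1).1 a = a ∧ (d.θ N1).1 b = b ∧ a ≠ b ∧ d.D a b ∈ W := by
    set F := fixF (d.θ N1).1 with hF
    obtain ⟨i1, hi1, i2, hi2, i3, hi3, h12, h13, h23⟩ :
        ∃ i1 ∈ F, ∃ i2 ∈ F, ∃ i3 ∈ F, i1 ≠ i2 ∧ i1 ≠ i3 ∧ i2 ≠ i3 := by
      obtain ⟨a, b, c', ha, hb, hc, hab, hac, hbc⟩ := Finset.two_lt_card_iff.mp (show 2 < F.card by rw [hF, hN1, hk18]; norm_num)
      exact ⟨a, ha, b, hb, c', hc, hab, hac, hbc⟩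
    by_contra hall
    push Not at hall
    have m1 := mem_fixF.mp hi1
    have m2 := mem_fixF.mp hi2
    have m3 := mem_fixF.mp hi3
    set C := V ⊓ centralizer ({k1} : Set G) with hC
    set C' := W ⊓ centralizer ({k1} : Set G) with hC'
    have hle : C' ≤ C := fun w hw => ⟨mem_sup_left hw.1, hw.2⟩
    have h64 : Nat.card C' = 64 := le_antisymm (hWlt hk1 hk1E hk11) (o.cent_W_le hk1E)
    have hcC : Nat.card C = 2 * Nat.card C' := by rw [h64]; exact h128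
    have h1 := hfix i1 i2 m1 m2 h12
    have h2 := hfix i2 i3 m2 m3 h23
    have := half_mul hle hcC h1.1 (fun h => hall i1 i2 m1 m2 h12 h.1) h2.1 (fun h => hall i2 i3 m2 m3 h23 h.1)
    rw [d.mul] at this
    exact hall i1 i3 m1 m3 h13 this.1
  obtain ⟨m, hm, hmg, him⟩ := cent_pairs (d.θ N1).2 hh2 hk18 hi hj ha hb hij hab
  obtain ⟨q, hq, hqm⟩ := hKsurj ⟨m, hm⟩
  set N2 : ↥(normalizer (V : Set G)) := ⟨q, hKN hq⟩ with hN2
  have hqk : q * k1 * q⁻¹ = k1 := by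
    refine hKeq (mul_mem (mul_mem hq hk1) (inv_mem hq)) hk1 ?_
    rw [show (⟨q * k1 * q⁻¹, hKN (mul_mem (mul_mem hq hk1) (inv_mem hq))⟩ : ↥(normalizer (V : Set G))) =
      N2 * N1 * N2⁻¹ from rfl, map_mul, map_mul, map_inv, hqm]
    refine Subtype.ext ?_
    show m * (d.θ N1).1 * m⁻¹ = (d.θ N1).1
    rw [hmg, mul_inv_cancel_right]
  have hqd : q * d.D i j * q⁻¹ = d.D a b := by
    rw [d.conj N2, hqm]
    rw [Finset.image_insert, Finset.image_singleton] at him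
    have hne : m i ≠ m j := fun e => hij (m.injective e)
    have h1 : m i = a ∨ m i = b := by simpa using (him ▸ Finset.mem_insert_self _ _ : m i ∈ ({a, b} : Finset GolayPt))
    have h2 : m j = a ∨ m j = b := by
      simpa using (him ▸ Finset.mem_insert_of_mem (Finset.mem_singleton_self _) : m j ∈ ({a, b} : Finset GolayPt))
    show d.D (m i) (m j) = d.D a b
    rcases h1 with e1 | e1 <;> rcases h2 with e2 | e2
    · exact absurd (e1.trans e2.symm) hne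
    · rw [e1, e2]
    · rw [e1, e2, d.symm]
    · exact absurd (e1.trans e2.symm) hne
  have hqr : q * r * q⁻¹ ∈ d.rV N1 := d.rV_conj (k := N1) (n := N2) (Subtype.ext (by rw [hqm]; exact hmg)) hr
  refine ⟨q * n, Or.inl ?_⟩
  rw [show q * n * x' * (q * n)⁻¹ = q * (n * x' * n⁻¹) * q⁻¹ by group, move hn, hnk, ← hv', hvr,
    show q * (d.D i j * r * k1) * q⁻¹ = q * d.D i j * q⁻¹ * (q * r * q⁻¹) * (q * k1 * q⁻¹) by group, hqd, hqk]
  exact mul_mem (c.fixB_le A (mul_mem habW (hRW _ hqr))) hk1E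

end Ctx

end CfsgLib.JankoFour
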