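/-
The stabiliser of a pair of points in M24 is the automorphism group of M22.
-/
import Cfsg.Agent.Lib.JankoFour.FiveOuter
import Cfsg.Agent.Lib.Golay.Small
import Cfsg.Agent.Lib.Golay.OutMathieuSmall
import Cfsg.Agent.Lib.GolayUnique.Model

set_option autoImplicit false

namespace CfsgLib.JankoFour

open Cfsg CfsgGolay
open scoped Pointwise

attribute [local irreducible] codeL octadL dodecadL slpCodes

/-- The two points fixed by M22. -/
def pair22 : Finset GolayPt := {none, pt 0}

theorem mem_sporM22 {g : Equiv.Perm GolayPt} :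
    g ∈ Spor.M22 ↔ g ∈ M24 ∧ g none = none ∧ g (pt 0) = pt 0 := by
  simp only [Spor.M22, Spor.M23, Subgroup.mem_inf, MulAction.mem_stabilizer_iff, and_assoc]
  rfl

theorem pair22_cases {g : Equiv.Perm GolayPt} (hg : g ∈ stabM pair22) :
    g none = none ∧ g (pt 0) = pt 0 ∨ g none = pt 0 ∧ g (pt 0) = none := by
  obtain ⟨-, h⟩ := mem_stabM.mp hg
  rw [pair22, smul_set_pts, Finset.image_insert, Finset.image_singleton] at h
  have h0 : g none = none ∨ g none = pt 0 := by
    simpa using (h ▸ Finset.mem_insert_self _ _ : g none ∈ ({none, pt 0} : Finset GolayPt))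
  have h1 : g (pt 0) = none ∨ g (pt 0) = pt 0 := by
    simpa using (h ▸ Finset.mem_insert_of_mem (Finset.mem_singleton_self _) :
      g (pt 0) ∈ ({none, pt 0} : Finset GolayPt))
  have hne : (none : GolayPt) ≠ pt 0 := by decide
  rcases h0 with a | a <;> rcases h1 with b | b
  · exact absurd (g.injective (a.trans b.symm)) hne
  · exact Or.inl ⟨a, b⟩
  · exact Or.inr ⟨a, b⟩
  · exact absurd (g.injective (a.trans b.symm)) hne

theorem conj_m22_mem {g : Equiv.Perm GolayPt} (hg : g ∈ stabM pair22) {m : Equiv.Perm GolayPt} (hm : m ∈ Spor.M22) :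
    g * m * g⁻¹ ∈ Spor.M22 := by
  obtain ⟨hm24, m0, m1⟩ := mem_sporM22.mp hm
  refine mem_sporM22.mpr ⟨mul_mem (mul_mem hg.1 hm24) (inv_mem hg.1), ?_, ?_⟩ <;>
    rcases pair22_cases (inv_mem hg) with ⟨a, b⟩ | ⟨a, b⟩ <;>
    rcases pair22_cases hg with ⟨a', b'⟩ | ⟨a', b'⟩ <;>
    simp only [Equiv.Perm.mul_apply, a, b, m0, m1, a', b']
  all_goals
    exfalso
    first
      | (have h1 := congrArg g a; simp only [Equiv.Perm.coe_inv, Equiv.apply_symm_apply] at h1; rw [a'] at h1
         exact absurd h1 (by decide))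
      | (have h1 := congrArg g a; simp only [Equiv.Perm.coe_inv, Equiv.apply_symm_apply] at h1; rw [b'] at h1
         exact absurd h1 (by decide))

/-- The action on M22 by conjugation. -/
def pairHom : ↥(stabM pair22) →* MulAut ↥Spor.M22 where
  toFun g :=
    { toFun := fun m => ⟨(g : Equiv.Perm GolayPt) * m * (g : Equiv.Perm GolayPt)⁻¹, conj_m22_mem g.2 m.2⟩
      invFun := fun m => ⟨(g : Equiv.Perm GolayPt)⁻¹ * m * g, by
        simpa using conj_m22_mem (inv_mem g.2) m.2⟩
      left_inv := fun m => Subtype.ext (by simp [mul_assoc])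
      right_inv := fun m => Subtype.ext (by simp [mul_assoc])
      map_mul' := fun m n => Subtype.ext (by simp [mul_assoc]) }
  map_one' := MulEquiv.ext fun m => Subtype.ext (by simp)
  map_mul' g h := MulEquiv.ext fun m => Subtype.ext (by simp [MulAut.mul_apply, mul_assoc])

theorem pairHom_injective : Function.Injective pairHom := by
  classical
  rw [injective_iff_map_eq_one]
  intro g hg
  have hcomm : ∀ m ∈ Spor.M22, (g : Equiv.Perm GolayPt) * m = m * g := fun m hm => by
    have h : (g : Equiv.Perm GolayPt) * m * (g : Equiv.Perm GolayPt)⁻¹ = m :=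
      congrArg Subtype.val (DFunLike.congr_fun hg (⟨m, hm⟩ : Spor.M22))
    exact mul_inv_eq_iff_eq_mul.mp h
  set u := (g : Equiv.Perm GolayPt) with hu
  have hne : (none : GolayPt) ≠ pt 0 := by decide
  have hpre : ∀ p : GolayPt, u p ∈ pair22 → p ∈ pair22 := fun p hp => by
    have h := (mem_stabM.mp g.2).2
    rw [← h, ← hu, smul_set_pts, Finset.mem_image] at hp
    obtain ⟨x, hx, e⟩ := hp
    exact u.injective e ▸ hx
  have hfix : ∀ p : GolayPt, p ∉ pair22 → u p = p := by
    intro p hp
    by_contra hne'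
    set q := u p with hq
    have hq' : q ∉ pair22 := fun h => hp (hpre p h)
    simp only [pair22, Finset.mem_insert, Finset.mem_singleton, not_or] at hp hq'
    obtain ⟨r, hr⟩ : ∃ r, r ∉ ({none, pt 0, p, q} : Finset GolayPt) := by
      by_contra hall
      push Not at hall
      have h1 := Finset.card_le_card (show (Finset.univ : Finset GolayPt) ⊆ {none, pt 0, p, q} from
        fun x _ => hall x)
      rw [Finset.card_univ, show Fintype.card GolayPt = 24 from rfl] at h1
      have h2 := Finset.card_le_four (a := (none : GolayPt)) (b := pt 0) (c := p) (d := q)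
      omega
    simp only [Finset.mem_insert, Finset.mem_singleton, not_or] at hr
    have hinj : ∀ {x : GolayPt}, x ≠ none → x ≠ pt 0 → x ≠ p →
        Function.Injective ![(none : GolayPt), pt 0, p, x] := by
      intro x a b d i j
      fin_cases i <;> fin_cases j <;> simp [hne, hne.symm, hp.1, Ne.symm hp.1, hp.2, Ne.symm hp.2, a, Ne.symm a, b,
        Ne.symm b, d, Ne.symm d]
    obtain ⟨m, hm⟩ := (MulAction.isMultiplyPretransitive_iff.mp (multiply_transitive (k := 4) (by norm_num)))
      ⟨_, hinj hq'.1 hq'.2 hne'⟩ ⟨_, hinj hr.1 hr.2.1 hr.2.2.1⟩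
    have e := fun i => DFunLike.congr_fun hm i
    simp only [Function.Embedding.smul_apply] at e
    have g0 : (m : Equiv.Perm GolayPt) none = none := e 0
    have g1 : (m : Equiv.Perm GolayPt) (pt 0) = pt 0 := e 1
    have g2 : (m : Equiv.Perm GolayPt) p = p := e 2
    have g3 : (m : Equiv.Perm GolayPt) q = r := e 3
    have h4 : u ((m : Equiv.Perm GolayPt) p) = (m : Equiv.Perm GolayPt) (u p) :=
      congrArg (fun φ : Equiv.Perm GolayPt => φ p) (hcomm _ (mem_sporM22.mpr ⟨m.2, g0, g1⟩))
    rw [g2, ← hq, g3] at h4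
    exact hr.2.2.2 h4.symm
  exact Subtype.ext (CfsgCode.small_support_trivial (P := pair22) Finset.card_le_two g.2.1 hfix)

/-- The stabiliser of a pair is the automorphism group of M22. -/
theorem pair_stab_aut {p q : GolayPt} (hpq : p ≠ q) :
    Nonempty (↥(stabM ({p, q} : Finset GolayPt)) ≃* MulAut ↥Spor.M22) := by
  classical
  have hA : Nat.card (MulAut ↥Spor.M22) = 887040 := by
    have hidx : (MulAut.conj (G := ↥Spor.M22)).range.index = 2 := CfsgGolay.OutSmall.out_M22
    have := Subgroup.card_mul_index (MulAut.conj (G := ↥Spor.M22)).range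
    rw [hidx, ← Nat.card_congr (MonoidHom.ofInjective conj_m22_injective).toEquiv,
      CfsgGolay.card_sporM22] at this
    exact this.symm
  haveI : Finite (MulAut ↥Spor.M22) := Nat.finite_of_card_ne_zero (by rw [hA]; norm_num)
  have h22 : pair22.card = 2 := by decide
  have hP : P20.card = 2 := by decide +kernel
  obtain ⟨g, hg, hgP⟩ := exists_smul_set (s := P20) (t := pair22) (by omega) (by omega)
  have hcard : Nat.card ↥(stabM pair22) = 887040 := by
    rw [← hgP, (isConjOf_stabM hg P20).card_eq, stabQ.2]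
  have hbij := pairHom_injective.bijective_of_nat_card_le (by rw [hA, hcard])
  obtain ⟨k, hk, hkP⟩ := exists_smul_set (s := pair22) (t := {p, q}) (by rw [Finset.card_pair hpq]; omega)
    (by rw [h22, Finset.card_pair hpq])
  have hmap := (isConjOf_stabM hk pair22).map_eq
  rw [hkP] at hmap
  rw [← hmap]
  exact ⟨(((stabM pair22).equivMapOfInjective _ (MulAut.conj k).injective).symm).trans
    (MulEquiv.ofBijective pairHom hbij)⟩

end CfsgLib.JankoFour
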