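/-
The kernel run of the search.
-/
import Cfsg.Agent.Lib.JankoFour.TenData

set_option autoImplicit false

namespace CfsgGolay.Ten

/-- The first record. -/
def recZ : Rec := recs.headD ⟨0, 0, 0, [], false⟩

theorem scan_checked : goS 192 recs.tail 2 (insAll [] recZ.rows) recZ.inX = true := by decide +kernel

end CfsgGolay.Ten
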