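/-
Kernel checks for the data of the elementary abelian subgroups of order 2^10.
-/
import Cfsg.Agent.Lib.JankoFour.TenScan
import Cfsg.Agent.Lib.Fusion.MathieuSylowData
import Cfsg.Agent.Lib.Golay.ElemClasses

set_option autoImplicit false

namespace CfsgGolay.Ten

open Cfsg CfsgGolay

/-- Evaluate a list of numbers before use. -/
def forceNs {β : Type*} : List ℕ → (List ℕ → β) → β
  | [], f => f []
  | a :: l, f => forceN a fun a' => forceNs l fun l' => f (a' :: l')

theorem forceNs_eq {β : Type*} : ∀ (l : List ℕ) (f : List ℕ → β), forceNs l f = f l
  | [], _ => rfl
  | a :: l, f => by simp only [forceNs, forceN_eq, forceNs_eq l]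

/-- The Sylow generators. -/
def gSyl : List ℕ := sylowM24.gens

/-- Every involution of the Sylow subgroup is recorded. -/
def coverB : Bool := forceNs (recs.map Rec.c) fun l =>
  (spanC gSyl).all fun c => Nat.beq c pid || !(Nat.beq (pcomp c c) pid) || memB c l

theorem cover_checked : coverB = true := by decide +kernel

/-- Two packed permutations differ in some composite. -/
def apartB (a b : ℕ) : Bool := (List.range 24).any fun i => !(Nat.beq (papp a (papp b i)) (papp b (papp a i)))

theorem com_checked : (recs.all fun a => recs.all fun b =>
    a.com.testBit b.id || Nat.beq a.id b.id || apartB a.c b.c) = true := by decide +kernel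

theorem rows_checked : (recs.all fun a => forceNs ((List.range 11).map (bitRow (diffCols a.c))) fun l =>
    a.rows.all fun r => memB r l) = true := by decide +kernel

theorem ids_checked : (recs.map Rec.id == List.range 191) = true := by decide +kernel

theorem inX_checked : (recs.all fun a => !a.inX || memB a.c xT) = true := by decide +kernel

theorem recs_split : recs = recZ :: recs.tail := rfl

theorem z_checked : (gSyl.all fun d => Nat.beq (pcomp recZ.c d) (pcomp d recZ.c)) = true ∧
    Nat.beq (fixedMask recZ.c) 0 = false ∧ Nat.beq (pcomp recZ.c recZ.c) pid = true ∧
    memB recZ.c (spanC gSyl) = true ∧ Nat.beq recZ.c pid = false := by decide +kernel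

/-- The pointwise stabiliser as a list. -/
def xAt (i : ℕ) : ℕ := xT.getD i 0

theorem xT_checked : (Nat.beq xT.length 16 && (List.range 16).all (fun i => (List.range 16).all fun j =>
      Nat.beq (pcomp (xAt i) (xAt j)) (xAt (i ^^^ j)))) = true := by decide +kernel

theorem xT_ok : (Nat.beq (xAt 0) pid && distinctB xT &&
    xT.all (fun c => permOK c && gensKept c && Nat.beq (fixedMask c &&& octM) octM)) = true := by decide +kernel

theorem oct_checked : octadL.contains octM = true := by decide +kernel

/-- The fixed space. -/
def uList : List ℕ := (List.range 64).map fun a => xorCols uCols a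

theorem u_checked : (distinctB uList && uList.all (fun v => Nat.blt v 2048 &&
    xT.all fun c => Nat.beq (actV c v) v)) = true := by decide +kernel

/-- The echelon list of some records. -/
def echX (L : List Rec) : List (ℕ × ℕ) := insAll [] (L.flatMap Rec.rows)

/-- The records in the pointwise stabiliser. -/
def recsX : List Rec := recs.filter Rec.inX

theorem echX_checked : (Nat.beq recsX.length 15 && Nat.beq (echX recsX).length 5 && okE (echX recsX)) = true := by
  decide +kernel

theorem single_checked : (recsX.all fun a =>
    Nat.ble 4 (echX [a]).length && okE (echX [a])) = true := by decide +kernel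

theorem pair_checked : (recsX.all fun a => recsX.all fun b => Nat.beq a.id b.id ||
    forceE (echX [a, b]) fun E => Nat.ble 5 E.length && okE E) = true := by decide +kernel

/-- The second coset above each generator of the pointwise stabiliser. -/
def qReps : List ℕ := (List.range 4).map fun i =>
  ((List.range 2048).find? fun v => Nat.beq (actV (xAt (2 ^ i)) v) v && !(memB v uList)).getD 0

end CfsgGolay.Ten
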