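/-
Kernel checks for the lifts of the pointwise stabiliser and for the orbit certificates.
-/
import Cfsg.Agent.Lib.JankoFour.TenChecks

set_option autoImplicit false

namespace CfsgGolay.Ten

open Cfsg CfsgGolay

/-- A translation moving the standard group to the other one. -/
def wShift : ℕ := 2

/-- The echelon list of a permutation. -/
def echC (c : ℕ) : List (ℕ × ℕ) := insAll [] ((List.range 11).map (bitRow (diffCols c)))

theorem gen_fix_checked : ((List.range 4).all fun i => forceN (qReps.getD i 0) fun q =>
    Nat.blt q 2048 && Nat.beq (actV (xAt (2 ^ i)) q) q && !(memB q uList) &&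
      Nat.ble 4 (echC (xAt (2 ^ i))).length && okE (echC (xAt (2 ^ i)))) = true := by decide +kernel

/-- The offset of a generator's lift in a given choice. -/
def liftAt (Q : List ℕ) (b i : ℕ) : ℕ := if b.testBit i then Q.getD i 0 else 0

theorem lift_checked : (forceNs qReps fun Q => forceNs uList fun U => (List.range 16).all fun b =>
    ((List.range 4).any fun i => (List.range 4).any fun j =>
      !(Nat.beq (liftAt Q b i ^^^ actV (xAt (2 ^ i)) (liftAt Q b j))
        (liftAt Q b j ^^^ actV (xAt (2 ^ j)) (liftAt Q b i)))) ||
    ([0, wShift].any fun w => (List.range 4).all fun i =>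
      memB (liftAt Q b i ^^^ (w ^^^ actV (xAt (2 ^ i)) w)) U)) = true := by decide +kernel

/-- The translation part of a standard element. -/
def avec (a : ℕ) : ℕ := xorCols uCols a

/-- The permutation part of a standard element. -/
def aperm (a : ℕ) : ℕ := xAt (a / 64)

theorem dGens_checked : (dGens.all fun d => Nat.blt d.1 2048 && permOK d.2.1 && gensKept d.2.1 &&
    Nat.beq (pmask d.2.1 octM) octM && Nat.beq d.2.2.length 10 &&
    d.2.2.all (fun m => Nat.blt m 1024) &&
    (List.range 10).all (fun i => forceN (2 ^ i) fun a => forceN (d.2.2.getD i 0) fun b =>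
      Nat.beq (pcomp (aperm b) d.2.1) (pcomp d.2.1 (aperm a)) &&
        Nat.beq (avec b) (d.1 ^^^ actV d.2.1 (avec a) ^^^ actV (aperm b) d.1))) = true := by decide +kernel

/-- Replay the steps of an orbit certificate. -/
def replay : List (ℕ × ℕ) → List ℕ → List ℕ
  | [], L => L
  | st :: r, L => forceN (xorCols (dGens.getD st.1 (0, 0, [])).2.2 (L.getD st.2 0)) fun b => replay r (L ++ [b])

/-- The members of an orbit. -/
def orbList (k : ℕ) : List ℕ := replay (orbCerts.getD k (0, [])).2 [(orbCerts.getD k (0, [])).1]

/-- The mask of a list. -/
def maskOf (L : List ℕ) : ℕ := orBits L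

theorem zMask_checked : Nat.beq (maskOf (orbList 0) ||| maskOf (orbList 2)) zMask = true := by decide +kernel

theorem tMask_checked : Nat.beq (maskOf (orbList 1) ||| maskOf (orbList 3)) tMask = true := by decide +kernel

theorem orb_sizes_checked : ((List.range 4).map fun k => (orbList k).length) = [35, 28, 120, 840] ∧
    ((List.range 4).all fun k => (orbList k).all fun a => Nat.blt a 1024 && !(Nat.beq a 0) &&
      (Nat.blt a 64 == Nat.blt k 2)) = true ∧
    Nat.beq (zMask ||| tMask) (2 ^ 1024 - 2) = true := by decide +kernel

theorem zt_disjoint : Nat.beq (zMask &&& tMask) 0 = true := by decide +kernel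

/-- The syndromes of the duads. -/
def duadList : List ℕ := (List.range 24).flatMap fun j => (List.range j).map fun i => duadC i j

theorem duad_checked : (forceNs duadList fun D => distinctB D &&
    ((List.range 64).all fun a => forceN (avec a) fun v => memB v D == tMask.testBit a)) = true := by decide +kernel

theorem oct_duads_checked : (forceNs uList fun U => (List.range 24).all fun j => (List.range j).all fun i =>
    !(octM.testBit i && octM.testBit j) || memB (duadC i j) U) = true := by decide +kernel

end CfsgGolay.Ten
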