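/-
Kernel checks for the stars and the complement in the normalizer.
-/
import Cfsg.Agent.Lib.JankoFour.TenChecksLift
import Cfsg.Agent.Lib.JankoFour.TenLData

set_option autoImplicit false

namespace CfsgGolay.Ten

open Cfsg CfsgGolay

/-- The columns of the wedge by a point. -/
def wedgeCols (p : ℕ) : List ℕ := wedgeE.map fun E => xorCols E p

/-- The alternating square of two points. -/
def wedge (p q : ℕ) : ℕ := xorCols (wedgeCols p) q

/-- The mask of a star. -/
def sMask (p : ℕ) : ℕ := maskOf ((List.range 32).map (wedge p))

/-- The points below a bound. -/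
def pts : List ℕ := (List.range 31).map (· + 1)

theorem wedge_lt : ((List.range 32).all fun p => (List.range 32).all fun q => Nat.blt (wedge p q) 1024) = true := by
  decide +kernel

theorem star_checked : (pts.all fun p => forceN (sMask p) fun S =>
    Nat.beq ((List.range 1024).filter fun a => S.testBit a).length 16 &&
      (List.range 32).all fun q => forceN (wedge p q) fun a => Nat.beq a 0 || zMask.testBit a) = true := by
  decide +kernel

theorem sMask_distinct : distinctB (pts.map sMask) = true := by decide +kernel

theorem three_checked : (forceNs (pts.map sMask) fun Ms => (List.range 1024).all fun x => !(zMask.testBit x) ||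
    forceNs (pts.filter fun p => (Ms.getD (p - 1) 0).testBit x) fun l =>
      Nat.beq l.length 3 && Nat.beq (l.getD 0 0 ^^^ l.getD 1 0) (l.getD 2 0)) = true := by decide +kernel

theorem meet_checked : (forceNs (pts.map sMask) fun Ms => pts.all fun p => pts.all fun q => Nat.beq p q ||
    forceN (wedge p q) fun x => forceN (Ms.getD ((p ^^^ q) - 1) 0) fun R => forceN (Ms.getD (q - 1) 0) fun Q =>
      !(Nat.beq x 0) && Q.testBit x && R.testBit x &&
        (List.range 32).all fun r => forceN (wedge p r) fun y =>
          !(Q.testBit y) || Nat.beq y 0 || Nat.beq y x) = true := by decide +kernel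

/-- Two elements lie in a common totally decomposable subgroup. -/
def adjB (y w : ℕ) : Bool := Nat.beq w y || zMask.testBit (w ^^^ y)

/-- The elements adjacent to the first unit. -/
def nbrs : List ℕ := (List.range 1024).filter fun w => zMask.testBit w && zMask.testBit (w ^^^ 1)

theorem clique_checked : (forceNs nbrs fun N => forceNs ([1, 2, 3].map sMask) fun Ss => N.all fun y => N.all fun z =>
    Nat.beq z y || Nat.beq z (y ^^^ 1) || !(zMask.testBit (y ^^^ z)) ||
      forceNs (N.filter fun w => adjB y w && adjB z w) fun L =>
        Nat.blt L.length 14 || Ss.any fun S => L.all fun w => S.testBit w) = true := by decide +kernel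

theorem pts_one_checked : (zMask.testBit 1 && ([1, 2, 3].all fun p => (sMask p).testBit 1)) = true := by decide +kernel

theorem units_z : ((List.range 10).all fun i => zMask.testBit (2 ^ i)) = true := by decide +kernel

/-- The conditions on an element of the normalizer. -/
def genB (d : ℕ × ℕ × List ℕ) : Bool :=
  Nat.blt d.1 2048 && permOK d.2.1 && gensKept d.2.1 && d.2.2.all (fun m => Nat.blt m 1024) &&
    (List.range 10).all (fun i => forceN (2 ^ i) fun a => forceN (d.2.2.getD i 0) fun b =>
      Nat.beq (pcomp (aperm b) d.2.1) (pcomp d.2.1 (aperm a)) &&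
        Nat.beq (avec b) (d.1 ^^^ actV d.2.1 (avec a) ^^^ actV (aperm b) d.1))

theorem wGens_ok : (wGens.all genB) = true := by decide +kernel

theorem qGens_ok : (qGens.all genB) = true := by decide +kernel

/-- A translation part. -/
def wV (e : ℕ) : ℕ := (wGens.getD e (0, 0, [])).1

/-- The permutation of a translation part. -/
def wC (e : ℕ) : ℕ := (wGens.getD e (0, 0, [])).2.1

/-- The permutation part. -/
def qC (i : ℕ) : ℕ := (qGens.getD i (0, 0, [])).2.1

theorem gens_shape : (Nat.beq wGens.length 16 && Nat.beq qGens.length 64 && Nat.beq (wV 0) 0 && Nat.beq (wC 0) pid &&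
    Nat.beq (qC 0) pid && qGens.all (fun d => Nat.beq d.1 0) && distinctB (wGens.map fun d => d.1) &&
    distinctB (qGens.map fun d => d.2.1)) = true := by decide +kernel

theorem w_mul : ((List.range 16).all fun e => forceN (wV e) fun v => forceN (wC e) fun c => (List.range 16).all fun f =>
    Nat.beq (v ^^^ actV c (wV f)) (wV (e ^^^ f)) && Nat.beq (pcomp c (wC f)) (wC (e ^^^ f))) = true := by decide +kernel

theorem q_mul : (forceNs (qGens.map fun d => d.2.1) fun Q => Q.all fun a => Q.all fun b =>
    forceN (pcomp a b) fun c => memB c Q) = true := by decide +kernel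

theorem qw_mul : (forceNs (qGens.map fun d => d.2.1) fun Q => Q.all fun q => (List.range 16).all fun e =>
    forceN (actV q (wV e)) fun v => (List.range 16).any fun f =>
      Nat.beq (wV f) v && Nat.beq (pcomp q (wC e)) (pcomp (wC f) q)) = true := by decide +kernel

theorem meet_trivial : (forceNs uList fun U => ((List.range 16).all fun e => Nat.beq e 0 || !(memB (wV e) U)) &&
    qGens.all fun d => Nat.beq d.2.1 pid || !(memB d.2.1 xT)) = true := by decide +kernel

end CfsgGolay.Ten
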