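/-
Kernel checks for the orbit count.
-/
import Cfsg.Agent.Lib.JankoFour.TenChecksLift

set_option autoImplicit false

namespace CfsgGolay.Ten

open Cfsg CfsgGolay

theorem units_checked : ((List.range 1024).all fun a =>
    Nat.beq (xorCols [1, 2, 4, 8, 16, 32, 64, 128, 256, 512] a) a) = true := by decide +kernel

theorem u_duads_checked : (forceNs uList fun U => (List.range 24).all fun j => (List.range j).all fun i =>
    !(CfsgGolay.memB (duadC i j) U) || (octM.testBit i && octM.testBit j)) = true := by decide +kernel

theorem masks_cover : ((List.range 1024).all fun a =>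
    Nat.beq a 0 || zMask.testBit a || tMask.testBit a) = true := by decide +kernel

theorem orb_distinct : ((List.range 4).all fun k => distinctB (orbList k)) = true := by decide +kernel

/-- The translation normalises the standard group. -/
def vNormB (U : List ℕ) (v : ℕ) : Bool :=
  (List.range 4).all fun i => CfsgGolay.memB (v ^^^ actV (xAt (2 ^ i)) v) U

theorem vNorm_count : forceNs uList (fun U => Nat.beq ((List.range 2048).filter (vNormB U)).length 1024) = true := by
  decide +kernel

/-- The first element of an orbit. -/
def seed (k : ℕ) : ℕ := (orbCerts.getD k (0, [])).1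

theorem seeds_checked : (Nat.blt (seed 1) 64 && Nat.blt 0 (seed 1) && tMask.testBit (seed 1) &&
    Nat.blt (seed 2) 1024 && !(Nat.blt (seed 2) 64) && zMask.testBit (seed 2) &&
    (orbCerts.all fun c => c.2.all fun st => Nat.blt st.1 dGens.length)) = true := by decide +kernel

end CfsgGolay.Ten
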