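/-
The even part of the cocode as eleven-bit syndromes, with the action of packed permutations.
-/
import Cfsg.Agent.Lib.Golay.Chain
import Cfsg.Agent.Lib.GolayUnique.Basic

set_option autoImplicit false

namespace CfsgGolay.Ten

open Cfsg CfsgGolay
open scoped symmDiff

attribute [local irreducible] codeL octadL dodecadL slpCodes

/-- The syndrome. -/
def synd (m : ℕ) : ℕ := syn genMasks m

/-- Even words with the eleven unit syndromes. -/
def liftCols : List ℕ := [2097165, 540681, 331777, 8683521, 5153, 557061, 4227137, 4325379, 262151, 2621443, 659457]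

/-- An even word with the given syndrome. -/
def liftV (v : ℕ) : ℕ := xorCols liftCols v

/-- The images of the unit syndromes under a packed permutation. -/
def actCols (c : ℕ) : List ℕ := liftCols.map fun m => synd (pmask c m)

/-- The action of a packed permutation on syndromes. -/
def actV (c v : ℕ) : ℕ := xorCols (actCols c) v

/-- The syndrome of a duad. -/
def duadC (i j : ℕ) : ℕ := synd (2 ^ i ^^^ 2 ^ j)

theorem xorCols_xor : ∀ (cols : List ℕ) (a b : ℕ),
    xorCols cols (a ^^^ b) = xorCols cols a ^^^ xorCols cols b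
  | [], _, _ => by simp [xorCols]
  | c :: cs, a, b => by
    have h1 : (a ^^^ b) / 2 = (a / 2) ^^^ (b / 2) := by
      simpa [Nat.shiftRight_eq_div_pow] using Nat.shiftRight_xor_distrib (a := a) (b := b) (i := 1)
    have h2 : (a ^^^ b) % 2 = (a % 2 + b % 2) % 2 := by
      have := Nat.xor_mod_two_pow (a := a) (b := b) (n := 1)
      rw [pow_one] at this
      rw [this]
      rcases Nat.mod_two_eq_zero_or_one a with h | h <;> rcases Nat.mod_two_eq_zero_or_one b with h' | h' <;>
        rw [h, h'] <;> decide
    simp only [xorCols]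
    rw [h1, xorCols_xor cs, h2]
    rcases Nat.mod_two_eq_zero_or_one a with h | h <;> rcases Nat.mod_two_eq_zero_or_one b with h' | h' <;>
      simp [h, h', Nat.xor_assoc, Nat.xor_comm, Nat.xor_left_comm]

theorem map_xorCols {f : ℕ → ℕ} (h0 : f 0 = 0) (hf : ∀ a b, f (a ^^^ b) = f a ^^^ f b) :
    ∀ (cols : List ℕ) (v : ℕ), f (xorCols cols v) = xorCols (cols.map f) v
  | [], _ => h0
  | c :: cs, v => by
    simp only [xorCols, List.map_cons, hf, map_xorCols h0 hf cs]
    split_ifs <;> simp [h0]

theorem xorCols_zero : ∀ cols : List ℕ, xorCols cols 0 = 0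
  | [] => rfl
  | c :: cs => by simp [xorCols, xorCols_zero cs]

theorem parity_xor (a b g : ℕ) : pc ((a ^^^ b) &&& g) % 2 = (pc (a &&& g) + pc (b &&& g)) % 2 := by
  rw [← card_toSet, ← card_toSet, ← card_toSet, toSet_and, toSet_and, toSet_and, toSet_xor]
  have h := CfsgCode.card_symmDiff' (toSet a ∩ toSet g) (toSet b ∩ toSet g)
  have e : (toSet a ∩ toSet g) ∆ (toSet b ∩ toSet g) = (toSet a ∆ toSet b) ∩ toSet g := by
    ext p; simp only [Finset.mem_symmDiff, Finset.mem_inter]; tauto
  rw [e] at h
  omega

theorem syn_xor : ∀ (gs : List ℕ) (a b : ℕ), syn gs (a ^^^ b) = syn gs a ^^^ syn gs b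
  | [], _, _ => by simp [syn]
  | g :: gs, a, b => by
    simp only [syn, parity_xor, syn_xor gs]
    set x := pc (a &&& g)
    set y := pc (b &&& g)
    set s := syn gs a
    set t := syn gs b
    apply Nat.eq_of_testBit_eq
    intro i
    have hb : ∀ (r u : ℕ), r < 2 → (r + 2 * u).testBit i =
        if i = 0 then decide (r = 1) else u.testBit (i - 1) := by
      intro r u hr
      rcases i with _ | i
      · simp only [Nat.testBit_zero, if_true]; congr 1; simp; omega
      · simp only [Nat.testBit_succ, Nat.succ_ne_zero, if_false, Nat.add_sub_cancel]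
        congr 1; omega
    rw [Nat.testBit_xor, hb _ _ (Nat.mod_lt _ two_pos), hb _ _ (Nat.mod_lt _ two_pos),
      hb _ _ (Nat.mod_lt _ two_pos)]
    split_ifs with h
    · rcases Nat.mod_two_eq_zero_or_one x with h1 | h1 <;> rcases Nat.mod_two_eq_zero_or_one y with h2 | h2 <;>
        simp [h1, h2, Nat.add_mod]
    · exact Nat.testBit_xor ..

theorem synd_xor (a b : ℕ) : synd (a ^^^ b) = synd a ^^^ synd b := syn_xor _ _ _

theorem synd_zero : synd 0 = 0 := by decide +kernel

theorem pmask_xor {c : ℕ} {g : Equiv.Perm GolayPt} (hg : Repr c g) (a b : ℕ) :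
    pmask c (a ^^^ b) = pmask c a ^^^ pmask c b := by
  refine eq_of_toSet_eq (hg.pmask_lt _) (Nat.xor_lt_two_pow (hg.pmask_lt _) (hg.pmask_lt _)) ?_
  rw [toSet_xor, hg.toSet_pmask, hg.toSet_pmask, hg.toSet_pmask, toSet_xor,
    Finset.image_symmDiff _ _ g.injective]

theorem actV_spec {c : ℕ} {g : Equiv.Perm GolayPt} (hg : Repr c g) (v : ℕ) :
    actV c v = synd (pmask c (liftV v)) := by
  refine (map_xorCols (f := fun m => synd (pmask c m)) ?_ (fun a b => ?_) liftCols v).symm
  · show synd (pmask c 0) = 0
    have : pmask c 0 = 0 := by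
      rw [pmask, show setBits 0 = [] by decide]; rfl
    rw [this, synd_zero]
  · show synd (pmask c (a ^^^ b)) = _
    rw [pmask_xor hg, synd_xor]

theorem actV_xor (c a b : ℕ) : actV c (a ^^^ b) = actV c a ^^^ actV c b := xorCols_xor _ _ _

theorem actV_zero (c : ℕ) : actV c 0 = 0 := xorCols_zero _

theorem liftV_xor (a b : ℕ) : liftV (a ^^^ b) = liftV a ^^^ liftV b := xorCols_xor _ _ _

theorem liftV_zero : liftV 0 = 0 := xorCols_zero _

theorem syn_lt : ∀ (gs : List ℕ) (m : ℕ), syn gs m < 2 ^ gs.length
  | [], _ => by simp [syn]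
  | g :: gs, m => by
    have h1 := syn_lt gs m
    have h2 := Nat.mod_lt (pc (m &&& g)) two_pos
    simp only [syn, List.length_cons, pow_succ]
    omega

theorem syn_last : ∀ (gs : List ℕ) (g m : ℕ), pc (m &&& g) % 2 = 0 → syn (gs ++ [g]) m = syn gs m
  | [], g, m, h => by simp [syn, h]
  | a :: gs, g, m, h => by simp only [List.cons_append, syn, syn_last gs g m h]

theorem genMasks_split : genMasks = genMasks.take 11 ++ [16777215] := rfl

theorem synd_lt {m : ℕ} (h : (toSet m).card % 2 = 0) : synd m < 2048 := by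
  have hall : toSet 16777215 = Finset.univ := by
    ext p; revert p; decide +kernel
  have h' : pc (m &&& 16777215) % 2 = 0 := by
    rw [← card_toSet, toSet_and, hall, Finset.inter_univ]; exact h
  rw [synd, genMasks_split, syn_last _ _ _ h']
  exact syn_lt _ _

theorem liftV_checked : ((List.range 2048).all fun v => Nat.beq (synd (liftV v)) v &&
    Nat.beq (pc (liftV v) % 2) 0) = true := by decide +kernel

theorem liftV_spec {v : ℕ} (h : v < 2048) : synd (liftV v) = v ∧ (toSet (liftV v)).card % 2 = 0 := by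
  have := List.all_eq_true.mp liftV_checked v (List.mem_range.mpr h)
  simp only [Bool.and_eq_true] at this
  exact ⟨Nat.eq_of_beq_eq_true this.1, by rw [card_toSet]; exact Nat.eq_of_beq_eq_true this.2⟩

theorem liftCols_checked : (liftCols.all fun m => decide (m < 2 ^ 24) && Nat.beq (pc m % 2) 0) = true := by
  decide +kernel

theorem even_xor {a b : ℕ} (ha : (toSet a).card % 2 = 0) (hb : (toSet b).card % 2 = 0) :
    (toSet (a ^^^ b)).card % 2 = 0 := by
  have h := CfsgCode.card_symmDiff' (toSet a) (toSet b)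
  rw [toSet_xor]
  omega

theorem xorCols_ind {P : ℕ → Prop} (h0 : P 0) (hx : ∀ a b, P a → P b → P (a ^^^ b)) :
    ∀ (cols : List ℕ), (∀ c ∈ cols, P c) → ∀ v, P (xorCols cols v)
  | [], _, _ => h0
  | c :: cs, h, v => by
    refine hx _ _ ?_ (xorCols_ind h0 hx cs (fun d hd => h d (List.mem_cons_of_mem _ hd)) _)
    split_ifs
    · exact h c (List.mem_cons_self ..)
    · exact h0

theorem liftV_even (v : ℕ) : (toSet (liftV v)).card % 2 = 0 := by
  refine xorCols_ind (P := fun m => (toSet m).card % 2 = 0) ?_ (fun a b => even_xor) liftCols (fun c hc => ?_) v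
  · show (toSet 0).card % 2 = 0
    rw [card_toSet]; decide +kernel
  · have := List.all_eq_true.mp liftCols_checked c hc
    simp only [Bool.and_eq_true] at this
    rw [card_toSet]; exact Nat.eq_of_beq_eq_true this.2

theorem actV_lt {c : ℕ} {g : Equiv.Perm GolayPt} (hg : Repr c g) (v : ℕ) : actV c v < 2048 := by
  rw [actV_spec hg]
  refine synd_lt ?_
  rw [hg.toSet_pmask, Finset.card_image_of_injective _ g.injective]
  exact liftV_even v

theorem inCode_of_syn : ∀ (gs : List ℕ) (m : ℕ), syn gs m = 0 → ∀ g ∈ gs, pc (m &&& g) % 2 = 0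
  | [], _, _, g, hg => absurd hg (List.not_mem_nil)
  | a :: gs, m, h, g, hg => by
    simp only [syn] at h
    rcases List.mem_cons.mp hg with rfl | hg
    · omega
    · exact inCode_of_syn gs m (by omega) g hg

theorem inCode_of_synd {m : ℕ} (h : synd m = 0) : inCode m = true := by
  simp only [inCode, List.all_eq_true, beq_iff_eq]
  exact inCode_of_syn _ _ h

theorem liftV_lt (v : ℕ) : liftV v < 2 ^ 24 :=
  xorCols_ind (P := fun x => x < 2 ^ 24) (by norm_num) (fun _ _ hx hy => Nat.xor_lt_two_pow hx hy) liftCols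
    (fun x hx => by
      have := List.all_eq_true.mp liftCols_checked x hx
      simp only [Bool.and_eq_true, decide_eq_true_eq] at this
      exact this.1) v

end CfsgGolay.Ten
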