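/-
The normalizer of the group of order 2^11 as syndromes by permutations.
-/
import Cfsg.Agent.Lib.JankoFour.OrbSplit
import Cfsg.Agent.Lib.JankoFour.TenSyn
import Cfsg.Agent.Lib.Golay.Modules

set_option autoImplicit false

namespace CfsgLib.JankoFour

open Cfsg Subgroup CfsgGolay CfsgGolay.Ten
open scoped symmDiff

attribute [local irreducible] codeL octadL dodecadL slpCodes synd liftV actV pmask

universe u

variable {G : Type u} [Group G] [Finite G] {z : G} {P E : Subgroup G}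

namespace Ctx

variable {c : Ctx z P E} {A : Subgroup MTwoTwo}


theorem even_xor' (p q : GolayPt) : (toSet (2 ^ idx p ^^^ 2 ^ idx q)).card % 2 = 0 := by
  have h := CfsgCode.card_symmDiff' (toSet (2 ^ idx p)) (toSet (2 ^ idx q))
  rw [toSet_xor]
  have hs : ∀ r : GolayPt, (toSet (2 ^ idx r)).card = 1 := fun r => by
    rw [Finset.card_eq_one]
    refine ⟨r, ?_⟩
    ext s
    simp only [mem_toSet, Nat.testBit_two_pow, decide_eq_true_eq, Finset.mem_singleton]
    exact ⟨fun h => (idx_injective h).symm, fun h => by rw [h]⟩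
  have := hs p
  have := hs q
  omega

/-- The Mathieu group as the quotient of the normalizer, with the labelling of the duads. -/
theorem Orb.exists_M24_duad (o : c.Orb A) :
    ∃ (θ : ↥(normalizer (c.vGrp A o.hA.1.1 : Set G)) →* ↥M24) (d : GolayPt → GolayPt → ↥(c.vGrp A o.hA.1.1)),
      θ.ker = (c.vGrp A o.hA.1.1).subgroupOf (normalizer (c.vGrp A o.hA.1.1 : Set G)) ∧ Function.Surjective θ ∧
      (∀ i j k, d i j * d j k = d i k) ∧ (∀ i j, i ≠ j → (d i j : G) ∈ c.Tset (c.vGrp A o.hA.1.1)) ∧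
      (∀ t ∈ c.Tset (c.vGrp A o.hA.1.1), ∃ i j, i ≠ j ∧ (d i j : G) = t) ∧
      (∀ (n : ↥(normalizer (c.vGrp A o.hA.1.1 : Set G))) i j,
        (n : G) * (d i j : G) * (n : G)⁻¹ = (d ((θ n).1 i) ((θ n).1 j) : G)) ∧
      ∃ a, ∀ m, toSet m ∈ octads → ∀ l : List GolayPt, l.Nodup → l.toFinset = toSet m →
        (l.map fun p => d a p).prod = 1 := by
  classical
  set V := c.vGrp A o.hA.1.1 with hV
  set N := normalizer (V : Set G) with hN
  let α := {σ : Set G // o.Star σ}
  haveI : Fintype α := Fintype.ofFinite α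
  have hα : Fintype.card α = 24 := by
    rw [← Nat.card_eq_fintype_card]; exact (Nat.card_coe_set_eq o.stars).trans o.card_stars
  letI : CommGroup V := { (inferInstance : Group V) with
    mul_comm := fun a b => Subtype.ext (c.vGrp_comm o.hA.1 a.2 b.2) }
  haveI : Fintype V := Fintype.ofFinite V
  have hΓ : Fintype.card V = 2048 := by
    rw [← Nat.card_eq_fintype_card, (c.vGrp_facts o.hA.1).2]; norm_num
  have hsq : ∀ x : V, x * x = 1 := fun x => Subtype.ext (c.vGrp_sq o.hA.1 x.2)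
  -- the duads
  have hj : ∀ i j : α, ∃ v : V, (i = j → v = 1) ∧
      (i ≠ j → (v : G) ∈ c.Tset V ∧ o.End v i.1 ∧ o.End v j.1) := fun i j => by
    by_cases e : i = j
    · exact ⟨1, fun _ => rfl, fun h => absurd e h⟩
    · obtain ⟨t, ht, h1, h2⟩ := o.exists_join i.2 j.2 fun h => e (Subtype.ext h)
      exact ⟨⟨t, ht.1⟩, fun h => absurd h e, fun _ => ⟨ht, h1, h2⟩⟩
  choose d hd0 hd using hj
  have huniq : ∀ {i j : α} {v : V}, i ≠ j → (v : G) ∈ c.Tset V → o.End v i.1 → o.End v j.1 → v = d i j :=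
    fun {i j v} hne hv h1 h2 =>
      Subtype.ext (o.join_eq hv (hd i j hne).1 h1 h2 (hd i j hne).2.1 (hd i j hne).2.2 fun h => hne (Subtype.ext h))
  have hval : ∀ {i j : α}, i ≠ j → i.1 ≠ j.1 := fun h e => h (Subtype.ext e)
  have hsymm : ∀ i j, d i j = d j i := fun i j => by
    by_cases e : i = j
    · rw [e]
    · exact huniq (Ne.symm e) (hd i j e).1 (hd i j e).2.2 (hd i j e).2.1
  have h3 : ∀ i j k, d i j * d j k = d i k := fun i j k => by
    by_cases eij : i = j
    · subst eij; rw [hd0 i i rfl, one_mul]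
    by_cases ejk : j = k
    · subst ejk; rw [hd0 j j rfl, mul_one]
    by_cases eik : i = k
    · subst eik; rw [hd0 i i rfl, hsymm j i, hsq]
    obtain ⟨hT, ha, hb⟩ := o.mul_ends (hd i j eij).1 (hd j k ejk).1 (hd i j eij).2.2 (hd i j eij).2.1
      (hd j k ejk).2.1 (hd j k ejk).2.2 (hval eij) (hval (Ne.symm ejk)) (hval eik)
    exact huniq eik hT ha hb
  have h2 : ∀ i j, i ≠ j → d i j ≠ 1 := fun i j h e => (hd i j h).1.2.1 (congrArg Subtype.val e)
  have hends : ∀ {i j k : α}, i ≠ j → o.End (d i j : G) k.1 → k = i ∨ k = j := fun {i j k} h hk =>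
    ((o.ends_eq (hd i j h).1 (hd i j h).2.1 (hd i j h).2.2 (hval h) k.1).mp hk).imp Subtype.ext Subtype.ext
  have h4 : ∀ a b c' e, [a, b, c', e].Nodup → d a b ≠ d c' e := by
    intro a b c' e hnd heq
    simp at hnd
    have hce : c' ≠ e := hnd.2.2
    rcases hends hnd.1.1 (heq ▸ (hd c' e hce).2.1) with h | h
    exacts [hnd.1.2.1 h.symm, hnd.2.1.1 h.symm]
  have h6 : ∀ a b c' e g h, [a, b, c', e, g, h].Nodup → d a b * d c' e ≠ d g h := by
    intro a b c' e g h hnd heq
    simp at hnd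
    obtain ⟨⟨hab, hac, hae, -⟩, ⟨hbc, hbe, -⟩, ⟨hce, -⟩, -, hgh⟩ := hnd
    have hnb : (d c' e : G) ∈ c.Nb V (d a b : G) := ⟨(hd c' e hce).1, by
      rw [← Subgroup.coe_mul, heq]; exact (hd g h hgh).1⟩
    obtain ⟨-, r, hr1, hr2⟩ := (o.share_all (hd a b hab).1 (hd c' e hce).1).mp hnb
    rcases hends (k := ⟨r, hr1.1⟩) hab hr1 with x | x <;> rcases hends (k := ⟨r, hr1.1⟩) hce hr2 with y | y
    exacts [hac (x.symm.trans y), hae (x.symm.trans y), hbc (x.symm.trans y), hbe (x.symm.trans y)]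
  obtain ⟨a0⟩ : Nonempty α := Fintype.card_pos_iff.mp (by omega)
  have hB := duad_steiner hα hΓ hsq h3 h2 h4 h6 a0
  obtain ⟨e, he⟩ := CfsgCode.sys_std hα hB
  -- the action on the stars
  choose f hfS hf using fun (n : N) (σ : α) => o.end_move n.2 σ.2
  let F : N → α → α := fun n σ => ⟨f n σ, hfS n σ⟩
  have hFu : ∀ (n : N) (σ ρ : α), (∀ t ∈ c.Tset V, o.End t σ.1 → o.End ((n : G) * t * (n : G)⁻¹) ρ.1) →
      F n σ = ρ := fun n σ ρ h => Subtype.ext (o.end_move_unique n.2 σ.2 (hf n σ) h)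
  have hF1 : ∀ σ, F 1 σ = σ := fun σ => hFu 1 σ σ fun t _ h => by simpa using h
  have hFm : ∀ m n σ, F (m * n) σ = F m (F n σ) := fun m n σ => hFu _ _ _ fun t ht h => by
    have := hf m (F n σ) _ (c.norm_T n.2 ht) (hf n σ t ht h)
    rwa [show ((m * n : N) : G) * t * ((m * n : N) : G)⁻¹ = (m : G) * ((n : G) * t * (n : G)⁻¹) * (m : G)⁻¹ by
      rw [Subgroup.coe_mul]; group]
  let φ : N →* Equiv.Perm α :=
    { toFun := fun n => ⟨F n, F n⁻¹, fun σ => by rw [← hFm, inv_mul_cancel, hF1],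
        fun σ => by rw [← hFm, mul_inv_cancel, hF1]⟩
      map_one' := Equiv.ext hF1
      map_mul' := fun m n => Equiv.ext (hFm m n) }
  have hmove : ∀ (n : N) (i j : α), (⟨(n : G) * (d i j : G) * (n : G)⁻¹,
      (mem_normalizer_iff.mp n.2 _).mp (d i j).2⟩ : V) = d (F n i) (F n j) := fun n i j => by
    by_cases h : i = j
    · subst h; rw [hd0 (F n i) (F n i) rfl]; exact Subtype.ext (by simp [hd0 i i rfl])
    · refine huniq (fun e' => h ((φ n).injective e')) (c.norm_T n.2 (hd i j h).1) ?_ ?_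
      · exact hf n i _ (hd i j h).1 (hd i j h).2.1
      · exact hf n j _ (hd i j h).1 (hd i j h).2.2
  have hmemB : ∀ n, φ n ∈ setSystemAut (duadOct d a0) := fun n =>
    duad_aut hsq h3 a0 (φ n)
      { toFun := fun x => ⟨(n : G) * x * (n : G)⁻¹, (mem_normalizer_iff.mp n.2 _).mp x.2⟩
        map_one' := Subtype.ext (by simp)
        map_mul' := fun x y => Subtype.ext (by simp [mul_assoc]) }
      (hmove n)
  let ι := (CfsgCode.autEquiv e he).trans (MulEquiv.subgroupCongr CfsgGolay.M24_eq_octadAut.symm)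
  let θ : N →* M24 := ι.toMonoidHom.comp (φ.codRestrict _ hmemB)
  have hθ : ∀ (n : N) (σ : α), (θ n).1 (e σ) = e (F n σ) := fun n σ => by
    show e.permCongr (φ n) (e σ) = _
    simp [φ]
  -- an element fixes a duad when it permutes the two stars
  have hfix : ∀ (n : N) (t : G), t ∈ c.Tset V → ∀ i j : α, i ≠ j → o.End t i.1 → o.End t j.1 →
      ((n : G) * t * (n : G)⁻¹ = t ↔ ({i, j} : Finset α).image (F n) = {i, j}) := by
    intro n t ht i j hij h1 h2
    have h1' := hf n i t ht h1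
    have h2' := hf n j t ht h2
    have hne : F n i ≠ F n j := fun e' => hij ((φ n).injective e')
    constructor
    · intro e'
      rw [e'] at h1' h2'
      refine Finset.eq_of_subset_of_card_le ?_ ?_
      · intro x hx
        simp only [Finset.image_insert, Finset.image_singleton, Finset.mem_insert, Finset.mem_singleton] at hx ⊢
        rcases hx with rfl | rfl
        · exact ((o.ends_eq ht h1 h2 (hval hij) _).mp h1').imp Subtype.ext Subtype.ext
        · exact ((o.ends_eq ht h1 h2 (hval hij) _).mp h2').imp Subtype.ext Subtype.ext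
      · rw [Finset.card_pair hij, Finset.image_insert, Finset.image_singleton, Finset.card_pair hne]
    · intro e'
      have ha : F n i = i ∨ F n i = j := by
        simpa using (e' ▸ Finset.mem_image_of_mem (F n) (Finset.mem_insert_self i _) : F n i ∈ ({i, j} : Finset α))
      have hb : F n j = i ∨ F n j = j := by
        simpa using (e' ▸ Finset.mem_image_of_mem (F n) (Finset.mem_insert_of_mem (Finset.mem_singleton_self j)) :
          F n j ∈ ({i, j} : Finset α))
      have hT := c.norm_T n.2 ht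
      rcases ha with a | a <;> rcases hb with b | b
      · exact absurd (a.trans b.symm) hne
      · exact o.join_eq hT ht (show o.End _ i.1 from congrArg Subtype.val a ▸ h1')
          (show o.End _ j.1 from congrArg Subtype.val b ▸ h2') h1 h2 (hval hij)
      · exact o.join_eq hT ht (show o.End _ i.1 from congrArg Subtype.val b ▸ h2')
          (show o.End _ j.1 from congrArg Subtype.val a ▸ h1') h1 h2 (hval hij)
      · exact absurd (a.trans b.symm) hne
  have hker : θ.ker = V.subgroupOf N := by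
    ext n
    have h1 : θ n = 1 ↔ ∀ σ, F n σ = σ := by
      constructor
      · intro h σ
        have := hθ n σ
        rw [h] at this
        exact e.injective this.symm
      · intro h
        refine Subtype.ext (Equiv.ext fun x => ?_)
        obtain ⟨σ, rfl⟩ := e.surjective x
        rw [hθ, h]; rfl
    rw [MonoidHom.mem_ker, h1, mem_subgroupOf]
    constructor
    · intro h
      refine c.cent_vGrp o.hA fun v hv => ?_
      have hle : closure (c.Tset V) ≤ centralizer ({(n : G)} : Set G) := (closure_le _).mpr fun t ht => by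
        obtain ⟨a, b, hab, hall, -⟩ := o.two_ends ht
        have ha := (hall a).mpr (Or.inl rfl)
        have hb := (hall b).mpr (Or.inr rfl)
        have := (hfix n t ht ⟨a, ha.1⟩ ⟨b, hb.1⟩ (fun e' => hab (congrArg Subtype.val e')) ha hb).mpr
          (by simp [Finset.image_insert, Finset.image_singleton, h])
        exact mem_centralizer_singleton_iff.mpr ((mul_inv_eq_iff_eq_mul.mp this).symm)
      exact (mem_centralizer_singleton_iff.mp (hle (o.closure_T.symm ▸ hv : v ∈ closure (c.Tset V)))).symm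
    · intro h σ
      refine hFu n σ σ fun t ht hσ => ?_
      rwa [c.vGrp_comm o.hA.1 h ht.1, mul_inv_cancel_right]
  refine ⟨θ, fun p q => d (e.symm p) (e.symm q), hker, ?_, fun p q r => h3 _ _ _,
    fun p q hpq => (hd _ _ fun h => hpq (e.symm.injective h)).1, fun t ht => ?_, fun n p q => ?_,
    e a0, fun m hm l hl hlm => ?_⟩
  · rw [← MonoidHom.range_eq_top]
    refine eq_top_of_card_eq _ ?_
    have h1 := card_mul_index θ.ker
    rw [Subgroup.index_ker, hker, Nat.card_congr (subgroupOfEquivOfLe (le_normalizer)).toEquiv,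
      (c.vGrp_facts o.hA.1).2, o.card_norm] at h1
    rw [CfsgGolay.card_M24]
    omega
  · obtain ⟨a, b, hab, hall, -⟩ := o.two_ends ht
    have ha := (hall a).mpr (Or.inl rfl)
    have hb := (hall b).mpr (Or.inr rfl)
    have hne : (⟨a, ha.1⟩ : α) ≠ ⟨b, hb.1⟩ := fun e' => hab (congrArg Subtype.val e')
    refine ⟨e ⟨a, ha.1⟩, e ⟨b, hb.1⟩, fun h => hne (e.injective h), ?_⟩
    simp only [Equiv.symm_apply_apply]
    exact congrArg Subtype.val (huniq (v := ⟨t, ht.1⟩) hne ht ha hb).symm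
  · have h := congrArg Subtype.val (hmove n (e.symm p) (e.symm q))
    have e1 : ∀ r, e.symm ((θ n).1 r) = F n (e.symm r) := fun r => by
      rw [← e.apply_symm_apply r, hθ, e.symm_apply_apply, e.symm_apply_apply]
    show (n : G) * (d (e.symm p) (e.symm q) : G) * (n : G)⁻¹ =
      (d (e.symm ((θ n).1 p)) (e.symm ((θ n).1 q)) : G)
    rw [e1, e1]
    exact h
  · obtain ⟨b, ⟨-, hb1⟩, hbm⟩ := he.ge hm
    have h := List.prod_toFinset (fun p => d a0 (e.symm p)) hl
    simp only [Equiv.symm_apply_apply]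
    rw [← h, hlm, ← hbm, Finset.prod_image e.injective.injOn]
    simp only [Equiv.symm_apply_apply]
    exact hb1

/-- The normalizer of V: syndromes by permutations. -/
structure Ten (o : c.Orb A) : Type u where
  Φ : ℕ → G
  s : ↥M24 →* G
  Φ_mem : ∀ v, Φ v ∈ c.vGrp A o.hA.1.1
  Φ_mul : ∀ a b, Φ (a ^^^ b) = Φ a * Φ b
  Φ_surj : ∀ x ∈ c.vGrp A o.hA.1.1, ∃ v < 2048, Φ v = x
  Φ_inj : ∀ a b, a < 2048 → b < 2048 → Φ a = Φ b → a = b
  s_mem : ∀ g, s g ∈ normalizer (c.vGrp A o.hA.1.1 : Set G)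
  s_inf : ∀ g, s g ∈ c.vGrp A o.hA.1.1 → g = 1
  decomp : ∀ n ∈ normalizer (c.vGrp A o.hA.1.1 : Set G), ∃ v g, v < 2048 ∧ n = Φ v * s g
  conj : ∀ (g : ↥M24) (cd : ℕ), Repr cd (g : Equiv.Perm GolayPt) → ∀ v, v < 2048 →
    s g * Φ v * (s g)⁻¹ = Φ (actV cd v)
  tset : ∀ v, v < 2048 → (Φ v ∈ c.Tset (c.vGrp A o.hA.1.1) ↔ ∃ i j, i < j ∧ j < 24 ∧ v = duadC i j)

theorem kills_span {Γ : Type*} [Monoid Γ] (f : ℕ → Γ) (h0 : f 0 = 1) (hx : ∀ a b, f (a ^^^ b) = f a * f b) :
    ∀ l : List ℕ, (∀ e ∈ l, f e = 1) → ∀ x ∈ spanList l, f x = 1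
  | [], _, x, hx' => by
    simp only [spanList, List.mem_singleton] at hx'
    rw [hx', h0]
  | e :: es, h, x, hx' => by
    simp only [spanList, List.mem_flatMap, List.mem_cons, List.not_mem_nil, or_false] at hx'
    obtain ⟨y, hy, rfl | rfl⟩ := hx'
    · exact kills_span f h0 hx es (fun a ha => h a (List.mem_cons_of_mem _ ha)) _ hy
    · rw [hx, h e (List.mem_cons_self ..),
        kills_span f h0 hx es (fun a ha => h a (List.mem_cons_of_mem _ ha)) _ hy, one_mul]

theorem toSet_two_pow {i : ℕ} (hi : i < 24) : toSet (2 ^ i) = {pt i} := by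
  ext p
  simp only [mem_toSet, Nat.testBit_two_pow, decide_eq_true_eq, Finset.mem_singleton]
  exact ⟨fun h => by rw [h, pt_idx], fun h => by rw [h, idx_pt hi]⟩

theorem Orb.exists_ten (o : c.Orb A) (hex : ∃ h ∈ centralizer ({z} : Set G), h ∉ c.H0)
    (hfaith : ∀ h ∈ centralizer ({z} : Set G), (∀ x ∈ c.cen, h * x * h⁻¹ * x⁻¹ ∈ c.N) → h ∈ c.N) :
    Nonempty (Ten o) := by
  classical
  obtain ⟨K, hKN, hKV, hKsup, -⟩ := o.exists_compl hex hfaith
  set V := c.vGrp A o.hA.1.1 with hV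
  set N := normalizer (V : Set G) with hN
  obtain ⟨θ, d, hker, hsur, h3, hT, hTsurj, hmove, a, hoct⟩ :
      ∃ (θ : ↥N →* ↥M24) (d : GolayPt → GolayPt → ↥V), θ.ker = V.subgroupOf N ∧ Function.Surjective θ ∧
      (∀ i j k, d i j * d j k = d i k) ∧ (∀ i j, i ≠ j → (d i j : G) ∈ c.Tset V) ∧
      (∀ t ∈ c.Tset V, ∃ i j, i ≠ j ∧ (d i j : G) = t) ∧
      (∀ (n : ↥N) i j, (n : G) * (d i j : G) * (n : G)⁻¹ = (d ((θ n).1 i) ((θ n).1 j) : G)) ∧
      ∃ a, ∀ m, toSet m ∈ octads → ∀ l : List GolayPt, l.Nodup → l.toFinset = toSet m →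
        (l.map fun p => d a p).prod = 1 := o.exists_M24_duad
  letI : CommGroup ↥V := { (inferInstance : Group ↥V) with
    mul_comm := fun x y => Subtype.ext (c.vGrp_comm o.hA.1 x.2 y.2) }
  have hsq : ∀ x : ↥V, x * x = 1 := fun x => Subtype.ext (c.vGrp_sq o.hA.1 x.2)
  have hd1 : ∀ i, d i i = 1 := fun i => mul_eq_left.mp (h3 i i i)
  have hsym : ∀ i j, d i j = d j i := fun i j => by
    have h := (h3 i j i).trans (hd1 i)
    rw [← inv_eq_of_mul_eq_one_left h]
    exact (inv_eq_of_mul_eq_one_left (hsq _))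
  let ψ : ℕ → ↥V := fun m => ∏ p ∈ toSet m, d a p
  have ψx : ∀ m m', ψ (m ^^^ m') = ψ m * ψ m' := fun m m' => by
    show ∏ p ∈ toSet (m ^^^ m'), d a p = _
    rw [toSet_xor]
    exact duadProd_symm hsq d a _ _
  have ψ0 : ψ 0 = 1 := by
    show ∏ p ∈ toSet 0, d a p = 1
    rw [show toSet 0 = ∅ by ext p; simp]; rfl
  have hoct' : ∀ m, toSet m ∈ octads → ψ m = 1 := fun m hm => by
    have h := hoct m hm (toSet m).toList (Finset.nodup_toList _) (Finset.toList_toFinset _)
    rw [Finset.prod_map_toList] at h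
    exact h
  have hcode : ∀ m ∈ codeL, ψ m = 1 := fun m hm => by
    unfold codeL at hm
    refine kills_span ψ ψ0 ψx sysBasis (fun e he => ?_) m hm
    refine kills_span ψ ψ0 ψx octBasis (fun b hb => hoct' b (octBasis_mem hb)) e ?_
    simpa using List.all_eq_true.mp octBasis_checks.2 e he
  have ψsyn : ∀ m, m < 2 ^ 24 → (toSet m).card % 2 = 0 → ψ m = ψ (liftV (synd m)) := fun m hm he => by
    have hlt := synd_lt he
    have hl24 : liftV (synd m) < 2 ^ 24 := liftV_lt _
    have h0 : synd (m ^^^ liftV (synd m)) = 0 := by rw [synd_xor, (liftV_spec hlt).1, Nat.xor_self]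
    have hin : inCode (m ^^^ liftV (synd m)) = true := inCode_of_synd h0
    have h1 := hcode _ (mem_codeL_of_inCode (Nat.xor_lt_two_pow hm hl24) hin)
    rw [ψx] at h1
    rw [← mul_one (ψ m), ← hsq (ψ (liftV (synd m))), ← mul_assoc, h1, one_mul]
  have hpair : ∀ p q, d p q = ψ (2 ^ idx p ^^^ 2 ^ idx q) := fun p q => by
    rw [ψx]
    show _ = (∏ r ∈ toSet (2 ^ idx p), d a r) * ∏ r ∈ toSet (2 ^ idx q), d a r
    rw [toSet_two_pow (idx_lt p), toSet_two_pow (idx_lt q), pt_idx, pt_idx, Finset.prod_singleton,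
      Finset.prod_singleton, hsym a p, h3]
  have hpair' : ∀ p q, d p q = ψ (liftV (duadC (idx p) (idx q))) := fun p q => by
    rw [hpair]
    refine ψsyn _ (Nat.xor_lt_two_pow (Nat.pow_lt_pow_right (by norm_num) (idx_lt p))
      (Nat.pow_lt_pow_right (by norm_num) (idx_lt q))) (even_xor' p q)
  let Φ : ℕ → G := fun v => (ψ (liftV v) : G)
  have Φx : ∀ x y, Φ (x ^^^ y) = Φ x * Φ y := fun x y => by
    show (ψ (liftV (x ^^^ y)) : G) = _
    rw [liftV_xor, ψx, Subgroup.coe_mul]
  have hcl : ∀ x ∈ V, ∃ v, v < 2048 ∧ Φ v = x := by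
    intro x hx
    rw [hV, ← o.closure_T] at hx
    induction hx using Subgroup.closure_induction with
    | mem t ht =>
      obtain ⟨p, q, -, rfl⟩ := hTsurj t ht
      exact ⟨_, synd_lt (even_xor' p q), congrArg Subtype.val (hpair' p q).symm⟩
    | one => exact ⟨0, by norm_num, by show (ψ (liftV 0) : G) = 1; rw [liftV_zero, ψ0]; rfl⟩
    | mul x y _ _ ihx ihy =>
      obtain ⟨v, hv, rfl⟩ := ihx
      obtain ⟨w, hw, rfl⟩ := ihy
      exact ⟨v ^^^ w, Nat.xor_lt_two_pow (n := 11) hv hw, Φx v w⟩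
    | inv x _ ihx =>
      obtain ⟨v, hv, rfl⟩ := ihx
      exact ⟨v, hv, (inv_eq_of_mul_eq_one_left (c.vGrp_sq o.hA.1 (ψ (liftV v)).2)).symm⟩
  have hbij : Function.Bijective (fun v : Fin 2048 => ψ (liftV v)) := by
    refine (Nat.bijective_iff_surjective_and_card _).mpr ⟨fun x => ?_, ?_⟩
    · obtain ⟨v, hv, e⟩ := hcl x x.2
      exact ⟨⟨v, hv⟩, Subtype.ext e⟩
    · rw [Nat.card_fin, (c.vGrp_facts o.hA.1).2]
      norm_num
  have Φinj : ∀ x y, x < 2048 → y < 2048 → Φ x = Φ y → x = y := fun x y hx hy e =>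
    congrArg Fin.val (hbij.1 (a₁ := ⟨x, hx⟩) (a₂ := ⟨y, hy⟩) (Subtype.ext e))
  -- the complement
  have hres : Function.Bijective (θ.comp (inclusion hKN)) := by
    refine ⟨(injective_iff_map_eq_one _).mpr fun k hk => ?_, fun g => ?_⟩
    · have h1 : inclusion hKN k ∈ θ.ker := MonoidHom.mem_ker.mpr hk
      rw [hker, mem_subgroupOf] at h1
      exact Subtype.ext (mem_bot.mp (hKV ▸ mem_inf.mpr ⟨k.2, h1⟩))
    · obtain ⟨n, rfl⟩ := hsur g
      have hn : (n : G) ∈ ((K ⊔ V : Subgroup G) : Set G) := by rw [hKsup]; exact n.2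
      rw [coe_mul_of_left_le_normalizer_right K V hKN] at hn
      obtain ⟨k, hk, v, hv, e⟩ := hn
      refine ⟨⟨k, hk⟩, ?_⟩
      have h1 : (⟨v, le_normalizer hv⟩ : N) ∈ θ.ker := by rw [hker]; exact hv
      have e' : n = inclusion hKN ⟨k, hk⟩ * ⟨v, le_normalizer hv⟩ := Subtype.ext e.symm
      rw [e', map_mul, MonoidHom.mem_ker.mp h1, mul_one]
      rfl
  let ee := MulEquiv.ofBijective _ hres
  have hee : ∀ g, θ (inclusion hKN (ee.symm g)) = g := fun g => ee.apply_symm_apply g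
  refine ⟨{ Φ := Φ, s := K.subtype.comp ee.symm.toMonoidHom, Φ_mem := fun v => (ψ (liftV v)).2, Φ_mul := Φx,
            Φ_surj := fun x hx => hcl x hx, Φ_inj := Φinj, s_mem := fun g => hKN (ee.symm g).2,
            s_inf := fun g hg => ?_, decomp := fun n hn => ?_, conj := fun g cd hcd v hv => ?_,
            tset := fun v hv => ⟨fun h => ?_, ?_⟩ }⟩
  · have : ee.symm g = 1 := Subtype.ext (mem_bot.mp (hKV ▸ mem_inf.mpr ⟨(ee.symm g).2, hg⟩))
    rw [← ee.apply_symm_apply g, this, map_one]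
  · have hn' : n ∈ ((K ⊔ V : Subgroup G) : Set G) := by rw [hKsup]; exact hn
    rw [coe_mul_of_left_le_normalizer_right K V hKN] at hn'
    obtain ⟨k, hk, x, hx, rfl⟩ := hn'
    obtain ⟨v, hv, e⟩ := hcl _ ((mem_normalizer_iff.mp (hKN hk) x).mp hx)
    refine ⟨v, ee ⟨k, hk⟩, hv, ?_⟩
    show k * x = Φ v * (ee.symm (ee ⟨k, hk⟩) : G)
    rw [e, ee.symm_apply_apply]
    group
  · set n := inclusion hKN (ee.symm g) with hn
    have hmv : ∀ i j, (n : G) * (d i j : G) * (n : G)⁻¹ = (d (g.1 i) (g.1 j) : G) := fun i j => by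
      rw [hmove, hee]
    let f : ↥V →* ↥V :=
      { toFun := fun x => ⟨(n : G) * x * (n : G)⁻¹, (mem_normalizer_iff.mp n.2 _).mp x.2⟩
        map_one' := Subtype.ext (by simp)
        map_mul' := fun x y => Subtype.ext (by simp [mul_assoc]) }
    have hf : f (ψ (liftV v)) = ψ (pmask cd (liftV v)) := by
      have he := liftV_even v
      have hf' : ∀ i j, f (d i j) = d (g.1 i) (g.1 j) := fun i j => Subtype.ext (hmv i j)
      rw [map_prod]
      simp only [hf']
      rw [Finset.prod_congr rfl fun p _ => (h3 (g.1 a) a (g.1 p)).symm, Finset.prod_mul_distrib,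
        Finset.prod_const]
      obtain ⟨k, hk⟩ : 2 ∣ (toSet (liftV v)).card := Nat.dvd_of_mod_eq_zero he
      rw [hk, pow_mul, sq, hsq, one_pow, one_mul]
      show _ = ∏ p ∈ toSet (pmask cd (liftV v)), d a p
      rw [hcd.toSet_pmask, Finset.prod_image g.1.injective.injOn]
    have he2 : (toSet (pmask cd (liftV v))).card % 2 = 0 := by
      rw [hcd.toSet_pmask, Finset.card_image_of_injective _ g.1.injective]
      exact liftV_even v
    show (n : G) * (ψ (liftV v) : G) * (n : G)⁻¹ = (ψ (liftV (actV cd v)) : G)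
    rw [actV_spec hcd, ← ψsyn _ (hcd.pmask_lt _) he2, ← hf]
    rfl
  · obtain ⟨p, q, hpq, e⟩ := hTsurj _ h
    rw [hpair'] at e
    have e2 := Φinj _ _ (synd_lt (even_xor' p q)) hv e
    rcases lt_or_gt_of_ne (fun h => hpq (idx_injective h)) with hl | hl
    · exact ⟨idx p, idx q, hl, idx_lt q, e2.symm⟩
    · refine ⟨idx q, idx p, hl, idx_lt p, e2.symm.trans ?_⟩
      show synd _ = synd _
      rw [Nat.xor_comm]
  · rintro ⟨i, j, hij, hj, rfl⟩
    have h := hT (pt i) (pt j) fun e => by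
      have := congrArg idx e
      rw [idx_pt (by omega), idx_pt hj] at this
      omega
    rw [hpair', idx_pt (show i < 24 by omega), idx_pt hj] at h
    exact h

end Ctx

end CfsgLib.JankoFour
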