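/-
The standard elementary abelian subgroup of order 2^10 in the normalizer of V.
-/
import Cfsg.Agent.Lib.JankoFour.TenModel
import Cfsg.Agent.Lib.JankoFour.TenChecksLift
import Cfsg.Agent.Lib.JankoFour.OrbCent
import Cfsg.Agent.Lib.Golay.OctStab

set_option autoImplicit false

namespace CfsgGolay.Ten

open Cfsg CfsgGolay

attribute [local irreducible] codeL octadL dodecadL slpCodes genMasks

theorem synd_code {m : ℕ} (h : m ∈ codeL) : synd m = 0 := by
  have h2 := inCode_of_mem (codeL_mem h)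
  rw [support_wordOf, toMask_toSet (codeL_lt m h)] at h2
  simp only [inCode, List.all_eq_true, beq_iff_eq] at h2
  have key : ∀ gs : List ℕ, (∀ g ∈ gs, pc (m &&& g) % 2 = 0) → syn gs m = 0 := by
    intro gs
    induction gs with
    | nil => intro _; rfl
    | cons g gs ih =>
      intro hg
      simp only [syn, ih fun x hx => hg x (List.mem_cons_of_mem _ hx), hg g (List.mem_cons_self ..)]
  exact key _ h2

/-- The action commutes with taking syndromes. -/
theorem actV_synd {c : ℕ} {g : Equiv.Perm GolayPt} (hg : Repr c g) (hM : g ∈ M24) {m : ℕ} (hm : m < 2 ^ 24)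
    (he : (toSet m).card % 2 = 0) : actV c (synd m) = synd (pmask c m) := by
  have hlt := synd_lt he
  have h0 : synd (m ^^^ liftV (synd m)) = 0 := by rw [synd_xor, (liftV_spec hlt).1, Nat.xor_self]
  have hw := Nat.xor_lt_two_pow hm (liftV_lt (synd m))
  have hc := mem_codeL_of_inCode hw (inCode_of_synd h0)
  have hs : toSet (m ^^^ liftV (synd m)) ∈ supports (golayCode : Set (GolayPt → ZMod 2)) := by
    rw [mem_supports, toMask_toSet hw]; exact hc
  have h1 := image_mem_supports hM hs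
  rw [← hg.toSet_pmask, mem_supports, toMask_toSet (hg.pmask_lt _)] at h1
  have h2 := synd_code h1
  rw [pmask_xor hg, synd_xor] at h2
  rw [actV_spec hg]
  exact (Nat.xor_eq_zero_iff.mp h2).symm

theorem pmask_pair {c : ℕ} {g : Equiv.Perm GolayPt} (hg : Repr c g) {i : ℕ} (hi : i < 24) :
    pmask c (2 ^ i) = 2 ^ idx (g (pt i)) := by
  refine eq_of_toSet_eq (hg.pmask_lt _) (Nat.pow_lt_pow_right (by norm_num) (idx_lt _)) ?_
  have hs : ∀ k, k < 24 → toSet (2 ^ k) = {pt k} := fun k hk => by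
    ext p
    simp only [mem_toSet, Nat.testBit_two_pow, decide_eq_true_eq, Finset.mem_singleton]
    exact ⟨fun h => by rw [h, pt_idx], fun h => by rw [h, idx_pt hk]⟩
  rw [hg.toSet_pmask, hs i hi, hs _ (idx_lt _), Finset.image_singleton, pt_idx]

theorem actV_duad {c : ℕ} {g : Equiv.Perm GolayPt} (hg : Repr c g) (hM : g ∈ M24) {i j : ℕ} (hi : i < 24)
    (hj : j < 24) : actV c (duadC i j) = duadC (idx (g (pt i))) (idx (g (pt j))) := by
  show actV c (synd (2 ^ i ^^^ 2 ^ j)) = synd _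
  rw [actV_synd hg hM (Nat.xor_lt_two_pow (Nat.pow_lt_pow_right (by norm_num) hi)
    (Nat.pow_lt_pow_right (by norm_num) hj)), pmask_xor hg, pmask_pair hg hi, pmask_pair hg hj]
  have h := CfsgLib.JankoFour.Ctx.even_xor' (pt i) (pt j)
  rwa [idx_pt hi, idx_pt hj] at h

theorem duadC_comm (i j : ℕ) : duadC i j = duadC j i := by
  show synd _ = synd _
  rw [Nat.xor_comm]

/-- The pairs of indices. -/
def duadPairs : List (ℕ × ℕ) := (List.range 24).flatMap fun j => (List.range j).map fun i => (i, j)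

theorem mem_duadPairs {i j : ℕ} : (i, j) ∈ duadPairs ↔ i < j ∧ j < 24 := by
  simp [duadPairs, and_comm]

theorem duadList_eq : duadList = duadPairs.map fun p => duadC p.1 p.2 := by
  simp [duadList, duadPairs, List.map_flatMap, Function.comp_def]

theorem nodup_duadList : duadList.Nodup := by
  have h := duad_checked
  rw [forceNs_eq] at h
  simp only [Bool.and_eq_true] at h
  exact nodup_of_distinctB h.1

theorem mem_duadList {v : ℕ} : v ∈ duadList ↔ ∃ i j, i < j ∧ j < 24 ∧ v = duadC i j := by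
  rw [duadList_eq, List.mem_map]
  constructor
  · rintro ⟨⟨i, j⟩, h, rfl⟩
    obtain ⟨h1, h2⟩ := mem_duadPairs.mp h
    exact ⟨i, j, h1, h2, rfl⟩
  · rintro ⟨i, j, h1, h2, rfl⟩
    exact ⟨(i, j), mem_duadPairs.mpr ⟨h1, h2⟩, rfl⟩

/-- A duad determines its two points. -/
theorem duad_inj {i j k l : ℕ} (hi : i < 24) (hj : j < 24) (hk : k < 24) (hl : l < 24) (hij : i ≠ j) (hkl : k ≠ l)
    (h : duadC i j = duadC k l) : (i = k ∧ j = l) ∨ (i = l ∧ j = k) := by
  have key := List.inj_on_of_nodup_map (duadList_eq ▸ nodup_duadList)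
  rcases lt_or_gt_of_ne hij with a | a <;> rcases lt_or_gt_of_ne hkl with b | b
  · have := key (mem_duadPairs.mpr ⟨a, hj⟩) (mem_duadPairs.mpr ⟨b, hl⟩) h
    exact Or.inl ⟨congrArg Prod.fst this, congrArg Prod.snd this⟩
  · have := key (mem_duadPairs.mpr ⟨a, hj⟩) (mem_duadPairs.mpr ⟨b, hk⟩) (h.trans (duadC_comm k l))
    exact Or.inr ⟨congrArg Prod.fst this, congrArg Prod.snd this⟩
  · have := key (mem_duadPairs.mpr ⟨a, hi⟩) (mem_duadPairs.mpr ⟨b, hl⟩) ((duadC_comm j i).trans h)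
    exact Or.inr ⟨congrArg Prod.snd this, congrArg Prod.fst this⟩
  · have := key (mem_duadPairs.mpr ⟨a, hi⟩) (mem_duadPairs.mpr ⟨b, hk⟩)
      ((duadC_comm j i).trans (h.trans (duadC_comm k l)))
    exact Or.inl ⟨congrArg Prod.snd this, congrArg Prod.fst this⟩

theorem uList_lt {v : ℕ} (hv : v ∈ uList) : v < 2048 := by
  have h := u_checked
  simp only [Bool.and_eq_true, List.all_eq_true, Nat.blt_eq] at h
  exact (h.2 v hv).1

theorem uList_fix {v c : ℕ} (hv : v ∈ uList) (hc : c ∈ xT) : actV c v = v := by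
  have h := u_checked
  simp only [Bool.and_eq_true, List.all_eq_true] at h
  exact Nat.eq_of_beq_eq_true ((h.2 v hv).2 c hc)

theorem nodup_uList : uList.Nodup := by
  have h := u_checked
  simp only [Bool.and_eq_true] at h
  exact nodup_of_distinctB h.1

theorem avec_mem (a : ℕ) : avec a ∈ uList := by
  have h : ∀ (cols : List ℕ) (a : ℕ), xorCols cols a = xorCols cols (a % 2 ^ cols.length) := by
    intro cols
    induction cols with
    | nil => intro a; rfl
    | cons c cs ih =>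
      intro a
      simp only [xorCols, List.length_cons, pow_succ']
      rw [Nat.mod_mul_right_div_self, ← ih, Nat.mod_mod_of_dvd a (dvd_mul_right 2 _)]
  refine List.mem_map.mpr ⟨a % 64, List.mem_range.mpr (Nat.mod_lt _ (by norm_num)), ?_⟩
  exact (h uCols a).symm

theorem avec_mod (a : ℕ) {b : ℕ} (hb : b % 64 = a % 64) : avec b = avec a := by
  have h : ∀ (cols : List ℕ) (a : ℕ), xorCols cols a = xorCols cols (a % 2 ^ cols.length) := by
    intro cols
    induction cols with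
    | nil => intro a; rfl
    | cons c cs ih =>
      intro a
      simp only [xorCols, List.length_cons, pow_succ']
      rw [Nat.mod_mul_right_div_self, ← ih, Nat.mod_mod_of_dvd a (dvd_mul_right 2 _)]
  show xorCols uCols b = xorCols uCols a
  rw [h uCols a, h uCols b, show uCols.length = 6 from rfl, show (2 : ℕ) ^ 6 = 64 from rfl, hb]

theorem avec_inj {a b : ℕ} (ha : a < 64) (hb : b < 64) (h : avec a = avec b) : a = b :=
  List.inj_on_of_nodup_map nodup_uList (List.mem_range.mpr ha) (List.mem_range.mpr hb) h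

theorem xAt_mem {i : ℕ} (hi : i < 16) : xAt i ∈ xT := by
  have h := xT_checked
  simp only [Bool.and_eq_true] at h
  rw [xAt, List.getD_eq_getElem _ _ (by rw [Nat.eq_of_beq_eq_true h.1]; exact hi)]
  exact List.getElem_mem _

theorem mem_xT {c : ℕ} (hc : c ∈ xT) : ∃ i < 16, xAt i = c := by
  have h := xT_checked
  simp only [Bool.and_eq_true] at h
  obtain ⟨i, hi, rfl⟩ := List.mem_iff_getElem.mp hc
  exact ⟨i, lt_of_lt_of_eq hi (Nat.eq_of_beq_eq_true h.1), List.getD_eq_getElem _ _ hi⟩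

theorem xT_spec {c : ℕ} (hc : c ∈ xT) : permOK c = true ∧ gensKept c = true ∧ fixedMask c &&& octM = octM := by
  have h := xT_ok
  simp only [Bool.and_eq_true, List.all_eq_true] at h
  obtain ⟨⟨a, b⟩, d⟩ := h.2 c hc
  exact ⟨a, b, Nat.eq_of_beq_eq_true d⟩

theorem nodup_xT : xT.Nodup := by
  have h := xT_ok
  simp only [Bool.and_eq_true] at h
  exact nodup_of_distinctB h.1.2

theorem xAt_mul {i j : ℕ} (hi : i < 16) (hj : j < 16) : pcomp (xAt i) (xAt j) = xAt (i ^^^ j) := by
  have h := xT_checked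
  simp only [Bool.and_eq_true, List.all_eq_true, List.mem_range] at h
  exact Nat.eq_of_beq_eq_true (h.2 i hi j hj)

theorem repr_xAt (i : ℕ) : Repr (xAt (i % 16)) (permDec (xAt (i % 16))) := by
  obtain ⟨g, hg⟩ := exists_repr_of_permOK (xT_spec (xAt_mem (Nat.mod_lt i (by norm_num)))).1
  rwa [permDec_eq hg]

/-- The elements of the pointwise stabiliser. -/
noncomputable def xEl (i : ℕ) : ↥M24 :=
  ⟨permDec (xAt (i % 16)),
    mem_M24_of_gensKept (repr_xAt i) (xT_spec (xAt_mem (Nat.mod_lt i (by norm_num)))).2.1⟩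

theorem repr_xEl {i : ℕ} (hi : i < 16) : Repr (xAt i) (xEl i : Equiv.Perm GolayPt) := by
  have h := repr_xAt i
  rw [Nat.mod_eq_of_lt hi] at h
  show Repr (xAt i) (permDec (xAt (i % 16)))
  rwa [Nat.mod_eq_of_lt hi]

theorem xEl_mul {i j : ℕ} (hi : i < 16) (hj : j < 16) : xEl i * xEl j = xEl (i ^^^ j) := by
  refine Subtype.ext ?_
  have h := (repr_xEl hi).comp (repr_xEl hj)
  rw [xAt_mul hi hj] at h
  exact h.unique (repr_xEl (Nat.xor_lt_two_pow (n := 4) hi hj))

theorem xEl_zero : xEl 0 = 1 := by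
  have h := xEl_mul (i := 0) (j := 0) (by norm_num) (by norm_num)
  rw [Nat.xor_self] at h
  exact mul_eq_left.mp h

theorem Repr.code_eq {c d : ℕ} {g : Equiv.Perm GolayPt} (hc : Repr c g) (hd : Repr d g)
    (hc' : c < 2 ^ 120) (hd' : d < 2 ^ 120) : c = d := by
  have key : ∀ (n : ℕ) (a b : ℕ), a < 2 ^ (5 * n) → b < 2 ^ (5 * n) → (∀ i < n, papp a i = papp b i) → a = b := by
    intro n
    induction n with
    | zero => intro a b ha hb _; omega
    | succ n ih =>
      intro a b ha hb h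
      have h0 := h 0 (Nat.succ_pos n)
      simp only [papp, Nat.mul_zero, Nat.shiftRight_zero] at h0
      have h2 : a / 32 = b / 32 := by
        refine ih _ _ ?_ ?_ fun i hi => ?_
        · rw [Nat.div_lt_iff_lt_mul (by norm_num)]; rwa [Nat.mul_succ, pow_add] at ha
        · rw [Nat.div_lt_iff_lt_mul (by norm_num)]; rwa [Nat.mul_succ, pow_add] at hb
        · have := h (i + 1) (by omega)
          simp only [papp, Nat.shiftRight_eq_div_pow, Nat.mul_succ, pow_add] at this ⊢
          rw [Nat.div_div_eq_div_mul, Nat.div_div_eq_div_mul, mul_comm 32, show (32 : ℕ) = 2 ^ 5 from rfl]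
          exact this
      omega
  refine key 24 c d hc' hd' fun i hi => ?_
  have e1 := hc (pt i)
  have e2 := hd (pt i)
  rw [idx_pt hi] at e1 e2
  exact e1.symm.trans e2

theorem xT_lt {c : ℕ} (hc : c ∈ xT) : c < 2 ^ 120 := by
  have h : (xT.all fun c => Nat.blt c (2 ^ 120)) = true := by decide +kernel
  exact Nat.blt_eq.mp (List.all_eq_true.mp h c hc)

theorem xEl_inj {i j : ℕ} (hi : i < 16) (hj : j < 16) (h : xEl i = xEl j) : i = j := by
  have e := Repr.code_eq (repr_xEl hi) (congrArg Subtype.val h ▸ repr_xEl hj) (xT_lt (xAt_mem hi))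
    (xT_lt (xAt_mem hj))
  have hl : xT.length = 16 := by
    have h := xT_checked
    simp only [Bool.and_eq_true] at h
    exact Nat.eq_of_beq_eq_true h.1
  rw [xAt, xAt, List.getD_eq_getElem _ _ (by omega), List.getD_eq_getElem _ _ (by omega)] at e
  exact (nodup_xT.getElem_inj_iff).mp e

theorem octM_mem : toSet octM ∈ octads := toSet_mem_octads (List.contains_iff_mem.mp oct_checked)

theorem xEl_fix {i : ℕ} (hi : i < 16) : (xEl i : Equiv.Perm GolayPt) ∈ fixOct (toSet octM) := by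
  refine Subgroup.mem_inf.mpr ⟨(xEl i).2, (mem_fixingSubgroup_iff _).mpr fun p hp => ?_⟩
  have h := (xT_spec (xAt_mem hi)).2.2
  have h2 : toSet octM ⊆ toSet (fixedMask (xAt i)) := by
    rw [← Finset.inter_eq_right, ← toSet_and, h]
  rw [← fixF_repr (repr_xEl hi)] at h2
  exact mem_fixF.mp (h2 hp)

/-- An element of the code's group fixing the octad pointwise is listed. -/
theorem exists_xEl {g : ↥M24} (h : ∀ p ∈ toSet octM, (g : Equiv.Perm GolayPt) p = p) : ∃ i < 16, g = xEl i := by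
  classical
  have hsub : (fun i : Fin 16 => (xEl i : Equiv.Perm GolayPt)) '' Set.univ ⊆ (fixOct (toSet octM) : Set _) := by
    rintro _ ⟨i, -, rfl⟩
    exact xEl_fix i.2
  have hinj : Function.Injective fun i : Fin 16 => (xEl i : Equiv.Perm GolayPt) :=
    fun i j e => Fin.ext (xEl_inj i.2 j.2 (Subtype.ext e))
  have heq := Set.eq_of_subset_of_ncard_le hsub (by
    rw [Set.ncard_image_of_injective _ hinj, Set.ncard_univ, Nat.card_fin, ← Nat.card_coe_set_eq]
    exact le_of_eq (card_fixOct octM_mem).1) (Set.toFinite _)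
  have hg : (g : Equiv.Perm GolayPt) ∈ fixOct (toSet octM) :=
    Subgroup.mem_inf.mpr ⟨g.2, (mem_fixingSubgroup_iff _).mpr h⟩
  obtain ⟨i, -, e⟩ := heq.ge hg
  exact ⟨i, i.2, Subtype.ext e.symm⟩

end CfsgGolay.Ten

namespace CfsgLib.JankoFour.Ctx

open Cfsg Subgroup CfsgGolay CfsgGolay.Ten

attribute [local irreducible] codeL octadL dodecadL slpCodes synd liftV actV pmask uList duadList avec

universe u

variable {G : Type u} [Group G] [Finite G] {z : G} {P E : Subgroup G} {c : Ctx z P E} {A : Subgroup MTwoTwo}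
  {o : c.Orb A}

namespace Ten

variable (t : Ten o)

theorem Φ_zero : t.Φ 0 = 1 := by
  have h := t.Φ_mul 0 0
  rw [Nat.xor_self] at h
  exact mul_eq_left.mp h.symm

theorem Φ_sq (v : ℕ) : t.Φ v * t.Φ v = 1 := by rw [← t.Φ_mul, Nat.xor_self, t.Φ_zero]

theorem Φ_comm (v w : ℕ) : t.Φ v * t.Φ w = t.Φ w * t.Φ v := by rw [← t.Φ_mul, ← t.Φ_mul, Nat.xor_comm]

theorem mul_pair (g h : ↥M24) {cg : ℕ} (hg : Repr cg (g : Equiv.Perm GolayPt)) (v : ℕ) {w : ℕ} (hw : w < 2048) :
    t.Φ v * t.s g * (t.Φ w * t.s h) = t.Φ (v ^^^ actV cg w) * t.s (g * h) := by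
  rw [t.Φ_mul, ← t.conj g cg hg w hw, map_mul]
  group

theorem pair_inj {v w : ℕ} (hv : v < 2048) (hw : w < 2048) {g h : ↥M24} (e : t.Φ v * t.s g = t.Φ w * t.s h) :
    v = w ∧ g = h := by
  have hgh : g = h := by
    have h1 : t.s (g * h⁻¹) = t.Φ v * t.Φ w := by
      rw [map_mul, map_inv, eq_comm, ← mul_right_inj (t.Φ v), ← mul_assoc, t.Φ_sq, one_mul, ← mul_assoc, e,
        mul_inv_cancel_right]
    have h2 := t.s_inf (g * h⁻¹) (h1 ▸ mul_mem (t.Φ_mem v) (t.Φ_mem w))
    exact mul_inv_eq_one.mp h2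
  subst hgh
  exact ⟨t.Φ_inj v w hv hw (mul_right_cancel e), rfl⟩

/-- The standard elements. -/
noncomputable def Ψ (a : ℕ) : G := t.Φ (avec a) * t.s (xEl (a / 64))

theorem Ψ_mul {a b : ℕ} (ha : a < 1024) (hb : b < 1024) : t.Ψ a * t.Ψ b = t.Ψ (a ^^^ b) := by
  have h1 : a / 64 < 16 := by omega
  have h2 : b / 64 < 16 := by omega
  have hu := avec_mem b
  show t.Φ (avec a) * t.s (xEl (a / 64)) * (t.Φ (avec b) * t.s (xEl (b / 64))) = _
  rw [t.mul_pair _ _ (repr_xEl h1) _ (uList_lt hu), uList_fix hu (xAt_mem h1), xEl_mul h1 h2]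
  have e1 : (a ^^^ b) / 64 = a / 64 ^^^ b / 64 := by
    simpa [Nat.shiftRight_eq_div_pow] using Nat.shiftRight_xor_distrib (a := a) (b := b) (i := 6)
  have e2 : avec (a ^^^ b) = avec a ^^^ avec b := by unfold avec; exact xorCols_xor _ _ _
  show _ = t.Φ (avec (a ^^^ b)) * t.s (xEl ((a ^^^ b) / 64))
  rw [e1, e2]

theorem Ψ_zero : t.Ψ 0 = 1 := by
  have h := t.Ψ_mul (a := 0) (b := 0) (by norm_num) (by norm_num)
  rw [Nat.xor_self] at h
  exact mul_eq_left.mp h

theorem Ψ_sq {a : ℕ} (ha : a < 1024) : t.Ψ a * t.Ψ a = 1 := by rw [t.Ψ_mul ha ha, Nat.xor_self, t.Ψ_zero]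

/-- The standard group. -/
noncomputable def A0 : Subgroup G where
  carrier := {g | ∃ a < 1024, g = t.Ψ a}
  one_mem' := ⟨0, by norm_num, t.Ψ_zero.symm⟩
  mul_mem' := by
    rintro _ _ ⟨a, ha, rfl⟩ ⟨b, hb, rfl⟩
    exact ⟨a ^^^ b, Nat.xor_lt_two_pow (n := 10) ha hb, t.Ψ_mul ha hb⟩
  inv_mem' := by
    rintro _ ⟨a, ha, rfl⟩
    exact ⟨a, ha, inv_eq_of_mul_eq_one_left (t.Ψ_sq ha)⟩

theorem mem_A0 {g : G} : g ∈ t.A0 ↔ ∃ a < 1024, g = t.Ψ a := Iff.rfl

theorem Ψ_inj {a b : ℕ} (ha : a < 1024) (hb : b < 1024) (h : t.Ψ a = t.Ψ b) : a = b := by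
  obtain ⟨e1, e2⟩ := t.pair_inj (uList_lt (avec_mem a)) (uList_lt (avec_mem b)) h
  have h1 := xEl_inj (show a / 64 < 16 by omega) (show b / 64 < 16 by omega) e2
  have := avec_inj (Nat.mod_lt _ (by norm_num)) (Nat.mod_lt _ (by norm_num))
    ((avec_mod a (b := a % 64) (by omega)).trans (e1.trans (avec_mod b (b := b % 64) (by omega)).symm))
  omega

theorem elem_A0 : IsElementaryAbelian 2 t.A0 := by
  refine ⟨⟨⟨fun x y => Subtype.ext ?_⟩⟩, ?_⟩
  · obtain ⟨a, ha, e1⟩ := x.2
    obtain ⟨b, hb, e2⟩ := y.2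
    show (x : G) * y = y * x
    rw [e1, e2, t.Ψ_mul ha hb, t.Ψ_mul hb ha, Nat.xor_comm]
  · rintro _ ⟨a, ha, rfl⟩
    rw [sq, t.Ψ_sq ha]

theorem card_A0 : Nat.card t.A0 = 2 ^ 10 := by
  have h : Function.Bijective (fun a : Fin 1024 => (⟨t.Ψ a, a, a.2, rfl⟩ : t.A0)) := by
    refine ⟨fun a b e => Fin.ext (t.Ψ_inj a.2 b.2 (congrArg Subtype.val e)), fun x => ?_⟩
    obtain ⟨a, ha, e⟩ := x.2
    exact ⟨⟨a, ha⟩, Subtype.ext e.symm⟩
  rw [← Nat.card_eq_of_bijective _ h, Nat.card_fin]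
  norm_num

theorem Ψ_low {a : ℕ} (ha : a < 64) : t.Ψ a = t.Φ (avec a) := by
  show t.Φ (avec a) * t.s (xEl (a / 64)) = _
  rw [Nat.div_eq_of_lt ha, xEl_zero, map_one, mul_one]

theorem Ψ_mem_V {a : ℕ} (ha : a < 1024) : t.Ψ a ∈ c.vGrp A o.hA.1.1 ↔ a < 64 := by
  refine ⟨fun h => ?_, fun h => t.Ψ_low h ▸ t.Φ_mem _⟩
  obtain ⟨v, hv, e⟩ := t.Φ_surj _ h
  have e' : t.Φ v * t.s 1 = t.Φ (avec a) * t.s (xEl (a / 64)) := by rw [map_one, mul_one, e]; rfl
  have h2 := (t.pair_inj hv (uList_lt (avec_mem a)) e').2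
  rw [← xEl_zero] at h2
  have := xEl_inj (by norm_num) (by omega) h2
  omega

theorem mem_uList {v : ℕ} (hv : v ∈ uList) : ∃ a < 64, avec a = v := by
  unfold uList at hv
  obtain ⟨a, ha, rfl⟩ := List.mem_map.mp hv
  exact ⟨a, List.mem_range.mp ha, by unfold avec; rfl⟩

/-- The duads inside the octad lie in the standard group. -/
theorem duad_A0 {i j : ℕ} (hij : i ≠ j) (hi : i < 24) (hj : j < 24) (hio : octM.testBit i = true)
    (hjo : octM.testBit j = true) : t.Φ (duadC i j) ∈ t.A0 := by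
  have h := oct_duads_checked
  rw [forceNs_eq] at h
  simp only [List.all_eq_true, List.mem_range] at h
  have key : ∀ {a b : ℕ}, a < b → b < 24 → octM.testBit a = true → octM.testBit b = true → duadC a b ∈ uList := by
    intro a b hab hb ha' hb'
    have h2 := h b hb a hab
    simp only [ha', hb', Bool.and_self, Bool.not_true, Bool.false_or] at h2
    exact of_memB h2
  have hm : duadC i j ∈ uList := by
    rcases lt_or_gt_of_ne hij with hl | hl
    · exact key hl hj hio hjo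
    · rw [duadC_comm]; exact key hl hi hjo hio
  obtain ⟨a, ha, e⟩ := mem_uList hm
  exact ⟨a, by omega, by rw [t.Ψ_low ha, e]⟩

theorem duadC_lt {i j : ℕ} (hi : i < 24) (hj : j < 24) : duadC i j < 2048 := by
  have h := CfsgLib.JankoFour.Ctx.even_xor' (pt i) (pt j)
  rw [idx_pt hi, idx_pt hj] at h
  exact synd_lt h

/-- An element of the normalizer centralizing the duads of the octad fixes the octad pointwise. -/
theorem fix_oct {v : ℕ} {g : ↥M24}
    (h : ∀ i j, i ≠ j → i < 24 → j < 24 → octM.testBit i = true → octM.testBit j = true →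
      t.Φ v * t.s g * t.Φ (duadC i j) = t.Φ (duadC i j) * (t.Φ v * t.s g)) :
    ∀ p ∈ toSet octM, (g : Equiv.Perm GolayPt) p = p := by
  have key : ∀ p q, p ∈ toSet octM → q ∈ toSet octM → p ≠ q →
      ((g : Equiv.Perm GolayPt) p = p ∨ (g : Equiv.Perm GolayPt) p = q) := by
    intro p q hp hq hpq
    have hi := idx_lt p
    have hj := idx_lt q
    have h1 := h (idx p) (idx q) (fun e => hpq (idx_injective e)) hi hj (mem_toSet.mp hp) (mem_toSet.mp hq)
    have hr : Repr (codeP (g : Equiv.Perm GolayPt)) g := repr_codeP _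
    have hlt := duadC_lt hi hj
    have h2 : t.Φ v * t.Φ (actV (codeP (g : Equiv.Perm GolayPt)) (duadC (idx p) (idx q))) * t.s g =
        t.Φ v * t.Φ (duadC (idx p) (idx q)) * t.s g := by
      rw [t.Φ_comm v (duadC _ _), mul_assoc (t.Φ (duadC _ _)), ← h1, ← t.conj g _ hr _ hlt]
      group
    have h3 := t.Φ_inj _ _ (actV_lt hr _) hlt (mul_left_cancel (mul_right_cancel h2))
    rw [actV_duad hr g.2 hi hj, pt_idx, pt_idx] at h3
    rcases duad_inj (idx_lt _) (idx_lt _) hi hj
      (fun e => hpq (g.1.injective (idx_injective e))) (fun e => hpq (idx_injective e)) h3 with ⟨e, -⟩ | ⟨e, -⟩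
    · exact Or.inl (idx_injective e)
    · exact Or.inr (idx_injective e)
  intro p hp
  have h8 : (toSet octM).card = 8 := card_of_mem_octads octM_mem
  obtain ⟨q, hq, hqp⟩ := Finset.exists_mem_ne (by rw [h8]; norm_num) p
  have h7 : 1 < ((toSet octM).erase p).card := by rw [Finset.card_erase_of_mem hp, h8]; norm_num
  obtain ⟨r, hr, hrq⟩ := Finset.exists_mem_ne h7 q
  obtain ⟨hrp, hr⟩ := Finset.mem_erase.mp hr
  rcases key p q hp hq hqp.symm with e | e
  · exact e
  rcases key p r hp hr hrp.symm with e' | e'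
  · exact e'
  · exact absurd (e'.symm.trans e) hrq

theorem fixed_uList {v : ℕ} (hv : v < 2048) (h : ∀ i < 16, actV (xAt i) v = v) : v ∈ uList := by
  set F := (Finset.range 2048).filter
    (fun w => ((List.range 16).all fun i => Nat.beq (actV (xAt i) w) w) = true) with hF
  have hF' : ∀ w, w ∈ F ↔ w < 2048 ∧ ∀ i < 16, actV (xAt i) w = w := fun w => by
    simp [hF]
  have hsub : uList.toFinset ⊆ F := fun w hw => by
    have hw' := List.mem_toFinset.mp hw
    exact (hF' w).mpr ⟨uList_lt hw', fun i hi => uList_fix hw' (xAt_mem hi)⟩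
  have hrx := rows_checked
  have hin := inX_checked
  have hx := echX_checked
  simp only [Bool.and_eq_true] at hx
  have hO : Orth F (echX recsX) := orth_all _ (fun e he => absurd he (List.not_mem_nil)) fun r hr w hw => by
    obtain ⟨a, ha, hra⟩ := List.mem_flatMap.mp hr
    obtain ⟨har, haX⟩ := List.mem_filter.mp ha
    simp only [List.all_eq_true] at hrx hin
    have h1 := hrx a har
    rw [forceNs_eq] at h1
    simp only [List.all_eq_true] at h1
    obtain ⟨j, -, rfl⟩ := List.mem_map.mp (of_memB (h1 r hra))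
    have h2 := hin a har
    simp only [haX, Bool.not_true, Bool.false_or] at h2
    obtain ⟨i, hi, e⟩ := mem_xT (of_memB h2)
    exact row_orth _ _ ((hF' w).mp hw).1 (e ▸ ((hF' w).mp hw).2 i hi)
  have hc := card_le_of_okE hx.2 F (fun w hw => ((hF' w).mp hw).1) hO
  rw [Nat.eq_of_beq_eq_true hx.1.2] at hc
  have hlen : uList.toFinset.card = 64 := by
    rw [List.toFinset_card_of_nodup nodup_uList]
    unfold uList
    rw [List.length_map, List.length_range]
  have heq := Finset.eq_of_subset_of_card_le hsub (by rw [hlen]; exact hc)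
  refine List.mem_toFinset.mp ?_
  rw [heq, hF']
  exact ⟨hv, h⟩

/-- The standard group is self-centralizing. -/
theorem cent_A0 : centralizer (t.A0 : Set G) = t.A0 := by
  refine le_antisymm (fun g hg => ?_) (fun g hg => mem_centralizer_iff.mpr fun x hx => ?_)
  swap
  · exact congrArg Subtype.val (t.elem_A0.1.is_comm.comm (⟨x, hx⟩ : t.A0) ⟨g, hg⟩)
  classical
  have h8 : 1 < (toSet octM).card := by rw [card_of_mem_octads octM_mem]; norm_num
  obtain ⟨p, hp, q, hq, hpq⟩ := Finset.one_lt_card.mp h8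
  have hne : idx p ≠ idx q := fun e => hpq (idx_injective e)
  have hT : t.Φ (duadC (idx p) (idx q)) ∈ c.Tset (c.vGrp A o.hA.1.1) := by
    refine (t.tset _ (duadC_lt (idx_lt p) (idx_lt q))).mpr ?_
    rcases lt_or_gt_of_ne hne with hl | hl
    · exact ⟨_, _, hl, idx_lt q, rfl⟩
    · exact ⟨_, _, hl, idx_lt p, duadC_comm _ _⟩
  have hmem := t.duad_A0 hne (idx_lt p) (idx_lt q) (mem_toSet.mp hp) (mem_toSet.mp hq)
  have hgn := o.cent_T hT (mem_centralizer_singleton_iff.mpr (mem_centralizer_iff.mp hg _ hmem).symm)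
  obtain ⟨v, σ, hv, rfl⟩ := t.decomp g hgn
  obtain ⟨m, hm, rfl⟩ := exists_xEl (t.fix_oct fun i j hij hi hj hio hjo =>
    (mem_centralizer_iff.mp hg _ (t.duad_A0 hij hi hj hio hjo)).symm)
  have hfix : ∀ i < 16, actV (xAt i) v = v := by
    intro i hi
    have hxi : t.Ψ (64 * i) ∈ t.A0 := ⟨64 * i, by omega, rfl⟩
    have h1 := mem_centralizer_iff.mp hg _ hxi
    have e0 : t.Ψ (64 * i) = t.Φ 0 * t.s (xEl i) := by
      show t.Φ (avec (64 * i)) * t.s (xEl (64 * i / 64)) = _
      rw [Nat.mul_div_cancel_left _ (by norm_num : 0 < 64), avec_mod 0 (b := 64 * i) (by omega)]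
      unfold avec
      rw [xorCols_zero]
    rw [e0, t.mul_pair _ _ (repr_xEl hi) _ hv, t.mul_pair _ _ (repr_xEl hm) _ (by norm_num), actV_zero,
      Nat.xor_zero, Nat.zero_xor] at h1
    exact (t.pair_inj (actV_lt (repr_xEl hi) v) hv h1).1
  obtain ⟨a, ha, rfl⟩ := mem_uList (fixed_uList hv hfix)
  refine ⟨a + 64 * m, by omega, ?_⟩
  show t.Φ (avec a) * t.s (xEl m) = t.Φ (avec (a + 64 * m)) * t.s (xEl ((a + 64 * m) / 64))
  rw [Nat.add_mul_div_left _ _ (by norm_num : 0 < 64), Nat.div_eq_of_lt ha, Nat.zero_add,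
    avec_mod a (b := a + 64 * m) (by omega)]

end Ten

end CfsgLib.JankoFour.Ctx
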