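/-
The images in M24 of the self-centralizing elementary abelian subgroups of order 2^10 of the normalizer of V.
-/
import Cfsg.Agent.Lib.JankoFour.TenBase
import Cfsg.Agent.Lib.Golay.ElemCent

set_option autoImplicit false

namespace CfsgGolay.Ten

open Cfsg CfsgGolay

theorem twoB_checked : (Nat.ble 5 (echC e2B).length && okE (echC e2B)) = true := by decide +kernel

theorem syl_checked : sylowM24.checkBasic = true ∧ (spanC gSyl).length = 1024 := by
  refine ⟨?_, ?_⟩ <;> decide +kernel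

end CfsgGolay.Ten

namespace CfsgLib.JankoFour.Ctx

open Cfsg Subgroup CfsgGolay CfsgGolay.Ten
open scoped Pointwise

attribute [local irreducible] codeL octadL dodecadL slpCodes synd liftV actV pmask uList duadList avec recs spanC dotB bitRow insAll okE diffCols

universe u

variable {G : Type u} [Group G] [Finite G] {z : G} {P E : Subgroup G} {c : Ctx z P E} {A : Subgroup MTwoTwo}
  {o : c.Orb A}

namespace Ten

variable (t : Ten o)

/-- The permutation part of an element of the normalizer. -/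
noncomputable def perm : ↥(normalizer (c.vGrp A o.hA.1.1 : Set G)) →* ↥M24 where
  toFun n := (t.decomp n n.2).choose_spec.choose
  map_one' := by
    set n : ↥(normalizer (c.vGrp A o.hA.1.1 : Set G)) := 1
    obtain ⟨hv, e⟩ := (t.decomp n n.2).choose_spec.choose_spec
    refine (t.pair_inj hv (w := 0) (by norm_num) (h := 1) ?_).2
    rw [← e, t.Φ_zero, map_one, mul_one]; rfl
  map_mul' m n := by
    obtain ⟨hu, eu⟩ := (t.decomp _ (m * n).2).choose_spec.choose_spec
    obtain ⟨hv, ev⟩ := (t.decomp m m.2).choose_spec.choose_spec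
    obtain ⟨hw, ew⟩ := (t.decomp n n.2).choose_spec.choose_spec
    refine (t.pair_inj hu (w := _) ?_ (h := _) (eu.symm.trans ((congrArg₂ (· * ·) ev ew).trans
      (t.mul_pair _ _ (repr_codeP _) _ hw)))).2
    exact Nat.xor_lt_two_pow (n := 11) hv (actV_lt (repr_codeP _) _)

theorem perm_spec (n : ↥(normalizer (c.vGrp A o.hA.1.1 : Set G))) :
    ∃ v, v < 2048 ∧ (n : G) = t.Φ v * t.s (t.perm n) :=
  ⟨(t.decomp n n.2).choose, (t.decomp n n.2).choose_spec.choose_spec⟩

theorem perm_eq {n : ↥(normalizer (c.vGrp A o.hA.1.1 : Set G))} {v : ℕ} {g : ↥M24} (hv : v < 2048)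
    (h : (n : G) = t.Φ v * t.s g) : t.perm n = g := by
  obtain ⟨w, hw, e⟩ := t.perm_spec n
  exact (t.pair_inj hw hv (e.symm.trans h)).2

theorem perm_eq_one {n : ↥(normalizer (c.vGrp A o.hA.1.1 : Set G))} :
    t.perm n = 1 ↔ (n : G) ∈ c.vGrp A o.hA.1.1 := by
  obtain ⟨v, hv, e⟩ := t.perm_spec n
  constructor
  · intro h
    rw [e, h, map_one, mul_one]
    exact t.Φ_mem v
  · intro h
    refine t.s_inf _ ?_
    have h2 := mul_mem (inv_mem (t.Φ_mem v)) h
    rwa [e, inv_mul_cancel_left] at h2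

/-- An admissible subgroup. -/
structure Adm (B : Subgroup G) : Prop where
  le : B ≤ normalizer (c.vGrp A o.hA.1.1 : Set G)
  elem : IsElementaryAbelian 2 B
  card : Nat.card B = 2 ^ 10
  self : centralizer (B : Set G) = B

variable {t}

theorem Adm.comm {B : Subgroup G} (h : Adm (o := o) B) {x y : G} (hx : x ∈ B) (hy : y ∈ B) : x * y = y * x :=
  congrArg Subtype.val (h.elem.1.is_comm.comm (⟨x, hx⟩ : B) ⟨y, hy⟩)

theorem Adm.sq {B : Subgroup G} (h : Adm (o := o) B) {x : G} (hx : x ∈ B) : x * x = 1 := by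
  rw [← _root_.sq]; exact h.elem.2 x hx

theorem mem_conj {B : Subgroup G} {n x : G} : x ∈ conjSub B n ↔ n⁻¹ * x * n ∈ B := mem_conjSub

theorem Adm.conj {B : Subgroup G} (h : Adm (o := o) B) {n : G}
    (hn : n ∈ normalizer (c.vGrp A o.hA.1.1 : Set G)) : Adm (o := o) (conjSub B n) := by
  refine ⟨fun x hx => ?_, elem_map _ h.elem, by rw [card_conjSub, h.card], ?_⟩
  · have := mul_mem (mul_mem hn (h.le (mem_conjSub.mp hx))) (inv_mem hn)
    rwa [show n * (n⁻¹ * x * n) * n⁻¹ = x by group] at this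
  · have hs : ∀ y, y ∈ B ↔ ∀ b ∈ B, b * y = y * b := fun y => by
      conv_lhs => rw [← h.self]
      exact mem_centralizer_iff
    ext x
    rw [mem_centralizer_iff, mem_conjSub, hs]
    constructor
    · intro hx b hb
      have := hx (n * b * n⁻¹) (mem_conjSub.mpr (by rwa [show n⁻¹ * (n * b * n⁻¹) * n = b by group]))
      calc b * (n⁻¹ * x * n) = n⁻¹ * (n * b * n⁻¹ * x) * n := by group
        _ = n⁻¹ * x * n * b := by rw [this]; group
    · intro hx b hb
      have := hx (n⁻¹ * b * n) (mem_conjSub.mp hb)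
      calc b * x = n * (n⁻¹ * b * n * (n⁻¹ * x * n)) * n⁻¹ := by group
        _ = x * b := by rw [this]; group

variable (t)

/-- The image of an admissible subgroup. -/
noncomputable def image {B : Subgroup G} (h : Adm (o := o) B) : Subgroup ↥M24 :=
  (t.perm.comp (inclusion h.le)).range

theorem mem_image {B : Subgroup G} (h : Adm (o := o) B) {g : ↥M24} :
    g ∈ t.image h ↔ ∃ v, v < 2048 ∧ t.Φ v * t.s g ∈ B := by
  constructor
  · rintro ⟨b, rfl⟩
    obtain ⟨v, hv, e⟩ := t.perm_spec (inclusion h.le b)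
    exact ⟨v, hv, e ▸ b.2⟩
  · rintro ⟨v, hv, hm⟩
    exact ⟨⟨_, hm⟩, t.perm_eq hv rfl⟩

theorem image_mul {B : Subgroup G} (h : Adm (o := o) B) {g k : ↥M24} (hg : g ∈ t.image h) (hk : k ∈ t.image h) :
    g * k = k * g := by
  obtain ⟨a, rfl⟩ := hg
  obtain ⟨b, rfl⟩ := hk
  rw [← map_mul, ← map_mul]
  exact congrArg _ (Subtype.ext (h.comm a.2 b.2))

theorem image_sq {B : Subgroup G} (h : Adm (o := o) B) {g : ↥M24} (hg : g ∈ t.image h) : g * g = 1 := by
  obtain ⟨a, rfl⟩ := hg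
  rw [← map_mul, show a * a = 1 from Subtype.ext (h.sq a.2), map_one]

/-- The syndromes of the intersection with V. -/
noncomputable def fixF (B : Subgroup G) : Finset ℕ := by
  classical exact (Finset.range 2048).filter fun v => t.Φ v ∈ B

theorem mem_fixF {B : Subgroup G} {v : ℕ} : v ∈ t.fixF B ↔ v < 2048 ∧ t.Φ v ∈ B := by
  simp [Ten.fixF]

theorem card_fixF (B : Subgroup G) : (t.fixF B).card = Nat.card ↥(B ⊓ c.vGrp A o.hA.1.1) := by
  classical
  rw [← Nat.card_eq_finsetCard]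
  refine Nat.card_eq_of_bijective (fun v : ↥(t.fixF B) => (⟨t.Φ v, (t.mem_fixF.mp v.2).2, t.Φ_mem _⟩ :
    ↥(B ⊓ c.vGrp A o.hA.1.1))) ⟨fun a b e => Subtype.ext (t.Φ_inj _ _ (t.mem_fixF.mp a.2).1 (t.mem_fixF.mp b.2).1
    (congrArg Subtype.val e)), fun x => ?_⟩
  obtain ⟨v, hv, e⟩ := t.Φ_surj _ x.2.2
  exact ⟨⟨v, t.mem_fixF.mpr ⟨hv, e ▸ x.2.1⟩⟩, Subtype.ext e⟩

theorem card_split {B : Subgroup G} (h : Adm (o := o) B) :
    Nat.card (t.image h) * (t.fixF B).card = 1024 := by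
  set f := t.perm.comp (inclusion h.le) with hf
  have h1 := card_mul_index f.ker
  rw [Subgroup.index_ker, h.card] at h1
  have h2 : Nat.card f.ker = Nat.card ↥(B ⊓ c.vGrp A o.hA.1.1) := by
    refine Nat.card_eq_of_bijective (fun x : f.ker => (⟨((x : B) : G), (x : B).2,
      (t.perm_eq_one (n := inclusion h.le x)).mp x.2⟩ : ↥(B ⊓ c.vGrp A o.hA.1.1)))
      ⟨fun a b e => Subtype.ext (Subtype.ext (congrArg (fun y : ↥(B ⊓ c.vGrp A o.hA.1.1) => (y : G)) e)), fun y => ?_⟩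
    exact ⟨⟨⟨y, y.2.1⟩, (t.perm_eq_one (n := inclusion h.le ⟨y, y.2.1⟩)).mpr y.2.2⟩, rfl⟩
  rw [h2, ← t.card_fixF] at h1
  show Nat.card f.range * _ = _
  rw [mul_comm, h1]; norm_num

theorem fixed_of_mem {B : Subgroup G} (h : Adm (o := o) B) {g : ↥M24} (hg : g ∈ t.image h) {cd : ℕ}
    (hc : Repr cd (g : Equiv.Perm GolayPt)) {v : ℕ} (hv : v ∈ t.fixF B) : actV cd v = v := by
  obtain ⟨w, hw, hm⟩ := (t.mem_image h).mp hg
  obtain ⟨hv1, hv2⟩ := t.mem_fixF.mp hv
  have e := h.comm hm hv2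
  have h1 : t.s g * t.Φ v = t.Φ (actV cd v) * t.s g := mul_inv_eq_iff_eq_mul.mp (t.conj g cd hc v hv1)
  rw [mul_assoc, h1, ← mul_assoc, ← mul_assoc] at e
  have e2 : t.Φ w * t.Φ (actV cd v) = t.Φ v * t.Φ w := mul_right_cancel e
  rw [t.Φ_comm v w] at e2
  exact t.Φ_inj (actV cd v) v (actV_lt hc v) hv1 (mul_left_cancel e2)

theorem fix_bound {B : Subgroup G} (h : Adm (o := o) B) (cs : List ℕ) (rows : List ℕ)
    (hcs : ∀ cd ∈ cs, ∃ g ∈ t.image h, Repr cd (g : Equiv.Perm GolayPt))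
    (hrows : ∀ r ∈ rows, ∃ cd ∈ cs, ∃ j, r = bitRow (diffCols cd) j) (hok : okE (insAll [] rows) = true) :
    (t.fixF B).card ≤ 2 ^ (11 - (insAll [] rows).length) := by
  refine card_le_of_okE hok _ (fun v hv => (t.mem_fixF.mp hv).1) (orth_all _ (fun e he =>
    absurd he List.not_mem_nil) fun r hr v hv => ?_)
  obtain ⟨cd, hcd, j, rfl⟩ := hrows r hr
  obtain ⟨g, hg, hgr⟩ := hcs cd hcd
  exact row_orth _ _ (t.mem_fixF.mp hv).1 (t.fixed_of_mem h hg hgr hv)

theorem image_conj {B : Subgroup G} (h : Adm (o := o) B) (k : ↥M24) {g : ↥M24} (hg : g ∈ t.image h) :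
    k * g * k⁻¹ ∈ t.image (h.conj (t.s_mem k)) := by
  obtain ⟨v, hv, hm⟩ := (t.mem_image h).mp hg
  refine (t.mem_image _).mpr ⟨actV (codeP (k : Equiv.Perm GolayPt)) v, actV_lt (repr_codeP _) v, mem_conjSub.mpr ?_⟩
  rw [← t.conj k _ (repr_codeP _) v hv, map_mul, map_mul, map_inv,
    show (t.s k)⁻¹ * (t.s k * t.Φ v * (t.s k)⁻¹ * (t.s k * t.s g * (t.s k)⁻¹)) * t.s k = t.Φ v * t.s g by group]
  exact hm

theorem image_ne_bot {B : Subgroup G} (h : Adm (o := o) B) : ∃ g ∈ t.image h, g ≠ 1 := by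
  by_contra hall
  push Not at hall
  have hBV : B ≤ c.vGrp A o.hA.1.1 := fun b hb => by
    obtain ⟨v, hv, e⟩ := t.perm_spec (inclusion h.le ⟨b, hb⟩)
    have h1 : t.perm (inclusion h.le ⟨b, hb⟩) = 1 := hall _ ⟨⟨b, hb⟩, rfl⟩
    rw [h1, map_one, mul_one] at e
    exact (show b = t.Φ v from e) ▸ t.Φ_mem v
  have hVB : c.vGrp A o.hA.1.1 ≤ B := fun v hv => by
    rw [← h.self]
    exact mem_centralizer_iff.mpr fun b hb => o.Vcomm b (hBV hb) v hv
  have := card_le_of_le hVB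
  rw [(c.vGrp_facts o.hA.1).2, h.card] at this
  norm_num at this

theorem orderOf_image {B : Subgroup G} (h : Adm (o := o) B) {g : ↥M24} (hg : g ∈ t.image h) (hg1 : g ≠ 1) :
    orderOf (g : Equiv.Perm GolayPt) = 2 :=
  orderOf_eq_prime (p := 2) (by
    rw [_root_.sq]; exact congrArg Subtype.val (t.image_sq h hg)) fun e => hg1 (Subtype.ext e)

/-- The image contains an involution with fixed points. -/
theorem exists_fixing {B : Subgroup G} (h : Adm (o := o) B) :
    ∃ g ∈ t.image h, g ≠ 1 ∧ (CfsgGolay.fixF (g : Equiv.Perm GolayPt)).card ≠ 0 := by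
  classical
  by_contra hall
  push Not at hall
  set X := t.image h with hX
  obtain ⟨g, hg, hg1⟩ := t.image_ne_bot h
  obtain ⟨k, hk, hk2⟩ := class_2B g.2 (t.orderOf_image h hg hg1) (by rw [hall g hg hg1]; norm_num)
  have h' := h.conj (t.s_mem ⟨k, hk⟩)
  have hmem := t.image_conj h ⟨k, hk⟩ hg
  have hchk := twoB_checked
  simp only [Bool.and_eq_true, Nat.ble_eq] at hchk
  have hb := t.fix_bound h' [e2B] ((List.range 11).map (bitRow (diffCols e2B)))
    (fun cd hcd => by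
      rw [List.mem_singleton] at hcd
      subst hcd
      refine ⟨_, hmem, ?_⟩
      show Repr e2B (k * (g : Equiv.Perm GolayPt) * k⁻¹)
      rw [hk2]
      exact good_2B.1)
    (fun r hr => by obtain ⟨j, -, rfl⟩ := List.mem_map.mp hr; exact ⟨e2B, List.mem_singleton_self _, j, rfl⟩) hchk.2
  have hb' : (t.fixF (conjSub B (t.s ⟨k, hk⟩))).card ≤ 64 :=
    hb.trans (le_trans (Nat.pow_le_pow_right (by norm_num)
      (show 11 - (insAll [] ((List.range 11).map (bitRow (diffCols e2B)))).length ≤ 6 by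
        have : 5 ≤ (insAll [] ((List.range 11).map (bitRow (diffCols e2B)))).length := hchk.1
        omega)) (by norm_num))
  have hs := t.card_split h'
  -- the image acts without fixed points
  have hfree : ∀ (H : Subgroup ↥M24), (∀ x ∈ H, x ≠ 1 → (CfsgGolay.fixF (x : Equiv.Perm GolayPt)).card = 0) →
      Nat.card H ∣ 24 := by
    intro H hH
    have hst : ∀ p : GolayPt, MulAction.stabilizer ↥H p = ⊥ := fun p => (Subgroup.eq_bot_iff_forall _).mpr
      fun x hx => by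
        by_contra hx1
        have h0 := hH x x.2 fun e => hx1 (Subtype.ext e)
        rw [fixF_empty_iff] at h0
        exact h0 p hx
    have hc := Nat.card_congr (MulAction.selfEquivOrbitsQuotientProd (X := GolayPt) hst)
    rw [Nat.card_prod, Nat.card_eq_fintype_card (α := GolayPt)] at hc
    exact ⟨_, (show (24 : ℕ) = Fintype.card GolayPt by simp [Fintype.card_option, ZMod.card]).trans
      (hc.trans (mul_comm _ _))⟩
  have hd : Nat.card (t.image h') ∣ 24 := hfree _ fun x hx hx1 => by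
    obtain ⟨v, hv, hm⟩ := (t.mem_image h').mp hx
    have hy : (⟨k, hk⟩ : ↥M24)⁻¹ * x * ⟨k, hk⟩ ∈ X := by
      refine (t.mem_image h).mpr ⟨actV (codeP ((⟨k, hk⟩ : ↥M24)⁻¹ : ↥M24).1) v, actV_lt (repr_codeP _) v, ?_⟩
      rw [← t.conj _ _ (repr_codeP _) v hv, map_mul, map_mul, map_inv]
      have := mem_conjSub.mp hm
      rwa [show (t.s ⟨k, hk⟩)⁻¹ * t.Φ v * (t.s ⟨k, hk⟩)⁻¹⁻¹ * ((t.s ⟨k, hk⟩)⁻¹ * t.s x * t.s ⟨k, hk⟩) =
        (t.s ⟨k, hk⟩)⁻¹ * (t.Φ v * t.s x) * t.s ⟨k, hk⟩ by group]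
    have h0 := hall _ hy fun e => hx1 (by
      have e2 := congrArg (fun w => (⟨k, hk⟩ : ↥M24) * w * (⟨k, hk⟩ : ↥M24)⁻¹) e
      simpa [mul_assoc] using e2)
    rw [← card_fixF_conj k] at h0
    convert h0 using 4
    show (x : Equiv.Perm GolayPt) = k * (k⁻¹ * (x : Equiv.Perm GolayPt) * k) * k⁻¹
    group
  have h2 : Nat.card (t.image h') ∣ 1024 := ⟨_, hs.symm⟩
  have h8 : Nat.card (t.image h') ∣ 8 := by
    have := Nat.dvd_gcd hd h2
    rwa [show Nat.gcd 24 1024 = 8 by rfl] at this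
  have := Nat.mul_le_mul (Nat.le_of_dvd (by norm_num) h8) hb'
  omega

/-- The recorded involution as an element. -/
noncomputable def zEl : Equiv.Perm GolayPt := permDec recZ.c

end Ten

end CfsgLib.JankoFour.Ctx
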