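/-
Every self-centralizing elementary abelian subgroup of order 2^10 is conjugate to the standard one.
-/
import Cfsg.Agent.Lib.JankoFour.TenShape

set_option autoImplicit false

namespace CfsgGolay.Ten

open Cfsg CfsgGolay

attribute [local irreducible] codeL octadL dodecadL slpCodes

theorem recs_id {a b : Rec} (ha : a ∈ recs) (hb : b ∈ recs) (h : a.id = b.id) : a = b := by
  refine List.inj_on_of_nodup_map ?_ ha hb h
  have h := ids_checked
  rw [beq_iff_eq] at h
  rw [h]
  exact List.nodup_range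

theorem recs_com {a b : Rec} (ha : a ∈ recs) (hb : b ∈ recs) :
    a.id = b.id ∨ a.com.testBit b.id = true ∨ apartB a.c b.c = true := by
  have h := com_checked
  simp only [List.all_eq_true, Bool.or_eq_true] at h
  rcases h a ha b hb with (h | h) | h
  · exact Or.inr (Or.inl h)
  · exact Or.inl (Nat.eq_of_beq_eq_true h)
  · exact Or.inr (Or.inr h)

theorem not_apart {a b : ℕ} {g h : Equiv.Perm GolayPt} (hg : Repr a g) (hh : Repr b h) (e : g * h = h * g) :
    apartB a b = false := by
  rw [Bool.eq_false_iff]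
  intro hap
  simp only [apartB, List.any_eq_true, List.mem_range, Bool.not_eq_true'] at hap
  obtain ⟨i, hi, hne⟩ := hap
  have key : papp a (papp b i) = papp b (papp a i) := by
    have e1 := congrArg (fun k : Equiv.Perm GolayPt => idx (k (pt i))) e
    simp only [Equiv.Perm.mul_apply] at e1
    rwa [hg, hh, idx_pt hi, hh, hg, idx_pt hi] at e1
  rw [key, Nat.beq_refl] at hne
  exact absurd hne (by simp)

theorem recs_rows {a : Rec} (ha : a ∈ recs) {r : ℕ} (hr : r ∈ a.rows) : ∃ j, r = bitRow (diffCols a.c) j := by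
  have h := rows_checked
  simp only [List.all_eq_true] at h
  have h1 := h a ha
  rw [forceNs_eq] at h1
  simp only [List.all_eq_true] at h1
  obtain ⟨j, -, e⟩ := List.mem_map.mp (of_memB (h1 r hr))
  exact ⟨j, e.symm⟩

theorem mem_recsX {a : Rec} : a ∈ recsX ↔ a ∈ recs ∧ a.inX = true := List.mem_filter

theorem recsX_code {a : Rec} (ha : a ∈ recs) (hX : a.inX = true) : a.c ∈ xT := by
  have h := inX_checked
  simp only [List.all_eq_true] at h
  have h2 := h a ha
  simp only [hX, Bool.not_true, Bool.false_or] at h2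
  exact of_memB h2

end CfsgGolay.Ten

namespace CfsgLib.JankoFour.Ctx

open Cfsg Subgroup CfsgGolay CfsgGolay.Ten
open scoped Pointwise

attribute [local irreducible] codeL octadL dodecadL slpCodes synd liftV actV pmask uList duadList avec recs spanC dotB
  bitRow insAll okE diffCols recsX recZ echX xT qReps goS echC fixedMask

universe u

variable {G : Type u} [Group G] [Finite G] {z : G} {P E : Subgroup G} {c : Ctx z P E} {A : Subgroup MTwoTwo}
  {o : c.Orb A}

namespace Ten

variable (t : Ten o)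

/-- The Sylow subgroup inside the Mathieu group. -/
def sylP : Subgroup ↥M24 := (spanH gSyl).subgroupOf M24

theorem permOK_syl : ∀ cd ∈ gSyl, permOK cd = true := SylData.permOK_gens syl_checked.1

theorem spanH_le_M24 : spanH gSyl ≤ M24 := by
  have h := SylData.spanH_le_amb syl_checked.1
  rwa [show sylowM24.amb = M24 from subG_nil] at h

theorem card_sylP : Nat.card sylP = 2 ^ 10 := by
  rw [show Nat.card sylP = Nat.card (spanH gSyl) from Nat.card_congr (subgroupOfEquivOfLe spanH_le_M24).toEquiv,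
    show gSyl = sylowM24.gens from rfl, SylData.card_U syl_checked.1]
  have h := syl_checked.2
  rw [show gSyl = sylowM24.gens from rfl] at h
  rw [h]; norm_num

theorem exists_zEl : ∃ g : ↥M24, Repr recZ.c (g : Equiv.Perm GolayPt) ∧ g ∈ sylP ∧
    (∀ x ∈ sylP, g * x = x * g) ∧ orderOf (g : Equiv.Perm GolayPt) = 2 ∧
    (CfsgGolay.fixF (g : Equiv.Perm GolayPt)).card ≠ 0 := by
  obtain ⟨hcm, hfm, hsq, hmem, hne⟩ := z_checked
  obtain ⟨g, hg, e⟩ := spanC_sound permOK_syl _ (of_memB hmem)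
  have hrep : Repr recZ.c g := e ▸ repr_codeP g
  refine ⟨⟨g, spanH_le_M24 hg⟩, hrep, hg, fun x hx => Subtype.ext ?_, ?_, ?_⟩
  · show g * (x : Equiv.Perm GolayPt) = x * g
    have hx' : (x : Equiv.Perm GolayPt) ∈ spanH gSyl := hx
    refine ((Subgroup.closure_le (centralizer ({g} : Set (Equiv.Perm GolayPt)))).mpr ?_ hx' |>
      mem_centralizer_singleton_iff.mp).symm
    rintro y ⟨d, hd, hy⟩
    simp only [List.all_eq_true] at hcm
    have h1 := Nat.eq_of_beq_eq_true (hcm d hd)
    rw [pcomp_eq_codeP hrep hy, pcomp_eq_codeP hy hrep] at h1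
    exact mem_centralizer_singleton_iff.mpr (codeP_injective h1).symm
  · refine orderOf_eq_prime (p := 2) ?_ ?_
    · have h1 := Nat.eq_of_beq_eq_true hsq
      rw [pcomp_eq_codeP hrep hrep, pid_eq_codeP] at h1
      show g ^ 2 = 1
      rw [_root_.sq]; exact codeP_injective h1
    · intro h1
      have h2 : recZ.c = pid := by
        rw [← e, show g = 1 from h1, pid_eq_codeP]
      rw [h2, Nat.beq_refl] at hne
      exact absurd hne (by simp)
  · show (CfsgGolay.fixF g).card ≠ 0
    rw [fixF_repr hrep, card_toSet]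
    intro h0
    have h1 : toSet (fixedMask recZ.c) = toSet 0 := by
      rw [show toSet 0 = (∅ : Finset GolayPt) by ext p; simp]
      exact Finset.card_eq_zero.mp (by rw [card_toSet]; exact h0)
    have h2 := eq_of_toSet_eq (by
      unfold fixedMask
      exact orBits_lt fun i hi => List.mem_range.mp (List.mem_filter.mp hi).1) (by norm_num) h1
    rw [h2] at hfm
    exact absurd hfm (by decide)

/-- Up to conjugation the image lies in the Sylow subgroup and contains its central involution. -/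
theorem exists_central {B : Subgroup G} (h : Adm (o := o) B) :
    ∃ n ∈ normalizer (c.vGrp A o.hA.1.1 : Set G), ∃ h' : Adm (o := o) (conjSub B n),
      t.image h' ≤ sylP ∧ ∃ g ∈ t.image h', g ≠ 1 ∧ Repr recZ.c (g : Equiv.Perm GolayPt) := by
  classical
  haveI : Fact (Nat.Prime 2) := ⟨Nat.prime_two⟩
  obtain ⟨ζ, hrep, hζP, hζc, hζo, hζf⟩ := exists_zEl
  obtain ⟨g, hg, hg1, hgf⟩ := t.exists_fixing h
  obtain ⟨k1, hk1, e1⟩ := class_2A g.2 (t.orderOf_image h hg hg1) hgf
  obtain ⟨k2, hk2, e2⟩ := class_2A ζ.2 hζo hζf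
  set k : ↥M24 := ⟨k2, hk2⟩⁻¹ * ⟨k1, hk1⟩ with hk
  have hkg : k * g * k⁻¹ = ζ := by
    refine Subtype.ext ?_
    show k2⁻¹ * k1 * (g : Equiv.Perm GolayPt) * (k2⁻¹ * k1)⁻¹ = ζ
    rw [show k2⁻¹ * k1 * (g : Equiv.Perm GolayPt) * (k2⁻¹ * k1)⁻¹ = k2⁻¹ * (k1 * g * k1⁻¹) * k2 by group, e1, ← e2]
    group
  clear_value k
  have h1 := h.conj (t.s_mem k)
  have hz1 : ζ ∈ t.image h1 := hkg ▸ t.image_conj h k hg
  set C := centralizer ({ζ} : Set ↥M24) with hC
  have hXC : t.image h1 ≤ C := fun x hx => mem_centralizer_singleton_iff.mpr (t.image_mul h1 hx hz1)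
  have hPC : sylP ≤ C := fun x hx => mem_centralizer_singleton_iff.mpr (hζc x hx).symm
  have hp : IsPGroup 2 (t.image h1) := fun x => ⟨1, Subtype.ext (by
    rw [pow_one, coe_pow, _root_.sq]; exact t.image_sq h1 x.2)⟩
  have hfac : (Nat.card C).factorization 2 = 10 := by
    refine le_antisymm ?_ ?_
    · refine le_trans ((Nat.factorization_le_iff_dvd Nat.card_pos.ne' Nat.card_pos.ne').mpr
        (Subgroup.card_subgroup_dvd_card C) 2) (le_of_eq ?_)
      exact card_M24_facts.1
    · have hd : 2 ^ 10 ∣ Nat.card C := card_sylP ▸ card_dvd_of_le hPC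
      exact (Nat.Prime.pow_dvd_iff_le_factorization Nat.prime_two Nat.card_pos.ne').mp hd
  let S : Sylow 2 C := Sylow.ofCard (sylP.subgroupOf C) (by
    rw [hfac, Nat.card_congr (subgroupOfEquivOfLe hPC).toEquiv, card_sylP])
  obtain ⟨Q, hQ⟩ := (hp.comap_of_injective C.subtype C.subtype_injective).exists_le_sylow
  obtain ⟨⟨l, hl⟩, hlQ⟩ := MulAction.exists_smul_eq C Q S
  refine ⟨t.s l * t.s k, mul_mem (t.s_mem l) (t.s_mem k), ?_⟩
  rw [← conjSub_conjSub]
  refine ⟨h1.conj (t.s_mem l), fun y hy => ?_, ?_⟩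
  · obtain ⟨v, hv, hm⟩ := (t.mem_image _).mp hy
    have hy' : l⁻¹ * y * l ∈ t.image h1 := by
      refine (t.mem_image h1).mpr ⟨actV (codeP ((l⁻¹ : ↥M24) : Equiv.Perm GolayPt)) v, actV_lt (repr_codeP _) v, ?_⟩
      rw [← t.conj _ _ (repr_codeP _) v hv]
      simp only [map_mul, map_inv]
      have := mem_conjSub.mp hm
      rwa [show (t.s l)⁻¹ * t.Φ v * (t.s l)⁻¹⁻¹ * ((t.s l)⁻¹ * t.s y * t.s l) = (t.s l)⁻¹ * (t.Φ v * t.s y) * t.s l
        by group]
    have hm1 : (⟨l⁻¹ * y * l, hXC hy'⟩ : C) ∈ (Q : Subgroup C) := hQ hy'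
    have hm2 : MulAut.conj (⟨l, hl⟩ : C) ⟨l⁻¹ * y * l, hXC hy'⟩ ∈
        ((Q : Subgroup C).map (MulAut.conj (⟨l, hl⟩ : C)).toMonoidHom) := ⟨_, hm1, rfl⟩
    have hm3 : ((Q : Subgroup C).map (MulAut.conj (⟨l, hl⟩ : C)).toMonoidHom) = (S : Subgroup C) := by
      rw [← hlQ, Sylow.coe_subgroup_smul, Subgroup.pointwise_smul_def]; rfl
    rw [hm3] at hm2
    have hm4 : l * (l⁻¹ * y * l) * l⁻¹ ∈ sylP := hm2
    rwa [show l * (l⁻¹ * y * l) * l⁻¹ = y by group] at hm4
  · refine ⟨l * ζ * l⁻¹, t.image_conj h1 l hz1, fun e => ?_, ?_⟩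
    · have : (ζ : ↥M24) = 1 := by
        have e' := congrArg (fun w => l⁻¹ * w * l) e
        simpa [mul_assoc] using e'
      rw [this] at hζo
      simp at hζo
    · rw [show l * ζ * l⁻¹ = ζ by rw [mem_centralizer_singleton_iff.mp hl, mul_inv_cancel_right]]
      exact hrep

/-- The image is the pointwise stabiliser of the standard octad. -/
theorem image_sub {B : Subgroup G} (h : Adm (o := o) B) (hP : t.image h ≤ sylP)
    (hz : ∃ g ∈ t.image h, g ≠ 1 ∧ Repr recZ.c (g : Equiv.Perm GolayPt)) :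
    ∀ g ∈ t.image h, ∃ i < 16, g = xEl i := by
  classical
  set X := t.image h with hX
  let S : Rec → Prop := fun r => r ∈ recs ∧ ∃ g ∈ X, g ≠ 1 ∧ Repr r.c (g : Equiv.Perm GolayPt)
  have hfind : ∀ g ∈ X, g ≠ 1 → ∃ r, r ∈ recs ∧ Repr r.c (g : Equiv.Perm GolayPt) ∧
      r.c = codeP (g : Equiv.Perm GolayPt) := by
    intro g hg hg1
    have h1 : codeP (g : Equiv.Perm GolayPt) ∈ spanC gSyl :=
      spanC_complete permOK_syl (SylData.pc_gens syl_checked.1) _ (hP hg : (g : Equiv.Perm GolayPt) ∈ spanH gSyl)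
    have h2 := cover_checked
    unfold coverB at h2
    rw [forceNs_eq] at h2
    simp only [List.all_eq_true, Bool.or_eq_true, Bool.not_eq_true'] at h2
    have hne : (g : Equiv.Perm GolayPt) ≠ 1 := fun e => hg1 (Subtype.ext e)
    have hsq : pcomp (codeP (g : Equiv.Perm GolayPt)) (codeP (g : Equiv.Perm GolayPt)) = pid := by
      rw [pcomp_eq_codeP (repr_codeP _) (repr_codeP _), pid_eq_codeP]
      exact congrArg codeP (congrArg Subtype.val (t.image_sq h hg))
    rcases h2 _ h1 with (e | e) | e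
    · exfalso
      have := Nat.eq_of_beq_eq_true e
      rw [pid_eq_codeP] at this
      exact hne (codeP_injective this)
    · rw [hsq, Nat.beq_refl] at e; exact absurd e (by simp)
    · obtain ⟨r, hr, hre⟩ := List.mem_map.mp (of_memB e)
      exact ⟨r, hr, hre ▸ repr_codeP _, hre⟩
  set F := t.fixF B with hF
  have hsplit : Nat.card ↥X * F.card = 1024 := t.card_split h
  have hX1 : 1 ≤ Nat.card X := Nat.card_pos
  have hrowsF : ∀ a, S a → ∀ r ∈ a.rows, ∀ v ∈ F, dotB 11 r v = false := by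
    rintro a ⟨ha, g, hg, -, hgr⟩ r hr v hv
    obtain ⟨j, rfl⟩ := recs_rows ha hr
    exact row_orth _ _ (t.mem_fixF.mp hv).1 (t.fixed_of_mem h hg hgr hv)
  obtain ⟨ζ, hζ, hζ1, hζr⟩ := hz
  have hZS : S recZ := ⟨recs_split ▸ List.mem_cons_self .., ζ, hζ, hζ1, hζr⟩
  have hres := scan_checked
  have hall := goS_sound (S := S) (F := F) (n := Nat.card X - 1)
    (by rw [Nat.sub_add_cancel hX1]; exact hsplit)
    (fun L hL => by
      have himg : (Finset.univ.filter fun g : ↥X => (g : ↥M24) ≠ 1).image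
          (fun g : ↥X => codeP ((g : ↥M24) : Equiv.Perm GolayPt)) ⊆ (L.map Rec.c).toFinset := by
        intro x hx
        obtain ⟨g, hg, rfl⟩ := Finset.mem_image.mp hx
        simp only [Finset.mem_filter, Finset.mem_univ, true_and] at hg
        obtain ⟨r, hr, hrr, hre⟩ := hfind g g.2 hg
        exact List.mem_toFinset.mpr (List.mem_map.mpr ⟨r, hL r ⟨hr, g, g.2, hg, hrr⟩, hre⟩)
      have h3 := Finset.card_le_card himg
      rw [Finset.card_image_of_injective _ fun a b e => Subtype.ext (Subtype.ext (codeP_injective e))] at h3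
      have h4 : (Finset.univ.filter fun g : ↥X => (g : ↥M24) ≠ 1).card = Nat.card X - 1 := by
        rw [show (Finset.univ.filter fun g : ↥X => (g : ↥M24) ≠ 1) = Finset.univ.erase 1 by
          ext g; simp, Finset.card_erase_of_mem (Finset.mem_univ _), Finset.card_univ, Nat.card_eq_fintype_card]
      have h5 := (List.toFinset_card_le (L.map Rec.c)).trans (le_of_eq (List.length_map _))
      omega)
    (fun a b ha hb => by
      obtain ⟨ha', g, hg, -, hgr⟩ := ha
      obtain ⟨hb', k, hk, -, hkr⟩ := hb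
      rcases recs_com ha' hb' with e | e | e
      · exact Or.inl e
      · exact Or.inr e
      · rw [not_apart hgr hkr (congrArg Subtype.val (t.image_mul h hg hk))] at e
        exact absurd e (by simp))
    (fun a b ha hb e => recs_id ha.1 hb.1 e) hrowsF (fun v hv => (t.mem_fixF.mp hv).1)
    192 recs.tail 2 (insAll [] recZ.rows) recZ.inX [recZ] hres rfl (by simp)
    (orth_all _ (fun e he => absurd he List.not_mem_nil) (hrowsF recZ hZS))
    (fun r hr => by rw [List.mem_singleton] at hr; exact hr ▸ hZS)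
    (fun r hr => by
      have := hr.1
      rw [recs_split] at this
      exact this)
  have hxel : ∀ g ∈ X, ∃ i < 16, g = xEl i := fun g hg => by
    by_cases hg1 : g = 1
    · exact ⟨0, by norm_num, hg1.trans xEl_zero.symm⟩
    obtain ⟨r, hr, hrr, -⟩ := hfind g hg hg1
    obtain ⟨i, hi, e⟩ := mem_xT (recsX_code hr (hall r ⟨hr, g, hg, hg1, hrr⟩))
    exact ⟨i, hi, Subtype.ext ((e ▸ hrr).unique (repr_xEl hi))⟩
  exact hxel

theorem image_card_le {B : Subgroup G} (h : Adm (o := o) B) (hP : t.image h ≤ sylP)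
    (hz : ∃ g ∈ t.image h, g ≠ 1 ∧ Repr recZ.c (g : Equiv.Perm GolayPt)) : Nat.card (t.image h) ≤ 16 := by
  have hs := t.image_sub h hP hz
  let f : ↥(t.image h) → Fin 16 := fun g => ⟨(hs g g.2).choose, (hs g g.2).choose_spec.1⟩
  have hinj : Function.Injective f := fun a b e => Subtype.ext (by
    rw [(hs a a.2).choose_spec.2, (hs b b.2).choose_spec.2]
    exact congrArg xEl (congrArg Fin.val e))
  have := Nat.card_le_card_of_injective f hinj
  rwa [Nat.card_fin] at this

theorem image_eq {B : Subgroup G} (h : Adm (o := o) B) (hP : t.image h ≤ sylP)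
    (hz : ∃ g ∈ t.image h, g ≠ 1 ∧ Repr recZ.c (g : Equiv.Perm GolayPt)) :
    ∀ i < 16, xEl i ∈ t.image h := by
  classical
  set X := t.image h with hX
  let S : Rec → Prop := fun r => r ∈ recs ∧ ∃ g ∈ X, g ≠ 1 ∧ Repr r.c (g : Equiv.Perm GolayPt)
  have hfind : ∀ g ∈ X, g ≠ 1 → ∃ r, r ∈ recs ∧ Repr r.c (g : Equiv.Perm GolayPt) ∧
      r.c = codeP (g : Equiv.Perm GolayPt) := by
    intro g hg hg1
    have h1 : codeP (g : Equiv.Perm GolayPt) ∈ spanC gSyl :=
      spanC_complete permOK_syl (SylData.pc_gens syl_checked.1) _ (hP hg : (g : Equiv.Perm GolayPt) ∈ spanH gSyl)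
    have h2 := cover_checked
    unfold coverB at h2
    rw [forceNs_eq] at h2
    simp only [List.all_eq_true, Bool.or_eq_true, Bool.not_eq_true'] at h2
    have hne : (g : Equiv.Perm GolayPt) ≠ 1 := fun e => hg1 (Subtype.ext e)
    have hsq : pcomp (codeP (g : Equiv.Perm GolayPt)) (codeP (g : Equiv.Perm GolayPt)) = pid := by
      rw [pcomp_eq_codeP (repr_codeP _) (repr_codeP _), pid_eq_codeP]
      exact congrArg codeP (congrArg Subtype.val (t.image_sq h hg))
    rcases h2 _ h1 with (e | e) | e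
    · exfalso
      have := Nat.eq_of_beq_eq_true e
      rw [pid_eq_codeP] at this
      exact hne (codeP_injective this)
    · rw [hsq, Nat.beq_refl] at e; exact absurd e (by simp)
    · obtain ⟨r, hr, hre⟩ := List.mem_map.mp (of_memB e)
      exact ⟨r, hr, hre ▸ repr_codeP _, hre⟩
  set F := t.fixF B with hF
  have hsplit : Nat.card ↥X * F.card = 1024 := t.card_split h
  have hX1 : 1 ≤ Nat.card X := Nat.card_pos
  have hrowsF : ∀ a, S a → ∀ r ∈ a.rows, ∀ v ∈ F, dotB 11 r v = false := by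
    rintro a ⟨ha, g, hg, -, hgr⟩ r hr v hv
    obtain ⟨j, rfl⟩ := recs_rows ha hr
    exact row_orth _ _ (t.mem_fixF.mp hv).1 (t.fixed_of_mem h hg hgr hv)
  obtain ⟨ζ, hζ, hζ1, hζr⟩ := hz
  have hZS : S recZ := ⟨recs_split ▸ List.mem_cons_self .., ζ, hζ, hζ1, hζr⟩
  have hres := scan_checked
  have hall := goS_sound (S := S) (F := F) (n := Nat.card X - 1)
    (by rw [Nat.sub_add_cancel hX1]; exact hsplit)
    (fun L hL => by
      have himg : (Finset.univ.filter fun g : ↥X => (g : ↥M24) ≠ 1).image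
          (fun g : ↥X => codeP ((g : ↥M24) : Equiv.Perm GolayPt)) ⊆ (L.map Rec.c).toFinset := by
        intro x hx
        obtain ⟨g, hg, rfl⟩ := Finset.mem_image.mp hx
        simp only [Finset.mem_filter, Finset.mem_univ, true_and] at hg
        obtain ⟨r, hr, hrr, hre⟩ := hfind g g.2 hg
        exact List.mem_toFinset.mpr (List.mem_map.mpr ⟨r, hL r ⟨hr, g, g.2, hg, hrr⟩, hre⟩)
      have h3 := Finset.card_le_card himg
      rw [Finset.card_image_of_injective _ fun a b e => Subtype.ext (Subtype.ext (codeP_injective e))] at h3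
      have h4 : (Finset.univ.filter fun g : ↥X => (g : ↥M24) ≠ 1).card = Nat.card X - 1 := by
        rw [show (Finset.univ.filter fun g : ↥X => (g : ↥M24) ≠ 1) = Finset.univ.erase 1 by
          ext g; simp, Finset.card_erase_of_mem (Finset.mem_univ _), Finset.card_univ, Nat.card_eq_fintype_card]
      have h5 := (List.toFinset_card_le (L.map Rec.c)).trans (le_of_eq (List.length_map _))
      omega)
    (fun a b ha hb => by
      obtain ⟨ha', g, hg, -, hgr⟩ := ha
      obtain ⟨hb', k, hk, -, hkr⟩ := hb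
      rcases recs_com ha' hb' with e | e | e
      · exact Or.inl e
      · exact Or.inr e
      · rw [not_apart hgr hkr (congrArg Subtype.val (t.image_mul h hg hk))] at e
        exact absurd e (by simp))
    (fun a b ha hb e => recs_id ha.1 hb.1 e) hrowsF (fun v hv => (t.mem_fixF.mp hv).1)
    192 recs.tail 2 (insAll [] recZ.rows) recZ.inX [recZ] hres rfl (by simp)
    (orth_all _ (fun e he => absurd he List.not_mem_nil) (hrowsF recZ hZS))
    (fun r hr => by rw [List.mem_singleton] at hr; exact hr ▸ hZS)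
    (fun r hr => by
      have := hr.1
      rw [recs_split] at this
      exact this)
  have hxel : ∀ g ∈ X, ∃ i < 16, g = xEl i := fun g hg => by
    by_cases hg1 : g = 1
    · exact ⟨0, by norm_num, hg1.trans xEl_zero.symm⟩
    obtain ⟨r, hr, hrr, -⟩ := hfind g hg hg1
    obtain ⟨i, hi, e⟩ := mem_xT (recsX_code hr (hall r ⟨hr, g, hg, hg1, hrr⟩))
    exact ⟨i, hi, Subtype.ext ((e ▸ hrr).unique (repr_xEl hi))⟩
  have hbound : ∀ (L : List Rec) (k : ℕ), (∀ r ∈ L, S r) → okE (echX L) = true → k ≤ (echX L).length →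
      F.card ≤ 2 ^ (11 - k) := by
    intro L k hL hok hk
    unfold echX at hok hk
    refine (card_le_of_okE hok F (fun v hv => (t.mem_fixF.mp hv).1)
      (orth_all _ (fun e he => absurd he List.not_mem_nil) fun r hr => ?_)).trans
      (Nat.pow_le_pow_right (by norm_num) (by omega))
    obtain ⟨a, ha, hra⟩ := List.mem_flatMap.mp hr
    exact hrowsF a (hL a ha) r hra
  have hzX : recZ.inX = true := hall _ hZS
  have hsg := single_checked
  have hpr := pair_checked
  simp only [List.all_eq_true, Bool.and_eq_true, Nat.ble_eq] at hsg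
  obtain ⟨ha4, haok⟩ := hsg recZ (mem_recsX.mpr ⟨hZS.1, hzX⟩)
  have hF4 := hbound [recZ] 4 (by simpa using hZS) haok ha4
  norm_num at hF4
  have h8 : 8 ≤ Nat.card X := by
    have h9 : Nat.card ↥X * F.card ≤ Nat.card ↥X * 128 := Nat.mul_le_mul le_rfl hF4
    rw [hsplit] at h9
    omega
  obtain ⟨g, hg, hg1, hgz⟩ : ∃ g ∈ X, g ≠ 1 ∧ g ≠ ζ := by
    by_contra hall'
    push Not at hall'
    have hsub : (X : Set ↥M24) ⊆ {1, ζ} := fun g hg => by
      by_cases e : g = 1
      · exact Or.inl e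
      · exact Or.inr (hall' g hg e)
    have := (Set.ncard_le_ncard hsub).trans (Set.ncard_insert_le _ _)
    rw [Set.ncard_singleton, ← Nat.card_coe_set_eq, SetLike.coe_sort_coe] at this
    omega
  obtain ⟨r, hr, hrr, -⟩ := hfind g hg hg1
  have hrS : S r := ⟨hr, g, hg, hg1, hrr⟩
  simp only [List.all_eq_true] at hpr
  have hp := hpr recZ (mem_recsX.mpr ⟨hZS.1, hzX⟩) r (mem_recsX.mpr ⟨hr, hall r hrS⟩)
  rw [Bool.or_eq_true, forceE_eq, Bool.and_eq_true, Nat.ble_eq] at hp
  have hF5 : F.card ≤ 64 := by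
    rcases hp with e | ⟨e5, eok⟩
    · exfalso
      have e2 := recs_id hZS.1 hr (Nat.eq_of_beq_eq_true e)
      exact hgz (Subtype.ext (hrr.unique (e2 ▸ hζr)))
    · have := hbound [recZ, r] 5 (fun x hx => by
        simp only [List.mem_cons, List.not_mem_nil, or_false] at hx
        rcases hx with rfl | rfl
        exacts [hZS, hrS]) eok e5
      norm_num at this
      exact this
  have h16 : 16 ≤ Nat.card X := by
    have h9 : Nat.card ↥X * F.card ≤ Nat.card ↥X * 64 := Nat.mul_le_mul le_rfl hF5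
    rw [hsplit] at h9
    omega
  intro i hi
  let f : ↥X → Fin 16 := fun g => ⟨(hxel g g.2).choose, (hxel g g.2).choose_spec.1⟩
  have hf : ∀ g : ↥X, (g : ↥M24) = xEl (f g).1 := fun g => (hxel g g.2).choose_spec.2
  have hinj : Function.Injective f := fun a b e => Subtype.ext (by rw [hf a, hf b, e])
  have hbij : Function.Bijective f := by
    refine (Nat.bijective_iff_injective_and_card f).mpr ⟨hinj, ?_⟩
    have := Nat.card_le_card_of_injective f hinj
    rw [Nat.card_fin] at this ⊢
    omega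
  obtain ⟨g, hg'⟩ := hbij.2 ⟨i, hi⟩
  have := hf g
  rw [hg'] at this
  exact this ▸ g.2

theorem xEl_one {i : ℕ} (hi : i < 4) : 2 ^ i < 16 := by
  calc 2 ^ i ≤ 2 ^ 3 := Nat.pow_le_pow_right (by norm_num) (by omega)
    _ < 16 := by norm_num

theorem Ψ_high {i : ℕ} (hi : i < 16) : t.Ψ (64 * i) = t.s (xEl i) := by
  show t.Φ (avec (64 * i)) * t.s (xEl (64 * i / 64)) = _
  rw [Nat.mul_div_cancel_left _ (by norm_num : 0 < 64), avec_mod 0 (b := 64 * i) (by omega)]
  unfold avec
  rw [xorCols_zero, t.Φ_zero, one_mul]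

theorem avec_zero : avec 0 = 0 := by
  unfold avec
  exact xorCols_zero _

/-- Normal form inside the normalizer of V. -/
theorem normal_form {B : Subgroup G} (h : Adm (o := o) B) :
    ∃ m ∈ normalizer (c.vGrp A o.hA.1.1 : Set G), conjSub B m = t.A0 := by
  classical
  obtain ⟨n, hn, h', hP, hz⟩ := t.exists_central h
  have hX := t.image_eq h' hP hz
  set C := conjSub B n with hC
  -- the elements of U
  have hU : ∀ v ∈ uList, t.Φ v ∈ C := by
    intro v hv
    rw [← SetLike.mem_coe, ← h'.self]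
    refine mem_centralizer_iff.mpr fun b hb => ?_
    obtain ⟨w, hw, e⟩ := t.perm_spec (inclusion h'.le ⟨b, hb⟩)
    have hperm : t.perm (inclusion h'.le ⟨b, hb⟩) ∈ t.image h' := ⟨⟨b, hb⟩, rfl⟩
    have hxel : ∃ i < 16, t.perm (inclusion h'.le ⟨b, hb⟩) = xEl i := by
      have h16 : Nat.card (t.image h') ≤ 16 := t.image_card_le h' hP hz
      let f : Fin 16 → ↥(t.image h') := fun i => ⟨xEl i, hX i i.2⟩
      have hf : Function.Injective f := fun i j e => Fin.ext (xEl_inj i.2 j.2 (congrArg Subtype.val e))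
      obtain ⟨i, hi⟩ := ((Nat.bijective_iff_injective_and_card f).mpr ⟨hf, le_antisymm
        (Nat.card_le_card_of_injective f hf) (by rw [Nat.card_fin]; exact h16)⟩).2 ⟨_, hperm⟩
      exact ⟨i, i.2, (congrArg Subtype.val hi).symm⟩
    obtain ⟨i, hi, ei⟩ := hxel
    rw [ei] at e
    have hc := t.conj (xEl i) _ (repr_xEl hi) v (uList_lt hv)
    rw [uList_fix hv (xAt_mem hi)] at hc
    rw [show b = t.Φ w * t.s (xEl i) from e, mul_assoc, mul_inv_eq_iff_eq_mul.mp hc, ← mul_assoc, t.Φ_comm w v,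
      mul_assoc]
  -- lifts of the generators
  have hlift : ∀ i < 4, ∃ v, v < 2048 ∧ t.Φ v * t.s (xEl (2 ^ i)) ∈ C := fun i hi =>
    (t.mem_image h').mp (hX _ (xEl_one hi))
  choose v hv hvC using hlift
  have hgen := gen_fix_checked
  simp only [List.all_eq_true, List.mem_range, forceN_eq, Bool.and_eq_true, Bool.not_eq_true', Nat.blt_eq,
    Nat.ble_eq] at hgen
  have hrep : ∀ i (hi : i < 4), ∃ b : Bool, (v i hi ^^^ (if b then qReps.getD i 0 else 0)) ∈ uList := by
    intro i hi
    obtain ⟨⟨⟨⟨hq, hqf⟩, hqU⟩, hlen⟩, hok⟩ := hgen i hi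
    have hfixv : actV (xAt (2 ^ i)) (v i hi) = v i hi := by
      have hsq := h'.sq (hvC i hi)
      rw [t.mul_pair _ _ (repr_xEl (xEl_one hi)) _ (hv i hi)] at hsq
      rw [show xEl (2 ^ i) * xEl (2 ^ i) = 1 by
        rw [xEl_mul (xEl_one hi) (xEl_one hi), Nat.xor_self, xEl_zero], map_one, mul_one, ← t.Φ_zero] at hsq
      exact (Nat.xor_eq_zero_iff.mp (t.Φ_inj _ 0 (Nat.xor_lt_two_pow (n := 11) (hv i hi)
        (actV_lt (repr_xEl (xEl_one hi)) _)) (by norm_num) hsq)).symm
    set q := qReps.getD i 0 with hqdef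
    set F := (Finset.range 2048).filter (fun w => Nat.beq (actV (xAt (2 ^ i)) w) w = true) with hFdef
    have hF : ∀ w, w ∈ F ↔ w < 2048 ∧ actV (xAt (2 ^ i)) w = w := fun w => by
      simp [hFdef]
    have hFc : F.card ≤ 128 := by
      refine le_trans (card_le_of_okE hok F (fun w hw => ((hF w).mp hw).1) ?_) ?_
      · unfold echC
        refine orth_all _ (fun e he => absurd he List.not_mem_nil) fun r hr w hw => ?_
        obtain ⟨j, -, rfl⟩ := List.mem_map.mp hr
        exact row_orth _ _ ((hF w).mp hw).1 ((hF w).mp hw).2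
      · exact le_trans (Nat.pow_le_pow_right (by norm_num) (show 11 - _ ≤ 7 by omega)) (by norm_num)
    set U' := uList.toFinset with hU'
    have hU64 : U'.card = 64 := by
      rw [hU', List.toFinset_card_of_nodup nodup_uList]
      unfold uList
      rw [List.length_map, List.length_range]
    have hsub : U' ∪ U'.image (fun u => u ^^^ q) ⊆ F := by
      intro w hw
      rcases Finset.mem_union.mp hw with hw | hw
      · have hw' := List.mem_toFinset.mp hw
        exact (hF w).mpr ⟨uList_lt hw', uList_fix hw' (xAt_mem (xEl_one hi))⟩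
      · obtain ⟨u, hu, rfl⟩ := Finset.mem_image.mp hw
        have hu' := List.mem_toFinset.mp hu
        refine (hF _).mpr ⟨Nat.xor_lt_two_pow (n := 11) (uList_lt hu') hq, ?_⟩
        rw [actV_xor, uList_fix hu' (xAt_mem (xEl_one hi)), Nat.eq_of_beq_eq_true hqf]
    have hdisj : Disjoint U' (U'.image (fun u => u ^^^ q)) := by
      rw [Finset.disjoint_left]
      intro w hw hw2
      obtain ⟨u, hu, e⟩ := Finset.mem_image.mp hw2
      obtain ⟨a, ha, ea⟩ := mem_uList (List.mem_toFinset.mp hu)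
      obtain ⟨b, hb, eb⟩ := mem_uList (List.mem_toFinset.mp hw)
      have hqm : q ∈ uList := by
        have e2 : q = avec (a ^^^ b) := by
          have e3 : avec (a ^^^ b) = avec a ^^^ avec b := by unfold avec; exact xorCols_xor _ _ _
          rw [e3, ea, eb, ← e, ← Nat.xor_assoc, Nat.xor_self, Nat.zero_xor]
        exact e2 ▸ avec_mem _
      have : CfsgGolay.memB q uList = true := List.any_eq_true.mpr ⟨q, hqm, Nat.beq_refl q⟩
      rw [this] at hqU
      exact absurd hqU (by simp)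
    have heq := Finset.eq_of_subset_of_card_le hsub (by
      rw [Finset.card_union_of_disjoint hdisj, Finset.card_image_of_injective _ fun a b e => by
        simpa [Nat.xor_assoc] using congrArg (· ^^^ q) e, hU64]
      exact hFc)
    have hmem : v i hi ∈ U' ∪ U'.image (fun u => u ^^^ q) := heq ▸ (hF _).mpr ⟨hv i hi, hfixv⟩
    rcases Finset.mem_union.mp hmem with hm | hm
    · exact ⟨false, by simpa using List.mem_toFinset.mp hm⟩
    · obtain ⟨u, hu, e⟩ := Finset.mem_image.mp hm
      refine ⟨true, ?_⟩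
      rw [if_pos rfl, ← e, Nat.xor_assoc, Nat.xor_self, Nat.xor_zero]
      exact List.mem_toFinset.mp hu
  choose b hb using hrep
  -- adjust to representatives
  let bb : ℕ := orBits ((List.range 4).filter fun i => if h : i < 4 then b i h else false)
  have hbb : ∀ i (hi : i < 4), bb.testBit i = b i hi := fun i hi => by
    rw [Bool.eq_iff_iff, testBit_orBits, List.mem_filter]
    simp [hi]
  have hlt : bb < 16 := orBits_lt (n := 4) fun i hi => List.mem_range.mp (List.mem_filter.mp hi).1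
  have hmem : ∀ i < 4, t.Φ (liftAt qReps bb i) * t.s (xEl (2 ^ i)) ∈ C := by
    intro i hi
    have hl : liftAt qReps bb i = v i hi ^^^ (v i hi ^^^ (if b i hi then qReps.getD i 0 else 0)) := by
      rw [← Nat.xor_assoc, Nat.xor_self, Nat.zero_xor, liftAt, hbb i hi]
    rw [hl, t.Φ_mul, t.Φ_comm, mul_assoc]
    exact mul_mem (hU _ (hb i hi)) (hvC i hi)
  have hq2 : ∀ i < 4, liftAt qReps bb i < 2048 := fun i hi => by
    unfold liftAt
    split_ifs
    · obtain ⟨⟨⟨⟨hq, -⟩, -⟩, -⟩, -⟩ := hgen i hi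
      exact hq
    · norm_num
  have hlc := lift_checked
  simp only [forceNs_eq, List.all_eq_true, List.mem_range, Bool.or_eq_true, List.any_eq_true, Bool.not_eq_true'] at hlc
  rcases hlc bb hlt with ⟨i, hi, j, hj, hne⟩ | ⟨w, hw, hwU⟩
  · exfalso
    have e := h'.comm (hmem i hi) (hmem j hj)
    rw [t.mul_pair _ _ (repr_xEl (xEl_one hi)) _ (hq2 j hj), t.mul_pair _ _ (repr_xEl (xEl_one hj)) _ (hq2 i hi)] at e
    have e2 := (t.pair_inj (Nat.xor_lt_two_pow (n := 11) (hq2 i hi) (actV_lt (repr_xEl (xEl_one hi)) _))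
      (Nat.xor_lt_two_pow (n := 11) (hq2 j hj) (actV_lt (repr_xEl (xEl_one hj)) _)) e).1
    rw [e2, Nat.beq_refl] at hne
    exact absurd hne (by simp)
  have hw2 : w < 2048 := by
    simp only [List.mem_cons, List.not_mem_nil, or_false] at hw
    rcases hw with rfl | rfl <;> decide
  refine ⟨t.Φ w * n, mul_mem (le_normalizer (t.Φ_mem w)) hn, ?_⟩
  rw [← conjSub_conjSub]
  have h'' := h'.conj (le_normalizer (t.Φ_mem w) : t.Φ w ∈ normalizer (c.vGrp A o.hA.1.1 : Set G))
  set D := conjSub C (t.Φ w) with hD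
  have hwi : (t.Φ w)⁻¹ = t.Φ w := inv_eq_of_mul_eq_one_left (t.Φ_sq w)
  have hUD : ∀ u ∈ uList, t.Φ u ∈ D := fun u hu => mem_conjSub.mpr (by
    rw [hwi, t.Φ_comm w u, mul_assoc, t.Φ_sq, mul_one]
    exact hU u hu)
  have hgenD : ∀ i < 4, t.Ψ (64 * 2 ^ i) ∈ D := by
    intro i hi
    rw [t.Ψ_high (xEl_one hi)]
    refine mem_conjSub.mpr ?_
    have hu := of_memB (hwU i hi)
    obtain ⟨a, -, ea⟩ := mem_uList hu
    have hkey : (t.Φ w)⁻¹ * t.s (xEl (2 ^ i)) * t.Φ w =
        t.Φ (liftAt qReps bb i ^^^ (w ^^^ actV (xAt (2 ^ i)) w)) * (t.Φ (liftAt qReps bb i) * t.s (xEl (2 ^ i))) := by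
      have h1 : t.s (xEl (2 ^ i)) * t.Φ w = t.Φ (actV (xAt (2 ^ i)) w) * t.s (xEl (2 ^ i)) :=
        mul_inv_eq_iff_eq_mul.mp (t.conj _ _ (repr_xEl (xEl_one hi)) w hw2)
      rw [hwi, mul_assoc, h1, ← mul_assoc, ← mul_assoc, ← t.Φ_mul, ← t.Φ_mul]
      congr 2
      rw [Nat.xor_comm (liftAt qReps bb i), Nat.xor_assoc, Nat.xor_self, Nat.xor_zero]
    rw [hkey]
    exact mul_mem (hU _ hu) (hmem i hi)
  have hle : t.A0 ≤ D := by
    rintro _ ⟨a, ha, rfl⟩
    have hlow : ∀ a < 64, t.Ψ a ∈ D := fun a ha => t.Ψ_low ha ▸ hUD _ (avec_mem a)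
    have hb : ∀ k ≤ 4, ∀ a < 64 * 2 ^ k, t.Ψ a ∈ D := by
      intro k
      induction k with
      | zero => intro _ a ha; exact hlow a (by simpa using ha)
      | succ k ih =>
        intro hk a ha
        by_cases hlt' : a < 64 * 2 ^ k
        · exact ih (by omega) a hlt'
        have h2k : 64 * 2 ^ k * 2 ≤ 1024 := by
          calc 64 * 2 ^ k * 2 = 64 * 2 ^ (k + 1) := by ring
            _ ≤ 64 * 2 ^ 4 := Nat.mul_le_mul le_rfl (Nat.pow_le_pow_right (by norm_num) hk)
            _ = 1024 := by norm_num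
        have hsub : a - 64 * 2 ^ k < 64 * 2 ^ k := by
          have : a < 64 * 2 ^ k * 2 := by rw [mul_assoc, ← pow_succ]; exact ha
          omega
        have hxor : a = (64 * 2 ^ k) ^^^ (a - 64 * 2 ^ k) := by
          have e64 : 64 * 2 ^ k = 2 ^ (6 + k) := by rw [pow_add]; norm_num
          rw [e64] at hlt' hsub ⊢
          conv_lhs => rw [show a = 2 ^ (6 + k) + (a - 2 ^ (6 + k)) by omega]
          apply Nat.eq_of_testBit_eq
          intro j
          rw [Nat.testBit_xor, Nat.testBit_two_pow]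
          rcases lt_trichotomy j (6 + k) with hj | rfl | hj
          · rw [Nat.testBit_two_pow_add_gt hj]; simp [hj.ne']
          · rw [Nat.testBit_two_pow_add_eq, Nat.testBit_lt_two_pow hsub]; simp
          · rw [Nat.testBit_lt_two_pow (lt_of_lt_of_le (show 2 ^ (6 + k) + (a - 2 ^ (6 + k)) < 2 ^ (6 + k + 1) by
              rw [pow_succ]; omega) (Nat.pow_le_pow_right (by norm_num) hj)),
              Nat.testBit_lt_two_pow (lt_of_lt_of_le hsub (Nat.pow_le_pow_right (by norm_num) hj.le))]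
            simp [hj.ne]
        rw [hxor, ← t.Ψ_mul (by omega) (by omega)]
        exact mul_mem (hgenD k (by omega)) (ih (by omega) _ hsub)
    exact hb 4 le_rfl a (by simpa using ha)
  exact (eq_of_le_of_card_ge hle (by rw [h''.card, t.card_A0])).symm

end Ten

end CfsgLib.JankoFour.Ctx
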