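/-
The conjugacy class of self-centralizing subgroups of order 2^10, and the elements moved into V.
-/
import Cfsg.Agent.Lib.JankoFour.TenNormal
import Cfsg.Agent.Lib.JankoFour.OrbFuse
import Cfsg.Agent.Lib.JankoFour.TenChecksOrb

set_option autoImplicit false

namespace CfsgLib.JankoFour.Ctx

open Cfsg Subgroup CfsgGolay CfsgGolay.Ten
open scoped Pointwise

attribute [local irreducible] codeL octadL dodecadL slpCodes synd liftV actV pmask uList duadList avec recs spanC dotB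
  bitRow insAll okE diffCols recsX recZ echX xT

universe u

variable {G : Type u} [Group G] [Finite G] {z : G} {P E : Subgroup G} {c : Ctx z P E} {A : Subgroup MTwoTwo}
  {o : c.Orb A}

namespace Ten

variable (t : Ten o)

theorem conjSub_one (B : Subgroup G) : conjSub B 1 = B := by
  ext x; rw [mem_conjSub]; simp

theorem self_conj {B : Subgroup G} (h : centralizer (B : Set G) = B) (n : G) :
    centralizer (conjSub B n : Set G) = conjSub B n := by
  have hs : ∀ y, y ∈ B ↔ ∀ b ∈ B, b * y = y * b := fun y => by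
    conv_lhs => rw [← h]
    exact mem_centralizer_iff
  ext x
  rw [mem_centralizer_iff, mem_conjSub, hs]
  constructor
  · intro hx b hb
    have := hx (n * b * n⁻¹) (mem_conjSub.mpr (by rwa [show n⁻¹ * (n * b * n⁻¹) * n = b by group]))
    calc b * (n⁻¹ * x * n) = n⁻¹ * (n * b * n⁻¹ * x) * n := by group
      _ = n⁻¹ * x * n * b := by rw [this]; group
  · intro hx b hb
    have := hx (n⁻¹ * b * n) (mem_conjSub.mp hb)
    calc b * x = n * (n⁻¹ * b * n * (n⁻¹ * x * n)) * n⁻¹ := by group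
      _ = x * b := by rw [this]; group

theorem adm_conj {B : Subgroup G} (hel : IsElementaryAbelian 2 B) (hc : Nat.card B = 2 ^ 10)
    (hs : centralizer (B : Set G) = B) {n : G}
    (hn : conjSub B n ≤ normalizer (c.vGrp A o.hA.1.1 : Set G)) : Adm (o := o) (conjSub B n) :=
  ⟨hn, elem_map _ hel, by rw [card_conjSub, hc], self_conj hs n⟩

theorem mem_norm_A0 {n : G} (h : conjSub t.A0 n = t.A0) : n ∈ normalizer (t.A0 : Set G) :=
  mem_norm_of fun x hx => h ▸ mem_conjSub.mpr (by rwa [show n⁻¹ * (n * x * n⁻¹) * n = x by group])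

theorem norm_conjSub_eq {B : Subgroup G} {n : G} (hn : n ∈ normalizer (B : Set G)) : conjSub B n = B := by
  ext x
  rw [mem_conjSub]
  exact ((mem_normalizer_iff''.mp hn) x).symm

/-- A two-group centralizing z or an element of T can be moved into the normalizer of V, the element into V. -/
theorem move_in {B : Subgroup G} (hB : IsPGroup 2 B) {x : G} (hBx : ∀ b ∈ B, b * x = x * b)
    (hx : c.IsZ x ∨ ∃ g, g * x * g⁻¹ ∈ c.Tset (c.vGrp A o.hA.1.1)) :
    ∃ k : G, conjSub B k ≤ normalizer (c.vGrp A o.hA.1.1 : Set G) ∧ k * x * k⁻¹ ∈ c.vGrp A o.hA.1.1 := by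
  classical
  haveI : Fact (Nat.Prime 2) := ⟨Nat.prime_two⟩
  set V := c.vGrp A o.hA.1.1 with hV
  have hcomm : ∀ (k : G), ∀ b ∈ conjSub B k, b * (k * x * k⁻¹) = k * x * k⁻¹ * b := fun k b hb => by
    have := hBx _ (mem_conjSub.mp hb)
    calc b * (k * x * k⁻¹) = k * (k⁻¹ * b * k * x) * k⁻¹ := by group
      _ = k * x * k⁻¹ * b := by rw [this]; group
  rcases hx with hz | ⟨g, hg⟩
  · obtain ⟨g, hg⟩ := hz
    have hgx : g⁻¹ * x * g⁻¹⁻¹ = z := by rw [← hg]; group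
    obtain ⟨T0, hT0, hET0⟩ := c.exists_sylow
    have hB1 : IsPGroup 2 (conjSub B g⁻¹) := hB.map _
    obtain ⟨h, hh, hin⟩ := c.into_T T0 hT0 hB1 fun b hb => mem_centralizer_singleton_iff.mpr (by
      have := hcomm g⁻¹ b hb
      rwa [hgx] at this)
    obtain ⟨V1, ⟨hV1, hV1el, hV1c⟩, huniq⟩ := c.unique_two_eleven T0 hT0 hET0
    obtain ⟨g1, hg1⟩ := c.two_eleven_conj o.hA.1 hV1el hV1c
    have hg1' : conjSub V g1 = V1 := hg1
    have hzV1 : z ∈ V1 := by
      rw [← hg1', mem_conjSub]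
      refine c.cent_vGrp o.hA fun v hv => ?_
      have hv1 : g1 * v * g1⁻¹ ∈ (T0 : Subgroup G) := hV1 (hg1' ▸ mem_conjSub.mpr (by
        rwa [show g1⁻¹ * (g1 * v * g1⁻¹) * g1 = v by group]))
      have := mem_centralizer_singleton_iff.mp (hT0 hv1)
      calc g1⁻¹ * z * g1 * v = g1⁻¹ * (z * (g1 * v * g1⁻¹)) * g1 := by group
        _ = v * (g1⁻¹ * z * g1) := by rw [← this]; group
    have hnorm : ∀ s ∈ (T0 : Subgroup G), g1⁻¹ * s * g1 ∈ normalizer (V : Set G) := by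
      intro s hs
      have hs1 : V1.map (MulAut.conj s).toMonoidHom = V1 := huniq _ ⟨by
        rintro _ ⟨v, hv, rfl⟩
        exact mul_mem (mul_mem hs (hV1 hv)) (inv_mem hs), elem_map _ hV1el, by
          rw [card_map_of_injective (MulAut.conj s).injective, hV1c]⟩
      refine mem_norm_of fun v hv => ?_
      have h1 : g1 * v * g1⁻¹ ∈ V1 := hg1' ▸ mem_conjSub.mpr (by
        rwa [show g1⁻¹ * (g1 * v * g1⁻¹) * g1 = v by group])
      have h2 : s * (g1 * v * g1⁻¹) * s⁻¹ ∈ V1 := hs1.le ⟨_, h1, rfl⟩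
      rw [← hg1', mem_conjSub] at h2
      rwa [show g1⁻¹ * s * g1 * v * (g1⁻¹ * s * g1)⁻¹ = g1⁻¹ * (s * (g1 * v * g1⁻¹) * s⁻¹) * g1 by group]
    refine ⟨g1⁻¹ * h * g⁻¹, fun b hb => ?_, ?_⟩
    · rw [← conjSub_conjSub, mem_conjSub] at hb
      have h2 := hin _ hb
      have h3 := hnorm _ h2
      rwa [show g1⁻¹ * (h * ((g1⁻¹ * h)⁻¹ * b * (g1⁻¹ * h)) * h⁻¹) * g1 = b by group] at h3
    · rw [show g1⁻¹ * h * g⁻¹ * x * (g1⁻¹ * h * g⁻¹)⁻¹ = g1⁻¹ * (h * (g⁻¹ * x * g⁻¹⁻¹) * h⁻¹) * g1 by group, hgx,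
        c.Z_conj hh (mem_zpowers z)]
      rw [← hg1', mem_conjSub] at hzV1
      exact hzV1
  · exact ⟨g, fun b hb => o.cent_T hg (mem_centralizer_singleton_iff.mpr (hcomm g b hb)), hg.1⟩

include t in
theorem exists_K : ∃ K : Subgroup G, K ≤ normalizer (c.vGrp A o.hA.1.1 : Set G) ∧
    K ⊓ c.vGrp A o.hA.1.1 = ⊥ ∧ K ⊔ c.vGrp A o.hA.1.1 = normalizer (c.vGrp A o.hA.1.1 : Set G) := by
  refine ⟨t.s.range, ?_, ?_, ?_⟩
  · rintro _ ⟨g, rfl⟩; exact t.s_mem g
  · refine (Subgroup.eq_bot_iff_forall _).mpr ?_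
    rintro _ ⟨⟨g, rfl⟩, hg⟩
    rw [t.s_inf g hg, map_one]
  · refine le_antisymm (sup_le (by rintro _ ⟨g, rfl⟩; exact t.s_mem g) le_normalizer) fun n hn => ?_
    obtain ⟨v, g, -, rfl⟩ := t.decomp n hn
    exact mul_mem (mem_sup_right (t.Φ_mem v)) (mem_sup_left ⟨g, rfl⟩)

include t in
/-- Every involution is of one of the two types. -/
theorem invol {x : G} (hx2 : x * x = 1) (hx1 : x ≠ 1) :
    c.IsZ x ∨ ∃ g : G, g * x * g⁻¹ ∈ c.Tset (c.vGrp A o.hA.1.1) := by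
  obtain ⟨K, hKN, hKV, hKsup⟩ := t.exists_K
  exact o.invol_class hKN hKV hKsup hx2 hx1

/-- Every self-centralizing elementary abelian subgroup of order 2^10 is conjugate to the standard one. -/
theorem conj_A0 {B : Subgroup G} (hel : IsElementaryAbelian 2 B) (hc : Nat.card B = 2 ^ 10)
    (hs : centralizer (B : Set G) = B) : ∃ g : G, conjSub B g = t.A0 := by
  classical
  obtain ⟨x, hx, hx1⟩ : ∃ x ∈ B, x ≠ 1 := by
    by_contra hall
    push Not at hall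
    rw [(Subgroup.eq_bot_iff_forall B).mpr hall, Subgroup.card_bot] at hc
    norm_num at hc
  have hx2 : x * x = 1 := by rw [← _root_.sq]; exact hel.2 x hx
  obtain ⟨k, hk, -⟩ := move_in (o := o) (IsPGroup.of_card (n := 10) hc)
    (fun b hb => congrArg Subtype.val (hel.1.is_comm.comm (⟨b, hb⟩ : B) ⟨x, hx⟩)) (t.invol hx2 hx1)
  obtain ⟨m, -, hm⟩ := t.normal_form (adm_conj hel hc hs hk)
  exact ⟨m * k, by rw [← conjSub_conjSub, hm]⟩

/-- An element of the standard group is conjugate in its normalizer into V. -/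
theorem into_U {a : ℕ} (ha : a < 1024) (ha0 : a ≠ 0) :
    ∃ n ∈ normalizer (t.A0 : Set G), ∃ b, b < 64 ∧ b ≠ 0 ∧ n * t.Ψ a * n⁻¹ = t.Ψ b := by
  classical
  have hmem : t.Ψ a ∈ t.A0 := ⟨a, ha, rfl⟩
  have hne : t.Ψ a ≠ 1 := fun e => ha0 (t.Ψ_inj ha (by norm_num) (e.trans t.Ψ_zero.symm))
  obtain ⟨k, hk, hkV⟩ := move_in (o := o) (IsPGroup.of_card (n := 10) t.card_A0)
    (fun b hb => congrArg Subtype.val (t.elem_A0.1.is_comm.comm (⟨b, hb⟩ : t.A0) ⟨_, hmem⟩))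
    (t.invol (t.Ψ_sq ha) hne)
  obtain ⟨m, hmN, hm⟩ := t.normal_form (adm_conj t.elem_A0 t.card_A0 t.cent_A0 hk)
  have hn : conjSub t.A0 (m * k) = t.A0 := by rw [← conjSub_conjSub, hm]
  have h1 : m * k * t.Ψ a * (m * k)⁻¹ ∈ t.A0 := (mem_normalizer_iff.mp (t.mem_norm_A0 hn) _).mp hmem
  have h2 : m * k * t.Ψ a * (m * k)⁻¹ ∈ c.vGrp A o.hA.1.1 := by
    rw [show m * k * t.Ψ a * (m * k)⁻¹ = m * (k * t.Ψ a * k⁻¹) * m⁻¹ by group]
    exact (mem_normalizer_iff.mp hmN _).mp hkV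
  obtain ⟨b, hb, e⟩ := h1
  refine ⟨_, t.mem_norm_A0 hn, b, (t.Ψ_mem_V hb).mp (e ▸ h2), fun h0 => hne ?_, e⟩
  rw [h0, t.Ψ_zero] at e
  exact conj_eq_one_iff.mp e

end Ten

end CfsgLib.JankoFour.Ctx
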