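/-
The two orbits of the normalizer on a self-centralizing elementary abelian subgroup of order 2^10.
-/
import Cfsg.Agent.Lib.JankoFour.TenClass
import Cfsg.Agent.Lib.Golay.Sextets

set_option autoImplicit false

namespace CfsgGolay.Ten

open Cfsg CfsgGolay
open scoped Pointwise

attribute [local irreducible] codeL octadL dodecadL slpCodes

/-- The stabiliser of the octad in M24. -/
theorem card_octStab :
    Nat.card ↥(MulAction.stabilizer ↥M24 (toSet octM)) = 322560 := by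
  have h1 := Subgroup.card_mul_index (MulAction.stabilizer ↥M24 (toSet octM))
  have h2 : (MulAction.orbit ↥M24 (toSet octM)) = octads := by
    rw [octads_eq_orbit]
    refine MulAction.orbit_eq_iff.mpr ?_
    rw [← octads_eq_orbit]
    exact octM_mem
  rw [MulAction.index_stabilizer, h2, octads_ncard, CfsgGolay.card_M24] at h1
  exact Nat.eq_of_mul_eq_mul_right (by norm_num : 0 < 759) (h1.trans (by norm_num))

theorem xor_units {a : ℕ} (ha : a < 1024) : xorCols [1, 2, 4, 8, 16, 32, 64, 128, 256, 512] a = a :=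
  Nat.eq_of_beq_eq_true (List.all_eq_true.mp units_checked a (List.mem_range.mpr ha))

theorem mem_units {m : ℕ} (hm : m ∈ [1, 2, 4, 8, 16, 32, 64, 128, 256, 512]) : ∃ i < 10, m = 2 ^ i := by
  simp only [List.mem_cons, List.not_mem_nil, or_false] at hm
  rcases hm with h | h | h | h | h | h | h | h | h | h <;> subst h
  exacts [⟨0, by decide⟩, ⟨1, by decide⟩, ⟨2, by decide⟩, ⟨3, by decide⟩, ⟨4, by decide⟩, ⟨5, by decide⟩,
    ⟨6, by decide⟩, ⟨7, by decide⟩, ⟨8, by decide⟩, ⟨9, by decide⟩]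

/-- A property of the numbers below 1024 closed under exclusive or. -/
theorem ind_units {Q : ℕ → Prop} (h0 : Q 0) (hx : ∀ a b, a < 1024 → b < 1024 → Q a → Q b → Q (a ^^^ b))
    (hu : ∀ i < 10, Q (2 ^ i)) {a : ℕ} (ha : a < 1024) : Q a := by
  have h := xorCols_ind (P := fun m => m < 1024 ∧ Q m) ⟨by norm_num, h0⟩
    (fun x y hx' hy' => ⟨Nat.xor_lt_two_pow (n := 10) hx'.1 hy'.1, hx x y hx'.1 hy'.1 hx'.2 hy'.2⟩)
    [1, 2, 4, 8, 16, 32, 64, 128, 256, 512] (fun m hm => by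
      obtain ⟨i, hi, rfl⟩ := mem_units hm
      exact ⟨lt_of_le_of_lt (Nat.pow_le_pow_right (by norm_num) (show i ≤ 9 by omega)) (by norm_num), hu i hi⟩) a
  rw [xor_units ha] at h
  exact h.2

theorem xorCols_two_pow : ∀ (M : List ℕ) (i : ℕ), xorCols M (2 ^ i) = M.getD i 0
  | [], i => by simp [xorCols]
  | m :: M, 0 => by simp [xorCols, xorCols_zero]
  | m :: M, i + 1 => by
    simp only [xorCols, List.getD_cons_succ]
    rw [pow_succ, Nat.mul_mod_left, Nat.mul_div_cancel _ two_pos, xorCols_two_pow M i]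
    simp

theorem testBit_maskOf {L : List ℕ} {a : ℕ} : (maskOf L).testBit a = true ↔ a ∈ L := testBit_orBits

theorem mem_zMask {a : ℕ} : zMask.testBit a = true ↔ a ∈ orbList 0 ∨ a ∈ orbList 2 := by
  rw [← Nat.eq_of_beq_eq_true zMask_checked, Nat.testBit_or, Bool.or_eq_true, testBit_maskOf, testBit_maskOf]

theorem mem_tMask {a : ℕ} : tMask.testBit a = true ↔ a ∈ orbList 1 ∨ a ∈ orbList 3 := by
  rw [← Nat.eq_of_beq_eq_true tMask_checked, Nat.testBit_or, Bool.or_eq_true, testBit_maskOf, testBit_maskOf]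

theorem mask_cases {a : ℕ} (ha : a < 1024) (ha0 : a ≠ 0) : zMask.testBit a = true ∨ tMask.testBit a = true := by
  have h := List.all_eq_true.mp masks_cover a (List.mem_range.mpr ha)
  rw [Bool.or_eq_true, Bool.or_eq_true] at h
  rcases h with (h | h) | h
  · exact absurd (Nat.eq_of_beq_eq_true h) ha0
  · exact Or.inl h
  · exact Or.inr h

theorem orb_spec {k a : ℕ} (hk : k < 4) (ha : a ∈ orbList k) : a < 1024 ∧ a ≠ 0 ∧ (a < 64 ↔ k < 2) := by
  have h := orb_sizes_checked.2.1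
  simp only [List.all_eq_true, List.mem_range, Bool.and_eq_true, Nat.blt_eq, Bool.not_eq_true',
    beq_iff_eq] at h
  obtain ⟨⟨h1, h2⟩, h3⟩ := h k hk a ha
  refine ⟨h1, fun e => by rw [e] at h2; exact absurd h2 (by simp), ?_⟩
  rw [← Nat.blt_eq, ← Nat.blt_eq, h3]

theorem orb_length : (orbList 0).length = 35 ∧ (orbList 1).length = 28 ∧ (orbList 2).length = 120 ∧
    (orbList 3).length = 840 := by
  have h := orb_sizes_checked.1
  simp only [List.range_succ, List.range_zero, List.nil_append, List.map_append, List.map_cons, List.map_nil,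
    List.cons_append, List.cons.injEq, and_true] at h
  exact h

end CfsgGolay.Ten

namespace CfsgLib.JankoFour.Ctx

open Cfsg Subgroup CfsgGolay CfsgGolay.Ten
open scoped Pointwise

attribute [local irreducible] codeL octadL dodecadL slpCodes synd liftV actV pmask uList duadList avec recs spanC dotB
  bitRow insAll okE diffCols recsX recZ echX xT orbList zMask tMask orbCerts dGens seed

universe u

variable {G : Type u} [Group G] [Finite G] {z : G} {P E : Subgroup G} {c : Ctx z P E} {A : Subgroup MTwoTwo}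
  {o : c.Orb A}

namespace Ten

variable (t : Ten o)

omit [Finite G] in
theorem card_orbit_mul (H : Subgroup G) (x : G) :
    Set.ncard {v : G | ∃ n ∈ H, n * x * n⁻¹ = v} * Nat.card ↥(H ⊓ centralizer ({x} : Set G)) = Nat.card H := by
  letI : MulAction ↥H G := MulAction.compHom G ((MulAut.conj : G →* MulAut G).comp H.subtype)
  have ho : MulAction.orbit ↥H x = {v : G | ∃ n ∈ H, n * x * n⁻¹ = v} := by
    ext v
    exact ⟨fun ⟨n, e⟩ => ⟨n, n.2, e⟩, fun ⟨n, hn, e⟩ => ⟨⟨n, hn⟩, e⟩⟩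
  have hs : Nat.card ↥(MulAction.stabilizer ↥H x) = Nat.card ↥(H ⊓ centralizer ({x} : Set G)) := by
    refine Nat.card_congr ⟨fun n => ⟨n.1.1, n.1.2, mem_centralizer_singleton_iff.mpr ?_⟩,
      fun n => ⟨⟨n.1, n.2.1⟩, ?_⟩, fun n => rfl, fun n => rfl⟩
    · exact mul_inv_eq_iff_eq_mul.mp (show n.1.1 * x * n.1.1⁻¹ = x from n.2)
    · exact (mul_inv_eq_iff_eq_mul.mpr (mem_centralizer_singleton_iff.mp n.2.2) : n.1 * x * n.1⁻¹ = x)
  rw [← ho, ← MulAction.index_stabilizer, mul_comm, ← hs]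
  exact card_mul_index _

/-- The elements of the normalizer of the standard group that normalize V. -/
def dGrp : Subgroup G := normalizer (t.A0 : Set G) ⊓ normalizer (c.vGrp A o.hA.1.1 : Set G)

theorem conj_lin {n : G} {M : List ℕ} (hM : M.all (fun m => Nat.blt m 1024) = true)
    (hbas : ∀ i < 10, n * t.Ψ (2 ^ i) * n⁻¹ = t.Ψ (M.getD i 0)) {a : ℕ} (ha : a < 1024) :
    xorCols M a < 1024 ∧ n * t.Ψ a * n⁻¹ = t.Ψ (xorCols M a) := by
  have hlt : ∀ b, xorCols M b < 1024 := xorCols_ind (P := fun m => m < 1024) (by norm_num)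
    (fun _ _ hx hy => Nat.xor_lt_two_pow (n := 10) hx hy) M
    (fun m hm => Nat.blt_eq.mp (List.all_eq_true.mp hM m hm))
  refine ⟨hlt a, ind_units (Q := fun b => n * t.Ψ b * n⁻¹ = t.Ψ (xorCols M b)) ?_ ?_ ?_ ha⟩
  · rw [t.Ψ_zero, xorCols_zero, t.Ψ_zero]; group
  · intro a b ha hb h1 h2
    rw [xorCols_xor, ← t.Ψ_mul (hlt a) (hlt b), ← h1, ← h2, ← t.Ψ_mul ha hb]
    group
  · intro i hi
    rw [xorCols_two_pow]
    exact hbas i hi

theorem dGen_mem {d : ℕ × ℕ × List ℕ} (hd : d ∈ dGens) :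
    ∃ n ∈ t.dGrp, ∀ a < 1024, xorCols d.2.2 a < 1024 ∧ n * t.Ψ a * n⁻¹ = t.Ψ (xorCols d.2.2 a) := by
  have h := dGens_checked
  simp only [List.all_eq_true, Bool.and_eq_true, List.mem_range, forceN_eq] at h
  obtain ⟨⟨⟨⟨⟨⟨h1, h2⟩, h3⟩, -⟩, -⟩, h6⟩, h7⟩ := h d hd
  obtain ⟨g, hg⟩ := exists_repr_of_permOK h2
  set σ : ↥M24 := ⟨g, mem_M24_of_gensKept hg h3⟩ with hσ
  set n := t.Φ d.1 * t.s σ with hn
  have hM : (d.2.2).all (fun m => Nat.blt m 1024) = true := List.all_eq_true.mpr h6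
  have hbas : ∀ i < 10, n * t.Ψ (2 ^ i) * n⁻¹ = t.Ψ ((d.2.2).getD i 0) := by
    intro i hi
    have ha : 2 ^ i < 1024 := lt_of_le_of_lt (Nat.pow_le_pow_right (by norm_num) (show i ≤ 9 by omega)) (by norm_num)
    obtain ⟨e1, e2⟩ := h7 i hi
    set a := 2 ^ i
    set b := (d.2.2).getD i 0 with hb
    have hb1 : b < 1024 := by
      rw [hb]
      by_cases hl : i < (d.2.2).length
      · rw [List.getD_eq_getElem _ _ hl]
        exact Nat.blt_eq.mp (h6 _ (List.getElem_mem hl))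
      · rw [List.getD_eq_default _ _ (not_lt.mp hl)]; norm_num
    have hx : a / 64 < 16 := by omega
    have hy : b / 64 < 16 := by omega
    have e1' : xEl (b / 64) * σ = σ * xEl (a / 64) := by
      refine Subtype.ext ?_
      have hh := Nat.eq_of_beq_eq_true e1
      unfold aperm at hh
      rw [pcomp_eq_codeP (repr_xEl hy) hg, pcomp_eq_codeP hg (repr_xEl hx)] at hh
      exact codeP_injective hh
    have e2' : avec b = d.1 ^^^ actV d.2.1 (avec a) ^^^ actV (xAt (b / 64)) d.1 := Nat.eq_of_beq_eq_true e2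
    rw [mul_inv_eq_iff_eq_mul, hn]
    show t.Φ d.1 * t.s σ * (t.Φ (avec a) * t.s (xEl (a / 64))) =
      t.Φ (avec b) * t.s (xEl (b / 64)) * (t.Φ d.1 * t.s σ)
    rw [t.mul_pair _ _ hg _ (uList_lt (avec_mem a)),
      t.mul_pair _ _ (repr_xEl hy) _ (Nat.blt_eq.mp h1), e1', e2', Nat.xor_assoc, Nat.xor_self, Nat.xor_zero]
  have hlin := fun a (ha : a < 1024) => t.conj_lin hM hbas ha
  refine ⟨n, ⟨mem_norm_of ?_, mul_mem (le_normalizer (t.Φ_mem _)) (t.s_mem _)⟩, hlin⟩
  rintro _ ⟨a, ha, rfl⟩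
  exact ⟨_, (hlin a ha).1, (hlin a ha).2⟩

theorem orb_conj {k a : ℕ} (hk : k < 4) (ha : a ∈ orbList k) :
    ∃ n ∈ t.dGrp, n * t.Ψ (seed k) * n⁻¹ = t.Ψ a := by
  have hsd := seeds_checked
  simp only [Bool.and_eq_true, List.all_eq_true, Nat.blt_eq] at hsd
  have key : ∀ (st : List (ℕ × ℕ)), (∀ x ∈ st, x.1 < dGens.length) → ∀ L : List ℕ,
      (∀ b ∈ L, b < 1024 ∧ (b ≠ 0 → ∃ n ∈ t.dGrp, n * t.Ψ (seed k) * n⁻¹ = t.Ψ b)) →
      ∀ b ∈ replay st L, b < 1024 ∧ (b ≠ 0 → ∃ n ∈ t.dGrp, n * t.Ψ (seed k) * n⁻¹ = t.Ψ b) := by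
    intro st
    induction st with
    | nil => intro _ L hL; simpa [replay] using hL
    | cons x st ih =>
      intro hx L hL
      simp only [replay, forceN_eq]
      refine ih (fun y hy => hx y (List.mem_cons_of_mem _ hy)) _ fun b hb => ?_
      rcases List.mem_append.mp hb with hb | hb
      · exact hL b hb
      rw [List.mem_singleton] at hb
      subst hb
      have hd : dGens.getD x.1 (0, 0, []) ∈ dGens := by
        rw [List.getD_eq_getElem _ _ (hx x (List.mem_cons_self ..))]; exact List.getElem_mem _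
      obtain ⟨n, hn, hlin⟩ := t.dGen_mem hd
      by_cases hl : x.2 < L.length
      · rw [List.getD_eq_getElem _ _ hl]
        obtain ⟨hlt, hc⟩ := hL _ (List.getElem_mem hl)
        refine ⟨(hlin _ hlt).1, fun hne => ?_⟩
        obtain ⟨m, hm, e⟩ := hc fun e => hne (by rw [e, xorCols_zero])
        refine ⟨n * m, mul_mem hn hm, ?_⟩
        rw [← (hlin _ hlt).2, ← e]
        group
      · rw [List.getD_eq_default _ _ (not_lt.mp hl), xorCols_zero]
        exact ⟨by norm_num, fun h => absurd rfl h⟩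
  obtain ⟨ha1, ha0, -⟩ := orb_spec hk ha
  have hseed : seed k < 1024 := by
    have : ∀ j < 4, seed j < 1024 := by unfold seed orbCerts; decide +kernel
    exact this k hk
  unfold orbList at ha
  refine (key _ (fun x hx => ?_) [seed k] (fun b hb => ?_) a (by unfold seed; exact ha)).2 ha0
  · refine hsd.2 (orbCerts.getD k (0, [])) ?_ x hx
    have hlen : orbCerts.length = 4 := by unfold orbCerts; rfl
    rw [List.getD_eq_getElem _ _ (by omega)]
    exact List.getElem_mem _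
  · rw [List.mem_singleton] at hb
    subst hb
    exact ⟨hseed, fun _ => ⟨1, one_mem _, by group⟩⟩

theorem orb_conj₂ {k a b : ℕ} (hk : k < 4) (ha : a ∈ orbList k) (hb : b ∈ orbList k) :
    ∃ n ∈ t.dGrp, n * t.Ψ a * n⁻¹ = t.Ψ b := by
  obtain ⟨m, hm, e⟩ := t.orb_conj hk ha
  obtain ⟨n, hn, e'⟩ := t.orb_conj hk hb
  refine ⟨n * m⁻¹, mul_mem hn (inv_mem hm), ?_⟩
  rw [← e, ← e']
  group

theorem low_type {a : ℕ} (ha : a < 64) :
    t.Ψ a ∈ c.Tset (c.vGrp A o.hA.1.1) ↔ tMask.testBit a = true := by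
  have h := CfsgGolay.Ten.duad_checked
  simp only [forceNs_eq, Bool.and_eq_true, List.all_eq_true, List.mem_range, forceN_eq, beq_iff_eq] at h
  rw [t.Ψ_low ha, t.tset _ (uList_lt (avec_mem a)), ← mem_duadList, ← h.2 a ha]
  exact ⟨fun hm => List.any_eq_true.mpr ⟨_, hm, Nat.beq_refl _⟩, of_memB⟩

theorem low_cases {a : ℕ} (ha : a < 64) (ha0 : a ≠ 0) :
    (c.IsZ (t.Ψ a) ∧ a ∈ orbList 0) ∨ (¬ c.IsZ (t.Ψ a) ∧ a ∈ orbList 1) := by
  have hne : t.Ψ a ≠ 1 := fun e => ha0 (t.Ψ_inj (by omega) (by norm_num) (e.trans t.Ψ_zero.symm))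
  have hV := (t.Ψ_mem_V (show a < 1024 by omega)).mpr ha
  by_cases ht : tMask.testBit a = true
  · refine Or.inr ⟨((t.low_type ha).mpr ht).2.2, ?_⟩
    exact (mem_tMask.mp ht).resolve_right fun h => absurd ((orb_spec (by norm_num) h).2.2.mp ha) (by norm_num)
  · refine Or.inl ⟨?_, ?_⟩
    · by_contra hz
      exact ht ((t.low_type ha).mp ⟨hV, hne, hz⟩)
    · exact (mem_zMask.mp ((mask_cases (by omega) ha0).resolve_right ht)).resolve_right
        fun h => absurd ((orb_spec (by norm_num) h).2.2.mp ha) (by norm_num)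

/-- Elements of the standard group of the same type are conjugate in its normalizer. -/
theorem type_conj {a b : ℕ} (ha : a < 1024) (ha0 : a ≠ 0) (hb : b < 1024) (hb0 : b ≠ 0)
    (h : c.IsZ (t.Ψ a) ↔ c.IsZ (t.Ψ b)) : ∃ n ∈ normalizer (t.A0 : Set G), n * t.Ψ a * n⁻¹ = t.Ψ b := by
  obtain ⟨n, hn, a', ha', ha0', ea⟩ := t.into_U ha ha0
  obtain ⟨m, hm, b', hb', hb0', eb⟩ := t.into_U hb hb0
  have hza : c.IsZ (t.Ψ a) ↔ c.IsZ (t.Ψ a') := by rw [← ea]; exact (c.isZ_iff n _).symm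
  have hzb : c.IsZ (t.Ψ b) ↔ c.IsZ (t.Ψ b') := by rw [← eb]; exact (c.isZ_iff m _).symm
  obtain ⟨k, hk, e⟩ : ∃ k ∈ t.dGrp, k * t.Ψ a' * k⁻¹ = t.Ψ b' := by
    rcases t.low_cases ha' ha0' with ⟨h1, h1'⟩ | ⟨h1, h1'⟩ <;> rcases t.low_cases hb' hb0' with ⟨h2, h2'⟩ | ⟨h2, h2'⟩
    · exact t.orb_conj₂ (by norm_num) h1' h2'
    · exact absurd (hzb.mp (h.mp (hza.mpr h1))) h2
    · exact absurd (hza.mp (h.mpr (hzb.mpr h2))) h1
    · exact t.orb_conj₂ (by norm_num) h1' h2'
  refine ⟨m⁻¹ * k * n, mul_mem (mul_mem (inv_mem hm) hk.1) hn, ?_⟩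
  rw [show m⁻¹ * k * n * t.Ψ a * (m⁻¹ * k * n)⁻¹ = m⁻¹ * (k * (n * t.Ψ a * n⁻¹) * k⁻¹) * m by group, ea, e, ← eb]
  group

theorem perm_dGrp_iff {σ : ↥M24} :
    (∃ v, v < 2048 ∧ t.Φ v * t.s σ ∈ t.dGrp) ↔ σ • toSet octM = toSet octM := by
  classical
  constructor
  · rintro ⟨v, hv, hn, hnV⟩
    have hmaps : ∀ p ∈ toSet octM, (σ : Equiv.Perm GolayPt) p ∈ toSet octM := by
      intro p hp
      obtain ⟨q, hq, hqp⟩ := Finset.exists_mem_ne (by rw [card_of_mem_octads octM_mem]; norm_num) p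
      have hne : idx p ≠ idx q := fun e => hqp (idx_injective e).symm
      have hm := t.duad_A0 hne (idx_lt p) (idx_lt q) (mem_toSet.mp hp) (mem_toSet.mp hq)
      have h1 := (mem_normalizer_iff.mp hn _).mp hm
      have h2 := (mem_normalizer_iff.mp hnV _).mp (t.Φ_mem (duadC (idx p) (idx q)))
      obtain ⟨a, ha, e⟩ := h1
      have ha64 := (t.Ψ_mem_V ha).mp (e ▸ h2)
      rw [t.Ψ_low ha64] at e
      have hr := repr_codeP (σ : Equiv.Perm GolayPt)
      have hlt := duadC_lt (idx_lt p) (idx_lt q)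
      rw [show t.Φ v * t.s σ * t.Φ (duadC (idx p) (idx q)) * (t.Φ v * t.s σ)⁻¹ =
        t.Φ v * (t.s σ * t.Φ (duadC (idx p) (idx q)) * (t.s σ)⁻¹) * (t.Φ v)⁻¹ by group,
        t.conj σ _ hr _ hlt, t.Φ_comm v, mul_inv_cancel_right] at e
      have e2 := t.Φ_inj _ _ (actV_lt hr _) (uList_lt (avec_mem a)) e
      rw [actV_duad hr σ.2 (idx_lt p) (idx_lt q), pt_idx, pt_idx] at e2
      have hmem : duadC (idx (σ.1 p)) (idx (σ.1 q)) ∈ uList := e2 ▸ avec_mem a
      have hchk := u_duads_checked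
      simp only [forceNs_eq, List.all_eq_true, List.mem_range, Bool.or_eq_true, Bool.not_eq_true',
        Bool.and_eq_true] at hchk
      have hne' : idx (σ.1 p) ≠ idx (σ.1 q) := fun e => hqp (σ.1.injective (idx_injective e)).symm
      have hb : CfsgGolay.memB (duadC (idx (σ.1 p)) (idx (σ.1 q))) uList = true :=
        List.any_eq_true.mpr ⟨_, hmem, Nat.beq_refl _⟩
      rcases lt_or_gt_of_ne hne' with hl | hl
      · rcases hchk _ (idx_lt (σ.1 q)) _ hl with h | h
        · rw [hb] at h; exact absurd h (by simp)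
        · exact mem_toSet.mpr h.1
      · rw [duadC_comm] at hb
        rcases hchk _ (idx_lt (σ.1 p)) _ hl with h | h
        · rw [hb] at h; exact absurd h (by simp)
        · exact mem_toSet.mpr h.2
    refine Finset.eq_of_subset_of_card_le ?_ (by rw [Finset.card_smul_finset])
    intro x hx
    obtain ⟨p, hp, rfl⟩ := Finset.mem_smul_finset.mp hx
    exact hmaps p hp
  · intro hσ
    refine ⟨0, by norm_num, ?_⟩
    rw [t.Φ_zero, one_mul]
    have hmaps : ∀ p ∈ toSet octM, (σ : Equiv.Perm GolayPt) p ∈ toSet octM := fun p hp => by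
      rw [← hσ]
      exact Finset.mem_smul_finset.mpr ⟨p, hp, rfl⟩
    have hsur : ∀ p ∈ toSet octM, ∃ q ∈ toSet octM, (σ : Equiv.Perm GolayPt) q = p := fun p hp => by
      rw [← hσ] at hp
      exact Finset.mem_smul_finset.mp hp
    have hX : ∀ i < 16, ∃ j < 16, σ * xEl i * σ⁻¹ = xEl j := fun i hi => by
      refine exists_xEl fun p hp => ?_
      obtain ⟨q, hq, rfl⟩ := hsur p hp
      show σ.1 ((xEl i).1 (σ.1.symm (σ.1 q))) = σ.1 q
      rw [Equiv.symm_apply_apply]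
      exact congrArg σ.1 ((mem_fixingSubgroup_iff _).mp (mem_inf.mp (xEl_fix hi)).2 q hq)
    have hU : ∀ v ∈ uList, actV (codeP (σ : Equiv.Perm GolayPt)) v ∈ uList := by
      intro v hv
      have hr := repr_codeP (σ : Equiv.Perm GolayPt)
      refine fixed_uList (actV_lt hr v) fun j hj => ?_
      obtain ⟨i, hi, e⟩ : ∃ i < 16, σ⁻¹ * xEl j * σ = xEl i := exists_xEl fun p hp => by
        show σ.1.symm ((xEl j).1 (σ.1 p)) = p
        have hf : (xEl j).1 (σ.1 p) = σ.1 p :=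
          (mem_fixingSubgroup_iff _).mp (mem_inf.mp (xEl_fix hj)).2 (σ.1 p) (hmaps p hp)
        rw [hf, Equiv.symm_apply_apply]
      have e' : xEl j * σ = σ * xEl i := by rw [← e]; group
      have h1 : t.s (xEl j * σ) * t.Φ v * (t.s (xEl j * σ))⁻¹ = t.Φ (actV (codeP (σ : Equiv.Perm GolayPt)) v) := by
        rw [e', map_mul, show t.s σ * t.s (xEl i) * t.Φ v * (t.s σ * t.s (xEl i))⁻¹ =
          t.s σ * (t.s (xEl i) * t.Φ v * (t.s (xEl i))⁻¹) * (t.s σ)⁻¹ by group,
          t.conj _ _ (repr_xEl hi) v (uList_lt hv), uList_fix hv (xAt_mem hi), t.conj _ _ hr v (uList_lt hv)]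
      rw [map_mul, show t.s (xEl j) * t.s σ * t.Φ v * (t.s (xEl j) * t.s σ)⁻¹ =
        t.s (xEl j) * (t.s σ * t.Φ v * (t.s σ)⁻¹) * (t.s (xEl j))⁻¹ by group,
        t.conj _ _ hr v (uList_lt hv), t.conj _ _ (repr_xEl hj) _ (actV_lt hr v)] at h1
      exact t.Φ_inj _ _ (actV_lt (repr_xEl hj) _) (actV_lt hr v) h1
    refine ⟨mem_norm_of ?_, t.s_mem σ⟩
    rintro _ ⟨a, ha, rfl⟩
    have hr := repr_codeP (σ : Equiv.Perm GolayPt)
    obtain ⟨j, hj, ej⟩ := hX (a / 64) (by omega)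
    obtain ⟨b, hb, eb⟩ := mem_uList (hU _ (avec_mem a))
    refine ⟨b + 64 * j, by omega, ?_⟩
    show t.s σ * (t.Φ (avec a) * t.s (xEl (a / 64))) * (t.s σ)⁻¹ =
      t.Φ (avec (b + 64 * j)) * t.s (xEl ((b + 64 * j) / 64))
    rw [Nat.add_mul_div_left _ _ (by norm_num : 0 < 64), Nat.div_eq_of_lt hb, Nat.zero_add,
      avec_mod b (b := b + 64 * j) (by omega), eb, ← ej, map_mul, map_mul, map_inv,
      ← t.conj σ _ hr _ (uList_lt (avec_mem a))]
    group

theorem card_dGrp : Nat.card t.dGrp = 1024 * 322560 := by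
  classical
  have hle : t.dGrp ≤ normalizer (c.vGrp A o.hA.1.1 : Set G) := inf_le_right
  set f := t.perm.comp (inclusion hle) with hf
  have h1 := card_mul_index f.ker
  rw [Subgroup.index_ker] at h1
  have hrange : f.range = MulAction.stabilizer ↥M24 (toSet octM) := by
    ext σ
    rw [MulAction.mem_stabilizer_iff, ← t.perm_dGrp_iff]
    constructor
    · rintro ⟨n, rfl⟩
      obtain ⟨v, hv, e⟩ := t.perm_spec (inclusion hle n)
      exact ⟨v, hv, e ▸ n.2⟩
    · rintro ⟨v, hv, hm⟩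
      exact ⟨⟨_, hm⟩, t.perm_eq hv rfl⟩
  have hker : Nat.card f.ker = 1024 := by
    set L := (List.range 2048).filter (vNormB uList) with hL
    have hmem : ∀ v, v ∈ L ↔ v < 2048 ∧ t.Φ v ∈ t.dGrp := by
      intro v
      rw [hL, List.mem_filter, List.mem_range]
      refine and_congr_right fun hv => ?_
      have hVn : t.Φ v ∈ normalizer (c.vGrp A o.hA.1.1 : Set G) := le_normalizer (t.Φ_mem v)
      simp only [vNormB, List.all_eq_true, List.mem_range]
      have hconj : ∀ i < 16, t.Φ v * t.s (xEl i) * (t.Φ v)⁻¹ = t.Φ (v ^^^ actV (xAt i) v) * t.s (xEl i) := by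
        intro i hi
        have h2 : t.s (xEl i) * t.Φ v = t.Φ (actV (xAt i) v) * t.s (xEl i) :=
          mul_inv_eq_iff_eq_mul.mp (t.conj _ _ (repr_xEl hi) v hv)
        rw [inv_eq_of_mul_eq_one_left (t.Φ_sq v), mul_assoc, h2, ← mul_assoc, ← t.Φ_mul]
      have hi2 : ∀ i < 4, 2 ^ i < 16 := fun i hi => xEl_one hi
      constructor
      · intro hall
        refine ⟨mem_norm_of ?_, hVn⟩
        rintro _ ⟨a, ha, rfl⟩
        refine ind_units (Q := fun b => t.Φ v * t.Ψ b * (t.Φ v)⁻¹ ∈ t.A0) ?_ ?_ ?_ ha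
        · rw [t.Ψ_zero, mul_one, mul_inv_cancel]; exact one_mem _
        · intro a b ha hb h1 h2
          rw [← t.Ψ_mul ha hb, show t.Φ v * (t.Ψ a * t.Ψ b) * (t.Φ v)⁻¹ =
            t.Φ v * t.Ψ a * (t.Φ v)⁻¹ * (t.Φ v * t.Ψ b * (t.Φ v)⁻¹) by group]
          exact mul_mem h1 h2
        · intro i hi
          by_cases h6 : i < 6
          · have h64 : 2 ^ i < 64 := lt_of_le_of_lt (Nat.pow_le_pow_right (by norm_num) (show i ≤ 5 by omega))
              (by norm_num)
            rw [t.Ψ_low h64, t.Φ_comm, mul_inv_cancel_right, ← t.Ψ_low h64]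
            exact ⟨_, by omega, rfl⟩
          · obtain ⟨j, rfl⟩ := Nat.exists_eq_add_of_le (not_lt.mp h6)
            have hj : j < 4 := by omega
            rw [pow_add, show (2 : ℕ) ^ 6 = 64 from rfl, t.Ψ_high (hi2 j hj), hconj _ (hi2 j hj)]
            obtain ⟨b, hb, eb⟩ := mem_uList (of_memB (hall j hj))
            rw [← eb, ← t.Ψ_low hb, ← t.Ψ_high (hi2 j hj)]
            exact mul_mem (⟨b, by omega, rfl⟩ : t.Ψ b ∈ t.A0)
              (⟨64 * 2 ^ j, by have := hi2 j hj; omega, rfl⟩ : t.Ψ (64 * 2 ^ j) ∈ t.A0)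
      · rintro ⟨hn, -⟩ j hj
        have h2 : t.s (xEl (2 ^ j)) ∈ t.A0 := ⟨64 * 2 ^ j, by have := hi2 j hj; omega, (t.Ψ_high (hi2 j hj)).symm⟩
        have h3 := (mem_normalizer_iff.mp hn _).mp h2
        rw [hconj _ (hi2 j hj)] at h3
        have h4 := mul_mem h3 h2
        rw [mul_assoc, ← map_mul, xEl_mul (hi2 j hj) (hi2 j hj), Nat.xor_self, xEl_zero, map_one, mul_one] at h4
        obtain ⟨a, ha, e⟩ := h4
        have ha64 := (t.Ψ_mem_V ha).mp (e ▸ t.Φ_mem _)
        rw [t.Ψ_low ha64] at e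
        refine List.any_eq_true.mpr ⟨_, ?_, Nat.beq_refl _⟩
        rw [t.Φ_inj _ _ (Nat.xor_lt_two_pow (n := 11) hv (actV_lt (repr_xEl (hi2 j hj)) v))
          (uList_lt (avec_mem a)) e]
        exact avec_mem a
    have hlen : L.length = 1024 := by
      have h := vNorm_count
      rw [forceNs_eq] at h
      exact Nat.eq_of_beq_eq_true h
    rw [← hlen, ← List.toFinset_card_of_nodup (List.Nodup.filter _ List.nodup_range), ← Nat.card_eq_finsetCard]
    refine (Nat.card_eq_of_bijective (fun v : ↥L.toFinset => (⟨⟨t.Φ v,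
      ((hmem _).mp (List.mem_toFinset.mp v.2)).2⟩, ?_⟩ : f.ker)) ⟨fun a b e => ?_, fun x => ?_⟩).symm
    · exact (t.perm_eq_one (n := inclusion hle _)).mpr (t.Φ_mem _)
    · exact Subtype.ext (t.Φ_inj _ _ ((hmem _).mp (List.mem_toFinset.mp a.2)).1
        ((hmem _).mp (List.mem_toFinset.mp b.2)).1 (congrArg (fun y : f.ker => ((y : t.dGrp) : G)) e))
    · obtain ⟨v, hv, e⟩ := t.Φ_surj _ ((t.perm_eq_one (n := inclusion hle x.1)).mp x.2)
      exact ⟨⟨v, List.mem_toFinset.mpr ((hmem v).mpr ⟨hv, e ▸ x.1.2⟩)⟩, Subtype.ext (Subtype.ext e)⟩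
  rw [hker, hrange, card_octStab] at h1
  exact h1.symm

/-- The indices of an orbit of the normalizer. -/
noncomputable def orbI (a : ℕ) : Finset ℕ := by
  classical exact (Finset.range 1024).filter fun b => ∃ n ∈ normalizer (t.A0 : Set G), n * t.Ψ a * n⁻¹ = t.Ψ b

theorem mem_orbI {a b : ℕ} :
    b ∈ t.orbI a ↔ b < 1024 ∧ ∃ n ∈ normalizer (t.A0 : Set G), n * t.Ψ a * n⁻¹ = t.Ψ b := by
  simp [Ten.orbI]

theorem ncard_orbit {a : ℕ} (ha : a < 1024) :
    Set.ncard {v : G | ∃ n ∈ normalizer (t.A0 : Set G), n * t.Ψ a * n⁻¹ = v} = (t.orbI a).card := by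
  classical
  have h : {v : G | ∃ n ∈ normalizer (t.A0 : Set G), n * t.Ψ a * n⁻¹ = v} = t.Ψ '' (t.orbI a : Set ℕ) := by
    ext v
    constructor
    · rintro ⟨n, hn, rfl⟩
      obtain ⟨b, hb, e⟩ := (mem_normalizer_iff.mp hn _).mp (⟨a, ha, rfl⟩ : t.Ψ a ∈ t.A0)
      exact ⟨b, t.mem_orbI.mpr ⟨hb, n, hn, e⟩, e.symm⟩
    · rintro ⟨b, hb, rfl⟩
      obtain ⟨-, n, hn, e⟩ := t.mem_orbI.mp hb
      exact ⟨n, hn, e⟩
  rw [h, Set.InjOn.ncard_image fun x hx y hy e =>
    t.Ψ_inj (t.mem_orbI.mp hx).1 (t.mem_orbI.mp hy).1 e, Set.ncard_coe_finset]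

theorem card_norm_eq {a : ℕ} (ha : a < 1024) :
    (t.orbI a).card * Nat.card ↥(normalizer (t.A0 : Set G) ⊓ centralizer ({t.Ψ a} : Set G)) =
      Nat.card ↥(normalizer (t.A0 : Set G)) := by
  rw [← t.ncard_orbit ha]
  exact card_orbit_mul _ _

/-- The orbits, their lengths, and the order of the normalizer. -/
theorem orbits : Nat.card ↥(normalizer (t.A0 : Set G)) = 2 ^ 10 * 9999360 ∧
    (∀ a, a < 1024 → a ≠ 0 → (c.IsZ (t.Ψ a) ↔ zMask.testBit a = true)) ∧
    (∀ a, a < 1024 → zMask.testBit a = true → (t.orbI a).card = 155) ∧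
    ∀ a, a < 1024 → tMask.testBit a = true → (t.orbI a).card = 868 := by
  classical
  have hsd := seeds_checked
  simp only [Bool.and_eq_true, Nat.blt_eq, Bool.not_eq_true'] at hsd
  obtain ⟨⟨⟨⟨⟨⟨hs1, hs1'⟩, hs1t⟩, hs2⟩, hs2'⟩, -⟩, -⟩ := hsd
  have hs2'' : ¬ seed 2 < 64 := fun h => by rw [Nat.blt_eq.mpr h] at hs2'; exact absurd hs2' (by simp)
  set O := fun k => (orbList k).toFinset with hO
  have hz : ∀ k < 4, ∀ a ∈ orbList k, ∀ b ∈ orbList k, (c.IsZ (t.Ψ a) ↔ c.IsZ (t.Ψ b)) := by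
    intro k hk a ha b hb
    obtain ⟨n, -, e⟩ := t.orb_conj₂ hk ha hb
    rw [← e]
    exact (c.isZ_iff n _).symm
  have hlow : ∀ a ∈ orbList 0, c.IsZ (t.Ψ a) := fun a ha => by
    obtain ⟨-, h0, h64⟩ := orb_spec (by norm_num) ha
    rcases t.low_cases (h64.mpr (by norm_num)) h0 with ⟨h, -⟩ | ⟨-, h⟩
    · exact h
    · exfalso
      have h1 : zMask.testBit a = true := mem_zMask.mpr (Or.inl ha)
      have h2 : tMask.testBit a = true := mem_tMask.mpr (Or.inl h)
      have h3 := congrArg (fun m => Nat.testBit m a) (Nat.eq_of_beq_eq_true zt_disjoint)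
      simp [Nat.testBit_and, h1, h2] at h3
  have hlow' : ∀ a ∈ orbList 1, ¬ c.IsZ (t.Ψ a) := fun a ha => by
    obtain ⟨-, -, h64⟩ := orb_spec (by norm_num) ha
    exact ((t.low_type (h64.mpr (by norm_num))).mpr (mem_tMask.mpr (Or.inl ha))).2.2
  -- disjointness of the lists
  have hdis : ∀ a, a ∈ orbList 0 ∨ a ∈ orbList 2 → ¬ (a ∈ orbList 1 ∨ a ∈ orbList 3) := fun a h1 h2 => by
    have h3 := congrArg (fun m => Nat.testBit m a) (Nat.eq_of_beq_eq_true zt_disjoint)
    simp [Nat.testBit_and, mem_zMask.mpr h1, mem_tMask.mpr h2] at h3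
  have hlohi : ∀ a k l, k < 2 → 2 ≤ l → l < 4 → a ∈ orbList k → a ∉ orbList l := fun a k l hk hl hl' h1 h2 => by
    have := (orb_spec (by omega) h2).2.2.mp ((orb_spec (by omega) h1).2.2.mpr hk)
    omega
  have hnd : ∀ k < 4, (orbList k).Nodup := by
    intro k hk
    exact nodup_of_distinctB (List.all_eq_true.mp orb_distinct k (List.mem_range.mpr hk))
  have hcard : ∀ k < 4, (O k).card = (orbList k).length := fun k hk => List.toFinset_card_of_nodup (hnd k hk)
  obtain ⟨l0, l1, l2, l3⟩ := orb_length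
  have hall : ∀ a, a < 1024 → a ≠ 0 → a ∈ O 0 ∪ O 1 ∪ O 2 ∪ O 3 := by
    intro a ha ha0
    simp only [hO, Finset.mem_union, List.mem_toFinset]
    rcases mask_cases ha ha0 with h | h
    · rcases mem_zMask.mp h with h | h <;> simp [h]
    · rcases mem_tMask.mp h with h | h <;> simp [h]
  -- the orbit of an element is the set of elements of its type
  have horb : ∀ a, a < 1024 → a ≠ 0 → ∀ b, b ∈ t.orbI a ↔ b < 1024 ∧ b ≠ 0 ∧ (c.IsZ (t.Ψ a) ↔ c.IsZ (t.Ψ b)) := by
    intro a ha ha0 b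
    rw [t.mem_orbI]
    constructor
    · rintro ⟨hb, n, -, e⟩
      refine ⟨hb, fun h0 => ha0 (t.Ψ_inj ha (by norm_num) ?_), by rw [← e]; exact (c.isZ_iff n _).symm⟩
      rw [h0, t.Ψ_zero] at e
      rw [t.Ψ_zero]; exact conj_eq_one_iff.mp e
    · rintro ⟨hb, hb0, h⟩
      exact ⟨hb, t.type_conj ha ha0 hb hb0 h⟩
  -- the element outside V moves into V
  obtain ⟨n0, hn0, b0, hb0, -, e0⟩ := t.into_U hs2 (fun h => hs2'' (by omega))
  have hn0V : n0 ∉ normalizer (c.vGrp A o.hA.1.1 : Set G) := fun h => hs2'' ((t.Ψ_mem_V hs2).mp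
    ((mem_normalizer_iff.mp h _).mpr (e0 ▸ (t.Ψ_mem_V (show b0 < 1024 by omega)).mpr hb0)))
  set NA := normalizer (t.A0 : Set G) with hNA
  -- the centralizer of an element of T
  set t1 := seed 1 with ht1
  have ht1lt : t1 < 1024 := by omega
  have ht1T := (t.low_type hs1).mpr hs1t
  have hCt : NA ⊓ centralizer ({t.Ψ t1} : Set G) = t.dGrp ⊓ centralizer ({t.Ψ t1} : Set G) :=
    le_antisymm (fun x hx => ⟨⟨hx.1, o.cent_T ht1T hx.2⟩, hx.2⟩) (fun x hx => ⟨hx.1.1, hx.2⟩)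
  have hD28 : Set.ncard {v : G | ∃ n ∈ t.dGrp, n * t.Ψ t1 * n⁻¹ = v} = 28 := by
    have h : {v : G | ∃ n ∈ t.dGrp, n * t.Ψ t1 * n⁻¹ = v} = t.Ψ '' (O 1 : Set ℕ) := by
      ext v
      constructor
      · rintro ⟨n, hn, rfl⟩
        obtain ⟨b, hb, e⟩ := (mem_normalizer_iff.mp hn.1 _).mp (⟨t1, ht1lt, rfl⟩ : t.Ψ t1 ∈ t.A0)
        have hb64 := (t.Ψ_mem_V hb).mp (e ▸ (mem_normalizer_iff.mp hn.2 _).mp ((t.Ψ_mem_V ht1lt).mpr hs1))
        have hbT : t.Ψ b ∈ c.Tset (c.vGrp A o.hA.1.1) := e ▸ c.norm_T hn.2 ht1T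
        refine ⟨b, List.mem_toFinset.mpr ?_, e.symm⟩
        rcases t.low_cases hb64 (fun h0 => hbT.2.1 (by rw [h0, t.Ψ_zero])) with ⟨hzb, -⟩ | ⟨-, h⟩
        · exact absurd hzb hbT.2.2
        · exact h
      · rintro ⟨b, hb, rfl⟩
        obtain ⟨n, hn, e⟩ := t.orb_conj (k := 1) (by norm_num) (List.mem_toFinset.mp hb)
        exact ⟨n, hn, e⟩
    rw [h, Set.InjOn.ncard_image fun x hx y hy e => t.Ψ_inj (orb_spec (k := 1) (by norm_num) (List.mem_toFinset.mp hx)).1
      (orb_spec (k := 1) (by norm_num) (List.mem_toFinset.mp hy)).1 e, Set.ncard_coe_finset, hcard 1 (by norm_num), l1]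
  have hC := card_orbit_mul t.dGrp (t.Ψ t1)
  rw [hD28, t.card_dGrp, ← hCt] at hC
  have hC' : Nat.card ↥(NA ⊓ centralizer ({t.Ψ t1} : Set G)) = 11796480 := by omega
  have hN := t.card_norm_eq ht1lt
  rw [← hNA, hC'] at hN
  -- the types of the two outer orbits
  have ht10 : t1 ≠ 0 := by omega
  have hnZ1 : ¬ c.IsZ (t.Ψ t1) := ht1T.2.2
  set TS := (Finset.range 1024).filter (fun b => b ≠ 0 ∧ ¬ c.IsZ (t.Ψ b)) with hTS
  set ZS := (Finset.range 1024).filter (fun b => b ≠ 0 ∧ c.IsZ (t.Ψ b)) with hZS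
  have hTorb : ∀ a, a < 1024 → a ≠ 0 → ¬ c.IsZ (t.Ψ a) → t.orbI a = TS := fun a ha ha0 hza => by
    ext b
    rw [horb a ha ha0, hTS, Finset.mem_filter, Finset.mem_range]
    exact ⟨fun ⟨h1, h2, h3⟩ => ⟨h1, h2, fun h => hza (h3.mpr h)⟩,
      fun ⟨h1, h2, h3⟩ => ⟨h1, h2, iff_of_false hza h3⟩⟩
  have hZorb : ∀ a, a < 1024 → a ≠ 0 → c.IsZ (t.Ψ a) → t.orbI a = ZS := fun a ha ha0 hza => by
    ext b
    rw [horb a ha ha0, hZS, Finset.mem_filter, Finset.mem_range]
    exact ⟨fun ⟨h1, h2, h3⟩ => ⟨h1, h2, h3.mp hza⟩, fun ⟨h1, h2, h3⟩ => ⟨h1, h2, iff_of_true hza h3⟩⟩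
  rw [hTorb t1 ht1lt ht10 hnZ1] at hN
  obtain ⟨a2, ha2⟩ : ∃ a, a ∈ orbList 2 := List.exists_mem_of_length_pos (by omega)
  obtain ⟨a3, ha3⟩ : ∃ a, a ∈ orbList 3 := List.exists_mem_of_length_pos (by omega)
  obtain ⟨a0, ha0'⟩ : ∃ a, a ∈ orbList 0 := List.exists_mem_of_length_pos (by omega)
  have memk : ∀ k < 4, ∀ b, b ∈ O k → b < 1024 ∧ b ≠ 0 := fun k hk b hb =>
    ⟨(orb_spec hk (List.mem_toFinset.mp hb)).1, (orb_spec hk (List.mem_toFinset.mp hb)).2.1⟩
  have d01 : ∀ b, b ∈ O 0 → b ∉ O 1 := fun b h1 h2 =>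
    hdis b (Or.inl (List.mem_toFinset.mp h1)) (Or.inl (List.mem_toFinset.mp h2))
  have d23 : ∀ b, b ∈ O 2 → b ∉ O 3 := fun b h1 h2 =>
    hdis b (Or.inr (List.mem_toFinset.mp h1)) (Or.inr (List.mem_toFinset.mp h2))
  have dlh : ∀ b k l, k < 2 → 2 ≤ l → l < 4 → b ∈ O k → b ∉ O l := fun b k l hk hl hl' h1 h2 =>
    hlohi b k l hk hl hl' (List.mem_toFinset.mp h1) (List.mem_toFinset.mp h2)
  have hdvd : (t.orbI a0).card ∣ Nat.card NA := ⟨_, (t.card_norm_eq (orb_spec (by norm_num) ha0').1).symm⟩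
  rw [hZorb a0 (orb_spec (by norm_num) ha0').1 (orb_spec (by norm_num) ha0').2.1 (hlow a0 ha0')] at hdvd
  have hc0 : (O 0).card = 35 := (hcard 0 (by norm_num)).trans l0
  have hc1 : (O 1).card = 28 := (hcard 1 (by norm_num)).trans l1
  have hc2 : (O 2).card = 120 := (hcard 2 (by norm_num)).trans l2
  have hc3 : (O 3).card = 840 := (hcard 3 (by norm_num)).trans l3
  have htype : ∀ k < 4, ∀ a ∈ orbList k, ∀ b ∈ O k, (c.IsZ (t.Ψ b) ↔ c.IsZ (t.Ψ a)) := fun k hk a ha b hb =>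
    hz k hk b (List.mem_toFinset.mp hb) a ha
  have hTeq : ∀ (S : Finset ℕ), (∀ b ∈ S, b < 1024 ∧ b ≠ 0 ∧ ¬ c.IsZ (t.Ψ b)) →
      (∀ b, b < 1024 → b ≠ 0 → b ∉ S → c.IsZ (t.Ψ b)) → TS = S := fun S h1 h2 => by
    ext b
    rw [hTS, Finset.mem_filter, Finset.mem_range]
    refine ⟨fun ⟨hb, hb0, hzb⟩ => by_contra fun h => hzb (h2 b hb hb0 h), fun h => ⟨(h1 b h).1, (h1 b h).2⟩⟩
  have hZeq : ∀ (S : Finset ℕ), (∀ b ∈ S, b < 1024 ∧ b ≠ 0 ∧ c.IsZ (t.Ψ b)) →
      (∀ b, b < 1024 → b ≠ 0 → b ∉ S → ¬ c.IsZ (t.Ψ b)) → ZS = S := fun S h1 h2 => by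
    ext b
    rw [hZS, Finset.mem_filter, Finset.mem_range]
    refine ⟨fun ⟨hb, hb0, hzb⟩ => by_contra fun h => h2 b hb hb0 h hzb, fun h => ⟨(h1 b h).1, (h1 b h).2⟩⟩
  have hcases : ∀ b, b < 1024 → b ≠ 0 → b ∈ O 0 ∨ b ∈ O 1 ∨ b ∈ O 2 ∨ b ∈ O 3 := fun b hb hb0 => by
    have := hall b hb hb0
    simp only [Finset.mem_union] at this
    exact or_assoc.mp (or_assoc.mp this)
  by_cases h2 : c.IsZ (t.Ψ a2) <;> by_cases h3 : c.IsZ (t.Ψ a3)
  · -- only the 28 are outside the class of z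
    exfalso
    have hT : TS = O 1 := hTeq _ (fun b hb => ⟨(memk 1 (by norm_num) b hb).1, (memk 1 (by norm_num) b hb).2,
      hlow' b (List.mem_toFinset.mp hb)⟩) fun b hb hb0 hn => by
      rcases hcases b hb hb0 with h | h | h | h
      · exact hlow b (List.mem_toFinset.mp h)
      · exact absurd h hn
      · exact (htype 2 (by norm_num) a2 ha2 b h).mpr h2
      · exact (htype 3 (by norm_num) a3 ha3 b h).mpr h3
    rw [hT, hc1] at hN
    have hle : t.dGrp ≤ NA := inf_le_left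
    have := eq_of_le_of_card_ge hle (by rw [← hN, t.card_dGrp])
    exact hn0V (this ▸ hn0 : n0 ∈ t.dGrp).2
  · -- the expected case
    have hT : TS = O 1 ∪ O 3 := hTeq _ (fun b hb => by
      rcases Finset.mem_union.mp hb with h | h
      · exact ⟨(memk 1 (by norm_num) b h).1, (memk 1 (by norm_num) b h).2, hlow' b (List.mem_toFinset.mp h)⟩
      · exact ⟨(memk 3 (by norm_num) b h).1, (memk 3 (by norm_num) b h).2,
          fun e => h3 ((htype 3 (by norm_num) a3 ha3 b h).mp e)⟩) fun b hb hb0 hn => by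
      rw [Finset.mem_union, not_or] at hn
      rcases hcases b hb hb0 with h | h | h | h
      · exact hlow b (List.mem_toFinset.mp h)
      · exact absurd h hn.1
      · exact (htype 2 (by norm_num) a2 ha2 b h).mpr h2
      · exact absurd h hn.2
    have hZ : ZS = O 0 ∪ O 2 := hZeq _ (fun b hb => by
      rcases Finset.mem_union.mp hb with h | h
      · exact ⟨(memk 0 (by norm_num) b h).1, (memk 0 (by norm_num) b h).2, hlow b (List.mem_toFinset.mp h)⟩
      · exact ⟨(memk 2 (by norm_num) b h).1, (memk 2 (by norm_num) b h).2,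
          (htype 2 (by norm_num) a2 ha2 b h).mpr h2⟩) fun b hb hb0 hn => by
      rw [Finset.mem_union, not_or] at hn
      rcases hcases b hb hb0 with h | h | h | h
      · exact absurd h hn.1
      · exact hlow' b (List.mem_toFinset.mp h)
      · exact absurd h hn.2
      · exact fun e => h3 ((htype 3 (by norm_num) a3 ha3 b h).mp e)
    have hTc : TS.card = 868 := by
      rw [hT, Finset.card_union_of_disjoint (Finset.disjoint_left.mpr fun b h => dlh b 1 3 (by norm_num) (by norm_num)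
        (by norm_num) h), hc1, hc3]
    have hZc : ZS.card = 155 := by
      rw [hZ, Finset.card_union_of_disjoint (Finset.disjoint_left.mpr fun b h => dlh b 0 2 (by norm_num) (by norm_num)
        (by norm_num) h), hc0, hc2]
    have hiff : ∀ a, a < 1024 → a ≠ 0 → (c.IsZ (t.Ψ a) ↔ zMask.testBit a = true) := by
      intro a ha ha0
      rw [mem_zMask]
      constructor
      · intro hza
        have : a ∈ ZS := Finset.mem_filter.mpr ⟨Finset.mem_range.mpr ha, ha0, hza⟩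
        rw [hZ, Finset.mem_union] at this
        exact this.imp List.mem_toFinset.mp List.mem_toFinset.mp
      · intro h
        have : a ∈ ZS := by
          rw [hZ, Finset.mem_union]
          exact h.imp List.mem_toFinset.mpr List.mem_toFinset.mpr
        exact (Finset.mem_filter.mp this).2.2
    refine ⟨?_, hiff, fun a ha h => ?_, fun a ha h => ?_⟩
    · rw [← hN, hTc]; norm_num
    · have ha0 : a ≠ 0 := fun e => by
        rcases mem_zMask.mp h with h' | h' <;> exact (orb_spec (by norm_num) h').2.1 e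
      rw [hZorb a ha ha0 ((hiff a ha ha0).mpr h), hZc]
    · have ha0 : a ≠ 0 := fun e => by
        rcases mem_tMask.mp h with h' | h' <;> exact (orb_spec (by norm_num) h').2.1 e
      rw [hTorb a ha ha0 (fun hza => hdis a (mem_zMask.mp ((hiff a ha ha0).mp hza)) (mem_tMask.mp h)), hTc]
  · exfalso
    have hZ : ZS = O 0 ∪ O 3 := hZeq _ (fun b hb => by
      rcases Finset.mem_union.mp hb with h | h
      · exact ⟨(memk 0 (by norm_num) b h).1, (memk 0 (by norm_num) b h).2, hlow b (List.mem_toFinset.mp h)⟩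
      · exact ⟨(memk 3 (by norm_num) b h).1, (memk 3 (by norm_num) b h).2,
          (htype 3 (by norm_num) a3 ha3 b h).mpr h3⟩) fun b hb hb0 hn => by
      rw [Finset.mem_union, not_or] at hn
      rcases hcases b hb hb0 with h | h | h | h
      · exact absurd h hn.1
      · exact hlow' b (List.mem_toFinset.mp h)
      · exact fun e => h2 ((htype 2 (by norm_num) a2 ha2 b h).mp e)
      · exact absurd h hn.2
    have hT : TS = O 1 ∪ O 2 := hTeq _ (fun b hb => by
      rcases Finset.mem_union.mp hb with h | h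
      · exact ⟨(memk 1 (by norm_num) b h).1, (memk 1 (by norm_num) b h).2, hlow' b (List.mem_toFinset.mp h)⟩
      · exact ⟨(memk 2 (by norm_num) b h).1, (memk 2 (by norm_num) b h).2,
          fun e => h2 ((htype 2 (by norm_num) a2 ha2 b h).mp e)⟩) fun b hb hb0 hn => by
      rw [Finset.mem_union, not_or] at hn
      rcases hcases b hb hb0 with h | h | h | h
      · exact hlow b (List.mem_toFinset.mp h)
      · exact absurd h hn.1
      · exact absurd h hn.2
      · exact (htype 3 (by norm_num) a3 ha3 b h).mpr h3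
    rw [hT, Finset.card_union_of_disjoint (Finset.disjoint_left.mpr fun b h => dlh b 1 2 (by norm_num) (by norm_num)
      (by norm_num) h), hc1, hc2] at hN
    rw [hZ, Finset.card_union_of_disjoint (Finset.disjoint_left.mpr fun b h => dlh b 0 3 (by norm_num) (by norm_num)
      (by norm_num) h), hc0, hc3, ← hN] at hdvd
    omega
  · exfalso
    have hZ : ZS = O 0 := hZeq _ (fun b hb => ⟨(memk 0 (by norm_num) b hb).1, (memk 0 (by norm_num) b hb).2,
      hlow b (List.mem_toFinset.mp hb)⟩) fun b hb hb0 hn => by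
      rcases hcases b hb hb0 with h | h | h | h
      · exact absurd h hn
      · exact hlow' b (List.mem_toFinset.mp h)
      · exact fun e => h2 ((htype 2 (by norm_num) a2 ha2 b h).mp e)
      · exact fun e => h3 ((htype 3 (by norm_num) a3 ha3 b h).mp e)
    have hT : TS = O 1 ∪ O 2 ∪ O 3 := hTeq _ (fun b hb => by
      rcases Finset.mem_union.mp hb with h | h
      · rcases Finset.mem_union.mp h with h | h
        · exact ⟨(memk 1 (by norm_num) b h).1, (memk 1 (by norm_num) b h).2, hlow' b (List.mem_toFinset.mp h)⟩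
        · exact ⟨(memk 2 (by norm_num) b h).1, (memk 2 (by norm_num) b h).2,
            fun e => h2 ((htype 2 (by norm_num) a2 ha2 b h).mp e)⟩
      · exact ⟨(memk 3 (by norm_num) b h).1, (memk 3 (by norm_num) b h).2,
          fun e => h3 ((htype 3 (by norm_num) a3 ha3 b h).mp e)⟩) fun b hb hb0 hn => by
      simp only [Finset.mem_union, not_or] at hn
      rcases hcases b hb hb0 with h | h | h | h
      · exact hlow b (List.mem_toFinset.mp h)
      · exact absurd h hn.1.1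
      · exact absurd h hn.1.2
      · exact absurd h hn.2
    rw [hT, Finset.card_union_of_disjoint (Finset.disjoint_left.mpr fun b h => ?_),
      Finset.card_union_of_disjoint (Finset.disjoint_left.mpr fun b h => dlh b 1 2 (by norm_num) (by norm_num)
        (by norm_num) h), hc1, hc2, hc3] at hN
    rotate_left
    · rcases Finset.mem_union.mp h with h | h
      · exact dlh b 1 3 (by norm_num) (by norm_num) (by norm_num) h
      · exact d23 b h
    rw [hZ, hc0, ← hN] at hdvd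
    omega

end Ten

end CfsgLib.JankoFour.Ctx
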