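/-
The linear maps preserving the decomposable bivectors of a five-dimensional space come from linear maps of that space.
-/
import Cfsg.Agent.Lib.JankoFour.TenOrbit
import Cfsg.Agent.Lib.JankoFour.TenChecksStar

set_option autoImplicit false

namespace CfsgGolay.Ten

open Cfsg CfsgGolay

attribute [local irreducible] zMask nbrs sMask wedgeE

theorem mem_pts {p : ℕ} : p ∈ pts ↔ 1 ≤ p ∧ p < 32 := by
  simp only [pts, List.mem_map, List.mem_range]
  exact ⟨fun ⟨a, ha, e⟩ => ⟨by omega, by omega⟩, fun ⟨h1, h2⟩ => ⟨p - 1, by omega, by omega⟩⟩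

theorem zMask_zero : ¬ zMask.testBit 0 = true := fun h => by
  rcases mem_zMask.mp h with h | h
  · exact (orb_spec (by norm_num) h).2.1 rfl
  · exact (orb_spec (by norm_num) h).2.1 rfl

theorem wedge_lt' {p q : ℕ} (hp : p < 32) (hq : q < 32) : wedge p q < 1024 := by
  have h := wedge_lt
  simp only [List.all_eq_true, List.mem_range, Nat.blt_eq] at h
  exact h p hp q hq

/-- The star of a point. -/
def starF (p : ℕ) : Finset ℕ := (Finset.range 1024).filter fun a => (sMask p).testBit a = true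

theorem mem_starF {p a : ℕ} (hp : p < 32) : a ∈ starF p ↔ ∃ q < 32, wedge p q = a := by
  rw [starF, Finset.mem_filter, Finset.mem_range]
  have h : (sMask p).testBit a = true ↔ a ∈ (List.range 32).map (wedge p) := by
    unfold sMask
    exact testBit_maskOf
  rw [h, List.mem_map]
  simp only [List.mem_range]
  exact ⟨fun ⟨_, q, hq, e⟩ => ⟨q, hq, e⟩, fun ⟨q, hq, e⟩ => ⟨e ▸ wedge_lt' hp hq, q, hq, e⟩⟩

theorem starF_lt {p a : ℕ} (h : a ∈ starF p) : a < 1024 :=
  Finset.mem_range.mp (Finset.mem_filter.mp h).1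

theorem card_starF {p : ℕ} (hp : p ∈ pts) : (starF p).card = 16 := by
  have h := star_checked
  simp only [List.all_eq_true, forceN_eq, Bool.and_eq_true] at h
  have h2 := Nat.eq_of_beq_eq_true (h p hp).1
  rw [← List.toFinset_card_of_nodup (List.Nodup.filter _ List.nodup_range)] at h2
  have e : ((List.range 1024).filter fun a => (sMask p).testBit a).toFinset = starF p := by
    ext a
    rw [List.mem_toFinset, List.mem_filter, List.mem_range, starF, Finset.mem_filter, Finset.mem_range]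
  rw [← e]
  exact h2

theorem starF_z {p a : ℕ} (hp : p ∈ pts) (ha : a ∈ starF p) : a = 0 ∨ zMask.testBit a = true := by
  have h := star_checked
  simp only [List.all_eq_true, forceN_eq, Bool.and_eq_true, List.mem_range, Bool.or_eq_true] at h
  obtain ⟨q, hq, rfl⟩ := (mem_starF (mem_pts.mp hp).2).mp ha
  exact ((h p hp).2 q hq).imp_left Nat.eq_of_beq_eq_true

theorem starF_xor {p a b : ℕ} (hp : p ∈ pts) (ha : a ∈ starF p) (hb : b ∈ starF p) : a ^^^ b ∈ starF p := by
  obtain ⟨q, hq, rfl⟩ := (mem_starF (mem_pts.mp hp).2).mp ha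
  obtain ⟨r, hr, rfl⟩ := (mem_starF (mem_pts.mp hp).2).mp hb
  refine (mem_starF (mem_pts.mp hp).2).mpr ⟨q ^^^ r, Nat.xor_lt_two_pow (n := 5) hq hr, ?_⟩
  unfold wedge
  exact xorCols_xor _ _ _

theorem starF_zero {p : ℕ} (hp : p ∈ pts) : 0 ∈ starF p := by
  refine (mem_starF (mem_pts.mp hp).2).mpr ⟨0, by norm_num, ?_⟩
  unfold wedge
  exact xorCols_zero _

theorem starF_inj {p q : ℕ} (hp : p ∈ pts) (hq : q ∈ pts) (h : starF p = starF q) : p = q := by
  refine List.inj_on_of_nodup_map (nodup_of_distinctB sMask_distinct) hp hq (Nat.eq_of_testBit_eq fun a => ?_)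
  by_cases ha : a < 1024
  · have hh : a ∈ starF p ↔ a ∈ starF q := by rw [h]
    simp only [starF, Finset.mem_filter, Finset.mem_range, ha, true_and] at hh
    rw [Bool.eq_iff_iff]; exact hh
  · have hz : ∀ r ∈ pts, (sMask r).testBit a = false := fun r hr => by
      rw [Bool.eq_false_iff]
      intro hb
      unfold sMask at hb
      obtain ⟨s, hs, e⟩ := List.mem_map.mp (testBit_maskOf.mp hb)
      exact ha (e ▸ wedge_lt' (mem_pts.mp hr).2 (List.mem_range.mp hs))
    rw [hz p hp, hz q hq]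

/-- Exactly three stars pass through an element of Z, and their points add up to zero. -/
theorem three {x : ℕ} (hx : x < 1024) (hz : zMask.testBit x = true) :
    (pts.toFinset.filter fun p => x ∈ starF p).card = 3 ∧
      ∀ p q r, p ∈ pts → q ∈ pts → r ∈ pts → x ∈ starF p → x ∈ starF q → x ∈ starF r →
        p ≠ q → p ≠ r → q ≠ r → p ^^^ q = r := by
  have h := three_checked
  simp only [forceNs_eq, List.all_eq_true, List.mem_range, Bool.or_eq_true, Bool.not_eq_true', Bool.and_eq_true] at h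
  obtain ⟨h1, h2⟩ := (h x hx).resolve_left (by rw [hz]; decide)
  set l := pts.filter fun p => ((pts.map sMask).getD (p - 1) 0).testBit x with hl
  have hmem : ∀ p, p ∈ l ↔ p ∈ pts ∧ x ∈ starF p := by
    intro p
    rw [hl, List.mem_filter]
    refine and_congr_right fun hp => ?_
    have hpl : p - 1 < (pts.map sMask).length := by
      simp [pts]; have := (mem_pts.mp hp); omega
    rw [List.getD_eq_getElem _ _ hpl, List.getElem_map]
    have : pts[p - 1]'(by simpa using hpl) = p := by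
      simp [pts, List.getElem_map, List.getElem_range]; have := (mem_pts.mp hp); omega
    rw [this, starF, Finset.mem_filter, Finset.mem_range]
    simp [hx]
  have hnd : l.Nodup := by
    rw [hl]
    exact List.Nodup.filter _ (List.Nodup.map (fun a b (e : a + 1 = b + 1) => by omega) List.nodup_range)
  refine ⟨?_, ?_⟩
  · rw [show (pts.toFinset.filter fun p => x ∈ starF p) = l.toFinset by
      ext p; rw [Finset.mem_filter, List.mem_toFinset, List.mem_toFinset, hmem],
      List.toFinset_card_of_nodup hnd, Nat.eq_of_beq_eq_true h1]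
  · obtain ⟨a, b, c, e⟩ := List.length_eq_three.mp (Nat.eq_of_beq_eq_true h1)
    have h3 : a ^^^ b = c := by
      have := Nat.eq_of_beq_eq_true h2
      rwa [e] at this
    intro p q r hp hq hr hxp hxq hxr npq npr nqr
    have hm : ∀ s, s ∈ pts → x ∈ starF s → s = a ∨ s = b ∨ s = c := fun s hs hxs => by
      have := (hmem s).mpr ⟨hs, hxs⟩
      rw [e] at this
      simpa using this
    subst h3
    have c1 : a ^^^ (a ^^^ b) = b := by rw [← Nat.xor_assoc, Nat.xor_self, Nat.zero_xor]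
    have c2 : b ^^^ (a ^^^ b) = a := by rw [Nat.xor_comm a b, ← Nat.xor_assoc, Nat.xor_self, Nat.zero_xor]
    rcases hm p hp hxp with rfl | rfl | rfl <;> rcases hm q hq hxq with rfl | rfl | rfl <;>
      rcases hm r hr hxr with rfl | rfl | rfl <;>
      first
        | exact absurd rfl npq
        | exact absurd rfl npr
        | exact absurd rfl nqr
        | rfl
        | exact c1
        | exact c2
        | exact (Nat.xor_comm _ _)
        | exact (Nat.xor_comm _ _).trans c1
        | exact (Nat.xor_comm _ _).trans c2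

theorem meet {p q : ℕ} (hp : p ∈ pts) (hq : q ∈ pts) (hne : p ≠ q) :
    wedge p q ≠ 0 ∧ wedge p q ∈ starF p ∧ wedge p q ∈ starF q ∧ wedge p q ∈ starF (p ^^^ q) ∧
      p ^^^ q ∈ pts ∧ ∀ y ∈ starF p, y ∈ starF q → y = 0 ∨ y = wedge p q := by
  obtain ⟨hp1, hp2⟩ := mem_pts.mp hp
  obtain ⟨hq1, hq2⟩ := mem_pts.mp hq
  have hr : p ^^^ q ∈ pts := by
    refine mem_pts.mpr ⟨Nat.pos_of_ne_zero fun e => hne (Nat.xor_eq_zero_iff.mp e), ?_⟩
    exact Nat.xor_lt_two_pow (n := 5) hp2 hq2
  have h := meet_checked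
  simp only [forceNs_eq, forceN_eq, List.all_eq_true, List.mem_range, Bool.or_eq_true, Bool.not_eq_true',
    Bool.and_eq_true] at h
  obtain ⟨⟨⟨h0, hQ⟩, hR⟩, hall⟩ := (h p hp q hq).resolve_left (fun e => hne (Nat.eq_of_beq_eq_true e))
  have hget : ∀ s ∈ pts, (pts.map sMask).getD (s - 1) 0 = sMask s := fun s hs => by
    obtain ⟨hs1, hs2⟩ := mem_pts.mp hs
    have hsl : s - 1 < (pts.map sMask).length := by simp [pts]; omega
    rw [List.getD_eq_getElem _ _ hsl, List.getElem_map]
    congr 1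
    simp [pts, List.getElem_map, List.getElem_range]; omega
  rw [hget q hq] at hQ
  rw [hget _ hr] at hR
  have hlt := wedge_lt' hp2 hq2
  have hin : ∀ {s}, (sMask s).testBit (wedge p q) = true → wedge p q ∈ starF s := fun hs =>
    Finset.mem_filter.mpr ⟨Finset.mem_range.mpr hlt, hs⟩
  refine ⟨fun e => ?_, (mem_starF hp2).mpr ⟨q, hq2, rfl⟩, hin hQ, hin hR, hr, fun y hy hy' => ?_⟩
  · rw [e] at h0; exact absurd h0 (by decide)
  · obtain ⟨s, hs, rfl⟩ := (mem_starF hp2).mp hy
    rcases hall s hs with (h' | h') | h'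
    · rw [hget q hq, (Finset.mem_filter.mp hy').2] at h'; exact absurd h' (by decide)
    · exact Or.inl (Nat.eq_of_beq_eq_true h')
    · exact Or.inr (Nat.eq_of_beq_eq_true h')

/-- A totally decomposable subgroup of order sixteen through the first unit is a star. -/
theorem clique_one {S : Finset ℕ} (hS : S.card = 16) (hlt : ∀ a ∈ S, a < 1024)
    (hx : ∀ a ∈ S, ∀ b ∈ S, a ^^^ b ∈ S) (hz : ∀ a ∈ S, a = 0 ∨ zMask.testBit a = true) (h1 : 1 ∈ S) :
    ∃ p ∈ [1, 2, 3], S = starF p := by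
  classical
  have h0 : 0 ∈ S := by simpa using hx 1 h1 1 h1
  have hp : pts.length = 31 := by simp [pts]
  have hsub : ∀ w ∈ S, w ≠ 0 → w ≠ 1 → w ∈ nbrs := by
    intro w hw hw0 hw1
    unfold nbrs
    rw [List.mem_filter, List.mem_range, Bool.and_eq_true]
    refine ⟨hlt w hw, (hz w hw).resolve_left hw0, (hz _ (hx w hw 1 h1)).resolve_left fun e => hw1 ?_⟩
    exact Nat.xor_eq_zero_iff.mp e
  set R := (S.erase 0).erase 1 with hR
  have hRc : R.card = 14 := by
    rw [hR, Finset.card_erase_of_mem (Finset.mem_erase.mpr ⟨by norm_num, h1⟩), Finset.card_erase_of_mem h0, hS]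
  have hRm : ∀ w, w ∈ R ↔ w ∈ S ∧ w ≠ 0 ∧ w ≠ 1 := fun w => by
    rw [hR, Finset.mem_erase, Finset.mem_erase]; tauto
  obtain ⟨y, hy⟩ : R.Nonempty := Finset.card_pos.mp (by rw [hRc]; norm_num)
  obtain ⟨hyS, hy0, hy1⟩ := (hRm y).mp hy
  obtain ⟨z, hz', hzy⟩ : ∃ z ∈ R, z ∉ ({y, y ^^^ 1} : Finset ℕ) := by
    by_contra hall
    push Not at hall
    have := Finset.card_le_card (s := R) hall
    have h2 : ({y, y ^^^ 1} : Finset ℕ).card ≤ 2 := Finset.card_le_two
    omega
  simp only [Finset.mem_insert, Finset.mem_singleton, not_or] at hzy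
  obtain ⟨hzS, hz0, hz1⟩ := (hRm z).mp hz'
  have hadj : zMask.testBit (y ^^^ z) = true :=
    (hz _ (hx y hyS z hzS)).resolve_left fun e => hzy.1 (Nat.xor_eq_zero_iff.mp e).symm
  have h := clique_checked
  simp only [forceNs_eq, List.all_eq_true, Bool.or_eq_true, Bool.not_eq_true'] at h
  have h' := h y (hsub y hyS hy0 hy1) z (hsub z hzS hz0 hz1)
  set L := nbrs.filter fun w => adjB y w && adjB z w with hL
  have hRL : ∀ w ∈ R, w ∈ L := by
    intro w hw
    obtain ⟨hwS, hw0, hw1⟩ := (hRm w).mp hw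
    have ha : ∀ u ∈ S, adjB u w = true := fun u hu => by
      unfold adjB
      rw [Bool.or_eq_true]
      rcases hz _ (hx w hwS u hu) with e | e
      · exact Or.inl (by rw [Nat.xor_eq_zero_iff.mp e]; exact Nat.beq_refl _)
      · exact Or.inr e
    rw [hL, List.mem_filter, Bool.and_eq_true]
    exact ⟨hsub w hwS hw0 hw1, ha y hyS, ha z hzS⟩
  rcases h' with ((e | e) | e) | e | e
  · exact absurd (Nat.eq_of_beq_eq_true e) hzy.1
  · exact absurd (Nat.eq_of_beq_eq_true e) hzy.2
  · rw [hadj] at e; exact absurd e (by decide)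
  · have h14 : R.card ≤ L.length := le_trans (Finset.card_le_card fun w hw => List.mem_toFinset.mpr (hRL w hw))
      (List.toFinset_card_le L)
    rw [Nat.blt_eq] at e
    omega
  · obtain ⟨M, hM, hall⟩ := List.any_eq_true.mp e
    obtain ⟨p, hp3, rfl⟩ := List.mem_map.mp hM
    have hpp : p ∈ pts := mem_pts.mpr (by fin_cases hp3 <;> norm_num)
    refine ⟨p, hp3, Finset.eq_of_subset_of_card_le (fun w hw => ?_) (by rw [card_starF hpp, hS])⟩
    rw [starF, Finset.mem_filter, Finset.mem_range]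
    refine ⟨hlt w hw, ?_⟩
    by_cases hw0 : w = 0
    · subst hw0; exact (Finset.mem_filter.mp (starF_zero hpp)).2
    by_cases hw1 : w = 1
    · subst hw1
      have h2 := pts_one_checked
      simp only [Bool.and_eq_true, List.all_eq_true] at h2
      exact h2.2 p hp3
    exact List.all_eq_true.mp hall w (hRL w ((hRm w).mpr ⟨hw, hw0, hw1⟩))

/-- A linear map of the bivectors preserving the decomposable ones. -/
structure Auto (L : ℕ → ℕ) : Prop where
  lt : ∀ a < 1024, L a < 1024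
  add : ∀ a < 1024, ∀ b < 1024, L (a ^^^ b) = L a ^^^ L b
  inj : ∀ a < 1024, ∀ b < 1024, L a = L b → a = b
  z : ∀ a < 1024, zMask.testBit (L a) = zMask.testBit a

theorem Auto.comp {L M : ℕ → ℕ} (hL : Auto L) (hM : Auto M) : Auto (L ∘ M) where
  lt a ha := hL.lt _ (hM.lt a ha)
  add a ha b hb := by
    show L (M (a ^^^ b)) = _
    rw [hM.add a ha b hb, hL.add _ (hM.lt a ha) _ (hM.lt b hb)]; rfl
  inj a ha b hb e := hM.inj a ha b hb (hL.inj _ (hM.lt a ha) _ (hM.lt b hb) e)
  z a ha := (hL.z _ (hM.lt a ha)).trans (hM.z a ha)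

theorem Auto.zero {L : ℕ → ℕ} (hL : Auto L) : L 0 = 0 := by
  have h := hL.add 0 (by norm_num) 0 (by norm_num)
  rwa [Nat.xor_self, Nat.xor_self] at h

/-- The autos are transitive on the decomposable bivectors. -/
def TransZ : Prop := ∀ x < 1024, zMask.testBit x = true → ∃ L, Auto L ∧ L x = 1

theorem image_props {L : ℕ → ℕ} (hL : Auto L) {S : Finset ℕ} (hS : S.card = 16) (hlt : ∀ a ∈ S, a < 1024)
    (hx : ∀ a ∈ S, ∀ b ∈ S, a ^^^ b ∈ S) (hz : ∀ a ∈ S, a = 0 ∨ zMask.testBit a = true) :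
    (S.image L).card = 16 ∧ (∀ a ∈ S.image L, a < 1024) ∧ (∀ a ∈ S.image L, ∀ b ∈ S.image L, a ^^^ b ∈ S.image L) ∧
      ∀ a ∈ S.image L, a = 0 ∨ zMask.testBit a = true := by
  refine ⟨?_, ?_, ?_, ?_⟩
  · rw [Finset.card_image_of_injOn fun a ha b hb e => hL.inj a (hlt a ha) b (hlt b hb) e, hS]
  · intro a ha
    obtain ⟨a, ha', rfl⟩ := Finset.mem_image.mp ha
    exact hL.lt a (hlt a ha')
  · intro a ha b hb
    obtain ⟨a, ha', rfl⟩ := Finset.mem_image.mp ha
    obtain ⟨b, hb', rfl⟩ := Finset.mem_image.mp hb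
    exact Finset.mem_image.mpr ⟨_, hx a ha' b hb', hL.add a (hlt a ha') b (hlt b hb')⟩
  · intro a ha
    obtain ⟨a, ha', rfl⟩ := Finset.mem_image.mp ha
    rcases hz a ha' with e | e
    · exact Or.inl (by rw [e, hL.zero])
    · exact Or.inr (by rw [hL.z a (hlt a ha'), e])

/-- A totally decomposable subgroup of order sixteen is a star. -/
theorem clique (htr : TransZ) {S : Finset ℕ} (hS : S.card = 16) (hlt : ∀ a ∈ S, a < 1024)
    (hx : ∀ a ∈ S, ∀ b ∈ S, a ^^^ b ∈ S) (hz : ∀ a ∈ S, a = 0 ∨ zMask.testBit a = true) :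
    ∃ p ∈ pts, S = starF p := by
  classical
  obtain ⟨x, hxS, hx0⟩ : ∃ x ∈ S, x ≠ 0 := by
    by_contra hall
    push Not at hall
    have := Finset.card_le_card (s := S) (t := {0}) fun a ha => Finset.mem_singleton.mpr (hall a ha)
    rw [hS, Finset.card_singleton] at this
    omega
  have hxz := (hz x hxS).resolve_left hx0
  have hx1024 := hlt x hxS
  obtain ⟨L, hL, hL1⟩ := htr x hx1024 hxz
  set T := pts.toFinset.filter fun p => x ∈ starF p with hT
  have hTm : ∀ p ∈ T, p ∈ pts ∧ x ∈ starF p := fun p hp => by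
    rw [hT, Finset.mem_filter, List.mem_toFinset] at hp; exact hp
  have key : ∀ {U : Finset ℕ}, U.card = 16 → (∀ a ∈ U, a < 1024) → (∀ a ∈ U, ∀ b ∈ U, a ^^^ b ∈ U) →
      (∀ a ∈ U, a = 0 ∨ zMask.testBit a = true) → x ∈ U → U.image L ∈ ([1, 2, 3].toFinset.image starF) := by
    intro U hU h1 h2 h3 hxU
    obtain ⟨i1, i2, i3, i4⟩ := image_props hL hU h1 h2 h3
    obtain ⟨p, hp, e⟩ := clique_one i1 i2 i3 i4 (Finset.mem_image.mpr ⟨x, hxU, hL1⟩)
    exact Finset.mem_image.mpr ⟨p, List.mem_toFinset.mpr hp, e.symm⟩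
  have hkeyT : ∀ p ∈ T, (starF p).image L ∈ ([1, 2, 3].toFinset.image starF) := fun p hp =>
    key (card_starF (hTm p hp).1) (fun a ha => starF_lt ha) (fun a ha b hb => starF_xor (hTm p hp).1 ha hb)
      (fun a ha => starF_z (hTm p hp).1 ha) (hTm p hp).2
  have hinj : ∀ {U V : Finset ℕ}, (∀ a ∈ U, a < 1024) → (∀ a ∈ V, a < 1024) → U.image L = V.image L → U ⊆ V := by
    intro U V hU hV e a ha
    obtain ⟨b, hb, eb⟩ := Finset.mem_image.mp (e ▸ Finset.mem_image_of_mem L ha)
    exact hL.inj b (hV b hb) a (hU a ha) eb ▸ hb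
  have hcard : (T.image fun p => (starF p).image L).card = 3 := by
    rw [Finset.card_image_of_injOn, hT, (three hx1024 hxz).1]
    intro p hp q hq e
    exact starF_inj (hTm p hp).1 (hTm q hq).1 (Finset.Subset.antisymm (hinj (fun a ha => starF_lt ha)
      (fun a ha => starF_lt ha) e) (hinj (fun a ha => starF_lt ha) (fun a ha => starF_lt ha) e.symm))
  have heq : (T.image fun p => (starF p).image L) = [1, 2, 3].toFinset.image starF := by
    refine Finset.eq_of_subset_of_card_le (fun U hU => ?_) (le_trans Finset.card_image_le (by rw [hcard]; decide))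
    obtain ⟨p, hp, rfl⟩ := Finset.mem_image.mp hU
    exact hkeyT p hp
  have hk := key (U := S) hS hlt hx hz hxS
  rw [← heq] at hk
  obtain ⟨p, hp, e⟩ := Finset.mem_image.mp hk
  exact ⟨p, (hTm p hp).1, Finset.Subset.antisymm (hinj hlt (fun a ha => starF_lt ha) e.symm)
    (hinj (fun a ha => starF_lt ha) hlt e)⟩

/-- The induced map on points. -/
noncomputable def pmap (L : ℕ → ℕ) (p : ℕ) : ℕ := by
  classical exact if h : ∃ q ∈ pts, p ∈ pts ∧ starF q = (starF p).image L then h.choose else 0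

theorem pmap_spec (htr : TransZ) {L : ℕ → ℕ} (hL : Auto L) {p : ℕ} (hp : p ∈ pts) :
    pmap L p ∈ pts ∧ starF (pmap L p) = (starF p).image L := by
  classical
  obtain ⟨i1, i2, i3, i4⟩ := image_props hL (card_starF hp) (fun a ha => starF_lt ha)
    (fun a ha b hb => starF_xor hp ha hb) (fun a ha => starF_z hp ha)
  obtain ⟨q, hq, e⟩ := clique htr i1 i2 i3 i4
  have h : ∃ q ∈ pts, p ∈ pts ∧ starF q = (starF p).image L := ⟨q, hq, hp, e.symm⟩
  rw [pmap, dif_pos h]
  exact ⟨h.choose_spec.1, h.choose_spec.2.2⟩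

theorem pmap_zero (L : ℕ → ℕ) : pmap L 0 = 0 := by
  classical
  rw [pmap, dif_neg]
  rintro ⟨q, -, h, -⟩
  exact absurd (mem_pts.mp h).1 (by norm_num)

theorem pmap_lt (htr : TransZ) {L : ℕ → ℕ} (hL : Auto L) {p : ℕ} (hp : p < 32) : pmap L p < 32 := by
  rcases Nat.eq_zero_or_pos p with rfl | h
  · rw [pmap_zero]; norm_num
  · exact (mem_pts.mp (pmap_spec htr hL (mem_pts.mpr ⟨h, hp⟩)).1).2

theorem pmap_xor (htr : TransZ) {L : ℕ → ℕ} (hL : Auto L) {p q : ℕ} (hp : p < 32) (hq : q < 32) :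
    pmap L (p ^^^ q) = pmap L p ^^^ pmap L q := by
  rcases Nat.eq_zero_or_pos p with rfl | h1
  · rw [pmap_zero, Nat.zero_xor, Nat.zero_xor]
  rcases Nat.eq_zero_or_pos q with rfl | h2
  · rw [pmap_zero, Nat.xor_zero, Nat.xor_zero]
  by_cases hne : p = q
  · rw [hne, Nat.xor_self, Nat.xor_self, pmap_zero]
  have hp' := mem_pts.mpr ⟨h1, hp⟩
  have hq' := mem_pts.mpr ⟨h2, hq⟩
  obtain ⟨x0, xp, xq, xr, hr, -⟩ := meet hp' hq' hne
  have hxlt := starF_lt xp
  have hxz := (starF_z hp' xp).resolve_left x0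
  obtain ⟨a1, a2⟩ := pmap_spec htr hL hp'
  obtain ⟨b1, b2⟩ := pmap_spec htr hL hq'
  obtain ⟨c1, c2⟩ := pmap_spec htr hL hr
  have hne' : ∀ {s u : ℕ}, s ∈ pts → u ∈ pts → s ≠ u → pmap L s ≠ pmap L u := by
    intro s u hs hu hsu e
    refine hsu (starF_inj hs hu ?_)
    have h := (pmap_spec htr hL hs).2.symm.trans (e ▸ (pmap_spec htr hL hu).2)
    refine Finset.image_injOn_powerset_of_injOn (s := Finset.range 1024)
      (fun a ha b hb e => hL.inj a (Finset.mem_range.mp ha) b (Finset.mem_range.mp hb) e)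
      (Finset.mem_coe.mpr (Finset.mem_powerset.mpr (Finset.filter_subset _ _)))
      (Finset.mem_coe.mpr (Finset.mem_powerset.mpr (Finset.filter_subset _ _))) h
  have hpr : p ≠ p ^^^ q := fun e => by
    have : q = 0 := by
      have h' := congrArg (p ^^^ ·) e
      simp only [Nat.xor_self, ← Nat.xor_assoc, Nat.zero_xor] at h'
      exact h'.symm
    omega
  have hqr : q ≠ p ^^^ q := fun e => by
    have : p = 0 := by
      have h' := congrArg (· ^^^ q) e
      simp only [Nat.xor_self, Nat.xor_assoc, Nat.xor_zero] at h'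
      exact h'.symm
    omega
  exact ((three (hL.lt _ hxlt) (by rw [hL.z _ hxlt, hxz])).2 _ _ _ a1 b1 c1
    (a2 ▸ Finset.mem_image_of_mem L xp) (b2 ▸ Finset.mem_image_of_mem L xq) (c2 ▸ Finset.mem_image_of_mem L xr)
    (hne' hp' hq' hne) (hne' hp' hr hpr) (hne' hq' hr hqr)).symm

theorem pmap_comp (htr : TransZ) {L M : ℕ → ℕ} (hL : Auto L) (hM : Auto M) {p : ℕ} (hp : p < 32) :
    pmap (L ∘ M) p = pmap L (pmap M p) := by
  rcases Nat.eq_zero_or_pos p with rfl | h
  · rw [pmap_zero, pmap_zero, pmap_zero]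
  have hp' := mem_pts.mpr ⟨h, hp⟩
  obtain ⟨b1, b2⟩ := pmap_spec htr hM hp'
  obtain ⟨a1, a2⟩ := pmap_spec htr hL b1
  obtain ⟨c1, c2⟩ := pmap_spec htr (hL.comp hM) hp'
  exact starF_inj c1 a1 (by rw [c2, a2, b2, Finset.image_image])

theorem pmap_congr {L M : ℕ → ℕ} (h : ∀ a < 1024, L a = M a) (p : ℕ) : pmap L p = pmap M p := by
  have e : (starF p).image L = (starF p).image M := Finset.image_congr fun a ha => h a (starF_lt ha)
  unfold pmap
  simp only [e]

/-- A map fixing every point is trivial. -/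
theorem pmap_eq_id (htr : TransZ) {L : ℕ → ℕ} (hL : Auto L) (h : ∀ p ∈ pts, pmap L p = p) {a : ℕ} (ha : a < 1024) :
    L a = a := by
  classical
  have hZ : ∀ x < 1024, zMask.testBit x = true → L x = x := by
    intro x hx hz
    obtain ⟨p, q, hne, hp, hq, hxp, hxq⟩ : ∃ p q, p ≠ q ∧ p ∈ pts ∧ q ∈ pts ∧ x ∈ starF p ∧ x ∈ starF q := by
      obtain ⟨p, hp, q, hq, hne⟩ := Finset.one_lt_card.mp
        (show 1 < (pts.toFinset.filter fun p => x ∈ starF p).card by rw [(three hx hz).1]; norm_num)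
      rw [Finset.mem_filter, List.mem_toFinset] at hp hq
      exact ⟨p, q, hne, hp.1, hq.1, hp.2, hq.2⟩
    have hin : ∀ {s}, s ∈ pts → x ∈ starF s → L x ∈ starF s := fun hs hxs => by
      have h2 := (pmap_spec htr hL hs).2
      rw [h _ hs] at h2
      exact h2 ▸ Finset.mem_image_of_mem L hxs
    obtain ⟨-, -, -, -, -, hu⟩ := meet hp hq hne
    have hx0 : x ≠ 0 := fun e => zMask_zero (e ▸ hz)
    have hLx0 : L x ≠ 0 := fun e => hx0 (hL.inj x hx 0 (by norm_num) (e.trans hL.zero.symm))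
    exact ((hu _ (hin hp hxp) (hin hq hxq)).resolve_left hLx0).trans ((hu _ hxp hxq).resolve_left hx0).symm
  refine ind_units (Q := fun b => L b = b) hL.zero (fun a b ha hb e1 e2 => ?_) (fun i hi => ?_) ha
  · rw [hL.add a ha b hb, e1, e2]
  · have h1 := units_z
    simp only [List.all_eq_true, List.mem_range] at h1
    exact hZ _ (lt_of_le_of_lt (Nat.pow_le_pow_right (by norm_num) (show i ≤ 9 by omega)) (by norm_num)) (h1 i hi)

end CfsgGolay.Ten
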