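/-
The normalizer of the standard group induces SL(5,2) on it.
-/
import Cfsg.Agent.Lib.JankoFour.TenStar
import Cfsg.Agent.Lib.SLCard

set_option autoImplicit false

namespace CfsgGolay.Ten

open Cfsg CfsgGolay

/-- The vector of a point. -/
def vecOf (p : ℕ) : Fin 5 → ZMod 2 := fun i => if p.testBit i then 1 else 0

/-- The point of a vector. -/
def codeOf (v : Fin 5 → ZMod 2) : ℕ :=
  (v 0).val + 2 * (v 1).val + 4 * (v 2).val + 8 * (v 3).val + 16 * (v 4).val

theorem codeOf_lt (v : Fin 5 → ZMod 2) : codeOf v < 32 := by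
  have h := fun i => ZMod.val_lt (v i)
  have := h 0; have := h 1; have := h 2; have := h 3; have := h 4
  unfold codeOf; omega

theorem codeOf_vecOf : ∀ p < 32, codeOf (vecOf p) = p := by decide +kernel

theorem vecOf_codeOf : ∀ v : Fin 5 → ZMod 2, vecOf (codeOf v) = v := by decide +kernel

theorem vecOf_xor : ∀ p < 32, ∀ q < 32, vecOf (p ^^^ q) = vecOf p + vecOf q := by decide +kernel

theorem vecOf_zero : vecOf 0 = 0 := by decide +kernel

theorem codeOf_add (v w : Fin 5 → ZMod 2) : codeOf (v + w) = codeOf v ^^^ codeOf w := by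
  have h := vecOf_xor _ (codeOf_lt v) _ (codeOf_lt w)
  rw [vecOf_codeOf, vecOf_codeOf] at h
  rw [← h, codeOf_vecOf _ (Nat.xor_lt_two_pow (n := 5) (codeOf_lt v) (codeOf_lt w))]

theorem card_SL_five : Nat.card (Matrix.SpecialLinearGroup (Fin 5) (ZMod 2)) = 9999360 := by
  have h := CfsgLib.SLCard.card_units_mul_card_SL (F := ZMod 2) (n := 5) (by norm_num)
  rw [Matrix.card_GL_field, ZMod.card] at h
  simp only [Fin.prod_univ_five, Fin.val_zero, Fin.val_one, Fin.val_two, Fin.isValue] at h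
  simp only [show ((3 : Fin 5) : ℕ) = 3 from rfl, show ((4 : Fin 5) : ℕ) = 4 from rfl, Nat.reducePow, Nat.reduceSub,
    Nat.reduceMul, one_mul] at h
  exact h

/-- The linear map of the points induced by a map of the bivectors. -/
noncomputable def pointMap (L : ℕ → ℕ) (htr : TransZ) (hL : Auto L) : (Fin 5 → ZMod 2) →ₗ[ZMod 2] (Fin 5 → ZMod 2) :=
  AddMonoidHom.toZModLinearMap 2
    { toFun := fun v => vecOf (pmap L (codeOf v))
      map_zero' := by
        have h : codeOf (0 : Fin 5 → ZMod 2) = 0 := by decide +kernel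
        rw [h, pmap_zero, vecOf_zero]
      map_add' := fun v w => by
        rw [codeOf_add, pmap_xor htr hL (codeOf_lt v) (codeOf_lt w),
          vecOf_xor _ (pmap_lt htr hL (codeOf_lt v)) _ (pmap_lt htr hL (codeOf_lt w))] }

theorem pointMap_apply (L : ℕ → ℕ) (htr : TransZ) (hL : Auto L) (v : Fin 5 → ZMod 2) :
    pointMap L htr hL v = vecOf (pmap L (codeOf v)) := rfl

end CfsgGolay.Ten

namespace CfsgLib.JankoFour.Ctx

open Cfsg Subgroup CfsgGolay CfsgGolay.Ten

attribute [local irreducible] zMask tMask orbList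

universe u

variable {G : Type u} [Group G] [Finite G] {z : G} {P E : Subgroup G} {c : Ctx z P E} {A : Subgroup MTwoTwo}
  {o : c.Orb A}

namespace Ten

variable (t : Ten o)

/-- The action of an element on the indices of the standard group. -/
noncomputable def lmap (n : G) (a : ℕ) : ℕ := by
  classical exact if h : ∃ b, b < 1024 ∧ n * t.Ψ a * n⁻¹ = t.Ψ b then h.choose else 0

theorem lmap_spec {n : G} (hn : n ∈ normalizer (t.A0 : Set G)) {a : ℕ} (ha : a < 1024) :
    t.lmap n a < 1024 ∧ n * t.Ψ a * n⁻¹ = t.Ψ (t.lmap n a) := by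
  classical
  obtain ⟨b, hb, e⟩ := (mem_normalizer_iff.mp hn _).mp (⟨a, ha, rfl⟩ : t.Ψ a ∈ t.A0)
  have h : ∃ b, b < 1024 ∧ n * t.Ψ a * n⁻¹ = t.Ψ b := ⟨b, hb, e⟩
  rw [lmap, dif_pos h]
  exact h.choose_spec

theorem lmap_eq {n : G} (hn : n ∈ normalizer (t.A0 : Set G)) {a b : ℕ} (ha : a < 1024) (hb : b < 1024)
    (e : n * t.Ψ a * n⁻¹ = t.Ψ b) : t.lmap n a = b :=
  t.Ψ_inj (t.lmap_spec hn ha).1 hb ((t.lmap_spec hn ha).2.symm.trans e)

theorem lmap_auto {n : G} (hn : n ∈ normalizer (t.A0 : Set G)) : Auto (t.lmap n) where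
  lt a ha := (t.lmap_spec hn ha).1
  add a ha b hb := by
    obtain ⟨a1, a2⟩ := t.lmap_spec hn ha
    obtain ⟨b1, b2⟩ := t.lmap_spec hn hb
    refine t.lmap_eq hn (Nat.xor_lt_two_pow (n := 10) ha hb) (Nat.xor_lt_two_pow (n := 10) a1 b1) ?_
    rw [← t.Ψ_mul ha hb, ← t.Ψ_mul a1 b1, ← a2, ← b2]
    group
  inj a ha b hb e := by
    have h := (t.lmap_spec hn ha).2.trans ((congrArg t.Ψ e).trans (t.lmap_spec hn hb).2.symm)
    exact t.Ψ_inj ha hb (mul_left_cancel (mul_right_cancel h))
  z a ha := by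
    obtain ⟨a1, a2⟩ := t.lmap_spec hn ha
    obtain ⟨-, hiff, -⟩ := t.orbits
    by_cases ha0 : a = 0
    · subst ha0
      rw [t.lmap_eq hn (a := 0) (b := 0) (by norm_num) (by norm_num) (by rw [t.Ψ_zero]; group)]
    have hb0 : t.lmap n a ≠ 0 := fun e => ha0 (t.Ψ_inj ha (by norm_num) (by
      rw [e, t.Ψ_zero] at a2
      rw [t.Ψ_zero]; exact conj_eq_one_iff.mp a2))
    rw [Bool.eq_iff_iff, ← hiff _ a1 hb0, ← hiff a ha ha0, ← a2]
    exact c.isZ_iff n _

include t in
theorem transZ : TransZ := by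
  intro x hx hz
  obtain ⟨-, hiff, -⟩ := t.orbits
  have hx0 : x ≠ 0 := fun e => zMask_zero (e ▸ hz)
  have h1 : zMask.testBit 1 = true := by
    have h := pts_one_checked
    simp only [Bool.and_eq_true] at h
    exact h.1
  obtain ⟨n, hn, e⟩ := t.type_conj hx hx0 (show 1 < 1024 by norm_num) one_ne_zero
    (iff_of_true ((hiff x hx hx0).mpr hz) ((hiff 1 (by norm_num) one_ne_zero).mpr h1))
  exact ⟨_, t.lmap_auto hn, t.lmap_eq hn hx (by norm_num) e⟩

theorem lmap_mul {n m : G} (hn : n ∈ normalizer (t.A0 : Set G)) (hm : m ∈ normalizer (t.A0 : Set G)) {a : ℕ}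
    (ha : a < 1024) : t.lmap (n * m) a = t.lmap n (t.lmap m a) := by
  obtain ⟨a1, a2⟩ := t.lmap_spec hm ha
  refine t.lmap_eq (mul_mem hn hm) ha (t.lmap_spec hn a1).1 ?_
  rw [← (t.lmap_spec hn a1).2, ← a2]
  group

theorem lmap_one {a : ℕ} (ha : a < 1024) : t.lmap 1 a = a := t.lmap_eq (one_mem _) ha ha (by group)

/-- The linear map on points of an element of the normalizer. -/
noncomputable def pointEnd : ↥(normalizer (t.A0 : Set G)) →* Module.End (ZMod 2) (Fin 5 → ZMod 2) where
  toFun n := pointMap (t.lmap n) t.transZ (t.lmap_auto n.2)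
  map_one' := LinearMap.ext fun v => by
    rw [pointMap_apply, Module.End.one_apply]
    rcases Nat.eq_zero_or_pos (codeOf v) with e | h
    · rw [e, pmap_zero, ← e, vecOf_codeOf]
    · have hp := mem_pts.mpr ⟨h, codeOf_lt v⟩
      obtain ⟨q1, q2⟩ := pmap_spec t.transZ (t.lmap_auto (one_mem _)) hp
      have e2 : pmap (t.lmap 1) (codeOf v) = codeOf v := by
        refine starF_inj q1 hp (q2.trans ?_)
        refine (Finset.image_congr fun a ha => ?_).trans Finset.image_id
        exact t.lmap_one (starF_lt ha)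
      show vecOf (pmap (t.lmap 1) (codeOf v)) = v
      rw [e2, vecOf_codeOf]
  map_mul' n m := LinearMap.ext fun v => by
    rw [Module.End.mul_apply, pointMap_apply, pointMap_apply, pointMap_apply,
      codeOf_vecOf _ (pmap_lt t.transZ (t.lmap_auto m.2) (codeOf_lt v)),
      ← pmap_comp t.transZ (t.lmap_auto n.2) (t.lmap_auto m.2) (codeOf_lt v)]
    refine congrArg vecOf (pmap_congr (fun a ha => ?_) _)
    exact t.lmap_mul n.2 m.2 ha

theorem pointEnd_det (n : ↥(normalizer (t.A0 : Set G))) : LinearMap.det (t.pointEnd n) = 1 := by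
  have h : LinearMap.det (t.pointEnd n) * LinearMap.det (t.pointEnd n⁻¹) = 1 := by
    rw [← map_mul, ← map_mul, mul_inv_cancel, map_one, map_one]
  revert h
  generalize LinearMap.det (t.pointEnd n) = x
  generalize LinearMap.det (t.pointEnd n⁻¹) = y
  revert x y
  decide

/-- The homomorphism to SL(5,2). -/
noncomputable def toSL : ↥(normalizer (t.A0 : Set G)) →* Matrix.SpecialLinearGroup (Fin 5) (ZMod 2) where
  toFun n := ⟨LinearMap.toMatrixAlgEquiv' (t.pointEnd n), by
    exact (LinearMap.det_toMatrix' (f := t.pointEnd n)).trans (t.pointEnd_det n)⟩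
  map_one' := Subtype.ext (by
    show LinearMap.toMatrixAlgEquiv' (t.pointEnd 1) = 1
    rw [map_one, map_one])
  map_mul' n m := Subtype.ext (by
    show LinearMap.toMatrixAlgEquiv' (t.pointEnd (n * m)) = _
    rw [map_mul, map_mul]; rfl)

theorem toSL_eq_one {n : ↥(normalizer (t.A0 : Set G))} : t.toSL n = 1 ↔ (n : G) ∈ t.A0 := by
  constructor
  · intro h
    have h' : t.pointEnd n = 1 :=
      LinearMap.toMatrixAlgEquiv'.injective ((congrArg Subtype.val h).trans (map_one _).symm)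
    have hfix : ∀ p ∈ pts, pmap (t.lmap n) p = p := fun p hp => by
      obtain ⟨-, hp2⟩ := mem_pts.mp hp
      have h2 : vecOf (pmap (t.lmap n) (codeOf (vecOf p))) = vecOf p := by
        have := LinearMap.congr_fun h' (vecOf p)
        exact this
      rw [codeOf_vecOf p hp2] at h2
      have h3 := congrArg codeOf h2
      rwa [codeOf_vecOf p hp2, codeOf_vecOf _ (pmap_lt t.transZ (t.lmap_auto n.2) hp2)] at h3
    refine t.cent_A0.le (mem_centralizer_iff.mpr ?_)
    rintro _ ⟨a, ha, rfl⟩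
    have e := (t.lmap_spec n.2 ha).2
    rw [pmap_eq_id t.transZ (t.lmap_auto n.2) hfix ha] at e
    exact (mul_inv_eq_iff_eq_mul.mp e).symm
  · rintro ⟨b, hb, e⟩
    have hid : ∀ a < 1024, t.lmap n a = a := fun a ha => t.lmap_eq n.2 ha ha (by
      rw [e, t.Ψ_mul hb ha, Nat.xor_comm, ← t.Ψ_mul ha hb, mul_inv_cancel_right])
    have h1 : t.pointEnd n = t.pointEnd 1 := LinearMap.ext fun v => by
      show vecOf (pmap (t.lmap n) (codeOf v)) = vecOf (pmap (t.lmap 1) (codeOf v))
      exact congrArg vecOf (pmap_congr (fun a ha => (hid a ha).trans (t.lmap_one ha).symm) _)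
    refine Subtype.ext ?_
    show LinearMap.toMatrixAlgEquiv' (t.pointEnd n) = 1
    rw [h1, map_one, map_one]

/-- A complement of the standard group in its normalizer is SL(5,2). -/
theorem complement_iso {B : Subgroup G} (hB : B ≤ normalizer (t.A0 : Set G)) (hmeet : B ⊓ t.A0 = ⊥)
    (hcard : Nat.card B = 9999360) : Nonempty (↥B ≃* Matrix.SpecialLinearGroup (Fin 5) (ZMod 2)) := by
  refine ⟨MulEquiv.ofBijective (t.toSL.comp (inclusion hB)) ?_⟩
  refine (Nat.bijective_iff_injective_and_card _).mpr ⟨(injective_iff_map_eq_one _).mpr fun b hb => ?_, ?_⟩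
  · have h : (b : G) ∈ B ⊓ t.A0 := ⟨b.2, (t.toSL_eq_one (n := inclusion hB b)).mp hb⟩
    rw [hmeet, mem_bot] at h
    exact Subtype.ext h
  · rw [hcard, card_SL_five]

end Ten

end CfsgLib.JankoFour.Ctx
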