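/-
The normalizer of the standard group splits over it.
-/
import Cfsg.Agent.Lib.JankoFour.TenOrbit
import Cfsg.Agent.Lib.JankoFour.TenChecksStar
import Cfsg.Agent.S0051

set_option autoImplicit false

namespace CfsgGolay.Ten

open CfsgGolay

theorem canon_checked : ((qGens.map fun d => d.2.1) ++ xT).all (fun k => Nat.beq (pcomp pid k) k) = true := by
  decide +kernel

theorem canon {k : ℕ} (hk : k ∈ (qGens.map fun d => d.2.1) ∨ k ∈ xT) {g : Equiv.Perm Cfsg.GolayPt} (hg : Repr k g) :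
    codeP g = k := by
  have h := Nat.eq_of_beq_eq_true (List.all_eq_true.mp canon_checked k (List.mem_append.mpr hk))
  rw [pcomp_eq_codeP repr_pid hg, one_mul] at h
  exact h

end CfsgGolay.Ten

namespace CfsgLib.JankoFour.Ctx

open Cfsg Subgroup CfsgGolay CfsgGolay.Ten
open scoped Pointwise

attribute [local irreducible] wGens qGens uList avec xT zMask tMask actV

universe u

variable {G : Type u} [Group G] [Finite G] {z : G} {P E : Subgroup G} {c : Ctx z P E} {A : Subgroup MTwoTwo}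
  {o : c.Orb A}

namespace Ten

variable (t : Ten o)

theorem gen_spec {d : ℕ × ℕ × List ℕ} (hd : genB d = true) :
    d.1 < 2048 ∧ ∃ g : ↥M24, Repr d.2.1 (g : Equiv.Perm GolayPt) ∧
      t.Φ d.1 * t.s g ∈ normalizer (t.A0 : Set G) := by
  simp only [genB, Bool.and_eq_true, List.all_eq_true, List.mem_range, forceN_eq] at hd
  obtain ⟨⟨⟨⟨h1, h2⟩, h3⟩, h6⟩, h7⟩ := hd
  obtain ⟨g, hg⟩ := exists_repr_of_permOK h2
  set σ : ↥M24 := ⟨g, mem_M24_of_gensKept hg h3⟩ with hσ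
  set n := t.Φ d.1 * t.s σ with hn
  have hbas : ∀ i < 10, n * t.Ψ (2 ^ i) * n⁻¹ = t.Ψ ((d.2.2).getD i 0) := by
    intro i hi
    have ha : 2 ^ i < 1024 := lt_of_le_of_lt (Nat.pow_le_pow_right (by norm_num) (show i ≤ 9 by omega)) (by norm_num)
    obtain ⟨e1, e2⟩ := h7 i hi
    set a := 2 ^ i
    set b := (d.2.2).getD i 0 with hb
    have hb1 : b < 1024 := by
      rw [hb]
      by_cases hl : i < (d.2.2).length
      · rw [List.getD_eq_getElem _ _ hl]
        exact Nat.blt_eq.mp (h6 _ (List.getElem_mem hl))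
      · rw [List.getD_eq_default _ _ (not_lt.mp hl)]; norm_num
    have hx : a / 64 < 16 := by omega
    have hy : b / 64 < 16 := by omega
    have e1' : xEl (b / 64) * σ = σ * xEl (a / 64) := by
      refine Subtype.ext ?_
      have hh := Nat.eq_of_beq_eq_true e1
      unfold aperm at hh
      rw [pcomp_eq_codeP (repr_xEl hy) hg, pcomp_eq_codeP hg (repr_xEl hx)] at hh
      exact codeP_injective hh
    have e2' : avec b = d.1 ^^^ actV d.2.1 (avec a) ^^^ actV (xAt (b / 64)) d.1 := Nat.eq_of_beq_eq_true e2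
    rw [mul_inv_eq_iff_eq_mul, hn]
    show t.Φ d.1 * t.s σ * (t.Φ (avec a) * t.s (xEl (a / 64))) =
      t.Φ (avec b) * t.s (xEl (b / 64)) * (t.Φ d.1 * t.s σ)
    rw [t.mul_pair _ _ hg _ (uList_lt (avec_mem a)),
      t.mul_pair _ _ (repr_xEl hy) _ (Nat.blt_eq.mp h1), e1', e2', Nat.xor_assoc, Nat.xor_self, Nat.xor_zero]
  refine ⟨Nat.blt_eq.mp h1, σ, hg, mem_norm_of ?_⟩
  rintro _ ⟨a, ha, rfl⟩
  obtain ⟨h, e⟩ := t.conj_lin (List.all_eq_true.mpr h6) hbas ha
  exact ⟨_, h, e⟩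

/-- The element of M24 of a packed permutation. -/
noncomputable def gM (k : ℕ) : ↥M24 := by
  classical exact if h : ∃ g : ↥M24, Repr k (g : Equiv.Perm GolayPt) then h.choose else 1

theorem repr_gM {k : ℕ} {g : ↥M24} (hg : Repr k (g : Equiv.Perm GolayPt)) : gM k = g := by
  classical
  have h : ∃ g : ↥M24, Repr k (g : Equiv.Perm GolayPt) := ⟨g, hg⟩
  rw [gM, dif_pos h]
  exact Subtype.ext (h.choose_spec.unique hg)

/-- The translation part of the complement. -/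
noncomputable def wEl (e : ℕ) : G := t.Φ (wV e) * t.s (gM (wC e))

theorem wEl_spec {e : ℕ} (he : e < 16) :
    wV e < 2048 ∧ Repr (wC e) (gM (wC e) : Equiv.Perm GolayPt) ∧ t.wEl e ∈ normalizer (t.A0 : Set G) := by
  have h := gens_shape
  simp only [Bool.and_eq_true] at h
  have hl := Nat.eq_of_beq_eq_true h.1.1.1.1.1.1.1
  have hd : wGens.getD e (0, 0, []) ∈ wGens := by
    rw [List.getD_eq_getElem _ _ (by omega)]; exact List.getElem_mem _
  obtain ⟨h1, g, hg, hn⟩ := t.gen_spec (List.all_eq_true.mp wGens_ok _ hd)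
  have eg : gM (wC e) = g := repr_gM hg
  unfold wEl
  rw [eg]
  exact ⟨h1, hg, hn⟩

/-- The codes of the permutation part. -/
def qList : List ℕ := qGens.map fun d => d.2.1

/-- The permutation part of the complement. -/
def qSet : Set ↥M24 := {σ | codeP (σ : Equiv.Perm GolayPt) ∈ qList}

theorem q_spec {k : ℕ} (hk : k ∈ qList) :
    ∃ g : ↥M24, g ∈ qSet ∧ Repr k (g : Equiv.Perm GolayPt) ∧ t.s g ∈ normalizer (t.A0 : Set G) := by
  obtain ⟨d, hd, rfl⟩ := List.mem_map.mp hk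
  obtain ⟨-, g, hg, hn⟩ := t.gen_spec (List.all_eq_true.mp qGens_ok d hd)
  have h := gens_shape
  simp only [Bool.and_eq_true, List.all_eq_true] at h
  have h0 := Nat.eq_of_beq_eq_true (h.1.1.2 d hd)
  rw [h0, t.Φ_zero, one_mul] at hn
  refine ⟨g, ?_, hg, hn⟩
  show codeP (g : Equiv.Perm GolayPt) ∈ qList
  have e : codeP (g : Equiv.Perm GolayPt) = d.2.1 := canon (Or.inl hk) hg
  rw [e]
  exact hk

include t in
theorem qSet_spec {σ : ↥M24} (hσ : σ ∈ qSet) : t.s σ ∈ normalizer (t.A0 : Set G) := by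
  obtain ⟨g, -, hg, hn⟩ := t.q_spec hσ
  rwa [Subtype.ext ((repr_codeP (σ : Equiv.Perm GolayPt)).unique hg)]

theorem qSet_mul {σ τ : ↥M24} (hσ : σ ∈ qSet) (hτ : τ ∈ qSet) : σ * τ ∈ qSet := by
  have h := q_mul
  simp only [forceNs_eq, forceN_eq, List.all_eq_true] at h
  have h2 := of_memB (h _ hσ _ hτ)
  rw [pcomp_eq_codeP (repr_codeP (σ : Equiv.Perm GolayPt)) (repr_codeP (τ : Equiv.Perm GolayPt))] at h2
  exact h2

theorem qSet_one : (1 : ↥M24) ∈ qSet := by
  have h := gens_shape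
  simp only [Bool.and_eq_true] at h
  have h0 := Nat.eq_of_beq_eq_true h.1.1.1.2
  have hl := Nat.eq_of_beq_eq_true h.1.1.1.1.1.1.2
  show codeP ((1 : ↥M24) : Equiv.Perm GolayPt) ∈ qList
  rw [OneMemClass.coe_one, ← pid_eq_codeP, ← h0]
  refine List.mem_map.mpr ⟨qGens.getD 0 (0, 0, []), ?_, rfl⟩
  rw [List.getD_eq_getElem _ _ (by omega)]
  exact List.getElem_mem _

theorem qSet_inv {σ : ↥M24} (hσ : σ ∈ qSet) : σ⁻¹ ∈ qSet := by
  have hpow : ∀ k : ℕ, σ ^ k ∈ qSet := by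
    intro k
    induction k with
    | zero => rw [pow_zero]; exact qSet_one
    | succ k ih => rw [pow_succ]; exact qSet_mul ih hσ
  have hpos : 0 < orderOf σ := orderOf_pos σ
  have : σ⁻¹ = σ ^ (orderOf σ - 1) := by
    rw [inv_eq_iff_mul_eq_one, ← pow_succ', Nat.sub_add_cancel hpos, pow_orderOf_eq_one]
  rw [this]
  exact hpow _

theorem wEl_mul {e f : ℕ} (he : e < 16) (hf : f < 16) : t.wEl e * t.wEl f = t.wEl (e ^^^ f) := by
  obtain ⟨-, hre, -⟩ := t.wEl_spec he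
  obtain ⟨hf1, hrf, -⟩ := t.wEl_spec hf
  have h := w_mul
  simp only [forceN_eq, List.all_eq_true, List.mem_range, Bool.and_eq_true] at h
  obtain ⟨e1, e2⟩ := h e he f hf
  unfold wEl
  have hc := hre.comp hrf
  rw [Nat.eq_of_beq_eq_true e2] at hc
  rw [t.mul_pair _ _ hre _ hf1, Nat.eq_of_beq_eq_true e1, repr_gM (g := gM (wC e) * gM (wC f)) hc]

theorem wEl_zero : t.wEl 0 = 1 := by
  have h := t.wEl_mul (e := 0) (f := 0) (by norm_num) (by norm_num)
  rw [Nat.xor_self] at h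
  exact mul_eq_left.mp h

theorem qw {σ : ↥M24} (hσ : σ ∈ qSet) {e : ℕ} (he : e < 16) :
    ∃ f < 16, t.s σ * t.wEl e = t.wEl f * t.s σ := by
  obtain ⟨he1, hre, -⟩ := t.wEl_spec he
  have h := qw_mul
  simp only [forceNs_eq, forceN_eq, List.all_eq_true, List.mem_range, List.any_eq_true, Bool.and_eq_true] at h
  obtain ⟨f, hf, e1, e2⟩ := h _ hσ e he
  obtain ⟨-, hrf, -⟩ := t.wEl_spec hf
  refine ⟨f, hf, ?_⟩
  have hr := repr_codeP (σ : Equiv.Perm GolayPt)
  have e2' : σ * gM (wC e) = gM (wC f) * σ := by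
    refine Subtype.ext ?_
    have hh := Nat.eq_of_beq_eq_true e2
    rw [pcomp_eq_codeP hr hre, pcomp_eq_codeP hrf hr] at hh
    exact codeP_injective hh
  unfold wEl
  have h2 := t.mul_pair σ (gM (wC e)) hr 0 he1
  rw [t.Φ_zero, one_mul, Nat.zero_xor, e2', map_mul] at h2
  rw [h2, Nat.eq_of_beq_eq_true e1]
  group

/-- The complement inside a subgroup of odd index. -/
noncomputable def lGrp : Subgroup G where
  carrier := {x | ∃ e < 16, ∃ σ ∈ qSet, x = t.wEl e * t.s σ}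
  one_mem' := ⟨0, by norm_num, 1, qSet_one, by rw [t.wEl_zero, map_one, one_mul]⟩
  mul_mem' := by
    rintro _ _ ⟨e, he, σ, hσ, rfl⟩ ⟨f, hf, τ, hτ, rfl⟩
    obtain ⟨f', hf', h⟩ := t.qw hσ hf
    refine ⟨e ^^^ f', Nat.xor_lt_two_pow (n := 4) he hf', σ * τ, qSet_mul hσ hτ, ?_⟩
    rw [← t.wEl_mul he hf', map_mul, show t.wEl e * t.s σ * (t.wEl f * t.s τ) =
      t.wEl e * (t.s σ * t.wEl f) * t.s τ by group, h]
    group
  inv_mem' := by
    rintro _ ⟨e, he, σ, hσ, rfl⟩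
    obtain ⟨f, hf, h⟩ := t.qw (qSet_inv hσ) he
    refine ⟨f, hf, σ⁻¹, qSet_inv hσ, ?_⟩
    have hinv : (t.wEl e)⁻¹ = t.wEl e := inv_eq_of_mul_eq_one_left (by rw [t.wEl_mul he he, Nat.xor_self, t.wEl_zero])
    rw [← h, mul_inv_rev, hinv, map_inv]

theorem lGrp_le : t.lGrp ≤ normalizer (t.A0 : Set G) := by
  rintro _ ⟨e, he, σ, hσ, rfl⟩
  exact mul_mem (t.wEl_spec he).2.2 (t.qSet_spec hσ)

theorem pair_of_mem {e : ℕ} {σ : ↥M24} : t.wEl e * t.s σ = t.Φ (wV e) * t.s (gM (wC e) * σ) := by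
  unfold wEl
  rw [map_mul, mul_assoc]

theorem wV_inj {e f : ℕ} (he : e < 16) (hf : f < 16) (h : wV e = wV f) : e = f := by
  have hs := gens_shape
  simp only [Bool.and_eq_true] at hs
  have hl := Nat.eq_of_beq_eq_true hs.1.1.1.1.1.1.1
  have hn : (wGens.map fun d => d.1).Nodup := nodup_of_distinctB hs.1.2
  have hget : ∀ i, i < 16 → wV i = (wGens.map fun d => d.1).getD i 0 := fun i hi => by
    rw [List.getD_eq_getElem _ _ (by simp; omega), List.getElem_map]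
    show (wGens.getD i (0, 0, [])).1 = _
    rw [List.getD_eq_getElem _ _ (by omega)]
  rw [hget e he, hget f hf, List.getD_eq_getElem _ _ (by simp; omega), List.getD_eq_getElem _ _ (by simp; omega)] at h
  exact (hn.getElem_inj_iff).mp h

theorem card_lGrp : Nat.card t.lGrp = 1024 := by
  classical
  have hs := gens_shape
  simp only [Bool.and_eq_true] at hs
  have hq : Nat.card (qSet : Set ↥M24) = 64 := by
    have hn : qList.Nodup := nodup_of_distinctB hs.2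
    have hlen : qList.length = 64 := by
      show (qGens.map fun d => d.2.1).length = 64
      rw [List.length_map]; exact Nat.eq_of_beq_eq_true hs.1.1.1.1.1.1.2
    rw [← hlen, ← List.toFinset_card_of_nodup hn, ← Nat.card_eq_finsetCard]
    refine Nat.card_eq_of_bijective (fun σ : qSet => (⟨_, List.mem_toFinset.mpr σ.2⟩ : ↥qList.toFinset))
      ⟨fun a b e => Subtype.ext (Subtype.ext (codeP_injective (congrArg Subtype.val e))), fun k => ?_⟩
    obtain ⟨g, hg, hr, -⟩ := t.q_spec (List.mem_toFinset.mp k.2)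
    exact ⟨⟨g, hg⟩, Subtype.ext (canon (Or.inl (List.mem_toFinset.mp k.2)) hr)⟩
  have h := Nat.card_eq_of_bijective (fun p : Fin 16 × (qSet : Set ↥M24) =>
    (⟨t.wEl p.1 * t.s p.2.1, p.1, p.1.2, p.2.1, p.2.2, rfl⟩ : t.lGrp)) ⟨?_, ?_⟩
  · rw [← h, Nat.card_prod, Nat.card_fin, hq]
  · intro a b e
    have e' := congrArg Subtype.val e
    dsimp only at e'
    rw [t.pair_of_mem, t.pair_of_mem] at e'
    obtain ⟨e1, e2⟩ := t.pair_inj (t.wEl_spec a.1.2).1 (t.wEl_spec b.1.2).1 e'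
    have h1 : a.1 = b.1 := Fin.ext (wV_inj a.1.2 b.1.2 e1)
    rw [h1, mul_right_inj] at e2
    exact Prod.ext h1 (Subtype.ext e2)
  · rintro ⟨_, e, he, σ, hσ, rfl⟩
    exact ⟨(⟨e, he⟩, ⟨σ, hσ⟩), rfl⟩

theorem lGrp_meet : t.lGrp ⊓ t.A0 = ⊥ := by
  rw [eq_bot_iff]
  rintro _ ⟨⟨e, he, σ, hσ, rfl⟩, a, ha, ea⟩
  rw [mem_bot]
  have hm := meet_trivial
  simp only [forceNs_eq, Bool.and_eq_true, List.all_eq_true, List.mem_range, Bool.or_eq_true,
    Bool.not_eq_true'] at hm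
  rw [t.pair_of_mem] at ea
  obtain ⟨e1, e2⟩ := t.pair_inj (t.wEl_spec he).1 (uList_lt (avec_mem a)) ea
  have he0 : e = 0 := by
    rcases hm.1 e he with h | h
    · exact Nat.eq_of_beq_eq_true h
    · have hb : CfsgGolay.memB (wV e) uList = true :=
        List.any_eq_true.mpr ⟨_, e1 ▸ avec_mem a, Nat.beq_refl _⟩
      rw [hb] at h; exact absurd h (by decide)
  subst he0
  have hg0 : gM (wC 0) = 1 := by
    have h := gens_shape
    simp only [Bool.and_eq_true] at h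
    exact repr_gM (Nat.eq_of_beq_eq_true h.1.1.1.1.2 ▸ repr_pid)
  rw [hg0, one_mul] at e2
  have hc : codeP (σ : Equiv.Perm GolayPt) ∈ xT := by
    have hx : a / 64 < 16 := by omega
    rw [canon (Or.inr (xAt_mem hx)) (e2 ▸ repr_xEl hx)]
    exact xAt_mem hx
  obtain ⟨d, hd, hde⟩ := List.mem_map.mp hσ
  rcases hm.2 d hd with h | h
  · have hσ1 : σ = 1 := Subtype.ext (codeP_injective (by
      rw [← hde, Nat.eq_of_beq_eq_true h, OneMemClass.coe_one, ← pid_eq_codeP]))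
    rw [hσ1, t.wEl_zero, map_one, one_mul]
  · have hb : CfsgGolay.memB d.2.1 xT = true := List.any_eq_true.mpr ⟨_, hde ▸ hc, Nat.beq_refl _⟩
    rw [hb] at h; exact absurd h (by decide)

/-- The normalizer splits over the standard group. -/
theorem split : ∃ B : Subgroup G, B ≤ normalizer (t.A0 : Set G) ∧ B ⊓ t.A0 = ⊥ ∧
    B ⊔ t.A0 = normalizer (t.A0 : Set G) ∧ Nat.card B = 9999360 := by
  classical
  obtain ⟨hN, -⟩ := t.orbits
  set NA := normalizer (t.A0 : Set G) with hNA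
  have hAN : t.A0 ≤ NA := le_normalizer
  set K := t.A0.subgroupOf NA with hK
  set L := t.lGrp.subgroupOf NA with hL
  haveI : K.Normal := normal_subgroupOf_of_le_normalizer le_rfl
  haveI : IsMulCommutative K := ⟨⟨fun x y => Subtype.ext (Subtype.ext (by
    show ((x : ↥NA) : G) * ((y : ↥NA) : G) = ((y : ↥NA) : G) * ((x : ↥NA) : G)
    exact congrArg Subtype.val (t.elem_A0.1.is_comm.comm (⟨_, x.2⟩ : t.A0) (⟨_, y.2⟩ : t.A0))))⟩⟩
  have hKc : Nat.card K = 2 ^ 10 := (Nat.card_congr (subgroupOfEquivOfLe hAN).toEquiv).trans t.card_A0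
  have hLc : Nat.card L = 1024 := (Nat.card_congr (subgroupOfEquivOfLe t.lGrp_le).toEquiv).trans t.card_lGrp
  have hdis : L ⊓ K = ⊥ := by
    rw [eq_bot_iff]
    intro x hx
    have h : (x : G) ∈ t.lGrp ⊓ t.A0 := ⟨hx.1, hx.2⟩
    rw [t.lGrp_meet, mem_bot] at h
    exact mem_bot.mpr (Subtype.ext h)
  have hUc : Nat.card ↥(K ⊔ L) = 2 ^ 10 * 1024 := by
    rw [← hKc, ← hLc, ← Nat.card_prod]
    refine (Nat.card_eq_of_bijective (fun p : K × L =>
      (⟨(p.1 : ↥NA) * p.2, mul_mem (mem_sup_left p.1.2) (mem_sup_right p.2.2)⟩ : ↥(K ⊔ L))) ⟨?_, ?_⟩).symm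
    · intro a b e
      have e' : (a.1 : ↥NA) * a.2 = b.1 * b.2 := congrArg Subtype.val e
      have h : (b.1 : ↥NA)⁻¹ * a.1 = b.2 * (a.2 : ↥NA)⁻¹ := by
        rw [eq_mul_inv_iff_mul_eq, mul_assoc, e', inv_mul_cancel_left]
      have hm : (b.1 : ↥NA)⁻¹ * a.1 ∈ L ⊓ K :=
        mem_inf.mpr ⟨h ▸ mul_mem b.2.2 (inv_mem a.2.2), mul_mem (inv_mem b.1.2) a.1.2⟩
      rw [hdis, mem_bot, inv_mul_eq_one] at hm
      refine Prod.ext (Subtype.ext hm.symm) (Subtype.ext ?_)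
      rw [hm] at e'
      exact mul_left_cancel e'
    · intro x
      have h : (x : ↥NA) ∈ ((K ⊔ L : Subgroup ↥NA) : Set ↥NA) := x.2
      rw [normal_mul] at h
      obtain ⟨k, hk, l, hl, e⟩ := h
      exact ⟨(⟨k, hk⟩, ⟨l, hl⟩), Subtype.ext e⟩
  have hidx : (K ⊔ L).index = 9765 := by
    have h := card_mul_index (K ⊔ L)
    rw [hUc, hN] at h
    exact Nat.eq_of_mul_eq_mul_left (by norm_num : 0 < 2 ^ 10 * 1024) (h.trans (by norm_num))
  obtain ⟨H, hH⟩ := Cfsg.Agent.S0051.result K (K ⊔ L) le_sup_left (by rw [hidx, hKc]; norm_num)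
    L le_sup_right hdis rfl
  refine ⟨H.map NA.subtype, map_subtype_le H, ?_, ?_, ?_⟩
  · rw [eq_bot_iff]
    rintro _ ⟨⟨x, hx, rfl⟩, hxA⟩
    have h : x ∈ K ⊓ H := ⟨hxA, hx⟩
    rw [hH.disjoint.eq_bot, mem_bot] at h
    rw [h]; exact one_mem _
  · refine le_antisymm (sup_le (map_subtype_le H) hAN) fun n hn => ?_
    obtain ⟨⟨k, h⟩, e⟩ := hH.2 ⟨n, hn⟩
    have e' : ((k : ↥NA) : G) * ((h : ↥NA) : G) = n := congrArg Subtype.val e
    exact e' ▸ mul_mem (mem_sup_right k.2) (mem_sup_left ⟨_, h.2, rfl⟩)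
  · have h := hH.card_mul_card
    rw [hKc, hN] at h
    rw [card_map_of_injective NA.subtype_injective]
    exact Nat.eq_of_mul_eq_mul_left (by norm_num : 0 < 2 ^ 10) h

end Ten

end CfsgLib.JankoFour.Ctx
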