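/-
What is used about the centralizer of an element of order seven modulo it.
-/
import Cfsg.Agent.Lib.JankoFour.SevenModel

set_option autoImplicit false

namespace CfsgLib.JankoFour

open Cfsg Subgroup

universe u

variable {X : Type u} [Group X]

/-- The fixed points of an automorphism. -/
def fixed (α : MulAut X) : Subgroup X where
  carrier := {x | α x = x}
  one_mem' := map_one α
  mul_mem' {a b} ha hb := by
    show α (a * b) = a * b
    rw [map_mul, show α a = a from ha, show α b = b from hb]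
  inv_mem' {a} ha := by
    show α a⁻¹ = a⁻¹
    rw [map_inv, show α a = a from ha]

theorem mem_fixed {α : MulAut X} {x : X} : x ∈ fixed α ↔ α x = x := Iff.rfl

/-- The local data. -/
structure SevenX (X : Type u) [Group X] : Type u where
  z : X
  w : X
  P : Subgroup X
  β : MulAut X
  α : MulAut X
  φ : ↥(fixed α) →* MTwoTwo
  zz : z * z = 1
  z1 : z ≠ 1
  ww : w * w = 1
  wz : w * z = z * w
  cardP : Nat.card P = 3
  zP : ∀ p ∈ P, z * p = p * z
  wP : ∀ p ∈ P, w * p * w⁻¹ = p⁻¹
  cardCz : Nat.card (centralizer ({z} : Set X)) = 12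
  βw : β w = z
  normP : ∀ x : X, (∀ p ∈ P, x * p * x⁻¹ ∈ P) → x * z = z * x
  α3 : ∀ x, α (α (α x)) = x
  αz : α z = z
  αw : α w = w
  αP : ∀ p ∈ P, α p = p
  φinj : Function.Injective φ
  eleven : ∀ q ∈ fixed α, ∀ e ∈ fixed α, q ^ 5 = 1 → e ^ 11 = 1 → q = 1 ∨ e = 1

end CfsgLib.JankoFour
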