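/-
The centralizer of an element of order seven of H modulo it.
-/
import Cfsg.Agent.Lib.JankoFour.SevenOuter
import Cfsg.Agent.Lib.JankoFour.SevenFix
import Cfsg.Agent.Lib.JankoFour.SevenData2

set_option autoImplicit false

namespace CfsgLib.JankoFour

open Cfsg Subgroup

universe u

/-- Exponents prime to seven are invertible modulo seven. -/
theorem inv_seven {j : ℕ} (hj : j % 7 ≠ 0) : ∃ i, j * i % 7 = 1 := by
  have h := Nat.mod_lt j (show 7 > 0 by norm_num)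
  have key : ∀ a < 7, a ≠ 0 → ∃ i < 7, a * i % 7 = 1 := by decide
  obtain ⟨i, -, hi⟩ := key _ h hj
  exact ⟨i, by rw [Nat.mul_mod] at hi ⊢; rwa [Nat.mod_mod] at hi⟩

/-- An element of order three normalizing a subgroup of order seven of M22 fixed pointwise by an involutory
automorphism is itself fixed. -/
theorem seven_three {θ : MulAut MTwoTwo} (h2 : θ * θ = 1) {a : MTwoTwo} (ha : a ^ 7 = 1) (ha1 : a ≠ 1)
    (hθa : θ a = a) :
    ∃ b : MTwoTwo, ∃ k : ℕ, b ^ 3 = 1 ∧ b ≠ 1 ∧ θ b = b ∧ (k = 2 ∨ k = 4) ∧ b * a * b⁻¹ = a ^ k := by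
  haveI : Fact (Nat.Prime 3) := ⟨Nat.prime_three⟩
  obtain ⟨hC, hN⟩ := seven_local ha ha1
  obtain ⟨⟨b, hb⟩, hb3'⟩ := exists_prime_orderOf_dvd_card' (G := ↥(normalizer (zpowers a : Set MTwoTwo))) 3
    (by rw [hN]; norm_num)
  rw [← Subgroup.orderOf_coe] at hb3'
  have hb3 : b ^ 3 = 1 := hb3' ▸ pow_orderOf_eq_one b
  have hb1 : b ≠ 1 := fun e => by simp only [e, orderOf_one] at hb3'; norm_num at hb3'
  have hmem : b * a * b⁻¹ ∈ zpowers a := (mem_normalizer_iff.mp hb a).mp (mem_zpowers a)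
  obtain ⟨k0, hk0⟩ : ∃ i : ℕ, a ^ i = b * a * b⁻¹ :=
    (mem_powers_iff_mem_zpowers.mpr hmem : b * a * b⁻¹ ∈ Submonoid.powers a)
  set k := k0 % 7 with hk
  have hbk : b * a * b⁻¹ = a ^ k := by rw [← hk0, hk]; exact pow_eq_pow_mod k0 ha
  have hpow : ∀ n : ℕ, b ^ n * a * (b ^ n)⁻¹ = a ^ (k ^ n) := by
    intro n
    induction n with
    | zero => simp
    | succ n ih =>
      calc b ^ (n + 1) * a * (b ^ (n + 1))⁻¹ = b * (b ^ n * a * (b ^ n)⁻¹) * b⁻¹ := by rw [pow_succ']; group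
        _ = a ^ (k ^ (n + 1)) := by rw [ih, ← conj_pow, hbk, ← pow_mul, pow_succ']
  have hord : orderOf a = 7 := orderOf_eq_prime (hp := ⟨by norm_num⟩) ha ha1
  have hcube : k ^ 3 % 7 = 1 := by
    have h := hpow 3
    rw [hb3, one_mul, inv_one, mul_one] at h
    have h' : a ^ 1 = a ^ (k ^ 3) := by rw [pow_one]; exact h
    rw [pow_eq_pow_iff_modEq, hord] at h'
    exact h'.symm
  have hcenb : k = 1 → False := by
    intro h1
    rw [h1, pow_one] at hbk
    have hbc : b ∈ centralizer (zpowers a : Set MTwoTwo) := mem_centralizer_iff.mpr fun y hy => by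
      obtain ⟨i, rfl⟩ := mem_zpowers_iff.mp hy
      exact ((show Commute a b from (mul_inv_eq_iff_eq_mul.mp hbk).symm).zpow_left i).eq
    have hb7 : b ^ 7 = 1 := by
      rw [← hC]
      exact congrArg Subtype.val (pow_card_eq_one' (x := (⟨b, hbc⟩ : centralizer (zpowers a : Set MTwoTwo))))
    exact hb1 (by rwa [show 7 = 3 * 2 + 1 from rfl, pow_succ, pow_mul, hb3, one_pow, one_mul] at hb7)
  have hk24 : k = 2 ∨ k = 4 := by
    have hk7 : k < 7 := Nat.mod_lt _ (by norm_num)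
    interval_cases k <;> first | (norm_num at hcube; done) | (exact absurd rfl fun e => hcenb e) | simp
  refine ⟨b, k, hb3, hb1, ?_, hk24, hbk⟩
  -- θ b differs from b by an element fixed by θ
  have h1 : θ b * a * (θ b)⁻¹ = a ^ k := by
    conv_lhs => rw [← hθa]
    rw [← map_inv, ← map_mul, ← map_mul, hbk, map_pow, hθa]
  have hcb : b⁻¹ * θ b ∈ centralizer (zpowers a : Set MTwoTwo) := mem_centralizer_iff.mpr fun y hy => by
    obtain ⟨i, rfl⟩ := mem_zpowers_iff.mp hy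
    have : Commute a (b⁻¹ * θ b) := by
      show a * (b⁻¹ * θ b) = b⁻¹ * θ b * a
      calc a * (b⁻¹ * θ b) = b⁻¹ * (b * a * b⁻¹) * θ b := by group
        _ = b⁻¹ * (θ b * a * (θ b)⁻¹) * θ b := by rw [hbk, h1]
        _ = b⁻¹ * θ b * a := by group
    exact (this.zpow_left i).eq
  have hle : centralizer (zpowers a : Set MTwoTwo) = zpowers a := (eq_of_le_of_card_ge
    (zpowers_le.mpr (mem_centralizer_iff.mpr fun y hy => by
      obtain ⟨i, rfl⟩ := mem_zpowers_iff.mp hy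
      exact ((Commute.refl a).zpow_left i).eq))
    (by rw [hC, Nat.card_zpowers, hord])).symm
  rw [hle] at hcb
  obtain ⟨i, hi⟩ : ∃ i : ℕ, a ^ i = b⁻¹ * θ b :=
    (mem_powers_iff_mem_zpowers.mpr hcb : b⁻¹ * θ b ∈ Submonoid.powers a)
  have hθb : θ b = b * a ^ i := by rw [hi, mul_inv_cancel_left]
  have h2b : b * a ^ i * a ^ i = b := by
    have := DFunLike.congr_fun h2 b
    rw [MulAut.mul_apply, MulAut.one_apply, hθb, map_mul, map_pow, hθa, hθb] at this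
    exact this
  have h2i : a ^ (2 * i) = 1 := by
    rw [two_mul, pow_add]
    rwa [mul_assoc, mul_eq_left] at h2b
  rw [hθb, ← hi] at *
  have : a ^ i = 1 := by
    calc a ^ i = (a ^ (2 * i)) ^ 4 * ((a ^ 7) ^ i)⁻¹ := by
          rw [← pow_mul, ← pow_mul, eq_mul_inv_iff_mul_eq, ← pow_add]
          ring_nf
      _ = 1 := by rw [h2i, ha, one_pow, one_pow, inv_one, one_mul]
  rw [this, mul_one]

variable {G : Type u} [Group G] [Finite G] {z : G} {P E : Subgroup G}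

/-- The elements chosen around an element of order seven. -/
structure SevenPack (c : Ctx z P E) : Type u where
  r : G
  w : G
  y : G
  g : G
  p : G
  k : ℕ
  rc : r ∈ c.cen
  r7 : r ^ 7 = 1
  rv : c.val r ≠ 1
  wH : w ∈ centralizer ({z} : Set G)
  w0 : w ∉ c.H0
  wZ : c.IsZ w
  ww : w * w = 1
  wr : w * r = r * w
  wP : ∀ q ∈ P, w * q * w⁻¹ = q⁻¹
  yc : y ∈ c.cen
  y3 : y ^ 3 = 1
  yv : c.val y ≠ 1
  wy : w * y = y * w
  k24 : k = 2 ∨ k = 4
  yr : y * r * y⁻¹ = r ^ k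
  hp : p ∈ P
  hgen : P = zpowers p
  gy : g * y * g⁻¹ = p

theorem exists_pack {c : Ctx z P E} {m : FiveModel} (d : FiveData5 c m) [IsSimpleGroup G]
    (hG : ¬ IsMulCommutative G) (hinv : ∃ n ∈ centralizer ({z} : Set G), ∀ q ∈ P, n * q * n⁻¹ = q⁻¹) :
    Nonempty (SevenPack c) := by
  classical
  obtain ⟨r, w, hr, r7, rv, wH, w0, wZ, ww, wr, wP⟩ := d.exists_outer_seven hG hinv
  obtain ⟨θ, -, hθv⟩ := d.outer_auto wH w0 wP
  have wi : w⁻¹ = w := inv_eq_of_mul_eq_one_right ww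
  have hθ2 : θ * θ = 1 := MulEquiv.ext fun a => by
    obtain ⟨x, hx, rfl⟩ := c.exists_val a
    obtain ⟨h1, h1v⟩ := hθv x hx
    obtain ⟨-, h2v⟩ := hθv _ h1
    rw [MulAut.mul_apply, h1v, h2v, wi, show w * (w * x * w) * w = (w * w) * x * (w * w) by group, ww, one_mul, mul_one]
    rfl
  have hθr : θ (c.val r) = c.val r := by
    rw [(hθv r hr).2, wr, mul_inv_cancel_right]
  have hv7 : c.val r ^ 7 = 1 := by
    rw [← c.val_pow (c.cen_le_H0 hr), r7]; exact (c.val_eq_one (one_mem _)).mpr (one_mem _)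
  obtain ⟨b, k, b3, b1, hθb, k24, hbr⟩ := seven_three hθ2 hv7 rv hθr
  obtain ⟨x0, hx0, hx0v⟩ := c.exists_val b
  set v := x0 ^ 4 with hv
  have hvc : v ∈ c.cen := pow_mem hx0 4
  have hvv : c.val v = b := by
    rw [hv, c.val_pow (c.cen_le_H0 hx0), hx0v, pow_succ, b3, one_mul]
  have hv3 : v ^ 3 = 1 := c.cen_cube hvc (by
    rw [hv, ← pow_mul, show 4 * 9 = 3 * 6 * 2 from rfl, pow_mul, pow_mul,
      (c.cen_ker (pow_mem hx0 3) (by rw [c.val_pow (c.cen_le_H0 hx0), hx0v, b3])).1, one_pow]) (by rw [hvv, b3])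
  obtain ⟨hvc', hvv'⟩ := hθv v hvc
  set s := v⁻¹ * (w * v * w⁻¹) with hs
  have hsc : s ∈ c.cen := mul_mem (inv_mem hvc) hvc'
  have hsv : c.val s = 1 := by
    rw [hs, c.val_mul (c.cen_le_H0 (inv_mem hvc)) (c.cen_le_H0 hvc'), c.val_inv (c.cen_le_H0 hvc), ← hvv', hvv, hθb,
      inv_mul_cancel]
  obtain ⟨-, hscen, -⟩ := c.cen_ker hsc hsv
  have hws : w * v * w⁻¹ = v * s := by rw [hs, mul_inv_cancel_left]
  have hs3 : s ^ 3 = 1 := by
    have h1 : (w * v * w⁻¹) ^ 3 = 1 := by rw [conj_pow, hv3, mul_one, mul_inv_cancel]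
    rwa [hws, (show Commute v s from hscen v hvc).mul_pow, hv3, one_mul] at h1
  have hsP : s ∈ P := c.mem_P_of hsc hsv (by rw [show 9 = 3 * 3 from rfl, pow_mul, hs3, one_pow])
  set y := v * (s * s) with hy
  have hyc : y ∈ c.cen := mul_mem hvc (mul_mem hsc hsc)
  have hyv : c.val y = b := by
    rw [hy, c.val_mul (c.cen_le_H0 hvc) (c.cen_le_H0 (mul_mem hsc hsc)),
      c.val_mul (c.cen_le_H0 hsc) (c.cen_le_H0 hsc), hsv, hvv, mul_one, mul_one]
  have hy3 : y ^ 3 = 1 := by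
    rw [hy, (show Commute v (s * s) from Commute.mul_right (hscen v hvc) (hscen v hvc)).mul_pow, hv3, one_mul,
      ← sq, ← pow_mul, mul_comm 2 3, pow_mul, hs3, one_pow]
  have hwy : w * y = y * w := by
    refine mul_inv_eq_iff_eq_mul.mp ?_
    rw [hy, show w * (v * (s * s)) * w⁻¹ = (w * v * w⁻¹) * ((w * s * w⁻¹) * (w * s * w⁻¹)) by group, hws, wP s hsP]
    have e : s⁻¹ = s * s := inv_eq_of_mul_eq_one_right (by rw [← hs3]; simp only [pow_succ, pow_zero]; group)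
    rw [show v * s * (s⁻¹ * s⁻¹) = v * s⁻¹ by group, e]
  have hyr : y * r * y⁻¹ = r ^ k := by
    refine c.prime_eq (p := 7) (by norm_num) (mul_mem (mul_mem hyc hr) (inv_mem hyc)) (pow_mem hr k)
      (by rw [conj_pow, r7, mul_one, mul_inv_cancel]) (by rw [← pow_mul, mul_comm, pow_mul, r7, one_pow]) ?_
    rw [c.val_conj (c.cen_le_H0 hyc) (c.cen_le_H0 hr), hyv, c.val_pow (c.cen_le_H0 hr), hbr]
  obtain ⟨p, hp, hp1, hgen⟩ := c.exists_gen
  haveI : Fact (Nat.Prime 3) := ⟨Nat.prime_three⟩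
  have hy1 : y ≠ 1 := fun e => b1 (by rw [← hyv, e]; exact (c.val_eq_one (one_mem _)).mpr (one_mem _))
  obtain ⟨g, hg⟩ := isConj_iff.mp (c.three_class hG hinv y p (orderOf_eq_prime hy3 hy1)
    (orderOf_eq_prime (by rw [pow_succ, sq]; exact c.P_cube hp) hp1))
  exact ⟨⟨r, w, y, g, p, k, hr, r7, rv, wH, w0, wZ, ww, wr, wP, hyc, hy3, hyv ▸ b1, hwy, k24, hyr, hp, hgen, hg⟩⟩

namespace SevenPack

variable {c : Ctx z P E} (s : SevenPack c)

theorem r1 : s.r ≠ 1 := fun e => s.rv (by rw [e]; exact (c.val_eq_one (one_mem _)).mpr (one_mem _))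

theorem rH : s.r ∈ centralizer ({z} : Set G) := s.rc.1

theorem order_r : orderOf s.r = 7 := orderOf_eq_prime (hp := ⟨by norm_num⟩) s.r7 s.r1

theorem card_R : Nat.card (zpowers s.r) = 7 := by rw [Nat.card_zpowers, s.order_r]

theorem wi : s.w⁻¹ = s.w := inv_eq_of_mul_eq_one_right s.ww

theorem yH : s.y ∈ centralizer ({z} : Set G) := s.yc.1

/-- The centralizer of r. -/
abbrev Cr : Subgroup G := centralizer ({s.r} : Set G)

theorem mem_Cr {x : G} : x ∈ s.Cr ↔ x * s.r = s.r * x := mem_centralizer_singleton_iff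

/-- The cyclic group generated by r in its centralizer. -/
def Rc : Subgroup s.Cr := (zpowers s.r).subgroupOf s.Cr

instance instRcNormal : s.Rc.Normal := by
  refine ⟨fun x hx g => ?_⟩
  rw [Rc, mem_subgroupOf] at hx ⊢
  obtain ⟨i, hi⟩ := mem_zpowers_iff.mp hx
  have h : Commute (g : G) s.r := s.mem_Cr.mp g.2
  rw [Subgroup.coe_mul, Subgroup.coe_mul, Subgroup.coe_inv, ← hi, (h.zpow_right i).eq, mul_inv_cancel_right]
  exact zpow_mem (mem_zpowers _) i

/-- The quotient of the centralizer. -/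
abbrev Q : Type u := s.Cr ⧸ s.Rc

/-- The image in the quotient. -/
abbrev img : s.Cr →* s.Q := QuotientGroup.mk' s.Rc

theorem img_eq_one {x : s.Cr} : s.img x = 1 ↔ (x : G) ∈ zpowers s.r := by
  rw [QuotientGroup.mk'_apply, QuotientGroup.eq_one_iff, Rc, mem_subgroupOf]

theorem small {x : G} (hx : x ∈ zpowers s.r) {n : ℕ} (hn : x ^ n = 1) (hc : Nat.Coprime n 7) : x = 1 := by
  have h7 : x ^ 7 = 1 := by
    obtain ⟨i, rfl⟩ := mem_zpowers_iff.mp hx
    rw [← zpow_natCast, ← zpow_mul, mul_comm, zpow_mul, zpow_natCast, s.r7, one_zpow]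
  have := (pow_gcd_eq_one (m := n) (n := 7) (a := x)).mpr ⟨hn, h7⟩
  rwa [hc.gcd_eq_one, pow_one] at this

/-- Equations in the quotient between elements of order prime to seven hold above. -/
theorem conj_exact {a a' b : s.Cr} {n : ℕ} (hn : Nat.Coprime n 7) (ha : (a : G) ^ n = 1) (ha' : (a' : G) ^ n = 1)
    (h : s.img b * s.img a * (s.img b)⁻¹ = s.img a') : (b : G) * a * (b : G)⁻¹ = a' := by
  have h1 : s.img (a'⁻¹ * (b * a * b⁻¹)) = 1 := by
    rw [map_mul, map_mul, map_mul, map_inv, map_inv, h, inv_mul_cancel]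
  have h2 : (a' : G)⁻¹ * ((b : G) * a * (b : G)⁻¹) ∈ zpowers s.r := s.img_eq_one.mp h1
  set t := (a' : G)⁻¹ * ((b : G) * a * (b : G)⁻¹) with ht
  have hc : Commute (a' : G) t := by
    obtain ⟨i, hi⟩ := mem_zpowers_iff.mp h2
    rw [← hi]
    have h0 : Commute (a' : G) s.r := s.mem_Cr.mp a'.2
    exact h0.zpow_right i
  have h3 : ((a' : G) * t) ^ n = 1 := by
    rw [ht, mul_inv_cancel_left, conj_pow, ha, mul_one, mul_inv_cancel]
  rw [hc.mul_pow, ha', one_mul] at h3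
  have := s.small h2 h3 hn
  rw [ht, inv_mul_eq_one] at this
  exact this.symm

/-- The elements of H0 fixing r. -/
theorem H0_cent {h : G} (hh : h ∈ c.H0) (hr : h * s.r = s.r * h) :
    ∃ t ∈ zpowers z, ∃ q ∈ P, ∃ i : ℕ, h = t * q * s.r ^ i := by
  obtain ⟨e, he, x, hx, rfl⟩ := c.decomp h hh
  have hxv : c.val x * c.val s.r = c.val s.r * c.val x := by
    have h1 := congrArg c.val hr
    rw [c.val_mul hh (c.cen_le_H0 s.rc), c.val_mul (c.cen_le_H0 s.rc) hh,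
      c.val_mul (c.NH0 (c.EN he)) (c.cen_le_H0 hx), c.val_E he, one_mul] at h1
    exact h1
  have hv7 : c.val s.r ^ 7 = 1 := by
    rw [← c.val_pow (c.cen_le_H0 s.rc), s.r7]; exact (c.val_eq_one (one_mem _)).mpr (one_mem _)
  have hle : centralizer (zpowers (c.val s.r) : Set MTwoTwo) = zpowers (c.val s.r) := (eq_of_le_of_card_ge
    (zpowers_le.mpr (mem_centralizer_iff.mpr fun a ha => by
      obtain ⟨i, rfl⟩ := mem_zpowers_iff.mp ha
      exact ((Commute.refl (c.val s.r)).zpow_left i).eq))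
    (by rw [(seven_local hv7 s.rv).1, prime_cyclic (by norm_num) hv7 s.rv])).symm
  have hxmem : c.val x ∈ zpowers (c.val s.r) := hle ▸ mem_centralizer_iff.mpr fun a ha => by
    obtain ⟨i, rfl⟩ := mem_zpowers_iff.mp ha
    have h0 : Commute (c.val s.r) (c.val x) := hxv.symm
    exact (h0.zpow_left i).eq
  obtain ⟨i, hi⟩ : ∃ i : ℕ, c.val s.r ^ i = c.val x :=
    (mem_powers_iff_mem_zpowers.mpr hxmem : c.val x ∈ Submonoid.powers (c.val s.r))
  obtain ⟨-, hcen, t, ht, q, hq, e'⟩ := c.cen_ker (mul_mem (inv_mem (pow_mem s.rc i)) hx) (by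
    rw [c.val_mul (c.cen_le_H0 (inv_mem (pow_mem s.rc i))) (c.cen_le_H0 hx), c.val_inv (c.cen_le_H0 (pow_mem s.rc i)),
      c.val_pow (c.cen_le_H0 s.rc), hi, inv_mul_cancel])
  have hx_eq : x = s.r ^ i * (t * q) := by rw [← e', mul_inv_cancel_left]
  have hxr : Commute x s.r := by
    rw [hx_eq]
    exact ((Commute.refl s.r).pow_left i).mul_left (show Commute (t * q) s.r from e' ▸ (hcen s.r s.rc).symm)
  have her : s.r * e = e * s.r := mul_right_cancel (b := x) (by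
    rw [mul_assoc e s.r x, ← hxr.eq, ← mul_assoc e x s.r, hr]; group)
  have heZ : e ∈ zpowers z := by
    rw [← c.seven_fix s.rc s.r7 s.rv]
    exact ⟨he, mem_centralizer_singleton_iff.mpr her.symm⟩
  refine ⟨e * t, mul_mem heZ ht, q, hq, i, ?_⟩
  have h2 : Commute (s.r ^ i) (t * q) := by
    have := hcen _ (pow_mem s.rc i)
    rwa [e'] at this
  rw [hx_eq, h2.eq]; group

/-- The elements of H fixing r. -/
theorem H_cent {h : G} (hh : h ∈ centralizer ({z} : Set G)) (hr : h * s.r = s.r * h) :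
    ∃ t ∈ zpowers z, ∃ q ∈ P, ∃ i : ℕ, h = t * q * s.r ^ i ∨ h = s.w * (t * q * s.r ^ i) := by
  by_cases h0 : h ∈ c.H0
  · obtain ⟨t, ht, q, hq, i, e⟩ := s.H0_cent h0 hr
    exact ⟨t, ht, q, hq, i, Or.inl e⟩
  · have hwr : Commute s.w s.r := s.wr
    obtain ⟨t, ht, q, hq, i, e⟩ := s.H0_cent (c.H0two _ s.wH s.w0 _ hh h0) ((hwr.mul_left hr).eq)
    refine ⟨t, ht, q, hq, i, Or.inr ?_⟩
    rw [← e, ← mul_assoc, s.ww, one_mul]

/-- No element of H inverts r. -/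
theorem no_inv {h : G} (hh : h ∈ centralizer ({z} : Set G)) : h * s.r * h⁻¹ ≠ s.r⁻¹ := by
  intro hi
  suffices key : ∀ x ∈ c.H0, x * s.r * x⁻¹ ≠ s.r⁻¹ by
    by_cases h0 : h ∈ c.H0
    · exact key h h0 hi
    · refine key (s.w * h) (c.H0two _ s.wH s.w0 _ hh h0) ?_
      rw [show s.w * h * s.r * (s.w * h)⁻¹ = s.w * (h * s.r * h⁻¹) * s.w⁻¹ by group, hi, ← conj_inv,
        mul_inv_eq_iff_eq_mul.mpr s.wr]
  intro x hx he
  set a := c.val s.r with ha
  set g := c.val x with hg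
  have ha7 : a ^ 7 = 1 := by
    rw [ha, ← c.val_pow (c.cen_le_H0 s.rc), s.r7]; exact (c.val_eq_one (one_mem _)).mpr (one_mem _)
  have hga : g * a * g⁻¹ = a⁻¹ := by
    rw [hg, ha, ← c.val_conj hx (c.cen_le_H0 s.rc), he, c.val_inv (c.cen_le_H0 s.rc)]
  have hgN : g ∈ normalizer (zpowers a : Set MTwoTwo) := by
    refine mem_norm_of ?_
    intro y hy
    obtain ⟨i, rfl⟩ := mem_zpowers_iff.mp hy
    rw [← conj_zpow, hga]
    exact zpow_mem (inv_mem (mem_zpowers a)) i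
  have h21 : g ^ 21 = 1 := by
    rw [← (seven_local ha7 s.rv).2]
    exact congrArg Subtype.val (pow_card_eq_one' (x := (⟨g, hgN⟩ : normalizer (zpowers a : Set MTwoTwo))))
  have hsq : ∀ n : ℕ, g ^ (2 * n) * a * (g ^ (2 * n))⁻¹ = a := by
    intro n
    induction n with
    | zero => simp
    | succ n ih =>
      calc g ^ (2 * (n + 1)) * a * (g ^ (2 * (n + 1)))⁻¹
          = g * (g * (g ^ (2 * n) * a * (g ^ (2 * n))⁻¹) * g⁻¹) * g⁻¹ := by
            rw [show 2 * (n + 1) = (2 * n) + 1 + 1 by ring, pow_succ', pow_succ']; group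
        _ = a := by rw [ih, hga, ← conj_inv, hga, inv_inv]
  have hga' : g * a * g⁻¹ = a := by
    have := hsq 11
    rwa [show 2 * 11 = 21 + 1 from rfl, pow_succ, h21, one_mul] at this
  rw [hga] at hga'
  refine s.rv ?_
  have h2 : a ^ 2 = 1 := by rw [sq]; nth_rw 1 [← hga']; exact inv_mul_cancel a
  rwa [show 7 = 2 * 3 + 1 from rfl, pow_succ, pow_mul, h2, one_pow, one_mul] at ha7

/-- Every element of order seven of H is conjugate to a power of r. -/
theorem seven_conj {f : G} (hf : f ∈ centralizer ({z} : Set G)) (hf7 : f ^ 7 = 1) (hf1 : f ≠ 1) :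
    ∃ h ∈ centralizer ({z} : Set G), ∃ j : ℕ, j % 7 ≠ 0 ∧ h * f * h⁻¹ = s.r ^ j := by
  classical
  haveI : Fact (Nat.Prime 7) := ⟨by norm_num⟩
  have hf0 : f ∈ c.H0 := by
    by_contra h0
    have h2 : f * f ∈ c.H0 := c.H0two _ hf h0 _ hf h0
    refine h0 ?_
    have : f = (f * f) ^ 4 := by
      rw [← sq, ← pow_mul, show 2 * 4 = 7 + 1 from rfl, pow_succ, hf7, one_mul]
    rw [this]; exact pow_mem h2 4
  have hr0 := c.cen_le_H0 s.rc
  have hfac : (Nat.card c.H0).factorization 7 = 1 := by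
    rw [c.card_H0, show 3 * 2 ^ 13 * 443520 = 7 * 1557135360 by norm_num,
      Nat.factorization_mul (by norm_num) (by norm_num), Finsupp.add_apply,
      Nat.Prime.factorization_self (by norm_num), Nat.factorization_eq_zero_of_not_dvd (by norm_num)]
  have ord : ∀ x : G, ∀ hx : x ∈ c.H0, x ^ 7 = 1 → x ≠ 1 →
      Nat.card (zpowers (⟨x, hx⟩ : c.H0)) = 7 ^ (Nat.card c.H0).factorization 7 := fun x hx h5 h1 => by
    rw [Nat.card_zpowers, hfac, pow_one]
    exact orderOf_eq_prime (Subtype.ext h5) (fun e => h1 (congrArg Subtype.val e))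
  let Sy : Sylow 7 c.H0 := Sylow.ofCard (zpowers (⟨f, hf0⟩ : c.H0)) (ord f hf0 hf7 hf1)
  let Sq : Sylow 7 c.H0 := Sylow.ofCard (zpowers (⟨s.r, hr0⟩ : c.H0)) (ord s.r hr0 s.r7 s.r1)
  obtain ⟨h, hh⟩ := MulAction.exists_smul_eq c.H0 Sy Sq
  have hm : h * ⟨f, hf0⟩ * h⁻¹ ∈ zpowers (⟨s.r, hr0⟩ : c.H0) := by
    show h * ⟨f, hf0⟩ * h⁻¹ ∈ (Sq : Subgroup c.H0)
    rw [← hh, Sylow.coe_subgroup_smul]
    exact ⟨⟨f, hf0⟩, mem_zpowers _, rfl⟩
  obtain ⟨i, hi⟩ := (mem_powers_iff_mem_zpowers.mpr hm : _ ∈ Submonoid.powers (⟨s.r, hr0⟩ : c.H0))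
  have hi' : s.r ^ i = (h : G) * f * (h : G)⁻¹ := congrArg Subtype.val hi
  refine ⟨h, c.H0le h.2, i, fun h0 => hf1 ?_, hi'.symm⟩
  rw [pow_eq_pow_mod i s.r7, h0, pow_zero] at hi'
  exact conj_eq_one_iff.mp hi'.symm

/-- A power of r commutes with what r commutes with, and conversely. -/
theorem comm_pow {j : ℕ} (hj : j % 7 ≠ 0) {x : G} (h : Commute x (s.r ^ j)) : Commute x s.r := by
  obtain ⟨i, hi⟩ := inv_seven hj
  have := h.pow_right i
  rwa [← pow_mul, pow_eq_pow_mod _ s.r7, hi, pow_one] at this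

theorem mem_R_of_pow {j : ℕ} (hj : j % 7 ≠ 0) : s.r ∈ zpowers (s.r ^ j) := by
  obtain ⟨i, hi⟩ := inv_seven hj
  have h : (s.r ^ j) ^ i = s.r := by rw [← pow_mul, pow_eq_pow_mod _ s.r7, hi, pow_one]
  have := pow_mem (mem_zpowers (s.r ^ j)) i
  rwa [h] at this

/-- An element normalizing the group of r acts on the quotient. -/
theorem exists_act {n : G} {j : ℕ} (hj : j % 7 ≠ 0) (hn : n * s.r * n⁻¹ = s.r ^ j) :
    ∃ β : MulAut s.Q, ∀ (x : G) (hx : x ∈ s.Cr) (hx' : n * x * n⁻¹ ∈ s.Cr),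
      β (s.img ⟨x, hx⟩) = s.img ⟨n * x * n⁻¹, hx'⟩ := by
  classical
  have hmem : ∀ x : s.Cr, n * (x : G) * n⁻¹ ∈ s.Cr := fun x => by
    refine s.mem_Cr.mpr (s.comm_pow hj ?_).eq
    show n * (x : G) * n⁻¹ * s.r ^ j = s.r ^ j * (n * (x : G) * n⁻¹)
    rw [← hn, show n * (x : G) * n⁻¹ * (n * s.r * n⁻¹) = n * ((x : G) * s.r) * n⁻¹ by group, s.mem_Cr.mp x.2]
    group
  let F : s.Cr →* s.Q :=
    { toFun := fun x => s.img ⟨_, hmem x⟩
      map_one' := s.img_eq_one.mpr (by simp)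
      map_mul' := fun a b => by
        rw [← map_mul]
        exact congrArg s.img (Subtype.ext (by
          show n * ((a : G) * b) * n⁻¹ = n * a * n⁻¹ * (n * b * n⁻¹)
          group)) }
  have hker : s.Rc ≤ F.ker := fun x hx => by
    refine MonoidHom.mem_ker.mpr (s.img_eq_one.mpr ?_)
    obtain ⟨i, hi⟩ := mem_zpowers_iff.mp (mem_subgroupOf.mp hx)
    show n * (x : G) * n⁻¹ ∈ zpowers s.r
    rw [← hi, ← conj_zpow, hn]
    exact zpow_mem (pow_mem (mem_zpowers _) j) i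
  let F' : s.Q →* s.Q := QuotientGroup.lift s.Rc F hker
  have hinj : Function.Injective F' := by
    rw [injective_iff_map_eq_one]
    intro a ha
    obtain ⟨x, rfl⟩ := QuotientGroup.mk'_surjective s.Rc a
    refine s.img_eq_one.mpr ?_
    have h1 : n * (x : G) * n⁻¹ ∈ zpowers (s.r ^ j) :=
      zpowers_le.mpr (s.mem_R_of_pow hj) (s.img_eq_one.mp (show s.img ⟨_, hmem x⟩ = 1 from ha))
    obtain ⟨i, hi⟩ := mem_zpowers_iff.mp h1
    rw [← hn, conj_zpow] at hi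
    rw [← mul_left_cancel (mul_right_cancel hi)]
    exact zpow_mem (mem_zpowers _) i
  exact ⟨MulEquiv.ofBijective F' (Finite.injective_iff_bijective.mp hinj), fun x hx hx' => rfl⟩

theorem z_Cr : z ∈ s.Cr := s.mem_Cr.mpr (c.Z_comm s.rH (mem_zpowers z)).symm

theorem w_Cr : s.w ∈ s.Cr := s.mem_Cr.mpr s.wr

theorem P_le_Cr : P ≤ s.Cr := fun _ hq => s.mem_Cr.mpr (c.cen_comm s.rc hq).symm

/-- The image of P. -/
noncomputable def Pb : Subgroup s.Q := (P.subgroupOf s.Cr).map s.img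

theorem mem_Pb {x : s.Q} : x ∈ s.Pb ↔ ∃ q, ∃ hq : q ∈ P, x = s.img ⟨q, s.P_le_Cr hq⟩ := by
  constructor
  · rintro ⟨⟨q, hq⟩, hq', rfl⟩
    exact ⟨q, mem_subgroupOf.mp hq', rfl⟩
  · rintro ⟨q, hq, rfl⟩
    exact ⟨_, mem_subgroupOf.mpr hq, rfl⟩

theorem img_comm_z {x : s.Cr} :
    s.img x * s.img ⟨z, s.z_Cr⟩ = s.img ⟨z, s.z_Cr⟩ * s.img x ↔ (x : G) ∈ centralizer ({z} : Set G) := by
  constructor
  · intro h
    have hz2 : z ^ 2 = 1 := by rw [sq]; exact c.zz
    exact mem_centralizer_singleton_iff.mpr (mul_inv_eq_iff_eq_mul.mp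
      (s.conj_exact (n := 2) (a := ⟨z, s.z_Cr⟩) (a' := ⟨z, s.z_Cr⟩) (by norm_num) hz2 hz2
        (mul_inv_eq_iff_eq_mul.mpr h)))
  · intro h
    rw [← map_mul, ← map_mul]
    exact congrArg s.img (Subtype.ext (mem_centralizer_singleton_iff.mp h))

theorem card_cent_z : Nat.card (centralizer ({s.img ⟨z, s.z_Cr⟩} : Set s.Q)) = 12 := by
  classical
  let wb : Bool → G := fun b => if b then s.w else 1
  have hwb : ∀ b, wb b ∈ s.Cr ∧ wb b ∈ centralizer ({z} : Set G) := fun b => by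
    cases b
    exacts [⟨one_mem _, one_mem _⟩, ⟨s.w_Cr, s.wH⟩]
  let F : Bool × zpowers z × P → centralizer ({s.img ⟨z, s.z_Cr⟩} : Set s.Q) := fun x =>
    ⟨s.img ⟨wb x.1 * (x.2.1 * x.2.2), mul_mem (hwb x.1).1
        (mul_mem ((zpowers_le.mpr s.z_Cr : zpowers z ≤ s.Cr) x.2.1.2) (s.P_le_Cr x.2.2.2))⟩,
      mem_centralizer_singleton_iff.mpr (s.img_comm_z.mpr
        (mul_mem (hwb x.1).2 (mul_mem (c.mem_ZH x.2.1.2) (c.P_le x.2.2.2))))⟩
  have hinj : Function.Injective F := by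
    rintro ⟨b, t, q⟩ ⟨b', t', q'⟩ h
    have h1 : (wb b * ((t : G) * q))⁻¹ * (wb b' * ((t' : G) * q')) ∈ zpowers s.r := by
      have h0 := congrArg Subtype.val h
      simp only [F] at h0
      have hA : ∀ (b : Bool) (t : zpowers z) (q : P), wb b * ((t : G) * q) ∈ s.Cr := fun b t q =>
        mul_mem (hwb b).1 (mul_mem ((zpowers_le.mpr s.z_Cr : zpowers z ≤ s.Cr) t.2) (s.P_le_Cr q.2))
      refine (s.img_eq_one (x := ⟨_, hA b t q⟩⁻¹ * ⟨_, hA b' t' q'⟩)).mp ?_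
      rw [map_mul, map_inv, inv_mul_eq_one]
      exact h0
    have hz0 : ∀ (t : zpowers z) (q : P), (t : G) * q ∈ c.H0 := fun t q =>
      mul_mem (c.NH0 (c.EN (c.Z_le t.2))) (c.cen_le_H0 (c.P_le_cen q.2))
    have hw0 : ∀ e ∈ c.H0, s.w * e ∉ c.H0 := fun e he h => s.w0 ((mul_mem_cancel_right he).mp h)
    have hbb : b = b' := by
      have h2 : (wb b * ((t : G) * q))⁻¹ * (wb b' * ((t' : G) * q')) ∈ c.H0 :=
        zpowers_le.mpr (c.cen_le_H0 s.rc) h1
      cases b <;> cases b'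
      · rfl
      · exfalso
        simp only [wb, Bool.false_eq_true, if_false, if_true, one_mul] at h2
        refine hw0 _ (hz0 t' q') ?_
        have := mul_mem (hz0 t q) h2
        rwa [mul_inv_cancel_left] at this
      · exfalso
        simp only [wb, Bool.false_eq_true, if_false, if_true, one_mul] at h2
        refine hw0 _ (hz0 t q) ?_
        have := mul_mem (hz0 t' q') (inv_mem h2)
        rwa [mul_inv_rev, inv_inv, mul_inv_cancel_left] at this
      · rfl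
    subst hbb
    rw [mul_inv_rev, mul_assoc _ (wb b)⁻¹, inv_mul_cancel_left] at h1
    have hZq : ((t : G) * q)⁻¹ * ((t' : G) * q') = ((t : G)⁻¹ * t') * ((q : G)⁻¹ * q') := by
      rw [mul_inv_rev, show (q : G)⁻¹ * (t : G)⁻¹ * (t' * q') = (q : G)⁻¹ * ((t : G)⁻¹ * t') * q' by group,
        c.Z_comm (c.P_le (inv_mem q.2)) (mul_mem (inv_mem t.2) t'.2)]
      group
    rw [hZq] at h1
    set a := (t : G)⁻¹ * t' with ha
    set b2 := (q : G)⁻¹ * q' with hb2
    have haZ : a ∈ zpowers z := mul_mem (inv_mem t.2) t'.2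
    have hbP : b2 ∈ P := mul_mem (inv_mem q.2) q'.2
    have hc : Commute a b2 := (c.Z_comm (c.P_le hbP) haZ).symm
    have h6 : (a * b2) ^ 6 = 1 := by
      rw [hc.mul_pow, show a ^ 6 = (a * a) ^ 3 by rw [← sq, ← pow_mul], c.Z_sq haZ,
        show b2 ^ 6 = (b2 * b2 * b2) ^ 2 by rw [← pow_three', ← pow_mul], c.P_cube hbP, one_pow, one_pow, one_mul]
    have hab := s.small h1 h6 (by norm_num)
    have hai : a = b2⁻¹ := eq_inv_of_mul_eq_one_left hab
    have h3 : a ∈ E ⊓ P := mem_inf.mpr ⟨c.Z_le haZ, hai ▸ P.inv_mem hbP⟩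
    rw [Subgroup.inf_eq_bot_of_coprime (H := E) (K := P) (by rw [c.hE, c.hP]; norm_num), mem_bot] at h3
    have h4 : b2 = 1 := by rw [h3, one_mul] at hab; exact hab
    rw [ha, inv_mul_eq_one] at h3
    rw [hb2, inv_mul_eq_one] at h4
    exact Prod.ext rfl (Prod.ext (Subtype.ext h3) (Subtype.ext h4))
  have hsurj : Function.Surjective F := by
    rintro ⟨x, hx⟩
    obtain ⟨x, rfl⟩ := QuotientGroup.mk'_surjective s.Rc x
    obtain ⟨t, ht, q, hq, i, h⟩ := s.H_cent (s.img_comm_z.mp (mem_centralizer_singleton_iff.mp hx)) (s.mem_Cr.mp x.2)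
    have hq' : ∀ a ∈ s.Cr, ∀ (hy : a * s.r ^ i ∈ s.Cr) (ha : a ∈ s.Cr),
        s.img ⟨a * s.r ^ i, hy⟩ = s.img ⟨a, ha⟩ := fun a _ hy ha => by
      rw [eq_comm, ← inv_mul_eq_one, ← map_inv, ← map_mul]
      refine s.img_eq_one.mpr ?_
      show a⁻¹ * (a * s.r ^ i) ∈ zpowers s.r
      rw [inv_mul_cancel_left]; exact pow_mem (mem_zpowers _) i
    have htq : t * q ∈ s.Cr := mul_mem ((zpowers_le.mpr s.z_Cr : zpowers z ≤ s.Cr) ht) (s.P_le_Cr hq)
    rcases h with h | h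
    · refine ⟨(false, ⟨t, ht⟩, ⟨q, hq⟩), Subtype.ext ?_⟩
      show s.img ⟨1 * (t * q), _⟩ = s.img x
      rw [show x = ⟨t * q * s.r ^ i, h ▸ x.2⟩ from Subtype.ext h, hq' _ htq _ htq]
      exact congrArg s.img (Subtype.ext (one_mul _))
    · refine ⟨(true, ⟨t, ht⟩, ⟨q, hq⟩), Subtype.ext ?_⟩
      show s.img ⟨s.w * (t * q), _⟩ = s.img x
      have h' : (x : G) = s.w * (t * q) * s.r ^ i := by rw [h]; group
      rw [show x = ⟨s.w * (t * q) * s.r ^ i, h' ▸ x.2⟩ from Subtype.ext h',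
        hq' _ (mul_mem s.w_Cr htq) _ (mul_mem s.w_Cr htq)]
  rw [← Nat.card_congr (Equiv.ofBijective F ⟨hinj, hsurj⟩), Nat.card_prod, Nat.card_prod, c.card_Z, c.hP,
    Nat.card_eq_fintype_card, Fintype.card_bool]

/-- The elements commuting with r and y. -/
def D : Subgroup G := s.Cr ⊓ centralizer ({s.y} : Set G)

theorem mem_D {x : G} : x ∈ s.D ↔ x * s.r = s.r * x ∧ x * s.y = s.y * x := by
  rw [D, mem_inf, s.mem_Cr, mem_centralizer_singleton_iff]

theorem conj_g [IsSimpleGroup G] (hG : ¬ IsMulCommutative G)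
    (hinv : ∃ n ∈ centralizer ({z} : Set G), ∀ q ∈ P, n * q * n⁻¹ = q⁻¹) {x : G} (hx : x * s.y = s.y * x) :
    s.g * x * s.g⁻¹ ∈ c.cen := by
  have h : s.g * x * s.g⁻¹ ∈ centralizer (P : Set G) := c.comm_gen s.hgen (by
    rw [← s.gy, show s.g * x * s.g⁻¹ * (s.g * s.y * s.g⁻¹) = s.g * (x * s.y) * s.g⁻¹ by group, hx]; group)
  exact ⟨(c.cent_P hG hinv).1 h, h⟩

/-- The central involution of the centralizer of y does not fix r. -/
theorem zpp [IsSimpleGroup G] (hG : ¬ IsMulCommutative G)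
    (hinv : ∃ n ∈ centralizer ({z} : Set G), ∀ q ∈ P, n * q * n⁻¹ = q⁻¹) :
    s.g⁻¹ * z * s.g * s.r ≠ s.r * (s.g⁻¹ * z * s.g) := by
  intro hr
  set t0 := s.g⁻¹ * z * s.g with ht0
  have hall : ∀ x : G, x * s.y = s.y * x → x * t0 = t0 * x := fun x hx => by
    have h := c.Z_comm (s.conj_g hG hinv hx).1 (mem_zpowers z)
    calc x * t0 = s.g⁻¹ * (s.g * x * s.g⁻¹ * z) * s.g := by rw [ht0]; group
      _ = t0 * x := by rw [h, ht0]; group
  have hH : t0 ∈ centralizer ({z} : Set G) :=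
    mem_centralizer_singleton_iff.mpr (hall z (c.Z_comm s.yH (mem_zpowers z)).symm).symm
  have hP : ∀ q ∈ P, q * t0 = t0 * q := fun q hq => hall q (c.cen_comm s.yc hq).symm
  have ht2 : t0 * t0 = 1 := by
    rw [ht0, show s.g⁻¹ * z * s.g * (s.g⁻¹ * z * s.g) = s.g⁻¹ * (z * z) * s.g by group, c.zz]; group
  have ht01 : t0 ≠ 1 := fun e => c.z_ne_one (by
    calc z = s.g * t0 * s.g⁻¹ := by rw [ht0]; group
      _ = 1 := by rw [e]; group)
  obtain ⟨t, ht, q, hq, i, h | h⟩ := s.H_cent hH hr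
  · have hc1 : Commute (t * q) (s.r ^ i) := by
      have a1 : Commute t s.r := (c.Z_comm s.rH ht).symm
      have a2 : Commute s.r q := c.cen_comm s.rc hq
      exact (a1.mul_left a2.symm).pow_right i
    have hc2 : Commute t q := (c.Z_comm (c.P_le hq) ht).symm
    have h2 : (q * q) * (s.r ^ i * s.r ^ i) = 1 := by
      have := ht2
      rw [h, ← sq, hc1.mul_pow, hc2.mul_pow, sq, c.Z_sq ht, one_mul, sq, sq] at this
      exact this
    have hri : s.r ^ i * s.r ^ i ∈ zpowers s.r := mul_mem (pow_mem (mem_zpowers _) i) (pow_mem (mem_zpowers _) i)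
    have hq1 : q * q = 1 := by
      have e : s.r ^ i * s.r ^ i = (q * q)⁻¹ := eq_inv_of_mul_eq_one_right h2
      have := s.small (n := 3) hri (by
        rw [e, inv_pow, show (q * q) ^ 3 = (q * q * q) * (q * q * q) by simp only [pow_succ, pow_zero]; group,
          c.P_cube hq]
        group) (by norm_num)
      rw [e, inv_eq_one] at this
      exact this
    have hri1 : s.r ^ i = 1 := by
      rw [hq1, one_mul] at h2
      exact s.small (n := 2) (pow_mem (mem_zpowers _) i) (by rw [sq]; exact h2) (by norm_num)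
    have hq' : q = 1 := by
      have := c.P_cube hq
      rwa [hq1, one_mul] at this
    rw [hri1, hq', mul_one, mul_one] at h
    rcases c.mem_Z.mp ht with rfl | rfl
    · exact ht01 h
    · -- g centralizes z
      have hg : s.g ∈ centralizer ({t} : Set G) := mem_centralizer_singleton_iff.mpr (by
        calc s.g * t = s.g * t0 := by rw [h]
          _ = t * s.g := by rw [ht0]; group)
      refine s.yv ((c.val_eq_one (c.cen_le_H0 s.yc)).mpr ?_)
      have := c.P_conj_N (inv_mem hg) s.hp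
      rwa [show s.g⁻¹ * s.p * s.g⁻¹⁻¹ = s.y by rw [← s.gy]; group] at this
  · obtain ⟨q0, hq0, hq01, -⟩ := c.exists_gen
    have h1 : t0 * q0 * t0⁻¹ = q0 := by rw [← hP q0 hq0, mul_inv_cancel_right]
    have h2 : t0 * q0 * t0⁻¹ = q0⁻¹ := by
      have e : t * q * s.r ^ i * q0 = q0 * (t * q * s.r ^ i) := by
        have a1 : Commute q0 t := c.Z_comm (c.P_le hq0) ht
        have a2 : Commute q0 q := (c.cen_comm (c.P_le_cen hq) hq0).symm
        have a3 : Commute q0 (s.r ^ i) := (c.cen_comm (pow_mem s.rc i) hq0).symm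
        exact ((a1.mul_right a2).mul_right a3).eq.symm
      rw [h, show s.w * (t * q * s.r ^ i) * q0 * (s.w * (t * q * s.r ^ i))⁻¹ =
        s.w * (t * q * s.r ^ i * q0 * (t * q * s.r ^ i)⁻¹) * s.w⁻¹ by group, e, mul_inv_cancel_right, s.wP q0 hq0]
    rw [h1] at h2
    refine hq01 ?_
    have h3 := c.P_cube hq0
    rwa [show q0 * q0 = 1 by nth_rw 1 [h2]; exact inv_mul_cancel q0, one_mul] at h3

theorem val_conj_inj [IsSimpleGroup G] (hG : ¬ IsMulCommutative G)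
    (hinv : ∃ n ∈ centralizer ({z} : Set G), ∀ q ∈ P, n * q * n⁻¹ = q⁻¹) {x : G} (hx : x ∈ s.D)
    (hv : c.val (s.g * x * s.g⁻¹) = 1) : x = 1 := by
  obtain ⟨hxr, hxy⟩ := s.mem_D.mp hx
  obtain ⟨-, -, t, ht, q, hq, e⟩ := c.cen_ker (s.conj_g hG hinv hxy) hv
  obtain ⟨i, hi⟩ : ∃ i : ℕ, s.p ^ i = q :=
    (mem_powers_iff_mem_zpowers.mpr (s.hgen ▸ hq : q ∈ zpowers s.p) : q ∈ Submonoid.powers s.p)
  have hxe : x = (s.g⁻¹ * t * s.g) * s.y ^ i := by
    calc x = s.g⁻¹ * (s.g * x * s.g⁻¹) * s.g := by group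
      _ = (s.g⁻¹ * t * s.g) * (s.g⁻¹ * q * s.g) := by rw [e]; group
      _ = _ := by rw [← hi, ← s.gy, conj_pow]; group
  have hcomm : Commute (s.g⁻¹ * t * s.g) (s.y ^ i) := by
    refine Commute.pow_right ?_ i
    show s.g⁻¹ * t * s.g * s.y = s.y * (s.g⁻¹ * t * s.g)
    have hy : s.g * s.y * s.g⁻¹ ∈ centralizer ({z} : Set G) := s.gy.symm ▸ c.P_le s.hp
    calc s.g⁻¹ * t * s.g * s.y = s.g⁻¹ * (t * (s.g * s.y * s.g⁻¹)) * s.g := by group
      _ = s.y * (s.g⁻¹ * t * s.g) := by rw [← c.Z_comm hy ht]; group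
  have hy2 : Commute (s.y ^ (2 * i)) s.r := by
    have h : x * x = s.y ^ (2 * i) := by
      rw [← sq, hxe, hcomm.mul_pow, sq, show s.g⁻¹ * t * s.g * (s.g⁻¹ * t * s.g) = s.g⁻¹ * (t * t) * s.g by group,
        c.Z_sq ht, mul_one, inv_mul_cancel, one_mul, ← pow_mul, mul_comm i 2]
    rw [← h]
    exact (show Commute x s.r from hxr).mul_left hxr
  have h3i : i % 3 = 0 := by
    by_contra hne
    have hy : Commute s.y s.r := by
      have hor : (2 * i) % 3 = 1 ∨ (2 * i) % 3 = 2 := by omega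
      rcases hor with h | h
      · rwa [pow_eq_pow_mod _ s.y3, h, pow_one] at hy2
      · have := hy2.pow_left 2
        rwa [← pow_mul, pow_eq_pow_mod _ s.y3, Nat.mul_mod, h, show 2 * (2 % 3) % 3 = 1 from rfl, pow_one] at this
    have hk := s.yr
    rw [hy.eq, mul_inv_cancel_right] at hk
    have h' : s.r ^ 1 = s.r ^ s.k := by rw [pow_one]; exact hk
    rw [pow_eq_pow_iff_modEq, s.order_r] at h'
    rcases s.k24 with e | e <;> rw [e] at h' <;> exact absurd h' (by decide)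
  have hyi : s.y ^ i = 1 := by rw [pow_eq_pow_mod _ s.y3, h3i, pow_zero]
  rw [hyi, mul_one] at hxe
  rcases c.mem_Z.mp ht with rfl | rfl
  · rw [hxe]; group
  · exact absurd (hxe ▸ hxr) (s.zpp hG hinv)

/-- No elements of order five and eleven commute with both r and y. -/
theorem no_eleven {m : FiveModel} (d : FiveData5 c m) [IsSimpleGroup G] (hG : ¬ IsMulCommutative G)
    (hinv : ∃ n ∈ centralizer ({z} : Set G), ∀ q ∈ P, n * q * n⁻¹ = q⁻¹) {q e : G} (hq : q ∈ s.D) (he : e ∈ s.D)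
    (hq5 : q ^ 5 = 1) (he11 : e ^ 11 = 1) : q = 1 ∨ e = 1 := by
  classical
  by_contra hne
  push Not at hne
  obtain ⟨hq1, he1⟩ := hne
  obtain ⟨hqr, hqy⟩ := s.mem_D.mp hq
  obtain ⟨her, hey⟩ := s.mem_D.mp he
  set q1 := s.g * q * s.g⁻¹ with hq1d
  set e1 := s.g * e * s.g⁻¹ with he1d
  set r1 := s.g * s.r * s.g⁻¹ with hr1d
  have hq1c := s.conj_g hG hinv hqy
  have he1c := s.conj_g hG hinv hey
  have he1v : c.val e1 ≠ 1 := fun h => he1 (s.val_conj_inj hG hinv he h)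
  obtain ⟨hcard, a, ha, b, hb, hab⟩ := c.eleven_fix he1c (by rw [conj_pow, he11, mul_one, mul_inv_cancel]) he1v
  set K := E ⊓ centralizer ({e1} : Set G)
  let f : Fin 7 → G := fun i => r1 ^ (i : ℕ) * z * (r1 ^ (i : ℕ))⁻¹
  have hcq : ∀ n : ℕ, Commute (r1 ^ n) q1 ∧ Commute (r1 ^ n) e1 := fun n => by
    have h1 : Commute r1 q1 := by
      show r1 * q1 = q1 * r1
      calc r1 * q1 = s.g * (s.r * q) * s.g⁻¹ := by rw [hq1d, hr1d]; group
        _ = q1 * r1 := by rw [← hqr, hq1d, hr1d]; group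
    have h2 : Commute r1 e1 := by
      show r1 * e1 = e1 * r1
      calc r1 * e1 = s.g * (s.r * e) * s.g⁻¹ := by rw [he1d, hr1d]; group
        _ = e1 * r1 := by rw [← her, he1d, hr1d]; group
    exact ⟨h1.pow_left n, h2.pow_left n⟩
  have hfK : ∀ i, f i ∈ K ∧ f i * f i = 1 ∧ f i ≠ 1 := fun i => by
    have hzq : Commute z q1 := (c.Z_comm hq1c.1 (mem_zpowers z)).symm
    have hze : Commute z e1 := (c.Z_comm he1c.1 (mem_zpowers z)).symm
    have h1 : Commute (f i) q1 := ((hcq i).1.mul_left hzq).mul_left (hcq i).1.inv_left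
    have h2 : Commute (f i) e1 := ((hcq i).2.mul_left hze).mul_left (hcq i).2.inv_left
    have hfE : f i ∈ E := d.five_class' hG hinv ⟨r1 ^ (i : ℕ), rfl⟩ hq1c.1
      (by rw [conj_pow, hq5, mul_one, mul_inv_cancel]) (fun e => hq1 (conj_eq_one_iff.mp e)) h1.eq
    refine ⟨⟨hfE, mem_centralizer_singleton_iff.mpr h2.eq⟩, ?_, fun e => c.z_ne_one (conj_eq_one_iff.mp e)⟩
    show r1 ^ (i : ℕ) * z * (r1 ^ (i : ℕ))⁻¹ * (r1 ^ (i : ℕ) * z * (r1 ^ (i : ℕ))⁻¹) = 1
    rw [show r1 ^ (i : ℕ) * z * (r1 ^ (i : ℕ))⁻¹ * (r1 ^ (i : ℕ) * z * (r1 ^ (i : ℕ))⁻¹) =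
      r1 ^ (i : ℕ) * (z * z) * (r1 ^ (i : ℕ))⁻¹ by group, c.zz]
    group
  have hfinj : Function.Injective f := by
    intro i j h
    by_contra hne'
    have key : ∀ a b : ℕ, a < b → b < 7 → r1 ^ a * z * (r1 ^ a)⁻¹ = r1 ^ b * z * (r1 ^ b)⁻¹ → False := by
      intro a b hab hb h
      have h' : Commute z (r1 ^ (b - a)) := by
        show z * r1 ^ (b - a) = r1 ^ (b - a) * z
        have e : r1 ^ b = r1 ^ a * r1 ^ (b - a) := by rw [← pow_add, Nat.add_sub_cancel' hab.le]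
        rw [e] at h
        calc z * r1 ^ (b - a) = (r1 ^ a)⁻¹ * (r1 ^ a * z * (r1 ^ a)⁻¹) * (r1 ^ a * r1 ^ (b - a)) := by group
          _ = r1 ^ (b - a) * z := by rw [h]; group
      obtain ⟨n, hn⟩ := inv_seven (j := b - a) (by omega)
      have h'' := h'.pow_right n
      rw [← pow_mul, pow_eq_pow_mod _ (show r1 ^ 7 = 1 by rw [hr1d, conj_pow, s.r7, mul_one, mul_inv_cancel]), hn,
        pow_one] at h''
      refine s.zpp hG hinv ?_
      calc s.g⁻¹ * z * s.g * s.r = s.g⁻¹ * (z * r1) * s.g := by rw [hr1d]; group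
        _ = s.r * (s.g⁻¹ * z * s.g) := by rw [h''.eq, hr1d]; group
    rcases lt_or_gt_of_ne (fun e : (i : ℕ) = j => hne' (Fin.ext e)) with hlt | hlt
    · exact key i j hlt j.2 h
    · exact key j i hlt i.2 h.symm
  let F : Option (Fin 7) → K := fun o => o.elim 1 fun i => ⟨f i, (hfK i).1⟩
  have hFinj : Function.Injective F := by
    rintro (_ | i) (_ | j) h
    · rfl
    · exact absurd (congrArg Subtype.val h).symm (hfK j).2.2
    · exact absurd (congrArg Subtype.val h) (hfK i).2.2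
    · exact congrArg some (hfinj (congrArg Subtype.val h))
  have hbij : Function.Bijective F := (Nat.bijective_iff_injective_and_card F).mpr ⟨hFinj, by
    rw [hcard, Nat.card_eq_fintype_card, Fintype.card_option, Fintype.card_fin]⟩
  have hsq : ∀ x ∈ K, x * x = 1 := fun x hx => by
    obtain ⟨o, ho⟩ := hbij.2 ⟨x, hx⟩
    rw [show x = F o from congrArg Subtype.val ho.symm]
    rcases o with _ | i
    · exact one_mul 1
    · exact (hfK i).2.1
  refine hab ?_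
  calc a * b = (a * b)⁻¹ := eq_inv_of_mul_eq_one_left (hsq _ (mul_mem ha hb))
    _ = b * a := by
      rw [mul_inv_rev, inv_eq_of_mul_eq_one_right (hsq a ha), inv_eq_of_mul_eq_one_right (hsq b hb)]

/-- The data on the quotient. -/
theorem exists_sevenX {m : FiveModel} (d : FiveData5 c m) [IsSimpleGroup G] (hG : ¬ IsMulCommutative G)
    (hinv : ∃ n ∈ centralizer ({z} : Set G), ∀ q ∈ P, n * q * n⁻¹ = q⁻¹) :
    Nonempty (SevenX s.Q) := by
  classical
  set zb := s.img ⟨z, s.z_Cr⟩ with hzb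
  set wb := s.img ⟨s.w, s.w_Cr⟩ with hwb
  -- the automorphism mapping w to z
  obtain ⟨g0, hg0⟩ := s.wZ
  have hf : g0⁻¹ * s.r * g0 ∈ centralizer ({z} : Set G) := mem_centralizer_singleton_iff.mpr (by
    calc g0⁻¹ * s.r * g0 * z = g0⁻¹ * (s.r * (g0 * z * g0⁻¹)) * g0 := by group
      _ = g0⁻¹ * ((g0 * z * g0⁻¹) * s.r) * g0 := by rw [hg0, s.wr]
      _ = z * (g0⁻¹ * s.r * g0) := by group)
  obtain ⟨h, hh, j, hj, hhj⟩ := s.seven_conj hf
    (by rw [show g0⁻¹ * s.r * g0 = g0⁻¹ * s.r * g0⁻¹⁻¹ by rw [inv_inv], conj_pow, s.r7, mul_one, mul_inv_cancel])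
    (fun e => s.r1 (by
      calc s.r = g0 * (g0⁻¹ * s.r * g0) * g0⁻¹ := by group
        _ = 1 := by rw [e]; group))
  set n0 := h * g0⁻¹ with hn0
  have hn0r : n0 * s.r * n0⁻¹ = s.r ^ j := by rw [hn0, ← hhj]; group
  have hn0w : n0 * s.w * n0⁻¹ = z := by
    rw [hn0, ← hg0, show h * g0⁻¹ * (g0 * z * g0⁻¹) * (h * g0⁻¹)⁻¹ = h * z * h⁻¹ by group,
      c.Z_conj hh (mem_zpowers z)]
  obtain ⟨β, hβ⟩ := s.exists_act hj hn0r
  -- the automorphism induced by y
  obtain ⟨α, hα⟩ := s.exists_act (n := s.y) (j := s.k) (by rcases s.k24 with e | e <;> rw [e] <;> norm_num) s.yr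
  have hymem : ∀ x ∈ s.Cr, s.y * x * s.y⁻¹ ∈ s.Cr := fun x hx => by
    refine s.mem_Cr.mpr (s.comm_pow (j := s.k) (by rcases s.k24 with e | e <;> rw [e] <;> norm_num) ?_).eq
    show s.y * x * s.y⁻¹ * s.r ^ s.k = s.r ^ s.k * (s.y * x * s.y⁻¹)
    rw [← s.yr, show s.y * x * s.y⁻¹ * (s.y * s.r * s.y⁻¹) = s.y * (x * s.r) * s.y⁻¹ by group, s.mem_Cr.mp hx]
    group
  have hαfix : ∀ x (hx : x ∈ s.Cr), s.y * x = x * s.y → α (s.img ⟨x, hx⟩) = s.img ⟨x, hx⟩ := fun x hx he => by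
    rw [hα x hx (hymem x hx)]
    exact congrArg s.img (Subtype.ext (mul_inv_eq_iff_eq_mul.mpr he))
  have hα3 : ∀ a, α (α (α a)) = a := fun a => by
    obtain ⟨⟨x, hx⟩, rfl⟩ := QuotientGroup.mk'_surjective s.Rc a
    rw [hα x hx (hymem x hx), hα _ _ (hymem _ (hymem x hx)), hα _ _ (hymem _ (hymem _ (hymem x hx)))]
    refine congrArg s.img (Subtype.ext ?_)
    show s.y * (s.y * (s.y * x * s.y⁻¹) * s.y⁻¹) * s.y⁻¹ = x
    rw [show s.y * (s.y * (s.y * x * s.y⁻¹) * s.y⁻¹) * s.y⁻¹ = s.y ^ 3 * x * (s.y ^ 3)⁻¹ by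
      simp only [pow_succ, pow_zero]; group, s.y3, one_mul, inv_one, mul_one]
  -- the fixed points
  let ρ : s.D →* fixed α :=
    { toFun := fun x => ⟨s.img ⟨x, s.mem_Cr.mpr (s.mem_D.mp x.2).1⟩, mem_fixed.mpr (hαfix _ _ (s.mem_D.mp x.2).2.symm)⟩
      map_one' := Subtype.ext (map_one s.img)
      map_mul' := fun a b => Subtype.ext (map_mul s.img ⟨(a : G), _⟩ ⟨(b : G), _⟩) }
  have hρinj : Function.Injective ρ := by
    rw [injective_iff_map_eq_one]
    intro x hx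
    have h1 : (x : G) ∈ zpowers s.r := s.img_eq_one.mp (congrArg Subtype.val hx)
    obtain ⟨i, hi⟩ : ∃ i : ℕ, s.r ^ i = x :=
      (mem_powers_iff_mem_zpowers.mpr h1 : (x : G) ∈ Submonoid.powers s.r)
    refine Subtype.ext ?_
    have hy := (s.mem_D.mp x.2).2
    have h2 : s.y * (x : G) * s.y⁻¹ = x := mul_inv_eq_iff_eq_mul.mpr hy.symm
    rw [← hi, ← conj_pow, s.yr, ← pow_mul, pow_eq_pow_iff_modEq, s.order_r] at h2
    rw [← hi, pow_eq_pow_mod i s.r7]
    have hi7 := Nat.mod_lt i (show 7 > 0 by norm_num)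
    have : i % 7 = 0 := by
      unfold Nat.ModEq at h2
      rcases s.k24 with e | e <;> rw [e] at h2 <;> omega
    rw [this, pow_zero]
    rfl
  have hρsurj : Function.Surjective ρ := by
    rintro ⟨a, ha⟩
    obtain ⟨⟨x, hx⟩, rfl⟩ := QuotientGroup.mk'_surjective s.Rc a
    have h1 : s.img ⟨s.y * x * s.y⁻¹, hymem x hx⟩ = s.img ⟨x, hx⟩ := (hα x hx _).symm.trans ha
    rw [← inv_mul_eq_one, ← map_inv, ← map_mul] at h1
    obtain ⟨i, hi⟩ : ∃ i : ℕ, s.r ^ i = (s.y * x * s.y⁻¹)⁻¹ * x :=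
      (mem_powers_iff_mem_zpowers.mpr (s.img_eq_one.mp h1) : _ ∈ Submonoid.powers s.r)
    have hxr : Commute x s.r := s.mem_Cr.mp hx
    have hyx : s.y * x * s.y⁻¹ = x * s.r ^ (6 * i) := by
      have h7 : s.r ^ (6 * i) * s.r ^ i = 1 := by
        rw [← pow_add, show 6 * i + i = 7 * i by ring, pow_mul, s.r7, one_pow]
      rw [eq_inv_of_mul_eq_one_left h7, hi]; group
    -- choose the corrected representative
    obtain ⟨l, hl⟩ : ∃ l, (6 * i + s.k * l) % 7 = l % 7 := by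
      rcases s.k24 with e | e <;> rw [e]
      · exact ⟨i, by omega⟩
      · exact ⟨5 * i, by omega⟩
    refine ⟨⟨x * s.r ^ l, s.mem_D.mpr ⟨?_, ?_⟩⟩, Subtype.ext ?_⟩
    · exact (hxr.mul_left ((Commute.refl s.r).pow_left l)).eq
    · refine (mul_inv_eq_iff_eq_mul.mp ?_).symm
      calc s.y * (x * s.r ^ l) * s.y⁻¹ = (s.y * x * s.y⁻¹) * (s.y * s.r ^ l * s.y⁻¹) := by group
        _ = x * s.r ^ (6 * i + s.k * l) := by rw [hyx, ← conj_pow, s.yr, ← pow_mul, mul_assoc, ← pow_add]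
        _ = x * s.r ^ l := by rw [pow_eq_pow_mod _ s.r7, hl, ← pow_eq_pow_mod _ s.r7]
    · show s.img ⟨x * s.r ^ l, _⟩ = s.img ⟨x, hx⟩
      rw [eq_comm, ← inv_mul_eq_one, ← map_inv, ← map_mul]
      refine s.img_eq_one.mpr ?_
      show x⁻¹ * (x * s.r ^ l) ∈ zpowers s.r
      rw [inv_mul_cancel_left]; exact pow_mem (mem_zpowers _) l
  let eD : s.D ≃* fixed α := MulEquiv.ofBijective ρ ⟨hρinj, hρsurj⟩
  have hgc : ∀ x : s.D, s.g * (x : G) * s.g⁻¹ ∈ c.cen := fun x => s.conj_g hG hinv (s.mem_D.mp x.2).2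
  let ψ : s.D →* MTwoTwo :=
    { toFun := fun x => c.val (s.g * (x : G) * s.g⁻¹)
      map_one' := (congrArg c.val (by simp)).trans ((c.val_eq_one (one_mem _)).mpr (one_mem _))
      map_mul' := fun a b => by
        rw [← c.val_mul (c.cen_le_H0 (hgc a)) (c.cen_le_H0 (hgc b)), Subgroup.coe_mul]
        congr 1; group }
  have hψinj : Function.Injective ψ := by
    rw [injective_iff_map_eq_one]
    exact fun x hx => Subtype.ext (s.val_conj_inj hG hinv x.2 hx)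
  have hPb : ∀ {a : s.Q}, a ∈ s.Pb → ∃ q, ∃ hq : q ∈ P, a = s.img ⟨q, s.P_le_Cr hq⟩ := fun {a} h => s.mem_Pb.mp h
  refine ⟨{
    z := zb
    w := wb
    P := s.Pb
    β := β
    α := α
    φ := ψ.comp eD.symm.toMonoidHom
    zz := ?_
    z1 := ?_
    ww := ?_
    wz := ?_
    cardP := ?_
    zP := ?_
    wP := ?_
    cardCz := s.card_cent_z
    βw := ?_
    normP := ?_
    α3 := hα3
    αz := hαfix z s.z_Cr (c.Z_comm s.yH (mem_zpowers z))
    αw := hαfix s.w s.w_Cr s.wy.symm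
    αP := ?_
    φinj := hψinj.comp eD.symm.injective
    eleven := ?_ }⟩
  · rw [hzb, ← map_mul]
    exact (congrArg s.img (Subtype.ext c.zz : (⟨z, s.z_Cr⟩ * ⟨z, s.z_Cr⟩ : s.Cr) = 1)).trans (map_one _)
  · intro h
    exact c.z_ne_one (s.small (s.img_eq_one.mp h) (n := 2) (by rw [sq]; exact c.zz) (by norm_num))
  · rw [hwb, ← map_mul]
    exact (congrArg s.img (Subtype.ext s.ww : (⟨s.w, s.w_Cr⟩ * ⟨s.w, s.w_Cr⟩ : s.Cr) = 1)).trans (map_one _)
  · exact s.img_comm_z.mpr s.wH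
  · rw [← c.hP, Pb]
    refine (Nat.card_congr (Equiv.ofBijective (fun q : P => (⟨s.img ⟨q, s.P_le_Cr q.2⟩, _, mem_subgroupOf.mpr q.2, rfl⟩ :
      ↥((P.subgroupOf s.Cr).map s.img))) ⟨fun a b e => ?_, ?_⟩)).symm
    · have h1 := congrArg Subtype.val e
      simp only at h1
      rw [← inv_mul_eq_one, ← map_inv, ← map_mul] at h1
      refine inv_mul_eq_one.mp (Subtype.ext (s.small (n := 3) (s.img_eq_one.mp h1) ?_ (by norm_num)))
      rw [pow_succ, sq]
      exact c.P_cube (mul_mem (inv_mem a.2) b.2)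
    · rintro ⟨_, x, hx, rfl⟩
      exact ⟨⟨x, mem_subgroupOf.mp hx⟩, rfl⟩
  · intro a ha
    obtain ⟨q, hq, rfl⟩ := hPb ha
    exact (s.img_comm_z.mpr (c.P_le hq)).symm
  · intro a ha
    obtain ⟨q, hq, rfl⟩ := hPb ha
    rw [hwb, ← map_inv, ← map_mul, ← map_mul, ← map_inv]
    exact congrArg s.img (Subtype.ext (s.wP q hq))
  · rw [hwb, hβ s.w s.w_Cr (hn0w.symm ▸ s.z_Cr)]
    exact congrArg s.img (Subtype.ext hn0w)
  · intro a ha
    obtain ⟨x, rfl⟩ := QuotientGroup.mk'_surjective s.Rc a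
    refine s.img_comm_z.mpr (c.norm_P hG hinv ?_)
    refine mem_norm_of fun q hq => ?_
    obtain ⟨q', hq', e⟩ := hPb (ha _ (s.mem_Pb.mpr ⟨q, hq, rfl⟩))
    have h3 : ∀ q ∈ P, q ^ 3 = 1 := fun q hq => by rw [pow_succ, sq]; exact c.P_cube hq
    rw [s.conj_exact (n := 3) (a := ⟨q, s.P_le_Cr hq⟩) (a' := ⟨q', s.P_le_Cr hq'⟩) (b := x) (by norm_num) (h3 q hq)
      (h3 q' hq') e]
    exact hq'
  · intro a ha
    obtain ⟨q, hq, rfl⟩ := hPb ha
    exact hαfix q _ (c.cen_comm s.yc hq)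
  · intro q hq e he hq5 he11
    obtain ⟨q', hq'⟩ := hρsurj ⟨q, hq⟩
    obtain ⟨e', he'⟩ := hρsurj ⟨e, he⟩
    have h1 : q' ^ 5 = 1 := hρinj (by rw [map_pow, hq', map_one]; exact Subtype.ext hq5)
    have h2 : e' ^ 11 = 1 := hρinj (by rw [map_pow, he', map_one]; exact Subtype.ext he11)
    rcases s.no_eleven d hG hinv q'.2 e'.2 (congrArg Subtype.val h1) (congrArg Subtype.val h2) with h | h
    · left
      have := congrArg Subtype.val hq'
      rw [show q' = 1 from Subtype.ext h, map_one] at this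
      exact this.symm
    · right
      have := congrArg Subtype.val he'
      rw [show e' = 1 from Subtype.ext h, map_one] at this
      exact this.symm

end SevenPack

end CfsgLib.JankoFour
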