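/-
The centralizer of an element of order seven modulo it is the symmetric group of degree five.
-/
import Cfsg.Agent.Lib.JankoFour.SevenData2
import Cfsg.Agent.S0111
import Cfsg.Agent.S3331
import Cfsg.Agent.Lib.SLCard

set_option autoImplicit false

namespace CfsgLib.JankoFour

open Cfsg Subgroup
open scoped commutatorElement

universe u

variable {X : Type u} [Group X] [Finite X]

/-- The symmetric group of degree three has no central involution. -/
theorem perm_three_center : ∀ a : Equiv.Perm (Fin 3), (∀ b, b * a = a * b) → a = 1 := by decide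

/-- In a finite 2-group one element generates if it generates modulo the commutator subgroup. -/
theorem gen_of_gen_commutator {K : Type u} [Group K] [Finite K] (hK : IsPGroup 2 K) {x : K}
    (h : zpowers x ⊔ commutator K = ⊤) : zpowers x = ⊤ := by
  haveI : Fact (Nat.Prime 2) := ⟨Nat.prime_two⟩
  haveI := hK.isNilpotent
  by_contra hne
  obtain ⟨M, hM, hxM⟩ := (eq_top_or_exists_le_coatom (zpowers x)).resolve_left hne
  haveI hn : M.Normal := Subgroup.NormalizerCondition.normal_of_coatom M Group.normalizerCondition_of_isNilpotent hM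
  have hidx : M.index = 2 := by
    obtain ⟨j, hj⟩ := hK.index M
    rcases j with _ | j
    · exact absurd (index_eq_one.mp (by rw [hj, pow_zero])) hM.1
    obtain ⟨n, hn'⟩ := IsPGroup.iff_card.mp (hK.to_subgroup M)
    have hcard := Subgroup.card_mul_index M
    rw [hj, hn', ← pow_add] at hcard
    obtain ⟨U, hU, hMU⟩ := Sylow.exists_subgroup_card_pow_prime_le 2 (n := n) (m := n + 1)
      (by rw [← hcard]; exact pow_dvd_pow 2 (by omega)) M hn' (by omega)
    have hUt : U = ⊤ := hM.2 U (lt_of_le_of_ne hMU fun e => by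
      rw [← e, hn', pow_right_inj₀ (by norm_num) (by norm_num)] at hU; omega)
    rw [hUt, card_top, ← hcard, pow_right_inj₀ (by norm_num) (by norm_num)] at hU
    rw [hj, show j = 0 by omega]; norm_num
  haveI : IsMulCommutative (K ⧸ M) := by
    haveI : IsCyclic (K ⧸ M) := isCyclic_of_prime_card (p := 2) (by rw [← index_eq_card, hidx])
    exact ⟨⟨fun a b => by
      obtain ⟨g, hg⟩ := IsCyclic.exists_generator (α := K ⧸ M)
      obtain ⟨i, rfl⟩ := mem_zpowers_iff.mp (hg a)
      obtain ⟨k, rfl⟩ := mem_zpowers_iff.mp (hg b)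
      exact (Commute.zpow_zpow (Commute.refl g) i k).eq⟩⟩
  have hcM : commutator K ≤ M := by
    rw [_root_.commutator_def, commutator_le]
    intro a _ b _
    rw [← QuotientGroup.eq_one_iff]
    show (QuotientGroup.mk' M) ⁅a, b⁆ = 1
    rw [map_commutatorElement, commutatorElement_eq_one_iff_mul_comm]
    exact mul_comm' _ _
  exact hM.1 (top_le_iff.mp (h ▸ sup_le hxM hcM))

namespace SevenX

variable (s : SevenX X)

theorem P_cube {q : X} (hq : q ∈ s.P) : q * q * q = 1 := by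
  have := pow_card_eq_one' (x := (⟨q, hq⟩ : s.P))
  rw [s.cardP, pow_succ, sq] at this
  exact congrArg Subtype.val this

theorem P_pow {q : X} (hq : q ∈ s.P) : q ^ 3 = 1 := by rw [pow_succ, sq]; exact s.P_cube hq

theorem P_sq {q : X} (hq : q ∈ s.P) (h : q * q = 1) : q = 1 := by
  have := s.P_cube hq
  rwa [h, one_mul] at this

theorem exists_q : ∃ q ∈ s.P, q ≠ 1 := by
  refine (s.P.bot_or_exists_ne_one).resolve_left fun h => ?_
  have := s.cardP
  rw [h, card_bot] at this
  norm_num at this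

theorem w1 : s.w ≠ 1 := fun h => by
  obtain ⟨q, hq, hq1⟩ := s.exists_q
  have := s.wP q hq
  rw [h, one_mul, inv_one, mul_one] at this
  exact hq1 (s.P_sq hq (mul_eq_one_iff_eq_inv.mpr this))

theorem w_ne_z : s.w ≠ s.z := fun h => by
  obtain ⟨q, hq, hq1⟩ := s.exists_q
  have := s.wP q hq
  rw [h, s.zP q hq, mul_inv_cancel_right] at this
  exact hq1 (s.P_sq hq (mul_eq_one_iff_eq_inv.mpr this))

theorem zi : s.z⁻¹ = s.z := inv_eq_of_mul_eq_one_right s.zz

theorem wi : s.w⁻¹ = s.w := inv_eq_of_mul_eq_one_right s.ww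

/-- The four group. -/
def T : Subgroup X where
  carrier := {x | x = 1 ∨ x = s.z ∨ x = s.w ∨ x = s.z * s.w}
  one_mem' := Or.inl rfl
  mul_mem' {a b} ha hb := by
    have e1 : s.w * (s.z * s.w) = s.z := by rw [← mul_assoc, s.wz, mul_assoc, s.ww, mul_one]
    have e2 : s.z * s.w * s.z = s.w := by rw [mul_assoc, s.wz, ← mul_assoc, s.zz, one_mul]
    have e3 : s.z * s.w * (s.z * s.w) = 1 := by rw [← mul_assoc, e2, s.ww]
    have e4 : ∀ x, s.z * (s.z * x) = x := fun x => by rw [← mul_assoc, s.zz, one_mul]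
    have e5 : ∀ x, s.w * (s.w * x) = x := fun x => by rw [← mul_assoc, s.ww, one_mul]
    have e6 : ∀ x, s.w * (s.z * x) = s.z * (s.w * x) := fun x => by rw [← mul_assoc, s.wz, mul_assoc]
    simp only [Set.mem_setOf_eq] at ha hb ⊢
    rcases ha with rfl | rfl | rfl | rfl <;> rcases hb with rfl | rfl | rfl | rfl <;>
      simp [s.zz, s.ww, s.wz, e1, e2, e3, e4, e5, e6, mul_assoc]
  inv_mem' {a} ha := by
    simp only [Set.mem_setOf_eq] at ha ⊢
    rcases ha with rfl | rfl | rfl | rfl <;> simp [s.zi, s.wi, s.wz, mul_inv_rev]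

theorem mem_T {x : X} : x ∈ s.T ↔ x = 1 ∨ x = s.z ∨ x = s.w ∨ x = s.z * s.w := Iff.rfl

theorem T_sq {t : X} (ht : t ∈ s.T) : t * t = 1 := by
  rcases s.mem_T.mp ht with rfl | rfl | rfl | rfl
  · exact one_mul 1
  · exact s.zz
  · exact s.ww
  · rw [show s.z * s.w * (s.z * s.w) = s.z * (s.w * s.z) * s.w by group, s.wz]
    rw [show s.z * (s.z * s.w) * s.w = (s.z * s.z) * (s.w * s.w) by group, s.zz, s.ww, one_mul]

theorem zw_ne : s.z * s.w ≠ 1 ∧ s.z * s.w ≠ s.z ∧ s.z * s.w ≠ s.w :=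
  ⟨fun h => s.w_ne_z (by rw [← s.zi]; exact eq_inv_of_mul_eq_one_right h), fun h => s.w1 (mul_eq_left.mp h),
    fun h => s.z1 (mul_eq_right.mp h)⟩

theorem card_T : Nat.card s.T = 4 := by
  classical
  obtain ⟨h1, h2, h3⟩ := s.zw_ne
  have e : (s.T : Set X) = ↑({1, s.z, s.w, s.z * s.w} : Finset X) := by
    ext x
    simp [mem_T]
  rw [show Nat.card s.T = (s.T : Set X).ncard from Nat.card_coe_set_eq _, e, Set.ncard_coe_finset]
  simp [Ne.symm s.z1, Ne.symm s.w1, Ne.symm s.w_ne_z, Ne.symm h1, Ne.symm h2, Ne.symm h3]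

theorem T_P {t q : X} (ht : t ∈ s.T) (hq : q ∈ s.P) :
    t * q * t⁻¹ = q ∧ (t = 1 ∨ t = s.z) ∨ t * q * t⁻¹ = q⁻¹ ∧ (t = s.w ∨ t = s.z * s.w) := by
  rcases s.mem_T.mp ht with rfl | rfl | rfl | rfl
  · left; simp
  · left; exact ⟨by rw [s.zP q hq, mul_inv_cancel_right], Or.inr rfl⟩
  · right; exact ⟨s.wP q hq, Or.inl rfl⟩
  · right
    refine ⟨?_, Or.inr rfl⟩
    rw [show s.z * s.w * q * (s.z * s.w)⁻¹ = s.z * (s.w * q * s.w⁻¹) * s.z⁻¹ by group, s.wP q hq,
      s.zP _ (inv_mem hq), mul_inv_cancel_right]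

theorem T_comm_z {t : X} (ht : t ∈ s.T) : t * s.z = s.z * t := by
  rcases s.mem_T.mp ht with rfl | rfl | rfl | rfl
  · simp
  · rfl
  · exact s.wz
  · rw [mul_assoc, s.wz]

theorem T_comm_w {t : X} (ht : t ∈ s.T) : t * s.w = s.w * t := by
  rcases s.mem_T.mp ht with rfl | rfl | rfl | rfl
  · simp
  · exact s.wz.symm
  · rfl
  · rw [← mul_assoc, s.wz]

theorem T_inf_P {x : X} (ht : x ∈ s.T) (hp : x ∈ s.P) : x = 1 := s.P_sq hp (s.T_sq ht)

/-- The centralizer of z is the product of T and P. -/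
theorem Cz_decomp {x : X} (hx : x * s.z = s.z * x) : ∃ t ∈ s.T, ∃ q ∈ s.P, x = t * q := by
  let F : s.T × s.P → centralizer ({s.z} : Set X) := fun a => ⟨(a.1 : X) * a.2, mem_centralizer_singleton_iff.mpr
    ((show Commute (a.1 : X) s.z from s.T_comm_z a.1.2).mul_left
      (show Commute (a.2 : X) s.z from (s.zP a.2 a.2.2).symm)).eq⟩
  have hF : Function.Injective F := by
    rintro ⟨t, q⟩ ⟨t', q'⟩ h
    have h' : (t : X) * q = t' * q' := congrArg Subtype.val h
    have h1 : (t' : X)⁻¹ * t = q' * (q : X)⁻¹ := by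
      calc (t' : X)⁻¹ * t = (t' : X)⁻¹ * (t * q) * (q : X)⁻¹ := by group
        _ = _ := by rw [h']; group
    have h2 := s.T_inf_P (mul_mem (inv_mem t'.2) t.2) (h1 ▸ mul_mem q'.2 (inv_mem q.2))
    have h3 : (t : X) = t' := (inv_mul_eq_one.mp h2).symm
    rw [h3] at h'
    exact Prod.ext (Subtype.ext h3) (Subtype.ext (mul_left_cancel h'))
  obtain ⟨⟨t, q⟩, h⟩ := ((Nat.bijective_iff_injective_and_card F).mpr ⟨hF, by
    rw [Nat.card_prod, s.card_T, s.cardP, s.cardCz]⟩).2 ⟨x, mem_centralizer_singleton_iff.mpr hx⟩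
  exact ⟨t, t.2, q, q.2, (congrArg Subtype.val h).symm⟩

theorem cube_Cz {x : X} (hx : x * s.z = s.z * x) (h3 : x ^ 3 = 1) : x ∈ s.P := by
  obtain ⟨t, ht, q, hq, rfl⟩ := s.Cz_decomp hx
  rcases s.T_P ht hq with ⟨hc, -⟩ | ⟨hi, -⟩
  · have hc' : Commute t q := mul_inv_eq_iff_eq_mul.mp hc
    have t3 : t ^ 3 = t := by rw [pow_succ, sq, s.T_sq ht, one_mul]
    rw [hc'.mul_pow, t3, s.P_pow hq, mul_one] at h3
    rw [h3, one_mul]; exact hq
  · have h2 : t * q * (t * q) = 1 := by
      have ti : t⁻¹ = t := inv_eq_of_mul_eq_one_right (s.T_sq ht)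
      rw [show t * q * (t * q) = (t * q * t) * q by group]
      rw [ti] at hi
      rw [hi, inv_mul_cancel]
    rw [pow_succ, sq, h2, one_mul] at h3
    rw [h3]; exact one_mem _

theorem cent_T {x : X} (hz : x * s.z = s.z * x) (hw : x * s.w = s.w * x) : x ∈ s.T := by
  obtain ⟨t, ht, q, hq, rfl⟩ := s.Cz_decomp hz
  have h1 : q * s.w = s.w * q := mul_left_cancel (a := t) (by
    rw [← mul_assoc, hw, ← mul_assoc, ← mul_assoc, s.T_comm_w ht])
  have h2 := s.wP q hq
  rw [← h1, mul_inv_cancel_right] at h2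
  rw [s.P_sq hq (mul_eq_one_iff_eq_inv.mpr h2), mul_one]
  exact ht

/-- The involutions of the centralizer of z centralizing P. -/
theorem invol_cP {x : X} (hc : ∀ q ∈ s.P, x * q = q * x) (hx : x * x = 1) (hx1 : x ≠ 1) : x = s.z := by
  obtain ⟨t, ht, q, hq, rfl⟩ := s.Cz_decomp (s.normP x fun q hq => by rw [hc q hq, mul_inv_cancel_right]; exact hq)
  obtain ⟨q0, hq0, hq01⟩ := s.exists_q
  have hPc : q * q0 = q0 * q := by
    haveI : Fact (Nat.Prime 3) := ⟨Nat.prime_three⟩
    haveI : IsCyclic s.P := isCyclic_of_prime_card s.cardP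
    letI := IsCyclic.commGroup (α := s.P)
    exact congrArg Subtype.val (mul_comm (⟨q, hq⟩ : s.P) ⟨q0, hq0⟩)
  have h1 : t * q0 * t⁻¹ = q0 := by
    refine mul_inv_eq_iff_eq_mul.mpr (mul_right_cancel (b := q) ?_)
    rw [mul_assoc, ← hPc, ← mul_assoc, hc q0 hq0, mul_assoc]
  rcases s.T_P ht hq0 with ⟨-, rfl | rfl⟩ | ⟨h, -⟩
  · rw [one_mul] at hx hx1
    exact absurd (s.P_sq hq hx) hx1
  · have hzq : Commute s.z q := s.zP q hq
    have : q * q = 1 := by
      have h2 := hx
      rwa [← sq, hzq.mul_pow, sq, sq, s.zz, one_mul] at h2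
    rw [s.P_sq hq this, mul_one]
  · rw [h1] at h
    exact absurd (s.P_sq hq0 (mul_eq_one_iff_eq_inv.mpr h)) hq01

/-- The subgroup of order three centralized by w. -/
def Pw : Subgroup X := s.P.comap s.β.toMonoidHom

theorem mem_Pw {q : X} : q ∈ s.Pw ↔ s.β q ∈ s.P := Iff.rfl

theorem card_Pw : Nat.card s.Pw = 3 := by
  rw [← s.cardP]
  exact Nat.card_congr
    { toFun := fun q => ⟨s.β q, s.mem_Pw.mp q.2⟩
      invFun := fun q => ⟨s.β.symm q, s.mem_Pw.mpr (by rw [MulEquiv.apply_symm_apply]; exact q.2)⟩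
      left_inv := fun q => Subtype.ext (s.β.symm_apply_apply _)
      right_inv := fun q => Subtype.ext (s.β.apply_symm_apply _) }

theorem w_Pw {q : X} (hq : q ∈ s.Pw) : s.w * q = q * s.w := s.β.injective (by
  rw [map_mul, map_mul, s.βw]; exact s.zP _ (s.mem_Pw.mp hq))

theorem cube_Cw {x : X} (hx : x * s.w = s.w * x) (h3 : x ^ 3 = 1) : x ∈ s.Pw :=
  s.mem_Pw.mpr (s.cube_Cz (by rw [← s.βw, ← map_mul, hx, map_mul]) (by rw [← map_pow, h3, map_one]))

theorem normPw {x : X} (h : ∀ q ∈ s.Pw, x * q * x⁻¹ ∈ s.Pw) : x * s.w = s.w * x := s.β.injective (by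
  rw [map_mul, map_mul, s.βw]
  refine s.normP _ fun q hq => ?_
  have := s.mem_Pw.mp (h (s.β.symm q) (s.mem_Pw.mpr (by rw [MulEquiv.apply_symm_apply]; exact hq)))
  rwa [map_mul, map_mul, map_inv, MulEquiv.apply_symm_apply] at this)

theorem invol_cPw {x : X} (hc : ∀ q ∈ s.Pw, x * q = q * x) (hx : x * x = 1) (hx1 : x ≠ 1) : x = s.w :=
  s.β.injective (by
    rw [s.βw]
    refine s.invol_cP (fun q hq => ?_) (by rw [← map_mul, hx, map_one])
      (fun e => hx1 (s.β.injective (by rw [e, map_one])))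
    have := hc (s.β.symm q) (s.mem_Pw.mpr (by rw [MulEquiv.apply_symm_apply]; exact hq))
    simpa using congrArg s.β this)

theorem z_Pw {q : X} (hq : q ∈ s.Pw) : s.z * q * s.z⁻¹ = q⁻¹ := by
  refine s.β.injective ?_
  rw [map_mul, map_mul, map_inv, map_inv]
  have hc : s.β s.z * s.z = s.z * s.β s.z := by
    have h := congrArg s.β s.wz
    rw [map_mul, map_mul, s.βw] at h
    exact h.symm
  obtain ⟨t, ht, q', hq', e⟩ := s.Cz_decomp hc
  have hq2 := s.mem_Pw.mp hq
  have hPab : Commute q' (s.β q) := by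
    haveI : Fact (Nat.Prime 3) := ⟨Nat.prime_three⟩
    haveI : IsCyclic s.P := isCyclic_of_prime_card s.cardP
    letI := IsCyclic.commGroup (α := s.P)
    exact congrArg Subtype.val (mul_comm (⟨q', hq'⟩ : s.P) ⟨_, hq2⟩)
  have hconj : s.β s.z * s.β q * (s.β s.z)⁻¹ = t * s.β q * t⁻¹ := by
    rw [e, show t * q' * s.β q * (t * q')⁻¹ = t * (q' * s.β q * q'⁻¹) * t⁻¹ by group, hPab.eq, mul_inv_cancel_right]
  rcases s.T_P ht hq2 with ⟨-, ht'⟩ | ⟨hi, -⟩
  · exfalso
    have hsq : s.β s.z * s.β s.z = 1 := by rw [← map_mul, s.zz, map_one]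
    have hc' : Commute t q' := by
      rcases ht' with rfl | rfl
      exacts [Commute.one_left _, s.zP _ hq']
    have h2 : q' = 1 := s.P_sq hq' (by
      rw [e, ← sq, hc'.mul_pow, sq, s.T_sq ht, one_mul, sq] at hsq
      exact hsq)
    rw [h2, mul_one] at e
    rcases ht' with rfl | rfl
    · exact s.z1 (s.β.injective (by rw [e, map_one]))
    · exact s.w_ne_z (s.β.injective (by rw [s.βw, e]))
  · rw [hconj, hi]

theorem zw_Pw {q : X} (hq : q ∈ s.Pw) : s.z * s.w * q * (s.z * s.w)⁻¹ = q⁻¹ := by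
  rw [show s.z * s.w * q * (s.z * s.w)⁻¹ = s.z * (s.w * q * s.w⁻¹) * s.z⁻¹ by group, s.w_Pw hq,
    mul_inv_cancel_right, s.z_Pw hq]

theorem Pw_sq {q : X} (hq : q ∈ s.Pw) (h : q * q = 1) : q = 1 :=
  s.β.injective (by rw [map_one]; exact s.P_sq (s.mem_Pw.mp hq) (by rw [← map_mul, h, map_one]))

theorem Pw_pow {q : X} (hq : q ∈ s.Pw) : q ^ 3 = 1 :=
  s.β.injective (by rw [map_one, map_pow]; exact s.P_pow (s.mem_Pw.mp hq))

theorem exists_qw : ∃ q ∈ s.Pw, q ≠ 1 := by
  refine (s.Pw.bot_or_exists_ne_one).resolve_left fun h => ?_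
  have := s.card_Pw
  rw [h, card_bot] at this
  norm_num at this

/-- The fixed points of α. -/
abbrev Y : Subgroup X := fixed s.α

theorem T_le_Y : s.T ≤ s.Y := fun t ht => by
  show s.α t = t
  rcases s.mem_T.mp ht with rfl | rfl | rfl | rfl
  · exact map_one _
  · exact s.αz
  · exact s.αw
  · rw [map_mul, s.αz, s.αw]

theorem P_le_Y : s.P ≤ s.Y := fun q hq => s.αP q hq

theorem Pw_le_Y : s.Pw ≤ s.Y := fun q hq => by
  show s.α q = q
  have hmem : ∀ a ∈ s.Pw, s.α a ∈ s.Pw := fun a ha => s.cube_Cw (by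
    conv_lhs => rw [← s.αw]
    conv_rhs => rw [← s.αw]
    rw [← map_mul, ← map_mul, s.w_Pw ha]) (by rw [← map_pow, s.Pw_pow ha, map_one])
  by_cases hq1 : q = 1
  · rw [hq1, map_one]
  haveI : Fact (Nat.Prime 3) := ⟨Nat.prime_three⟩
  have hgen : s.Pw = zpowers q := (eq_of_le_of_card_ge (zpowers_le.mpr hq) (by
    rw [s.card_Pw, Nat.card_zpowers, orderOf_eq_prime (s.Pw_pow hq) hq1])).symm
  obtain ⟨i, hi⟩ : ∃ i : ℕ, q ^ i = s.α q :=
    (mem_powers_iff_mem_zpowers.mpr (hgen ▸ hmem q hq : s.α q ∈ zpowers q) : s.α q ∈ Submonoid.powers q)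
  rw [pow_eq_pow_mod i (s.Pw_pow hq)] at hi
  have h3 := Nat.mod_lt i (show 3 > 0 by norm_num)
  interval_cases hc : i % 3
  · rw [pow_zero] at hi
    exact absurd (s.α.injective (hi.symm.trans (map_one _).symm)) hq1
  · rw [← hi, pow_one]
  · have h := s.α3 q
    rw [← hi, map_pow, map_pow, ← hi, map_pow, ← hi, ← pow_mul, ← pow_mul, show 2 * (2 * 2) = 3 * 2 + 2 from rfl, pow_add, pow_mul,
      s.Pw_pow hq, one_pow, one_mul] at h
    exact absurd (mul_eq_left.mp (by rw [← sq]; exact h)) hq1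

theorem Cz_le_Y : centralizer ({s.z} : Set X) ≤ s.Y := fun x hx => by
  obtain ⟨t, ht, q, hq, rfl⟩ := s.Cz_decomp (mem_centralizer_singleton_iff.mp hx)
  exact mul_mem (s.T_le_Y ht) (s.P_le_Y hq)

include s in
/-- P is a Sylow 3-subgroup. -/
theorem not_nine : ¬ 9 ∣ Nat.card X := by
  intro h9
  haveI : Fact (Nat.Prime 3) := ⟨Nat.prime_three⟩
  obtain ⟨S, hS, hPS⟩ := Sylow.exists_subgroup_card_pow_prime_le 3 (n := 1) (m := 2) (by norm_num; exact h9) s.P
    (by rw [s.cardP, pow_one]) (by norm_num)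
  have hSp : IsPGroup 3 S := IsPGroup.of_card hS
  haveI := hSp.isNilpotent
  have hne : s.P.subgroupOf S < ⊤ := lt_top_iff_ne_top.mpr fun e => by
    have h1 := card_le_of_le (subgroupOf_eq_top.mp e)
    rw [hS, s.cardP] at h1
    norm_num at h1
  obtain ⟨x, hxn, hxP⟩ := SetLike.exists_of_lt (Group.normalizerCondition_of_isNilpotent _ hne)
  have hxz : (x : X) * s.z = s.z * x := s.normP _ fun q hq =>
    mem_subgroupOf.mp ((mem_normalizer_iff.mp hxn ⟨q, hPS hq⟩).mp (mem_subgroupOf.mpr hq))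
  refine hxP (mem_subgroupOf.mpr (s.cube_Cz hxz ?_))
  have h9' : (x : X) ^ 9 = 1 := by
    have := pow_card_eq_one' (x := x)
    rw [hS] at this
    exact congrArg Subtype.val this
  have h12 : (x : X) ^ 12 = 1 := by
    rw [← s.cardCz]
    exact congrArg Subtype.val
      (pow_card_eq_one' (x := (⟨x, mem_centralizer_singleton_iff.mpr hxz⟩ : centralizer ({s.z} : Set X))))
  exact (pow_gcd_eq_one (m := 9) (n := 12) (a := (x : X))).mpr ⟨h9', h12⟩

/-- A subgroup containing both groups of order three moves z to w. -/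
theorem zw_conj {K : Subgroup X} (hP : s.P ≤ K) (hPw : s.Pw ≤ K) : ∃ g ∈ K, g * s.z * g⁻¹ = s.w := by
  classical
  haveI : Fact (Nat.Prime 3) := ⟨Nat.prime_three⟩
  have hfac : (Nat.card K).factorization 3 = 1 := by
    have h3 : 3 ∣ Nat.card K := s.cardP ▸ card_dvd_of_le hP
    have h9 : ¬ 3 ^ 2 ∣ Nat.card K := fun h => s.not_nine (h.trans (card_subgroup_dvd_card K))
    have hpos := (Nat.Prime.factorization_pos_of_dvd Nat.prime_three Nat.card_pos.ne' h3)
    rw [Nat.Prime.pow_dvd_iff_le_factorization Nat.prime_three Nat.card_pos.ne'] at h9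
    omega
  let S1 : Sylow 3 K := Sylow.ofCard (s.P.subgroupOf K) (by
    rw [Nat.card_congr (subgroupOfEquivOfLe hP).toEquiv, s.cardP, hfac, pow_one])
  let S2 : Sylow 3 K := Sylow.ofCard (s.Pw.subgroupOf K) (by
    rw [Nat.card_congr (subgroupOfEquivOfLe hPw).toEquiv, s.card_Pw, hfac, pow_one])
  obtain ⟨g, hg⟩ := MulAction.exists_smul_eq K S1 S2
  have hmap : (s.P.subgroupOf K).map (MulAut.conj g).toMonoidHom = s.Pw.subgroupOf K := by
    have := congrArg (fun S : Sylow 3 K => (S : Subgroup K)) hg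
    rw [Sylow.coe_subgroup_smul, Subgroup.pointwise_smul_def] at this
    exact this
  refine ⟨g, g.2, s.invol_cPw (fun q hq => ?_) ?_ fun e => s.z1 (conj_eq_one_iff.mp e)⟩
  · obtain ⟨q0, hq0, e⟩ := hmap.symm ▸ (mem_subgroupOf.mpr hq : (⟨q, hPw hq⟩ : K) ∈ s.Pw.subgroupOf K)
    have e' : (g : X) * q0 * (g : X)⁻¹ = q := congrArg Subtype.val e
    rw [← e']
    calc (g : X) * s.z * (g : X)⁻¹ * (g * q0 * (g : X)⁻¹) = g * (s.z * q0) * (g : X)⁻¹ := by group
      _ = g * q0 * (g : X)⁻¹ * (g * s.z * (g : X)⁻¹) := by rw [s.zP _ (mem_subgroupOf.mp hq0)]; group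
  · rw [show (g : X) * s.z * (g : X)⁻¹ * (g * s.z * (g : X)⁻¹) = g * (s.z * s.z) * (g : X)⁻¹ by group, s.zz]
    group

/-- The centralizer of z has index at least six where z and w are fused. -/
theorem index_six {g : X} (hgY : g ∈ s.Y) (hg : g * s.z * g⁻¹ = s.w) : 72 ≤ Nat.card s.Y := by
  classical
  obtain ⟨q, hq, hq1⟩ := s.exists_q
  obtain ⟨v, hv, hv1⟩ := s.exists_qw
  -- the conjugates
  let f : Fin 6 → X := ![1, g, q * g, q * q * g, v, v * v]
  have hfY : ∀ i, f i ∈ s.Y := by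
    intro i
    fin_cases i
    exacts [one_mem _, hgY, mul_mem (s.P_le_Y hq) hgY, mul_mem (mul_mem (s.P_le_Y hq) (s.P_le_Y hq)) hgY,
      s.Pw_le_Y hv, mul_mem (s.Pw_le_Y hv) (s.Pw_le_Y hv)]
  have hqw : ∀ a ∈ s.P, a * s.w * a⁻¹ = s.w * a := by
    intro a ha
    have hi : a⁻¹ * a⁻¹ = a := by
      rw [← mul_inv_rev, inv_eq_of_mul_eq_one_right (s.P_cube ha)]
    calc a * s.w * a⁻¹ = s.w * (s.w⁻¹ * a * s.w) * a⁻¹ := by group
      _ = s.w * (a⁻¹ * a⁻¹) := by
        have := s.wP a ha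
        rw [s.wi] at this ⊢
        rw [this]; group
      _ = s.w * a := by rw [hi]
  have hzv : ∀ a ∈ s.Pw, a * s.z * a⁻¹ = s.z * a := by
    intro a ha
    have hi : a⁻¹ * a⁻¹ = a := by
      rw [← mul_inv_rev, inv_eq_of_mul_eq_one_right (by rw [← s.Pw_pow ha, pow_succ, sq])]
    calc a * s.z * a⁻¹ = s.z * (s.z⁻¹ * a * s.z) * a⁻¹ := by group
      _ = s.z * (a⁻¹ * a⁻¹) := by
        have := s.z_Pw ha
        rw [s.zi] at this ⊢
        rw [this]; group
      _ = s.z * a := by rw [hi]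
  let F : Fin 6 → s.Y ⧸ (centralizer ({s.z} : Set X)).subgroupOf s.Y := fun i => QuotientGroup.mk ⟨f i, hfY i⟩
  have hval : ∀ i, f i * s.z * (f i)⁻¹ = ![s.z, s.w, s.w * q, s.w * (q * q), s.z * v, s.z * (v * v)] i := by
    intro i
    fin_cases i
    · show 1 * s.z * 1⁻¹ = s.z
      group
    · exact hg
    · show q * g * s.z * (q * g)⁻¹ = s.w * q
      rw [show q * g * s.z * (q * g)⁻¹ = q * (g * s.z * g⁻¹) * q⁻¹ by group, hg, hqw q hq]
    · show q * q * g * s.z * (q * q * g)⁻¹ = s.w * (q * q)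
      rw [show q * q * g * s.z * (q * q * g)⁻¹ = q * q * (g * s.z * g⁻¹) * (q * q)⁻¹ by group, hg,
        hqw _ (mul_mem hq hq)]
    · exact hzv v hv
    · exact hzv _ (mul_mem hv hv)
  have hinv2 : ∀ a ∈ s.P, ∀ b ∈ s.Pw, s.z * b = s.w * a → b = 1 := by
    intro a ha b hb e
    refine s.Pw_sq hb ?_
    have hb' : b = s.z * s.w * a := by rw [mul_assoc, ← e, ← mul_assoc, s.zz, one_mul]
    have h2 : s.z * s.w * a * (s.z * s.w)⁻¹ = a⁻¹ := by
      rcases s.T_P (s.mem_T.mpr (Or.inr (Or.inr (Or.inr rfl)))) ha with ⟨-, h | h⟩ | ⟨h, -⟩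
      exacts [absurd h s.zw_ne.1, absurd h s.zw_ne.2.1, h]
    rw [hb', show s.z * s.w * a * (s.z * s.w * a) = (s.z * s.w * a * (s.z * s.w)⁻¹) * ((s.z * s.w) * (s.z * s.w)) * a by
      group, h2, s.T_sq (s.mem_T.mpr (Or.inr (Or.inr (Or.inr rfl))))]
    group
  have q2 : q * q ≠ 1 := fun e => hq1 (s.P_sq hq e)
  have v2 : v * v ≠ 1 := fun e => hv1 (s.Pw_sq hv e)
  have qq : q * q ≠ q := fun e => hq1 (mul_eq_left.mp e)
  have vv : v * v ≠ v := fun e => hv1 (mul_eq_left.mp e)
  have hzw : ∀ a ∈ s.P, s.z ≠ s.w * a := fun a ha e => by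
    have : a = s.w * s.z := by rw [e, ← mul_assoc, s.ww, one_mul]
    have h := s.P_sq ha (by rw [this]; exact s.T_sq (mul_mem (s.mem_T.mpr (Or.inr (Or.inr (Or.inl rfl))))
      (s.mem_T.mpr (Or.inr (Or.inl rfl)))))
    rw [h, mul_one] at e
    exact s.w_ne_z e.symm
  have hdist : Function.Injective ![s.z, s.w, s.w * q, s.w * (q * q), s.z * v, s.z * (v * v)] := by
    have n01 : s.z ≠ s.w := Ne.symm s.w_ne_z
    have n02 := hzw q hq
    have n03 := hzw _ (mul_mem hq hq)
    have n04 : s.z ≠ s.z * v := fun e => hv1 (left_eq_mul.mp e)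
    have n05 : s.z ≠ s.z * (v * v) := fun e => v2 (left_eq_mul.mp e)
    have n12 : s.w ≠ s.w * q := fun e => hq1 (left_eq_mul.mp e)
    have n13 : s.w ≠ s.w * (q * q) := fun e => q2 (left_eq_mul.mp e)
    have n23 : s.w * q ≠ s.w * (q * q) := fun e => qq (mul_left_cancel e).symm
    have n45 : s.z * v ≠ s.z * (v * v) := fun e => vv (mul_left_cancel e).symm
    have n14 : s.w ≠ s.z * v := fun e => hv1 (hinv2 1 (one_mem _) v hv (by rw [mul_one]; exact e.symm))
    have n15 : s.w ≠ s.z * (v * v) := fun e =>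
      v2 (hinv2 1 (one_mem _) _ (mul_mem hv hv) (by rw [mul_one]; exact e.symm))
    have n24 : s.w * q ≠ s.z * v := fun e => hv1 (hinv2 q hq v hv e.symm)
    have n25 : s.w * q ≠ s.z * (v * v) := fun e => v2 (hinv2 q hq _ (mul_mem hv hv) e.symm)
    have n34 : s.w * (q * q) ≠ s.z * v := fun e => hv1 (hinv2 _ (mul_mem hq hq) v hv e.symm)
    have n35 : s.w * (q * q) ≠ s.z * (v * v) := fun e => v2 (hinv2 _ (mul_mem hq hq) _ (mul_mem hv hv) e.symm)
    refine List.nodup_ofFn.mp ?_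
    simp [List.ofFn_succ, n01, n02, n03, n04, n05, n12, n13, n23, n45, n14, n15, n24, n25, n34, n35]
  have hFinj : Function.Injective F := by
    intro i j e
    refine hdist ?_
    rw [← hval i, ← hval j]
    have h : (f i)⁻¹ * f j ∈ centralizer ({s.z} : Set X) := mem_subgroupOf.mp (QuotientGroup.eq.mp e)
    have h' := mem_centralizer_singleton_iff.mp h
    calc f i * s.z * (f i)⁻¹ = f i * (s.z * ((f i)⁻¹ * f j)) * (f j)⁻¹ := by group
      _ = f j * s.z * (f j)⁻¹ := by rw [← h']; group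
  have h1 := Subgroup.card_mul_index ((centralizer ({s.z} : Set X)).subgroupOf s.Y)
  rw [Nat.card_congr (subgroupOfEquivOfLe s.Cz_le_Y).toEquiv, s.cardCz, index_eq_card] at h1
  have h2 := Nat.card_le_card_of_injective F hFinj
  rw [Nat.card_eq_fintype_card, Fintype.card_fin] at h2
  omega

theorem card_Y_dvd : Nat.card s.Y ∣ 443520 := cardM ▸ Subgroup.card_dvd_of_injective s.φ s.φinj

/-- The normalizer in Y of a subgroup of prime order embeds in the normalizer in M22. -/
theorem norm_embed {p : ℕ} [Fact p.Prime] (a : s.Y) (ha : orderOf a = p) {n : ℕ}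
    (hn : ∀ g : MTwoTwo, g ^ p = 1 → g ≠ 1 → Nat.card (normalizer (zpowers g : Set MTwoTwo)) = n) :
    Nat.card (normalizer (zpowers a : Set s.Y)) ∣ n := by
  have hg : s.φ a ^ p = 1 := by rw [← map_pow, ← ha, pow_orderOf_eq_one, map_one]
  have hg1 : s.φ a ≠ 1 := fun e => by
    have := s.φinj (e.trans (map_one s.φ).symm)
    rw [this, orderOf_one] at ha
    exact (Fact.out : p.Prime).ne_one ha.symm
  rw [← hn _ hg hg1, ← card_map_of_injective s.φinj]
  refine card_dvd_of_le ?_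
  rintro _ ⟨x, hx, rfl⟩
  refine mem_norm_of fun y hy => ?_
  obtain ⟨i, rfl⟩ := mem_zpowers_iff.mp hy
  rw [← map_zpow, ← map_inv, ← map_mul, ← map_mul]
  obtain ⟨j, hj⟩ := mem_zpowers_iff.mp ((mem_normalizer_iff.mp hx _).mp (zpow_mem (mem_zpowers a) i))
  rw [← hj, map_zpow]
  exact zpow_mem (mem_zpowers _) j

theorem sylow_count {p : ℕ} [Fact p.Prime] (a : s.Y) (ha : orderOf a = p) (hp2 : ¬ p ^ 2 ∣ 443520) :
    ∃ n : ℕ, n % p = 1 ∧ n * Nat.card (normalizer (zpowers a : Set s.Y)) = Nat.card s.Y ∧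
      p ∣ Nat.card (normalizer (zpowers a : Set s.Y)) := by
  classical
  have hpp : p.Prime := Fact.out
  have hfac : (Nat.card s.Y).factorization p = 1 := by
    have h1 : p ∣ Nat.card s.Y := ha ▸ orderOf_dvd_natCard a
    have h2 : ¬ p ^ 2 ∣ Nat.card s.Y := fun h => hp2 (h.trans s.card_Y_dvd)
    have hpos := hpp.factorization_pos_of_dvd Nat.card_pos.ne' h1
    rw [hpp.pow_dvd_iff_le_factorization Nat.card_pos.ne'] at h2
    omega
  let S : Sylow p s.Y := Sylow.ofCard (zpowers a) (by rw [Nat.card_zpowers, ha, hfac, pow_one])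
  refine ⟨Nat.card (Sylow p s.Y), ?_, ?_, ?_⟩
  · have := card_sylow_modEq_one p s.Y
    rwa [Nat.ModEq, Nat.one_mod_eq_one.mpr hpp.ne_one] at this
  · rw [S.card_eq_index_normalizer, mul_comm]
    exact Subgroup.card_mul_index _
  · conv_lhs => rw [← ha, ← Nat.card_zpowers]
    exact card_dvd_of_le le_normalizer

theorem seven_excl {m : ℕ} (hm : Nat.card s.Y = 12 * m) : m ∉ ({7, 28, 35, 77} : Finset ℕ) := by
  intro h
  haveI : Fact (Nat.Prime 7) := ⟨by norm_num⟩
  obtain ⟨a, ha⟩ := exists_prime_orderOf_dvd_card' (G := s.Y) 7 (by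
    rw [hm]; simp only [Finset.mem_insert, Finset.mem_singleton] at h
    rcases h with rfl | rfl | rfl | rfl <;> norm_num)
  obtain ⟨n, hn, hnc, h7⟩ := s.sylow_count a ha (by norm_num)
  have h21 := s.norm_embed a ha (n := 21) fun g hg hg1 => (seven_local hg hg1).2
  rw [hm] at hnc
  set N := Nat.card (normalizer (zpowers a : Set s.Y))
  have hd : N ∈ Nat.divisors 21 := Nat.mem_divisors.mpr ⟨h21, by norm_num⟩
  simp only [show Nat.divisors 21 = {1, 3, 7, 21} from by decide, Finset.mem_insert, Finset.mem_singleton] at hd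
  simp only [Finset.mem_insert, Finset.mem_singleton] at h
  rcases hd with e | e | e | e <;> rw [e] at hnc h7 <;> rcases h with rfl | rfl | rfl | rfl <;> omega

theorem eleven_excl {y : s.Y} (hy3 : y ^ 3 = 1) (hy : (y : X) * s.z ≠ s.z * y) : Nat.card s.Y ≠ 132 := by
  classical
  intro hc
  haveI : Fact (Nat.Prime 11) := ⟨by norm_num⟩
  obtain ⟨a, ha⟩ := exists_prime_orderOf_dvd_card' (G := s.Y) 11 (by rw [hc]; norm_num)
  obtain ⟨n, hn, hnc, h11⟩ := s.sylow_count a ha (by norm_num)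
  have h55 := s.norm_embed a ha (n := 55) fun g hg hg1 => (eleven_local hg hg1).2
  rw [hc] at hnc
  set N := Nat.card (normalizer (zpowers a : Set s.Y)) with hN
  have hN11 : N = 11 := by
    have hd : N ∈ Nat.divisors 55 := Nat.mem_divisors.mpr ⟨h55, by norm_num⟩
    simp only [show Nat.divisors 55 = {1, 5, 11, 55} from by decide, Finset.mem_insert, Finset.mem_singleton] at hd
    rcases hd with e | e | e | e <;> rw [e] at hnc h11 ⊢ <;> omega
  let S : Sylow 11 s.Y := Sylow.ofCard (zpowers a) (by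
    rw [Nat.card_zpowers, ha, hc, show 132 = 11 * 12 from rfl, Nat.factorization_mul (by norm_num) (by norm_num),
      Finsupp.add_apply, Nat.Prime.factorization_self (by norm_num),
      Nat.factorization_eq_zero_of_not_dvd (by norm_num)]
    norm_num)
  have hle : normalizer (zpowers a : Set s.Y) ≤ centralizer (zpowers a : Set s.Y) := by
    rw [← eq_of_le_of_card_ge (le_normalizer : zpowers a ≤ _) (by rw [← hN, hN11, Nat.card_zpowers, ha])]
    intro x hx
    obtain ⟨i, rfl⟩ := mem_zpowers_iff.mp hx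
    exact mem_centralizer_iff.mpr fun b hb => by
      obtain ⟨j, rfl⟩ := mem_zpowers_iff.mp hb
      exact (Commute.zpow_zpow (Commute.refl a) j i).eq
  set f := MonoidHom.transferSylow S hle
  have hk := (MonoidHom.ker_transferSylow_isComplement' S hle).card_mul
  rw [hc, show Nat.card (S : Subgroup s.Y) = 11 by
    show Nat.card (zpowers a) = 11
    rw [Nat.card_zpowers, ha]] at hk
  have hk' : Nat.card f.ker * 11 = 132 := hk
  have hk12 : Nat.card f.ker = 12 := by omega
  have hkill : ∀ x : s.Y, ∀ k : ℕ, Nat.Coprime k 11 → x ^ k = 1 → x ∈ f.ker := fun x k hk hx => by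
    refine MonoidHom.mem_ker.mpr ?_
    have h1 : f x ^ k = 1 := by rw [← map_pow, hx, map_one]
    have h2 : f x ^ 11 = 1 := by
      have := pow_card_eq_one' (x := f x)
      rwa [show Nat.card ↥(S : Subgroup s.Y) = 11 by
        show Nat.card (zpowers a) = 11
        rw [Nat.card_zpowers, ha]] at this
    have := (pow_gcd_eq_one (m := k) (n := 11) (a := f x)).mpr ⟨h1, h2⟩
    rwa [hk.gcd_eq_one, pow_one] at this
  have hCz : ((centralizer ({s.z} : Set X)).subgroupOf s.Y) = f.ker := by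
    refine eq_of_le_of_card_ge (fun x hx => hkill x 12 (by norm_num) (Subtype.ext ?_)) ?_
    · have := pow_card_eq_one' (x := (⟨(x : X), mem_subgroupOf.mp hx⟩ : centralizer ({s.z} : Set X)))
      rw [s.cardCz] at this
      have h' := congrArg Subtype.val this
      rw [SubmonoidClass.coe_pow] at h' ⊢
      exact h'
    · rw [hk12, Nat.card_congr (subgroupOfEquivOfLe s.Cz_le_Y).toEquiv, s.cardCz]
  exact hy (mem_centralizer_singleton_iff.mp (mem_subgroupOf.mp (hCz.symm ▸ hkill y 3 (by norm_num) hy3 : y ∈ _)))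

theorem two_elem_Cz {W : Subgroup X} (hW : IsPGroup 2 W) (hTW : s.T ≤ W) {x : X} (hx : x ∈ W)
    (hc : x * s.z = s.z * x) : x ∈ s.T := by
  haveI : Fact (Nat.Prime 2) := ⟨Nat.prime_two⟩
  set R := W ⊓ centralizer ({s.z} : Set X)
  have hT : s.T ≤ R := le_inf hTW fun t ht => mem_centralizer_singleton_iff.mpr (s.T_comm_z ht)
  obtain ⟨j, hj⟩ := IsPGroup.iff_card.mp (hW.to_le (inf_le_left : R ≤ W))
  have h12 : Nat.card R ∣ 12 := s.cardCz ▸ card_dvd_of_le (inf_le_right : R ≤ centralizer ({s.z} : Set X))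
  have h4 : Nat.card R ≤ 4 := by
    rw [hj] at h12 ⊢
    have : j ≤ 2 := by
      by_contra hj'
      have : 2 ^ 3 ∣ 12 := (pow_dvd_pow 2 (by omega)).trans h12
      norm_num at this
    calc 2 ^ j ≤ 2 ^ 2 := Nat.pow_le_pow_right (by norm_num) this
      _ = 4 := rfl
  rw [eq_of_le_of_card_ge hT (by rw [s.card_T]; exact h4)]
  exact ⟨hx, mem_centralizer_singleton_iff.mpr hc⟩

theorem two_elem_Cw {W : Subgroup X} (hW : IsPGroup 2 W) (hTW : s.T ≤ W) {x : X} (hx : x ∈ W)
    (hc : x * s.w = s.w * x) : x ∈ s.T := by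
  haveI : Fact (Nat.Prime 2) := ⟨Nat.prime_two⟩
  set R := W ⊓ centralizer ({s.w} : Set X)
  have hT : s.T ≤ R := le_inf hTW fun t ht => mem_centralizer_singleton_iff.mpr (s.T_comm_w ht)
  have hR : ∀ a ∈ R.map s.β.toMonoidHom, a * s.z = s.z * a := by
    rintro _ ⟨a, ha, rfl⟩
    show s.β a * s.z = s.z * s.β a
    rw [← s.βw, ← map_mul, mem_centralizer_singleton_iff.mp ha.2, map_mul]
  have h12 : Nat.card (R.map s.β.toMonoidHom) ∣ 12 :=
    s.cardCz ▸ card_dvd_of_le fun a ha => mem_centralizer_singleton_iff.mpr (hR a ha)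
  rw [card_map_of_injective s.β.injective] at h12
  obtain ⟨j, hj⟩ := IsPGroup.iff_card.mp (hW.to_le (inf_le_left : R ≤ W))
  have h4 : Nat.card R ≤ 4 := by
    rw [hj] at h12 ⊢
    have : j ≤ 2 := by
      by_contra hj'
      have : 2 ^ 3 ∣ 12 := (pow_dvd_pow 2 (by omega)).trans h12
      norm_num at this
    calc 2 ^ j ≤ 2 ^ 2 := Nat.pow_le_pow_right (by norm_num) this
      _ = 4 := rfl
  rw [eq_of_le_of_card_ge hT (by rw [s.card_T]; exact h4)]
  exact ⟨hx, mem_centralizer_singleton_iff.mpr hc⟩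

theorem norm_T {x : X} (hx : x ∈ normalizer (s.T : Set X)) :
    ∀ t ∈ s.T, t ≠ 1 → x * t * x⁻¹ = s.z ∨ x * t * x⁻¹ = s.w ∨ x * t * x⁻¹ = s.z * s.w := fun t ht ht1 => by
  rcases s.mem_T.mp ((mem_normalizer_iff.mp hx t).mp ht) with h | h | h | h
  · exact absurd (conj_eq_one_iff.mp h) ht1
  · exact Or.inl h
  · exact Or.inr (Or.inl h)
  · exact Or.inr (Or.inr h)

include s in
/-- The Sylow 2-subgroups have order at least eight. -/
theorem eight_dvd : 8 ∣ Nat.card X := by
  classical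
  by_contra h8
  haveI : Fact (Nat.Prime 2) := ⟨Nat.prime_two⟩
  have hfac : (Nat.card X).factorization 2 = 2 := by
    have h4 : 2 ^ 2 ∣ Nat.card X := by
      have := card_subgroup_dvd_card s.T
      rwa [s.card_T] at this
    have h3 : ¬ 2 ^ 3 ∣ Nat.card X := h8
    rw [Nat.prime_two.pow_dvd_iff_le_factorization Nat.card_pos.ne'] at h3 h4
    omega
  let S : Sylow 2 X := Sylow.ofCard s.T (by rw [s.card_T, hfac]; rfl)
  obtain ⟨g, hg⟩ : ∃ g : X, g * s.z * g⁻¹ = s.w := by
    obtain ⟨g, -, hg⟩ := s.zw_conj (K := ⊤) le_top le_top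
    exact ⟨g, hg⟩
  -- some element of the normalizer of T moves it
  obtain ⟨x, hxN, hxC⟩ : ∃ x ∈ normalizer (s.T : Set X), x ∉ centralizer (s.T : Set X) := by
    by_contra hall
    push Not at hall
    have hle : normalizer ((S : Subgroup X) : Set X) ≤ centralizer ((S : Subgroup X) : Set X) := hall
    have hcomp := MonoidHom.ker_transferSylow_isComplement' S hle
    set f := MonoidHom.transferSylow S hle
    have hmem : s.z * s.w ∈ f.ker := by
      have h2 : ∀ a b : ↥(S : Subgroup X), a * b = b * a := fun a b => Subtype.ext (by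
        have hb : (b : X) ∈ s.T := b.2
        rcases s.mem_T.mp (a.2 : (a : X) ∈ s.T) with e | e | e | e <;>
          simp only [Subgroup.coe_mul, e, one_mul, mul_one]
        · exact (s.T_comm_z hb).symm
        · exact (s.T_comm_w hb).symm
        · rw [mul_assoc, ← s.T_comm_w hb, ← mul_assoc, ← s.T_comm_z hb, mul_assoc])
      refine MonoidHom.mem_ker.mpr ?_
      have hzz : f s.z * f s.z = 1 := by rw [← map_mul, s.zz, map_one]
      rw [map_mul, ← hg, map_mul, map_mul, map_inv, h2 (f g) (f s.z), mul_inv_cancel_right]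
      exact hzz
    have hzwT : s.z * s.w ∈ (S : Subgroup X) := (s.mem_T.mpr (Or.inr (Or.inr (Or.inr rfl))) : s.z * s.w ∈ s.T)
    exact s.zw_ne.1 (disjoint_def.mp hcomp.disjoint hmem hzwT)
  have hzN : ∀ n ∈ normalizer (s.T : Set X), n * s.z = s.z * n → n ∈ s.T := by
    intro n hn hnz
    obtain ⟨t, ht, q, hq, rfl⟩ := s.Cz_decomp hnz
    have hqN : q ∈ normalizer (s.T : Set X) := by
      have := mul_mem (inv_mem (le_normalizer ht : t ∈ normalizer (s.T : Set X))) hn
      rwa [inv_mul_cancel_left] at this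
    have h1 := (mem_normalizer_iff.mp hqN s.w).mp (s.mem_T.mpr (Or.inr (Or.inr (Or.inl rfl))))
    have h2 : s.w * (q * s.w * q⁻¹) = q⁻¹ * q⁻¹ := by
      rw [show s.w * (q * s.w * q⁻¹) = (s.w * q * s.w) * q⁻¹ by group]
      have := s.wP q hq
      rw [s.wi] at this
      rw [this]
    have h3 := mul_mem (s.mem_T.mpr (Or.inr (Or.inr (Or.inl rfl))) : s.w ∈ s.T) h1
    rw [h2] at h3
    have h4 := s.T_inf_P h3 (mul_mem (inv_mem hq) (inv_mem hq))
    rw [← mul_inv_rev, inv_eq_one] at h4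
    rw [s.P_sq hq h4, mul_one]; exact ht
  have hcT : ∀ n ∈ s.T, n ∈ centralizer (s.T : Set X) := fun n hn => mem_centralizer_iff.mpr fun t ht => by
    rcases s.mem_T.mp hn with rfl | rfl | rfl | rfl
    · simp
    · exact s.T_comm_z ht
    · exact s.T_comm_w ht
    · rw [← mul_assoc, s.T_comm_z ht, mul_assoc, s.T_comm_w ht, ← mul_assoc]
  have hxz : x * s.z ≠ s.z * x := fun e => hxC (hcT x (hzN x hxN e))
  have hx2 : ∀ k : ℕ, x ^ k ∈ normalizer (s.T : Set X) := fun k => pow_mem hxN k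
  -- x is a three-cycle on the involutions
  have hx3 : x ^ 3 ∈ s.T := by
    refine hzN _ (hx2 3) (mul_inv_eq_iff_eq_mul.mp ?_)
    have hno2 : x ^ 2 * s.z * (x ^ 2)⁻¹ ≠ s.z := fun e => by
      have h2 := hzN _ (hx2 2) (mul_inv_eq_iff_eq_mul.mp e)
      have hxp : IsPGroup 2 (zpowers x) := by
        have h4 : x ^ 4 = 1 := by rw [show 4 = 2 * 2 from rfl, pow_mul, sq, s.T_sq h2]
        rintro ⟨a, ha⟩
        obtain ⟨i, rfl⟩ := mem_zpowers_iff.mp ha
        exact ⟨2, Subtype.ext (by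
          rw [coe_pow]
          show (x ^ i) ^ (2 ^ 2) = 1
          rw [← zpow_natCast, ← zpow_mul, mul_comm, zpow_mul, zpow_natCast, show 2 ^ 2 = 4 from rfl, h4, one_zpow])⟩
      have hsup : IsPGroup 2 ↥(s.T ⊔ zpowers x) :=
        (IsPGroup.of_card (n := 2) s.card_T).to_sup_of_normal_left' hxp (zpowers_le.mpr hxN)
      have hST : s.T ⊔ zpowers x = s.T := S.3 hsup le_sup_left
      exact hxC (hcT x (hST ▸ mem_sup_right (mem_zpowers x)))
    have hinj : ∀ a b : X, x * a * x⁻¹ = x * b * x⁻¹ → a = b := fun a b e => mul_left_cancel (mul_right_cancel e)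
    set a := x * s.z * x⁻¹ with ha
    set b := x * a * x⁻¹ with hb
    have hbe : x ^ 2 * s.z * (x ^ 2)⁻¹ = b := by rw [hb, ha, sq]; group
    rw [hbe] at hno2
    have hce : x ^ 3 * s.z * (x ^ 3)⁻¹ = x * b * x⁻¹ := by rw [hb, ha, pow_succ', sq]; group
    rw [hce]
    have ha_ne : a ≠ s.z := fun e => hxz (mul_inv_eq_iff_eq_mul.mp e)
    have ha1 : a ≠ 1 := fun e => s.z1 (conj_eq_one_iff.mp e)
    have hb1 : b ≠ 1 := fun e => ha1 (conj_eq_one_iff.mp e)
    have hab : b ≠ a := fun e => ha_ne (hinj _ _ e)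
    have haT : a ∈ s.T := (mem_normalizer_iff.mp hxN _).mp (s.mem_T.mpr (Or.inr (Or.inl rfl)))
    have hbT : b ∈ s.T := (mem_normalizer_iff.mp hxN _).mp haT
    have hc1 : x * b * x⁻¹ ≠ 1 := fun e => hb1 (conj_eq_one_iff.mp e)
    have hca : x * b * x⁻¹ ≠ a := fun e => hno2 (hinj _ _ e)
    have hcb : x * b * x⁻¹ ≠ b := fun e => hab (hinj _ _ e)
    have hcT' : x * b * x⁻¹ ∈ s.T := (mem_normalizer_iff.mp hxN _).mp hbT
    rcases s.mem_T.mp haT with e1 | e1 | e1 | e1 <;> rcases s.mem_T.mp hbT with e2 | e2 | e2 | e2 <;>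
      rcases s.mem_T.mp hcT' with e3 | e3 | e3 | e3 <;>
      first
        | exact e3
        | (exfalso; exact ha1 e1)
        | (exfalso; exact hb1 e2)
        | (exfalso; exact hc1 e3)
        | (exfalso; exact ha_ne e1)
        | (exfalso; exact hno2 e2)
        | (exfalso; exact hab (e2.trans e1.symm))
        | (exfalso; exact hca (e3.trans e1.symm))
        | (exfalso; exact hcb (e3.trans e2.symm))
  -- an element of order three
  set y := x ^ 4 with hy
  have hyN : y ∈ normalizer (s.T : Set X) := hx2 4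
  have hy3 : y ^ 3 = 1 := by
    rw [hy, ← pow_mul, show 4 * 3 = 3 * 2 * 2 from rfl, pow_mul, pow_mul, sq (x ^ 3), s.T_sq hx3, one_pow]
  have hyz : y * s.z ≠ s.z * y := fun e => hxz (by
    have h3 : Commute (x ^ 3) s.z := s.T_comm_z hx3
    have h4 : Commute y s.z := e
    have : x = y * (x ^ 3)⁻¹ := by rw [hy, pow_succ']; group
    rw [this]
    exact (h4.mul_left h3.inv_left).eq)
  have hyY : y ∈ s.Y := by
    show s.α y = y
    have hact : ∀ t ∈ s.T, s.α y * t * (s.α y)⁻¹ = y * t * y⁻¹ := fun t ht => by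
      have h1 : s.α t = t := s.T_le_Y ht
      have h2 : s.α (y * t * y⁻¹) = y * t * y⁻¹ := s.T_le_Y ((mem_normalizer_iff.mp hyN t).mp ht)
      rwa [map_mul, map_mul, map_inv, h1] at h2
    have hct : ∀ t ∈ s.T, y⁻¹ * s.α y * t = t * (y⁻¹ * s.α y) := fun t ht => by
      calc y⁻¹ * s.α y * t = y⁻¹ * (s.α y * t * (s.α y)⁻¹) * s.α y := by group
        _ = t * (y⁻¹ * s.α y) := by rw [hact t ht]; group
    set t0 := y⁻¹ * s.α y with ht0
    have ht0T : t0 ∈ s.T := s.cent_T (hct _ (s.mem_T.mpr (Or.inr (Or.inl rfl))))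
      (hct _ (s.mem_T.mpr (Or.inr (Or.inr (Or.inl rfl)))))
    have he : s.α y = y * t0 := by rw [ht0, mul_inv_cancel_left]
    have h := s.α3 y
    have h1 : s.α t0 = t0 := s.T_le_Y ht0T
    rw [he, map_mul, h1, he, map_mul, map_mul, h1, he, mul_assoc, mul_assoc, mul_eq_left] at h
    rw [he]
    rw [show t0 * (t0 * t0) = t0 by rw [s.T_sq ht0T, mul_one]] at h
    rw [h, mul_one]
  -- the order of Y
  obtain ⟨g', hg'Y, hg'⟩ := s.zw_conj s.P_le_Y s.Pw_le_Y
  have h72 := s.index_six hg'Y hg'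
  obtain ⟨m, hm⟩ : 12 ∣ Nat.card s.Y := s.cardCz ▸ card_dvd_of_le s.Cz_le_Y
  have hd := s.card_Y_dvd
  rw [hm, show 443520 = 12 * (96 * 385) from rfl] at hd
  have hd' : m ∣ 96 * 385 := Nat.dvd_of_mul_dvd_mul_left (by norm_num) hd
  have hcop : Nat.Coprime m 96 := by
    have h2 : ¬ 2 ∣ m := fun h => h8 (by
      have : 12 * m ∣ Nat.card X := hm ▸ card_subgroup_dvd_card s.Y
      exact (Nat.dvd_trans (show 8 ∣ 12 * m by obtain ⟨k, rfl⟩ := h; exact ⟨3 * k, by ring⟩) this))
    have h3 : ¬ 3 ∣ m := fun h => s.not_nine (by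
      have : 12 * m ∣ Nat.card X := hm ▸ card_subgroup_dvd_card s.Y
      exact (Nat.dvd_trans (show 9 ∣ 12 * m by obtain ⟨k, rfl⟩ := h; exact ⟨4 * k, by ring⟩) this))
    rw [show (96 : ℕ) = 2 ^ 5 * 3 from rfl]
    exact (((Nat.prime_two.coprime_iff_not_dvd.mpr h2).symm.pow_right 5)).mul_right
      ((Nat.prime_three.coprime_iff_not_dvd.mpr h3).symm)
  have hmd : m ∈ Nat.divisors 385 := Nat.mem_divisors.mpr ⟨hcop.dvd_of_dvd_mul_left hd', by norm_num⟩
  simp only [show Nat.divisors 385 = {1, 5, 7, 11, 35, 55, 77, 385} from by decide +kernel, Finset.mem_insert,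
    Finset.mem_singleton] at hmd
  have h511 : ¬ (5 ∣ m ∧ 11 ∣ m) := by
    rintro ⟨h5, h11⟩
    haveI : Fact (Nat.Prime 5) := ⟨by norm_num⟩
    haveI : Fact (Nat.Prime 11) := ⟨by norm_num⟩
    obtain ⟨a, ha⟩ := exists_prime_orderOf_dvd_card' (G := s.Y) 5 (by rw [hm]; exact Dvd.dvd.mul_left h5 12)
    obtain ⟨b, hb⟩ := exists_prime_orderOf_dvd_card' (G := s.Y) 11 (by rw [hm]; exact Dvd.dvd.mul_left h11 12)
    rw [← Subgroup.orderOf_coe] at ha hb
    rcases s.eleven a a.2 b b.2 (ha ▸ pow_orderOf_eq_one _) (hb ▸ pow_orderOf_eq_one _) with e | e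
    · rw [e, orderOf_one] at ha; norm_num at ha
    · rw [e, orderOf_one] at hb; norm_num at hb
  have hx7 := s.seven_excl hm
  have hx11 := s.eleven_excl (y := ⟨y, hyY⟩) (Subtype.ext hy3) hyz
  rw [hm] at h72 hx11
  rcases hmd with rfl | rfl | rfl | rfl | rfl | rfl | rfl | rfl
  · omega
  · omega
  · exact hx7 (by simp)
  · exact hx11 rfl
  · exact hx7 (by simp)
  · exact h511 ⟨by norm_num, by norm_num⟩
  · exact hx7 (by simp)
  · exact h511 ⟨by norm_num, by norm_num⟩

/-- There is a normal subgroup of index two missing z. -/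
theorem exists_index_two : ∃ M : Subgroup X, M.Normal ∧ M.index = 2 ∧ s.z ∉ M := by
  classical
  haveI : Fact (Nat.Prime 2) := ⟨Nat.prime_two⟩
  have h8 := s.eight_dvd
  obtain ⟨S, hTS⟩ := (IsPGroup.of_card (p := 2) (n := 2) (s.card_T.trans (by norm_num)) : IsPGroup 2 s.T).exists_le_sylow
  set W := (S : Subgroup X) with hWdef
  have hW : IsPGroup 2 W := S.2
  have hW8 : 8 ≤ Nat.card W := by
    rw [hWdef, S.card_eq_multiplicity]
    have h : 2 ^ 3 ∣ Nat.card X := h8
    rw [Nat.prime_two.pow_dvd_iff_le_factorization Nat.card_pos.ne'] at h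
    calc 8 = 2 ^ 3 := rfl
      _ ≤ _ := Nat.pow_le_pow_right (by norm_num) h
  haveI := hW.isNilpotent
  -- an element of W exchanging z and w
  have hzT : s.z ∈ s.T := s.mem_T.mpr (Or.inr (Or.inl rfl))
  have hwT : s.w ∈ s.T := s.mem_T.mpr (Or.inr (Or.inr (Or.inl rfl)))
  obtain ⟨n, hnW, hnT, hnN⟩ : ∃ n ∈ W, n ∉ s.T ∧ n ∈ normalizer (s.T : Set X) := by
    have hne : s.T.subgroupOf W < ⊤ := lt_top_iff_ne_top.mpr fun e => by
      have h1 := card_le_of_le (subgroupOf_eq_top.mp e)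
      rw [s.card_T] at h1
      omega
    obtain ⟨a, ha, haT⟩ := SetLike.exists_of_lt (Group.normalizerCondition_of_isNilpotent _ hne)
    exact ⟨a, a.2, fun h => haT (mem_subgroupOf.mpr h), mem_norm_of fun t ht =>
      mem_subgroupOf.mp ((mem_normalizer_iff.mp ha ⟨t, hTS ht⟩).mp (mem_subgroupOf.mpr ht))⟩
  have hno3 : n ^ 3 * s.z ≠ s.z * n ^ 3 := fun e => hnT (by
    have h3 := s.two_elem_Cz hW hTS (pow_mem hnW 3) e
    obtain ⟨j, hj⟩ := hW ⟨n, hnW⟩
    have hj' : n ^ (2 ^ j) = 1 := congrArg Subtype.val hj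
    obtain ⟨a, ha⟩ := Nat.exists_mul_mod_eq_one_of_coprime (show Nat.Coprime 3 (2 ^ (j + 1)) from
      Nat.Coprime.pow_right _ (by norm_num)) (Nat.one_lt_two_pow (Nat.succ_ne_zero j))
    have hn1 : n ^ (2 ^ (j + 1)) = 1 := by rw [pow_succ, pow_mul, hj', one_pow]
    have := pow_mem h3 a
    rwa [← pow_mul, pow_eq_pow_mod _ hn1, ha.2, pow_one] at this)
  have hnz : n * s.z * n⁻¹ = s.w := by
    have h1 : n * s.z * n⁻¹ ≠ s.z := fun e => hnT (s.two_elem_Cz hW hTS hnW (mul_inv_eq_iff_eq_mul.mp e))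
    have h2 : n * s.w * n⁻¹ ≠ s.w := fun e => hnT (s.two_elem_Cw hW hTS hnW (mul_inv_eq_iff_eq_mul.mp e))
    rcases s.norm_T hnN s.z hzT s.z1 with h | h | h
    · exact absurd h h1
    · exact h
    · exfalso
      rcases s.norm_T hnN s.w hwT s.w1 with h' | h' | h'
      · refine hno3 (mul_inv_eq_iff_eq_mul.mp ?_)
        calc n ^ 3 * s.z * (n ^ 3)⁻¹ = n * (n * (n * s.z * n⁻¹) * n⁻¹) * n⁻¹ := by
              simp only [pow_succ, pow_zero]; group
          _ = n * ((n * s.z * n⁻¹) * (n * s.w * n⁻¹)) * n⁻¹ := by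
            (conv_lhs => rw [h]); group
          _ = s.z := by rw [h, h', show s.z * s.w * s.z = s.w by rw [mul_assoc, s.wz, ← mul_assoc, s.zz, one_mul], h']
      · exact h2 h'
      · exact s.w_ne_z (mul_left_cancel (mul_right_cancel (h'.trans h.symm)))
  -- conjugates of z in W
  set C := commutator ↥W
  have key : ∀ (t : ↥W) (g : X), g * s.z * g⁻¹ = (t : X) →
      C.index ≤ 4 ∧ (C.index = 4 → ∀ w' ∈ C, ∃ h : X, h * s.z * h⁻¹ = ((w' * t : ↥W) : X)) := by
    intro t g hg
    set D := centralizer ({t} : Set ↥W)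
    have hD : Nat.card D ≤ 4 := by
      have hinj : Function.Injective (fun d : D => (⟨g⁻¹ * ((d : ↥W) : X) * g, mem_centralizer_singleton_iff.mpr (by
          have := congrArg Subtype.val (mem_centralizer_singleton_iff.mp d.2)
          simp only [Subgroup.coe_mul, ← hg] at this
          calc g⁻¹ * ((d : ↥W) : X) * g * s.z = g⁻¹ * (((d : ↥W) : X) * (g * s.z * g⁻¹)) * g := by group
            _ = s.z * (g⁻¹ * ((d : ↥W) : X) * g) := by rw [this]; group)⟩ : centralizer ({s.z} : Set X))) :=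
        fun a b e => Subtype.ext (Subtype.ext (mul_left_cancel (mul_right_cancel (congrArg Subtype.val e))))
      have hle : Nat.card D ≤ 12 := s.cardCz ▸ Nat.card_le_card_of_injective _ hinj
      obtain ⟨j, hj⟩ := IsPGroup.iff_card.mp (hW.to_subgroup D)
      have hdvd : Nat.card D ∣ 12 := by
        let φ : D →* centralizer ({s.z} : Set X) :=
          { toFun := fun d => ⟨g⁻¹ * ((d : ↥W) : X) * g, mem_centralizer_singleton_iff.mpr (by
              have := congrArg Subtype.val (mem_centralizer_singleton_iff.mp d.2)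
              simp only [Subgroup.coe_mul, ← hg] at this
              calc g⁻¹ * ((d : ↥W) : X) * g * s.z = g⁻¹ * (((d : ↥W) : X) * (g * s.z * g⁻¹)) * g := by group
                _ = s.z * (g⁻¹ * ((d : ↥W) : X) * g) := by rw [this]; group)⟩
            map_one' := Subtype.ext (by simp)
            map_mul' := fun a b => Subtype.ext (by
              show g⁻¹ * (((a : ↥W) : X) * ((b : ↥W) : X)) * g = g⁻¹ * ((a : ↥W) : X) * g * (g⁻¹ * ((b : ↥W) : X) * g)
              group) }
        exact s.cardCz ▸ Subgroup.card_dvd_of_injective φ hinj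
      rw [hj] at hdvd ⊢
      have : j ≤ 2 := by
        by_contra hj'
        have : 2 ^ 3 ∣ 12 := (pow_dvd_pow 2 (by omega)).trans hdvd
        norm_num at this
      calc 2 ^ j ≤ 2 ^ 2 := Nat.pow_le_pow_right (by norm_num) this
        _ = 4 := rfl
    let f : ↥W ⧸ D → C := fun q => ⟨⁅q.out, t⁆, commutator_mem_commutator (mem_top _) (mem_top _)⟩
    have hf : Function.Injective f := by
      intro a b e
      have e' : a.out * t * a.out⁻¹ * t⁻¹ = b.out * t * b.out⁻¹ * t⁻¹ := congrArg Subtype.val e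
      rw [← a.out_eq, ← b.out_eq]
      refine Quotient.sound' (QuotientGroup.leftRel_apply.mpr (mem_centralizer_singleton_iff.mpr ?_))
      have e'' := mul_right_cancel e'
      calc a.out⁻¹ * b.out * t = a.out⁻¹ * (b.out * t * b.out⁻¹) * b.out := by group
        _ = t * (a.out⁻¹ * b.out) := by rw [← e'']; group
    have hcard : Nat.card (↥W ⧸ D) ≤ Nat.card C := Nat.card_le_card_of_injective f hf
    have hK1 := Subgroup.card_mul_index D
    have hK2 := Subgroup.card_mul_index C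
    rw [index_eq_card] at hK1
    have hpos : 0 < Nat.card C := Nat.card_pos
    refine ⟨by nlinarith, fun h4 w' hw' => ?_⟩
    have hsurj : Function.Bijective f := (Nat.bijective_iff_injective_and_card f).mpr ⟨hf, by nlinarith⟩
    obtain ⟨a, ha⟩ := hsurj.2 ⟨w', hw'⟩
    refine ⟨((a.out : ↥W) : X) * g, ?_⟩
    have ha' : a.out * t * a.out⁻¹ * t⁻¹ = w' := congrArg Subtype.val ha
    rw [← ha', inv_mul_cancel_right]
    show _ = ((a.out : ↥W) : X) * (t : X) * ((a.out : ↥W) : X)⁻¹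
    rw [← hg]; group
  set zK : ↥W := ⟨s.z, hTS hzT⟩ with hzK
  set wK : ↥W := ⟨s.w, hTS hwT⟩ with hwK
  have hnonab : ∀ x : ↥W, zpowers x ⊔ C ≠ ⊤ := by
    intro x hx
    have hgen := gen_of_gen_commutator hW hx
    have hab : ∀ a : ↥W, (a : X) * s.z = s.z * a := fun a => by
      obtain ⟨i, hi⟩ := mem_zpowers_iff.mp (hgen ▸ mem_top a : a ∈ zpowers x)
      obtain ⟨k, hk⟩ := mem_zpowers_iff.mp (hgen ▸ mem_top zK : zK ∈ zpowers x)
      have := congrArg Subtype.val (Commute.zpow_zpow (Commute.refl x) i k).eq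
      rwa [hi, hk] at this
    have hle : W ≤ s.T := fun a ha => s.two_elem_Cz hW hTS ha (hab ⟨a, ha⟩)
    have := card_le_of_le hle
    rw [s.card_T] at this
    omega
  have hidx : C.index = 4 := by
    obtain ⟨h4, -⟩ := key zK 1 (by rw [one_mul, inv_one, mul_one])
    obtain ⟨j, hj⟩ := hW.index C
    rw [hj] at h4 ⊢
    have : j ≤ 2 := by
      by_contra hj'
      have : 2 ^ 3 ≤ 2 ^ j := Nat.pow_le_pow_right (by norm_num) (by omega)
      omega
    interval_cases j
    · exfalso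
      refine hnonab 1 ?_
      have hC : C = ⊤ := index_eq_one.mp (by rw [hj]; rfl)
      rw [hC, sup_top_eq]
    · exfalso
      have hne : C ≠ ⊤ := fun e => by rw [e, index_top] at hj; norm_num at hj
      obtain ⟨x, hx⟩ : ∃ x, x ∉ C := by
        by_contra hall
        push Not at hall
        exact hne (eq_top_iff.mpr fun x _ => hall x)
      refine hnonab x (eq_top_iff.mpr fun y _ => ?_)
      by_cases hy : y ∈ C
      · exact mem_sup_right hy
      · have : x⁻¹ * y ∈ C := (mul_mem_iff_of_index_two (by rw [hj]; rfl)).mpr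
          (iff_of_false (fun h => hx (inv_mem_iff.mp h)) hy)
        rw [← mul_inv_cancel_left x y]
        exact mul_mem (mem_sup_left (mem_zpowers x)) (mem_sup_right this)
    · rfl
  have hnotC : ∀ (t : ↥W) (g : X), g * s.z * g⁻¹ = (t : X) → t ∉ C := by
    intro t g hg ht
    obtain ⟨h, hh⟩ := (key t g hg).2 hidx t⁻¹ (inv_mem ht)
    rw [inv_mul_cancel] at hh
    exact s.z1 (conj_eq_one_iff.mp hh)
  set π := QuotientGroup.mk' C
  have hsq : ∀ a : ↥W, a * a ∈ C := by
    intro a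
    rw [← QuotientGroup.eq_one_iff]
    have hcard : Nat.card (↥W ⧸ C) = 4 := by rw [← index_eq_card, hidx]
    by_contra hne
    have ho : orderOf (π a) = 4 := by
      have h4 : orderOf (π a) ∣ 2 ^ 2 := by
        rw [show 2 ^ 2 = 4 from rfl, ← hcard]; exact orderOf_dvd_natCard _
      obtain ⟨j, hj, e⟩ := (Nat.dvd_prime_pow Nat.prime_two).mp h4
      interval_cases j
      · exfalso; rw [pow_zero, orderOf_eq_one_iff] at e
        exact hne (by rw [QuotientGroup.mk_mul]; show π a * π a = 1; rw [e, one_mul])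
      · exfalso
        exact hne (by
          rw [QuotientGroup.mk_mul]
          show π a * π a = 1
          rw [← sq, show 2 = orderOf (π a) from e.symm, pow_orderOf_eq_one])
      · exact e
    refine hnonab a (eq_top_iff.mpr fun y _ => ?_)
    have htop : zpowers (π a) = ⊤ := eq_top_of_card_eq _ (by rw [Nat.card_zpowers, ho, hcard])
    obtain ⟨i, hi⟩ := mem_zpowers_iff.mp (htop ▸ mem_top (π y) : π y ∈ zpowers (π a))
    rw [← map_zpow] at hi
    have := QuotientGroup.eq.mp hi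
    rw [← mul_inv_cancel_left (a ^ i) y]
    exact mul_mem (mem_sup_left (zpow_mem (mem_zpowers a) i)) (mem_sup_right this)
  -- a coset free of conjugates of z
  obtain ⟨cK, hcC, hcZ⟩ : ∃ c : ↥W, c ∉ C ∧ ∀ g : X, g * s.z * g⁻¹ ≠ (c : X) := by
    by_contra hall
    push Not at hall
    have hinvol : ∀ a : ↥W, a ∉ C → a * a = 1 := fun a ha => Subtype.ext (by
      obtain ⟨g, hg⟩ := hall a ha
      show (a : X) * (a : X) = 1
      rw [← hg, show g * s.z * g⁻¹ * (g * s.z * g⁻¹) = g * (s.z * s.z) * g⁻¹ by group, s.zz]; group)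
    have hzC : zK ∉ C := hnotC zK 1 (by rw [one_mul, inv_one, mul_one])
    obtain ⟨b, hb, hzb⟩ : ∃ b, b ∉ C ∧ zK * b ∉ C := by
      by_contra hno
      push Not at hno
      have htop : zpowers zK ⊔ C = ⊤ := eq_top_iff.mpr fun y _ => by
        by_cases hy : y ∈ C
        · exact mem_sup_right hy
        · rw [← inv_mul_cancel_left zK y]
          exact mul_mem (mem_sup_left (inv_mem (mem_zpowers zK))) (mem_sup_right (hno y hy))
      exact hnonab zK htop
    have hflip : ∀ a : ↥W, a ∉ C → ∀ v ∈ C, a * v * a⁻¹ = v⁻¹ := fun a ha v hv => by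
      have h1 := hinvol (a * v) (fun h => ha ((mul_mem_cancel_right hv).mp h))
      have h2 := hinvol a ha
      rw [inv_eq_of_mul_eq_one_right h2, eq_inv_iff_mul_eq_one, mul_assoc]
      exact h1
    have hv2 : ∀ v ∈ C, v * v = 1 := fun v hv => by
      have h1 := hflip _ hzb v hv
      rw [show zK * b * v * (zK * b)⁻¹ = zK * (b * v * b⁻¹) * zK⁻¹ by group, hflip b hb v hv,
        hflip zK hzC _ (inv_mem hv), inv_inv] at h1
      exact mul_eq_one_iff_eq_inv.mpr h1
    have hall2 : ∀ a : ↥W, a * a = 1 := fun a => by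
      by_cases ha : a ∈ C
      exacts [hv2 a ha, hinvol a ha]
    have hab : ∀ a : ↥W, (a : X) * s.z = s.z * a := fun a => by
      have : a * zK = zK * a := by
        calc a * zK = (a * zK)⁻¹ := eq_inv_of_mul_eq_one_left (hall2 _)
          _ = zK * a := by rw [mul_inv_rev, inv_eq_of_mul_eq_one_right (hall2 a), inv_eq_of_mul_eq_one_right (hall2 zK)]
      exact congrArg Subtype.val this
    have hle : W ≤ s.T := fun a ha => s.two_elem_Cz hW hTS ha (hab ⟨a, ha⟩)
    have := card_le_of_le hle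
    rw [s.card_T] at this
    omega
  set Q : Subgroup ↥W := (zpowers (π cK)).comap π
  have hpc : π cK * π cK = 1 := by
    rw [← map_mul]; exact (QuotientGroup.eq_one_iff _).mpr (hsq cK)
  have hpc1 : π cK ≠ 1 := fun e => hcC ((QuotientGroup.eq_one_iff _).mp e)
  have hQ2 : Q.index = 2 := by
    rw [index_comap_of_surjective _ (QuotientGroup.mk'_surjective C)]
    have h := Subgroup.card_mul_index (zpowers (π cK))
    rw [Nat.card_zpowers, orderOf_eq_prime (by rw [sq]; exact hpc) hpc1, ← index_eq_card, hidx] at h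
    omega
  have hnoQ : ∀ (t : ↥W) (g : X), g * s.z * g⁻¹ = (t : X) → t ∉ Q := by
    intro t g hg ht
    obtain ⟨i, hi⟩ := mem_zpowers_iff.mp (mem_comap.mp ht)
    have hpc2 : π cK ^ (2 : ℕ) = 1 := by rw [sq]; exact hpc
    rw [zpow_eq_zpow_emod' i hpc2] at hi
    rcases Int.emod_two_eq_zero_or_one i with h | h <;> push_cast at hi <;> rw [h] at hi
    · rw [zpow_zero] at hi
      exact hnotC t g hg ((QuotientGroup.eq_one_iff _).mp hi.symm)
    · rw [zpow_one] at hi
      have hmem : cK * t⁻¹ ∈ C := by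
        rw [← QuotientGroup.eq_one_iff]
        show π (cK * t⁻¹) = 1
        rw [map_mul, map_inv, hi, mul_inv_cancel]
      obtain ⟨h', hh'⟩ := (key t g hg).2 hidx _ hmem
      rw [inv_mul_cancel_right] at hh'
      exact hcZ h' hh'
  haveI : Fact (Nat.Prime 2) := ⟨Nat.prime_two⟩
  have hoz : orderOf s.z = 2 := orderOf_eq_prime (by rw [sq]; exact s.zz) s.z1
  rcases Cfsg.Agent.S0111.result S (Q.map W.subtype) (map_subtype_le Q)
    (by
      show ((Q.map W.subtype).subgroupOf W).index = 2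
      rw [show (Q.map W.subtype).subgroupOf W = Q from comap_map_eq_self_of_injective W.subtype_injective Q, hQ2])
    s.z hoz (hTS hzT) (fun h => by
      obtain ⟨t, ht, e⟩ := h
      exact hnoQ t 1 (by rw [one_mul, inv_one, mul_one]; exact e.symm) ht) with h | ⟨g, hg⟩
  · exact h
  · obtain ⟨t, ht, e⟩ := hg
    exact absurd ht (hnoQ t g e.symm)

/-- A subgroup of M without elements of order three and normalized by z and P is inverted by z. -/
theorem inverted {M N : Subgroup X} (hzM : s.z ∉ M) (hPM : s.P ≤ M) (hNM : N ≤ M)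
    (hzN : ∀ a ∈ N, s.z * a * s.z⁻¹ ∈ N) (hPN : ∀ q ∈ s.P, ∀ a ∈ N, q * a * q⁻¹ ∈ N)
    (h3 : ∀ a ∈ N, a ^ 3 = 1 → a = 1) : ∀ a ∈ N, s.z * a * s.z⁻¹ = a⁻¹ := by
  classical
  obtain ⟨q0, hq0, hq01⟩ := s.exists_q
  have hfix : ∀ a ∈ N, a * s.z = s.z * a → a = 1 := by
    intro a ha hc
    obtain ⟨t, ht, q, hq, rfl⟩ := s.Cz_decomp hc
    rcases s.T_P ht hq0 with ⟨-, rfl | rfl⟩ | ⟨hi, -⟩
    · rw [one_mul] at ha ⊢
      exact h3 q ha (s.P_pow hq)
    · exfalso
      exact hzM ((mul_mem_cancel_right (hPM hq)).mp (hNM ha))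
    · exfalso
      haveI : Fact (Nat.Prime 3) := ⟨Nat.prime_three⟩
      haveI : IsCyclic s.P := isCyclic_of_prime_card s.cardP
      letI := IsCyclic.commGroup (α := s.P)
      have hqq : q * q0 = q0 * q := congrArg Subtype.val (mul_comm (⟨q, hq⟩ : s.P) ⟨q0, hq0⟩)
      have h1 : q0 * (t * q) * q0⁻¹ * (t * q)⁻¹ = q0 * q0 := by
        calc q0 * (t * q) * q0⁻¹ * (t * q)⁻¹ = q0 * (t * (q * q0⁻¹ * q⁻¹) * t⁻¹) := by group
          _ = q0 * (t * q0⁻¹ * t⁻¹) := by
            rw [show q * q0⁻¹ * q⁻¹ = q0⁻¹ by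
              rw [← conj_inv, hqq, mul_inv_cancel_right]]
          _ = q0 * q0 := by rw [← conj_inv, hi, inv_inv]
      have h2 : q0 * q0 ∈ N := h1 ▸ mul_mem (hPN q0 hq0 _ ha) (inv_mem ha)
      exact hq01 (s.P_sq hq0 (h3 _ h2 (s.P_pow (mul_mem hq0 hq0))))
  let f : N → N := fun a => ⟨(a : X)⁻¹ * (s.z * a * s.z⁻¹), mul_mem (inv_mem a.2) (hzN a a.2)⟩
  have hf : Function.Injective f := by
    intro a b e
    have e' : (a : X)⁻¹ * (s.z * a * s.z⁻¹) = (b : X)⁻¹ * (s.z * b * s.z⁻¹) := congrArg Subtype.val e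
    have h1 : (b : X) * (a : X)⁻¹ * s.z = s.z * ((b : X) * (a : X)⁻¹) := by
      calc (b : X) * (a : X)⁻¹ * s.z = (b : X) * ((a : X)⁻¹ * (s.z * a * s.z⁻¹)) * s.z * (a : X)⁻¹ := by group
        _ = s.z * ((b : X) * (a : X)⁻¹) := by rw [e']; group
    exact Subtype.ext (mul_inv_eq_one.mp (hfix _ (mul_mem b.2 (inv_mem a.2)) h1)).symm
  intro a ha
  obtain ⟨b, hb⟩ := (Finite.injective_iff_surjective.mp hf) ⟨a, ha⟩
  have hb' : (b : X)⁻¹ * (s.z * b * s.z⁻¹) = a := congrArg Subtype.val hb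
  rw [← hb', s.zi, show s.z * ((b : X)⁻¹ * (s.z * b * s.z)) * s.z = s.z * (b : X)⁻¹ * s.z * b * (s.z * s.z) by group,
    s.zz]
  simp only [mul_inv_rev, s.zi, inv_inv]
  group

end SevenX

/-- A subgroup of index two of order sixty isomorphic to A5 with trivial centralizer gives S5. -/
theorem perm_five {M : Subgroup X} [M.Normal] (h120 : Nat.card X = 120) (hM : Nonempty (↥M ≃* alternatingGroup (Fin 5)))
    (hc : ∀ x : X, (∀ m ∈ M, x * m = m * x) → x = 1) : Nonempty (X ≃* Equiv.Perm (Fin 5)) := by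
  classical
  obtain ⟨e⟩ := hM
  haveI : Fact (Nat.Prime 2) := ⟨Nat.prime_two⟩
  haveI := alternatingGroup.isSimpleGroup_five
  haveI : Nontrivial M := e.toEquiv.nontrivial
  haveI : IsSimpleGroup M := IsSimpleGroup.isSimpleGroup_of_surjective e.symm.toMonoidHom e.symm.surjective
  have hMc : Nat.card M = 60 := by
    rw [Nat.card_congr e.toEquiv, nat_card_alternatingGroup, Nat.card_eq_fintype_card, Fintype.card_fin]
    norm_num [Nat.factorial]
  obtain ⟨S⟩ : Nonempty (Sylow 2 M) := inferInstance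
  have hS4 : Nat.card (S : Subgroup M) = 4 := by
    rw [S.card_eq_multiplicity, hMc, show 60 = 2 ^ 2 * 15 from rfl, Nat.factorization_mul (by norm_num) (by norm_num),
      Finsupp.add_apply, Nat.Prime.factorization_pow (by norm_num), Finsupp.single_eq_same,
      Nat.factorization_eq_zero_of_not_dvd (by norm_num)]
    norm_num
  have hn1 : Nat.card (Sylow 2 M) ≠ 1 := fun h => by
    rw [S.card_eq_index_normalizer, index_eq_one] at h
    haveI : (S : Subgroup M).Normal := normalizer_eq_top_iff.mp h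
    rcases Subgroup.Normal.eq_bot_or_eq_top (inferInstance : (S : Subgroup M).Normal) with e' | e' <;> rw [e'] at hS4
    · rw [card_bot] at hS4; norm_num at hS4
    · rw [card_top, hMc] at hS4; norm_num at hS4
  let toPerm : M →* Equiv.Perm (Sylow 2 M) := MulAction.toPermHom M (Sylow 2 M)
  have hker : toPerm.ker = ⊥ := by
    refine (Subgroup.Normal.eq_bot_or_eq_top inferInstance).resolve_right fun htop => hn1 ?_
    rw [Nat.card_eq_one_iff_unique]
    refine ⟨⟨fun A B => ?_⟩, ⟨S⟩⟩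
    obtain ⟨g, hg⟩ := MulAction.exists_smul_eq M A B
    rw [← hg]
    exact (Equiv.Perm.ext_iff.mp (MonoidHom.mem_ker.mp (htop ▸ mem_top g : g ∈ toPerm.ker)) A).symm
  have hn5 : Nat.card (Sylow 2 M) = 5 := by
    have hd : Nat.card (Sylow 2 M) ∣ 15 := by
      have h1 := S.card_dvd_index
      have h2 := Subgroup.card_mul_index (S : Subgroup M)
      rw [hS4, hMc] at h2
      rwa [show (S : Subgroup M).index = 15 by omega] at h1
    have hne3 : Nat.card (Sylow 2 M) ≠ 3 := fun h3 => by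
      have h := Subgroup.card_dvd_of_injective toPerm ((MonoidHom.ker_eq_bot_iff _).mp hker)
      rw [Nat.card_perm, h3, hMc] at h
      norm_num [Nat.factorial] at h
    have hne15 : Nat.card (Sylow 2 M) ≠ 15 := fun h15 => by
      rw [S.card_eq_index_normalizer] at h15
      have h16 : (normalizer ((S : Subgroup M) : Set M)).index = 15 := h15
      have h2 := Subgroup.card_mul_index (normalizer ((S : Subgroup M) : Set M))
      rw [h16, hMc] at h2
      have hle : normalizer ((S : Subgroup M) : Set M) ≤ centralizer ((S : Subgroup M) : Set M) := by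
        rw [← eq_of_le_of_card_ge (le_normalizer : (S : Subgroup M) ≤ _) (by rw [hS4]; omega)]
        haveI : IsMulCommutative (S : Subgroup M) := IsPGroup.isMulCommutative_of_card_eq_prime_sq (p := 2)
          (by rw [hS4]; rfl)
        intro a ha
        exact mem_centralizer_iff.mpr fun b hb => congrArg Subtype.val
          (mul_comm' (⟨b, hb⟩ : (S : Subgroup M)) ⟨a, ha⟩)
      have hk := (MonoidHom.ker_transferSylow_isComplement' S hle).card_mul
      rw [hS4, hMc] at hk
      rcases Subgroup.Normal.eq_bot_or_eq_top (inferInstance : (MonoidHom.transferSylow S hle).ker.Normal) with e' | e'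
      · rw [e', card_bot] at hk; norm_num at hk
      · rw [e', card_top, hMc] at hk; norm_num at hk
    have hmem : Nat.card (Sylow 2 M) ∈ Nat.divisors 15 := Nat.mem_divisors.mpr ⟨hd, by norm_num⟩
    simp only [show Nat.divisors 15 = {1, 3, 5, 15} from by decide, Finset.mem_insert, Finset.mem_singleton] at hmem
    omega
  letI : MulDistribMulAction X M := MulDistribMulAction.compHom M (MulAut.conjNormal (H := M))
  let F : X →* Equiv.Perm (Sylow 2 M) := MulAction.toPermHom X (Sylow 2 M)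
  have hres : ∀ (m : M) (A : Sylow 2 M), (m : X) • A = m • A := fun m A => by
    refine Sylow.ext ?_
    show Subgroup.map _ (A : Subgroup M) = Subgroup.map _ (A : Subgroup M)
    congr 1
  have hFinj : Function.Injective F := by
    rw [injective_iff_map_eq_one]
    intro x hx
    refine hc x fun m hm => ?_
    have h1 : ⁅x, m⁆ ∈ M := by
      rw [commutatorElement_def]; exact mul_mem (Normal.conj_mem ‹_› m hm x) (inv_mem hm)
    have h2 : F ⁅x, m⁆ = 1 := by rw [map_commutatorElement, hx, commutatorElement_one_left]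
    have h3 : (⟨_, h1⟩ : M) ∈ toPerm.ker := MonoidHom.mem_ker.mpr (Equiv.ext fun A => by
      show (⟨_, h1⟩ : M) • A = A
      rw [← hres]
      exact Equiv.Perm.ext_iff.mp h2 A)
    rw [hker, mem_bot] at h3
    exact commutatorElement_eq_one_iff_mul_comm.mp (congrArg Subtype.val h3)
  have hbij : Function.Bijective F := (Nat.bijective_iff_injective_and_card F).mpr ⟨hFinj, by
    rw [h120, Nat.card_perm, hn5]; rfl⟩
  haveI := Fintype.ofFinite (Sylow 2 M)
  exact ⟨(MulEquiv.ofBijective F hbij).trans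
    ((Fintype.equivFinOfCardEq (by rw [← Nat.card_eq_fintype_card]; exact hn5)).permCongrHom)⟩

namespace SevenX

variable (s : SevenX X)

/-- The structure of the quotient. -/
theorem sym_five (s : SevenX X) : Nonempty (X ≃* Equiv.Perm (Fin 5)) := by
  classical
  obtain ⟨M, hMn, hM2, hzM⟩ := s.exists_index_two
  haveI := hMn
  have h8 := s.eight_dvd
  have hXM := Subgroup.card_mul_index M
  rw [hM2] at hXM
  have hmulM : ∀ a b : X, a * b ∈ M ↔ (a ∈ M ↔ b ∈ M) := fun a b => mul_mem_iff_of_index_two hM2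
  have hsqM : ∀ a : X, a * a ∈ M := fun a => (hmulM a a).mpr Iff.rfl
  have hcubeM : ∀ a : X, a ^ 3 = 1 → a ∈ M := fun a ha => by
    have : a = (a * a) * (a * a) := by
      calc a = a ^ 3 * a := by rw [ha, one_mul]
        _ = (a * a) * (a * a) := by simp only [pow_succ, pow_zero]; group
    rw [this]; exact mul_mem (hsqM a) (hsqM a)
  have hPM : s.P ≤ M := fun q hq => hcubeM q (s.P_pow hq)
  have hPwM : s.Pw ≤ M := fun q hq => hcubeM q (s.Pw_pow hq)
  obtain ⟨g, -, hg⟩ := s.zw_conj (K := ⊤) le_top le_top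
  have hwM : s.w ∉ M := fun h => hzM (by
    have := Normal.conj_mem hMn _ h g⁻¹
    rwa [← hg, show g⁻¹ * (g * s.z * g⁻¹) * g⁻¹⁻¹ = s.z by group] at this)
  obtain ⟨q0, hq0, hq01⟩ := s.exists_q
  obtain ⟨v0, hv0, hv01⟩ := s.exists_qw
  set PM := s.P.subgroupOf M
  have hself : centralizer (PM : Set M) = PM := by
    apply le_antisymm
    · intro x hx
      refine mem_subgroupOf.mpr ?_
      have hc : ∀ q ∈ s.P, (x : X) * q = q * x := fun q hq => (congrArg Subtype.val
        (mem_centralizer_iff.mp hx ⟨q, hPM hq⟩ (mem_subgroupOf.mpr hq))).symm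
      obtain ⟨t, ht, q, hq, e⟩ := s.Cz_decomp (s.normP _ fun q hq => by
        rw [hc q hq, mul_inv_cancel_right]; exact hq)
      haveI : Fact (Nat.Prime 3) := ⟨Nat.prime_three⟩
      haveI : IsCyclic s.P := isCyclic_of_prime_card s.cardP
      letI := IsCyclic.commGroup (α := s.P)
      have hqq : q * q0 = q0 * q := congrArg Subtype.val (mul_comm (⟨q, hq⟩ : s.P) ⟨q0, hq0⟩)
      rcases s.T_P ht hq0 with ⟨-, rfl | rfl⟩ | ⟨hi, -⟩
      · rw [e, one_mul]; exact hq
      · exfalso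
        have := x.2
        rw [e] at this
        exact hzM ((mul_mem_cancel_right (hPM hq)).mp this)
      · exfalso
        have h1 := mul_inv_eq_iff_eq_mul.mpr (hc q0 hq0)
        rw [e, show t * q * q0 * (t * q)⁻¹ = t * (q * q0 * q⁻¹) * t⁻¹ by group, hqq, mul_inv_cancel_right, hi] at h1
        exact hq01 (s.P_sq hq0 (mul_eq_one_iff_eq_inv.mpr h1.symm))
    · intro x hx
      refine mem_centralizer_iff.mpr fun y hy => Subtype.ext ?_
      haveI : Fact (Nat.Prime 3) := ⟨Nat.prime_three⟩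
      haveI : IsCyclic s.P := isCyclic_of_prime_card s.cardP
      letI := IsCyclic.commGroup (α := s.P)
      exact congrArg (fun a : s.P => (a : X)) (mul_comm (⟨(y : X), mem_subgroupOf.mp hy⟩ : s.P) ⟨(x : X), mem_subgroupOf.mp hx⟩)
  let θ : MulAut M := MulAut.conjNormal s.z
  have hinvN : ∀ N : Subgroup M, N.Normal → (∀ a ∈ N, θ a ∈ N) → (∀ a ∈ N, a ^ 3 = 1 → a = 1) →
      ∀ a ∈ N, s.z * (a : X) * s.z⁻¹ = (a : X)⁻¹ := by
    intro N hN hθ h3 a ha
    refine s.inverted hzM hPM (map_subtype_le N) ?_ ?_ ?_ _ ⟨a, ha, rfl⟩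
    · rintro _ ⟨b, hb, rfl⟩
      exact ⟨θ b, hθ b hb, rfl⟩
    · rintro q hq _ ⟨b, hb, rfl⟩
      exact ⟨⟨q, hPM hq⟩ * b * ⟨q, hPM hq⟩⁻¹, hN.conj_mem b hb _, rfl⟩
    · rintro _ ⟨b, hb, rfl⟩ hb3
      exact congrArg Subtype.val (h3 b hb (Subtype.ext hb3))
  rcases Cfsg.Agent.S3331.result PM (by rw [Nat.card_congr (subgroupOfEquivOfLe hPM).toEquiv, s.cardP]) hself with
    ⟨N, hN, -, hcop, hq⟩ | ⟨N, hN, hNc, hN2, ⟨e⟩⟩ | he
  · -- the nilpotent case
    exfalso
    haveI := hN
    set π := QuotientGroup.mk' N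
    have hsmall : ∀ B : Subgroup (M ⧸ N), B.Normal → (Nat.card B).Coprime 3 → B = ⊥ := by
      intro B hB hBc
      have hd := card_subgroup_dvd_card B
      rcases hq with h3 | ⟨⟨f⟩⟩
      · rw [h3] at hd
        exact eq_bot_of_card_eq _ (Nat.Coprime.eq_one_of_dvd hBc hd)
      · rw [Nat.card_congr f.toEquiv, Nat.card_perm, Nat.card_fin] at hd
        have hd2 : Nat.card B ∣ 2 := hBc.dvd_of_dvd_mul_left (show Nat.card B ∣ 3 * 2 by
          norm_num [Nat.factorial] at hd ⊢; exact hd)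
        refine (eq_bot_iff).mpr fun b hb => mem_bot.mpr ?_
        by_contra hb1
        have hcent : ∀ c : M ⧸ N, c * b = b * c := fun c => by
          have h1 : c * b * c⁻¹ ∈ B := hB.conj_mem b hb c
          have hlt : Nat.card B ≤ 2 := Nat.le_of_dvd (by norm_num) hd2
          have h2 : c * b * c⁻¹ = b := by
            by_contra hne
            have h31 : (⟨c * b * c⁻¹, h1⟩ : B) ≠ ⟨b, hb⟩ := fun e => hne (congrArg Subtype.val e)
            have h32 : (⟨c * b * c⁻¹, h1⟩ : B) ≠ 1 := fun e => hb1 (conj_eq_one_iff.mp (congrArg Subtype.val e))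
            have h33 : (⟨b, hb⟩ : B) ≠ 1 := fun e => hb1 (congrArg Subtype.val e)
            haveI := Fintype.ofFinite B
            have h3 : ({1, ⟨b, hb⟩, ⟨c * b * c⁻¹, h1⟩} : Finset B).card = 3 := by
              simp [Ne.symm h31, Ne.symm h32, Ne.symm h33]
            have := Finset.card_le_univ ({1, ⟨b, hb⟩, ⟨c * b * c⁻¹, h1⟩} : Finset B)
            rw [h3, ← Nat.card_eq_fintype_card] at this
            omega
          exact mul_inv_eq_iff_eq_mul.mp h2
        refine hb1 (f.injective ?_)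
        rw [map_one]
        exact perm_three_center _ fun x => by
          obtain ⟨c, rfl⟩ := f.surjective x
          rw [← map_mul, ← map_mul, hcent c]
    have hθN : ∀ a ∈ N, θ a ∈ N := by
      set B := (N.map θ.toMonoidHom).map π
      haveI : (N.map θ.toMonoidHom).Normal := Subgroup.Normal.map hN _ θ.surjective
      have hB := hsmall B (Subgroup.Normal.map inferInstance _ (QuotientGroup.mk'_surjective N))
        (Nat.Coprime.coprime_dvd_left ((Subgroup.card_map_dvd _ _).trans (Subgroup.card_map_dvd _ _)) hcop)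
      intro a ha
      have : π (θ a) ∈ B := ⟨θ a, ⟨a, ha, rfl⟩, rfl⟩
      rw [hB, mem_bot] at this
      exact (QuotientGroup.eq_one_iff _).mp this
    have h3 : ∀ a ∈ N, a ^ 3 = 1 → a = 1 := fun a ha ha3 => by
      have h1 : a ^ Nat.card N = 1 := congrArg Subtype.val (pow_card_eq_one' (x := (⟨a, ha⟩ : N)))
      have := (pow_gcd_eq_one (m := Nat.card N) (n := 3) (a := a)).mpr ⟨h1, ha3⟩
      rwa [hcop.gcd_eq_one, pow_one] at this
    have hinv := hinvN N hN hθN h3
    have hodd : ¬ 2 ∣ Nat.card N := fun h => by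
      haveI : Fact (Nat.Prime 2) := ⟨Nat.prime_two⟩
      obtain ⟨a, ha⟩ := exists_prime_orderOf_dvd_card' 2 h
      have ha2 : (a : M) * (a : M) = 1 := by
        rw [← Subgroup.orderOf_coe] at ha
        rw [← sq, ← ha, pow_orderOf_eq_one]
      have h1 := hinv a a.2
      have h2 : ((a : M) : X)⁻¹ = ((a : M) : X) := inv_eq_of_mul_eq_one_right (congrArg Subtype.val ha2)
      rw [h2] at h1
      have hc : ((a : M) : X) * s.z = s.z * (a : M) := (mul_inv_eq_iff_eq_mul.mp h1).symm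
      obtain ⟨t, ht, q, hq', e⟩ := s.Cz_decomp hc
      have hq1 : q0 * ((a : M) : X) * q0⁻¹ * ((a : M) : X)⁻¹ ∈ N.map M.subtype :=
        mul_mem ⟨⟨q0, hPM hq0⟩ * a * ⟨q0, hPM hq0⟩⁻¹, hN.conj_mem _ a.2 _, rfl⟩ (inv_mem ⟨a, a.2, rfl⟩)
      rcases s.T_P ht hq0 with ⟨-, rfl | rfl⟩ | ⟨hi, -⟩
      · rw [one_mul] at e
        have : (a : M) = 1 := h3 _ a.2 (Subtype.ext (by rw [SubmonoidClass.coe_pow, e, s.P_pow hq']; rfl))
        rw [← Subgroup.orderOf_coe, this, orderOf_one] at ha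
        norm_num at ha
      · have := (a : M).2
        rw [e] at this
        exact hzM ((mul_mem_cancel_right (hPM hq')).mp this)
      · haveI : Fact (Nat.Prime 3) := ⟨Nat.prime_three⟩
        haveI : IsCyclic s.P := isCyclic_of_prime_card s.cardP
        letI := IsCyclic.commGroup (α := s.P)
        have hqq : q * q0⁻¹ = q0⁻¹ * q := congrArg Subtype.val (mul_comm (⟨q, hq'⟩ : s.P) ⟨q0⁻¹, inv_mem hq0⟩)
        rw [e, show q0 * (t * q) * q0⁻¹ * (t * q)⁻¹ = q0 * (t * (q * q0⁻¹ * q⁻¹) * t⁻¹) by group, hqq,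
          mul_inv_cancel_right, ← conj_inv, hi, inv_inv] at hq1
        obtain ⟨b, hb, eb⟩ := hq1
        have hb3 : b = 1 := h3 b hb (Subtype.ext (by
          rw [SubmonoidClass.coe_pow, show (b : X) = q0 * q0 from eb, s.P_pow (mul_mem hq0 hq0)]; rfl))
        rw [hb3] at eb
        exact hq01 (s.P_sq hq0 eb.symm)
    have hMN := Subgroup.card_mul_index N
    rw [index_eq_card] at hMN
    have h4 : 4 ∣ Nat.card M := by
      obtain ⟨k, hk⟩ := h8
      exact ⟨k, by omega⟩
    have hQ : Nat.card (M ⧸ N) ∣ 6 := by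
      rcases hq with h3' | ⟨⟨f⟩⟩
      · rw [h3']; norm_num
      · rw [Nat.card_congr f.toEquiv, Nat.card_perm, Nat.card_eq_fintype_card, Fintype.card_fin]; rfl
    rw [← hMN] at h4
    have h4' : 4 ∣ Nat.card (M ⧸ N) :=
      (Nat.Coprime.pow_left 2 (Nat.prime_two.coprime_iff_not_dvd.mpr hodd) : Nat.Coprime (2 ^ 2) (Nat.card N)).dvd_of_dvd_mul_left h4
    have := h4'.trans hQ
    norm_num at this
  · -- the case of A5
    haveI := hN
    haveI := alternatingGroup.isSimpleGroup_five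
    haveI : Nontrivial (M ⧸ N) := e.toEquiv.nontrivial
    haveI : IsSimpleGroup (M ⧸ N) := IsSimpleGroup.isSimpleGroup_of_surjective e.symm.toMonoidHom e.symm.surjective
    set π := QuotientGroup.mk' N
    have hθN : ∀ a ∈ N, θ a ∈ N := by
      set B := (N.map θ.toMonoidHom).map π
      haveI : (N.map θ.toMonoidHom).Normal := Subgroup.Normal.map hN _ θ.surjective
      have hBn : B.Normal := Subgroup.Normal.map inferInstance _ (QuotientGroup.mk'_surjective N)
      have hB : B = ⊥ := hBn.eq_bot_or_eq_top.resolve_right fun h => by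
        haveI : Fact (Nat.Prime 3) := ⟨Nat.prime_three⟩
        obtain ⟨x, hx⟩ := exists_prime_orderOf_dvd_card' (G := M ⧸ N) 3 (by
          rw [Nat.card_congr e.toEquiv, nat_card_alternatingGroup, Nat.card_eq_fintype_card, Fintype.card_fin]
          norm_num [Nat.factorial])
        have hmem : x ∈ B := h ▸ mem_top x
        obtain ⟨_, ⟨a, ha, rfl⟩, rfl⟩ := hmem
        have h2 : π (θ a) ^ 2 = 1 := by rw [← map_pow, ← map_pow, hN2 a ha, map_one, map_one]
        have := orderOf_dvd_of_pow_eq_one h2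
        change orderOf (π (θ a)) = 3 at hx
        rw [hx] at this
        norm_num at this
      intro a ha
      have : π (θ a) ∈ B := ⟨θ a, ⟨a, ha, rfl⟩, rfl⟩
      rw [hB, mem_bot] at this
      exact (QuotientGroup.eq_one_iff _).mp this
    have h3 : ∀ a ∈ N, a ^ 3 = 1 → a = 1 := fun a ha ha3 => by
      rw [pow_succ, hN2 a ha, one_mul] at ha3; exact ha3
    have hN1 : N = ⊥ := by
      refine eq_bot_iff.mpr fun a ha => mem_bot.mpr ?_
      -- z centralizes and inverts a
      by_contra ha1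
      have h1 := hinvN N hN hθN h3 a ha
      have haa : (a : X) * (a : X) = 1 := by
        have := congrArg Subtype.val (hN2 a ha)
        rw [SubmonoidClass.coe_pow, sq] at this
        exact this
      rw [inv_eq_of_mul_eq_one_right haa] at h1
      obtain ⟨t, ht, q, hq', e'⟩ := s.Cz_decomp (mul_inv_eq_iff_eq_mul.mp h1).symm
      rcases s.T_P ht hq0 with ⟨-, rfl | rfl⟩ | ⟨hi, -⟩
      · rw [one_mul] at e'
        exact ha1 (h3 a ha (Subtype.ext (by rw [SubmonoidClass.coe_pow, e', s.P_pow hq']; rfl)))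
      · have := a.2
        rw [e'] at this
        exact hzM ((mul_mem_cancel_right (hPM hq')).mp this)
      · haveI : Fact (Nat.Prime 3) := ⟨Nat.prime_three⟩
        haveI : IsCyclic s.P := isCyclic_of_prime_card s.cardP
        letI := IsCyclic.commGroup (α := s.P)
        have hqq : q * q0⁻¹ = q0⁻¹ * q := congrArg Subtype.val (mul_comm (⟨q, hq'⟩ : s.P) ⟨q0⁻¹, inv_mem hq0⟩)
        have hq1 : q0 * (a : X) * q0⁻¹ * (a : X)⁻¹ ∈ N.map M.subtype :=
          mul_mem ⟨⟨q0, hPM hq0⟩ * a * ⟨q0, hPM hq0⟩⁻¹, hN.conj_mem _ ha _, rfl⟩ (inv_mem ⟨a, ha, rfl⟩)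
        rw [e', show q0 * (t * q) * q0⁻¹ * (t * q)⁻¹ = q0 * (t * (q * q0⁻¹ * q⁻¹) * t⁻¹) by group, hqq,
          mul_inv_cancel_right, ← conj_inv, hi, inv_inv] at hq1
        obtain ⟨b, hb, eb⟩ := hq1
        have hb3 : b = 1 := h3 b hb (Subtype.ext (by
          rw [SubmonoidClass.coe_pow, show (b : X) = q0 * q0 from eb, s.P_pow (mul_mem hq0 hq0)]; rfl))
        rw [hb3] at eb
        exact hq01 (s.P_sq hq0 eb.symm)
    subst hN1
    have e0 : M ≃* alternatingGroup (Fin 5) := QuotientGroup.quotientBot.symm.trans e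
    refine perm_five ?_ ⟨e0⟩ fun x hx => ?_
    · rw [← hXM, Nat.card_congr e0.toEquiv, nat_card_alternatingGroup, Nat.card_eq_fintype_card, Fintype.card_fin]
      norm_num [Nat.factorial]
    · -- the centralizer of M is trivial
      have hxq : ∀ q ∈ s.P, x * q = q * x := fun q hq => hx q (hPM hq)
      have hxv : x * v0 = v0 * x := hx v0 (hPwM hv0)
      have hxzw : x * s.z = s.z * x := s.normP x fun q hq => by rw [hxq q hq, mul_inv_cancel_right]; exact hq
      have hxw : x * s.w = s.w * x := s.normPw fun q hq => by rw [hx q (hPwM hq), mul_inv_cancel_right]; exact hq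
      rcases s.mem_T.mp (s.cent_T hxzw hxw) with rfl | rfl | rfl | rfl
      · rfl
      · exfalso
        have := s.z_Pw hv0
        rw [hxv, mul_inv_cancel_right] at this
        exact hv01 (s.Pw_sq hv0 (mul_eq_one_iff_eq_inv.mpr this))
      · exfalso
        have := s.wP q0 hq0
        rw [hxq q0 hq0, mul_inv_cancel_right] at this
        exact hq01 (s.P_sq hq0 (mul_eq_one_iff_eq_inv.mpr this))
      · exfalso
        have := s.zw_Pw hv0
        rw [hxv, mul_inv_cancel_right] at this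
        exact hv01 (s.Pw_sq hv0 (mul_eq_one_iff_eq_inv.mpr this))
  · -- the case of order 168
    exfalso
    obtain ⟨e⟩ := he
    haveI : Fact (Nat.Prime 7) := ⟨by norm_num⟩
    have hM : Nat.card M = 168 := by
      rw [Nat.card_congr e.toEquiv]
      have h := CfsgLib.SLCard.card_SL_center (F := ZMod 7) (n := 2) (by norm_num)
      have h2 := Subgroup.card_mul_index (center (Matrix.SpecialLinearGroup (Fin 2) (ZMod 7)))
      have h3 := CfsgLib.SLCard.card_units_mul_card_SL (F := ZMod 7) (n := 2) (by norm_num)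
      rw [Matrix.card_GL_field, ZMod.card, Fin.prod_univ_two] at h3
      rw [ZMod.card, show Nat.gcd 2 (7 - 1) = 2 from rfl] at h
      rw [index_eq_card, h] at h2
      norm_num at h3 h2
      show Nat.card (Matrix.SpecialLinearGroup (Fin 2) (ZMod 7) ⧸ center _) = 168
      rw [Nat.card_eq_fintype_card]
      omega
    haveI : Fact (Nat.Prime 3) := ⟨Nat.prime_three⟩
    set K := s.Y ⊓ M with hK
    have hPK : s.P ≤ K := le_inf s.P_le_Y hPM
    have hPwK : s.Pw ≤ K := le_inf s.Pw_le_Y hPwM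
    have hfac : (Nat.card K).factorization 3 = 1 := by
      have h3 : 3 ∣ Nat.card K := s.cardP ▸ card_dvd_of_le hPK
      have h9 : ¬ 3 ^ 2 ∣ Nat.card K := fun h => s.not_nine (h.trans (card_subgroup_dvd_card K))
      have hpos := (Nat.Prime.factorization_pos_of_dvd Nat.prime_three Nat.card_pos.ne' h3)
      rw [Nat.Prime.pow_dvd_iff_le_factorization Nat.prime_three Nat.card_pos.ne'] at h9
      omega
    let S : Sylow 3 K := Sylow.ofCard (s.P.subgroupOf K) (by
      rw [Nat.card_congr (subgroupOfEquivOfLe hPK).toEquiv, s.cardP, hfac, pow_one])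
    have hindex : ∀ H : Subgroup X, s.z ∈ H → 2 * Nat.card ↥(H ⊓ M) = Nat.card H := by
      intro H hzH
      have hi : (M.subgroupOf H).index = 2 := by
        refine index_eq_two_iff.mpr ⟨⟨s.z, hzH⟩, fun b => ?_⟩
        simp only [mem_subgroupOf, Subgroup.coe_mul]
        by_cases hb : (b : X) ∈ M
        · exact Or.inr ⟨hb, fun h => hzM ((mul_mem_cancel_left hb).mp h)⟩
        · exact Or.inl ⟨(hmulM _ _).mpr (iff_of_false hb hzM), hb⟩
      have := Subgroup.card_mul_index (M.subgroupOf H)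
      rw [hi, ← inf_subgroupOf_left, Nat.card_congr (subgroupOfEquivOfLe inf_le_left).toEquiv] at this
      omega
    have hNK : Nat.card (normalizer ((s.P.subgroupOf K) : Set K)) = 6 := by
      have h12 := hindex (centralizer ({s.z} : Set X)) (mem_centralizer_singleton_iff.mpr rfl)
      rw [s.cardCz] at h12
      rw [← card_map_of_injective K.subtype_injective]
      have heq : (normalizer ((s.P.subgroupOf K) : Set K)).map K.subtype = centralizer ({s.z} : Set X) ⊓ M := by
        apply le_antisymm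
        · rintro _ ⟨x, hx, rfl⟩
          refine ⟨mem_centralizer_singleton_iff.mpr (s.normP _ fun q hq => ?_), x.2.2⟩
          exact mem_subgroupOf.mp ((mem_normalizer_iff.mp hx ⟨q, hPK hq⟩).mp (mem_subgroupOf.mpr hq))
        · rintro x ⟨hxC, hxM⟩
          refine ⟨⟨x, s.Cz_le_Y hxC, hxM⟩, mem_norm_of fun a ha => mem_subgroupOf.mpr ?_, rfl⟩
          show x * (a : X) * x⁻¹ ∈ s.P
          obtain ⟨t, ht, q, hq', rfl⟩ := s.Cz_decomp (mem_centralizer_singleton_iff.mp hxC)
          have ha' := mem_subgroupOf.mp ha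
          rw [show t * q * (a : X) * (t * q)⁻¹ = t * (q * a * q⁻¹) * t⁻¹ by group]
          have hm := mul_mem (mul_mem hq' ha') (inv_mem hq')
          rcases s.T_P ht hm with ⟨h, -⟩ | ⟨h, -⟩ <;> rw [h]
          exacts [hm, inv_mem hm]
      rw [heq]
      omega
    have hn := card_sylow_modEq_one 3 K
    rw [S.card_eq_index_normalizer] at hn
    have hKc := Subgroup.card_mul_index (normalizer ((s.P.subgroupOf K) : Set K))
    rw [hNK] at hKc
    set n := (normalizer ((s.P.subgroupOf K) : Set K)).index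
    have hn' : n % 3 = 1 := hn
    have hK168 : Nat.card K ∣ 168 := hM ▸ card_dvd_of_le (inf_le_right : K ≤ M)
    have hY := hindex s.Y s.αz
    change 2 * Nat.card K = Nat.card s.Y at hY
    obtain ⟨g', hg'K, hg'⟩ := s.zw_conj hPK hPwK
    have h72 := s.index_six hg'K.1 hg'
    rw [← hKc] at hK168 hY
    have hn28 : n ∈ Nat.divisors 28 := Nat.mem_divisors.mpr
      ⟨Nat.dvd_of_mul_dvd_mul_left (by norm_num) (show 6 * n ∣ 6 * 28 from hK168), by norm_num⟩
    simp only [show Nat.divisors 28 = {1, 2, 4, 7, 14, 28} from by decide, Finset.mem_insert,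
      Finset.mem_singleton] at hn28
    have hx7 := s.seven_excl (m := n) (by omega)
    simp only [Finset.mem_insert, Finset.mem_singleton] at hx7
    omega

end SevenX

end CfsgLib.JankoFour
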