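/-
The local structure at a subgroup of order seven of H.
-/
import Cfsg.Agent.Lib.JankoFour.SevenLocal
import Cfsg.Agent.Lib.JankoFour.SevenStruct
import Cfsg.Agent.Lib.JankoFour.FiveNorm

set_option autoImplicit false

namespace CfsgLib.JankoFour

open Cfsg Subgroup

universe u

/-- The involutions of S5 with centralizers of order twelve are the transpositions. -/
theorem transposition_class : ∀ a : Equiv.Perm (Fin 5), a * a = 1 →
    (Finset.univ.filter fun b => b * a = a * b).card = 12 → ∃ b, b * Equiv.swap 0 1 * b⁻¹ = a := by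
  decide +kernel

/-- In a group isomorphic to S5 involutions with centralizers of order twelve are conjugate. -/
theorem invol_twelve {X : Type u} [Group X] (e : X ≃* Equiv.Perm (Fin 5)) {a b : X} (ha : a * a = 1) (hb : b * b = 1)
    (hca : Nat.card (centralizer ({a} : Set X)) = 12) (hcb : Nat.card (centralizer ({b} : Set X)) = 12) :
    ∃ g : X, g * a * g⁻¹ = b := by
  classical
  have key : ∀ x : X, x * x = 1 → Nat.card (centralizer ({x} : Set X)) = 12 →
      ∃ c, c * Equiv.swap 0 1 * c⁻¹ = e x := by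
    intro x hx hc
    refine transposition_class (e x) (by rw [← map_mul, hx, map_one]) ?_
    rw [← hc, ← Fintype.card_subtype, ← Nat.card_eq_fintype_card]
    refine Nat.card_congr ((Equiv.subtypeEquiv e.toEquiv fun y => ?_).symm)
    rw [mem_centralizer_singleton_iff]
    show y * x = x * y ↔ e y * e x = e x * e y
    rw [← map_mul, ← map_mul, e.injective.eq_iff]
  obtain ⟨c, hc⟩ := key a ha hca
  obtain ⟨d, hd⟩ := key b hb hcb
  refine ⟨e.symm (d * c⁻¹), e.injective ?_⟩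
  rw [map_mul, map_mul, map_inv, MulEquiv.apply_symm_apply, ← hc, ← hd]
  group

/-- The local statement at a subgroup of order seven. -/
def SevenLocalAt {G : Type u} [Group G] (S : Subgroup G) : Prop :=
  ¬ (49 ∣ Nat.card G) ∧
    (∃ I : Subgroup G, Cfsg.IsInternalDirectProduct S I (Subgroup.centralizer (S : Set G)) ∧
      Nonempty (↥I ≃* Equiv.Perm (Fin 5))) ∧
    Nat.card ↥(Subgroup.normalizer (S : Set G)) = 3 * Nat.card ↥(Subgroup.centralizer (S : Set G)) ∧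
    Nat.card ↥(Subgroup.normalizer (S : Set G)) = 2 ^ 3 * 3 ^ 2 * 5 * 7

/-- The local statement passes along an automorphism. -/
theorem SevenLocalAt.map {G : Type u} [Group G] [Finite G] (φ : G ≃* G) {S : Subgroup G} (h : SevenLocalAt S) :
    SevenLocalAt (S.map φ.toMonoidHom) := by
  obtain ⟨h49, ⟨I, hI, ⟨e⟩⟩, h3, hcard⟩ := h
  refine ⟨h49, ⟨I.map φ.toMonoidHom, ?_, ⟨(I.equivMapOfInjective φ.toMonoidHom φ.injective).symm.trans e⟩⟩, ?_, ?_⟩
  · rw [centralizer_map]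
    exact internal_map φ hI
  · rw [← map_equiv_normalizer_eq, centralizer_map, card_map_of_injective (f := φ.toMonoidHom) φ.injective,
      card_map_of_injective (f := φ.toMonoidHom) φ.injective, h3]
  · rw [← map_equiv_normalizer_eq, card_map_of_injective (f := φ.toMonoidHom) φ.injective, hcard]

variable {G : Type u} [Group G] [Finite G] {z : G} {P E : Subgroup G}

namespace SevenPack

variable {c : Ctx z P E} (s : SevenPack c)

theorem cent_zpowers_r : centralizer ((zpowers s.r : Subgroup G) : Set G) = s.Cr := by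
  rw [zpowers_eq_closure, centralizer_closure]

theorem card_Q (hQ : Nonempty (s.Q ≃* Equiv.Perm (Fin 5))) : Nat.card s.Q = 120 := by
  obtain ⟨e⟩ := hQ
  rw [Nat.card_congr e.toEquiv, Nat.card_perm, Nat.card_fin]
  rfl

theorem R_le_Cr : zpowers s.r ≤ s.Cr := zpowers_le.mpr (s.mem_Cr.mpr rfl)

theorem card_Cr (hQ : Nonempty (s.Q ≃* Equiv.Perm (Fin 5))) : Nat.card s.Cr = 840 := by
  have := Subgroup.card_mul_index s.Rc
  rw [Subgroup.index_eq_card, show Nat.card (s.Cr ⧸ s.Rc) = 120 from s.card_Q hQ, Rc,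
    Nat.card_congr (subgroupOfEquivOfLe s.R_le_Cr).toEquiv, s.card_R] at this
  exact this.symm

theorem not_fortynine (hQ : Nonempty (s.Q ≃* Equiv.Perm (Fin 5))) : ¬ 49 ∣ Nat.card G := by
  intro h
  haveI : Fact (Nat.Prime 7) := ⟨by norm_num⟩
  obtain ⟨K, hK, hle⟩ := Sylow.exists_subgroup_card_pow_succ (p := 7) (n := 1) h (H := zpowers s.r) (by
    rw [s.card_R]; norm_num)
  haveI := IsPGroup.isMulCommutative_of_card_eq_prime_sq (G := K) hK
  have hKc : K ≤ s.Cr := fun y hy =>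
    s.mem_Cr.mpr (congrArg Subtype.val (mul_comm' (⟨y, hy⟩ : K) ⟨s.r, hle (mem_zpowers s.r)⟩))
  have := card_dvd_of_le hKc
  rw [hK, s.card_Cr hQ] at this
  norm_num at this

theorem exists_I (hQ : Nonempty (s.Q ≃* Equiv.Perm (Fin 5))) :
    ∃ I : Subgroup G, Cfsg.IsInternalDirectProduct (zpowers s.r) I (centralizer (zpowers s.r : Set G)) ∧
      Nonempty (↥I ≃* Equiv.Perm (Fin 5)) := by
  obtain ⟨J, hJ⟩ := Subgroup.exists_right_complement'_of_coprime (N := s.Rc) (by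
    rw [Subgroup.index_eq_card, show Nat.card (s.Cr ⧸ s.Rc) = 120 from s.card_Q hQ, Rc,
      Nat.card_congr (subgroupOfEquivOfLe s.R_le_Cr).toEquiv, s.card_R]
    norm_num)
  obtain ⟨e⟩ := hQ
  have hbij : Function.Bijective (s.img.comp J.subtype) := by
    refine ⟨(injective_iff_map_eq_one _).mpr fun x hx => Subtype.ext ?_, fun y => ?_⟩
    · exact disjoint_def.mp hJ.disjoint ((QuotientGroup.eq_one_iff _).mp hx) x.2
    · obtain ⟨x, rfl⟩ := QuotientGroup.mk'_surjective s.Rc y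
      obtain ⟨⟨⟨a, ha⟩, b⟩, hab, -⟩ := hJ.existsUnique x
      refine ⟨b, ?_⟩
      rw [show x = a * b from hab.symm]
      show s.img b = s.img (a * b)
      rw [map_mul, show s.img a = 1 from (QuotientGroup.eq_one_iff a).mpr ha, one_mul]
  let ι : ↥(J.map s.Cr.subtype) ≃* s.Q :=
    (J.equivMapOfInjective s.Cr.subtype s.Cr.subtype_injective).symm.trans (MulEquiv.ofBijective _ hbij)
  refine ⟨J.map s.Cr.subtype, ?_, ⟨ι.trans e⟩⟩
  rw [s.cent_zpowers_r]
  refine ⟨s.R_le_Cr, map_subtype_le _, ?_, ?_, le_antisymm (sup_le s.R_le_Cr (map_subtype_le _)) fun x hx => ?_⟩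
  · rintro a ha _ ⟨b, -, rfl⟩
    obtain ⟨k, rfl⟩ := mem_zpowers_iff.mp ha
    have h0 : Commute (b : G) s.r := s.mem_Cr.mp b.2
    exact ((h0.zpow_right k).symm).eq
  · rw [eq_bot_iff]
    rintro x ⟨hx, b, hb, rfl⟩
    rw [mem_bot, show b = 1 from disjoint_def.mp hJ.disjoint (mem_subgroupOf.mpr hx) hb]
    rfl
  · obtain ⟨⟨⟨a, ha⟩, ⟨b, hb⟩⟩, hab, -⟩ := hJ.existsUnique ⟨x, hx⟩
    rw [show x = (a : G) * b from (congrArg Subtype.val hab).symm]
    exact mul_mem (mem_sup_left (mem_subgroupOf.mp ha)) (mem_sup_right (mem_map_of_mem _ hb))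

/-- No element inverts r. -/
theorem no_inv_G (hQ : Nonempty (s.Q ≃* Equiv.Perm (Fin 5))) (n : G) : n * s.r * n⁻¹ ≠ s.r⁻¹ := by
  intro hn
  obtain ⟨e⟩ := hQ
  have hn6 : n * s.r * n⁻¹ = s.r ^ 6 := by
    rw [hn, inv_eq_of_mul_eq_one_left]
    rw [← pow_succ, s.r7]
  obtain ⟨β, hβ⟩ := s.exists_act (j := 6) (by norm_num) hn6
  have hz' : n * z * n⁻¹ ∈ s.Cr := s.mem_Cr.mpr (s.comm_pow (j := 6) (by norm_num) (by
    show n * z * n⁻¹ * s.r ^ 6 = s.r ^ 6 * (n * z * n⁻¹)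
    rw [← hn6, show n * z * n⁻¹ * (n * s.r * n⁻¹) = n * (z * s.r) * n⁻¹ by group,
      ← c.Z_comm s.rH (mem_zpowers z)]
    group)).eq
  set a := s.img ⟨z, s.z_Cr⟩ with ha
  set b := s.img ⟨n * z * n⁻¹, hz'⟩ with hb
  have hab : β a = b := hβ z s.z_Cr hz'
  have ha2 : a * a = 1 := by
    rw [ha, ← map_mul]
    exact (congrArg s.img (Subtype.ext c.zz : (⟨z, s.z_Cr⟩ * ⟨z, s.z_Cr⟩ : s.Cr) = 1)).trans (map_one _)
  have hb2 : b * b = 1 := by rw [← hab, ← map_mul, ha2, map_one]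
  have hcb : Nat.card (centralizer ({b} : Set s.Q)) = 12 := by
    rw [← s.card_cent_z]
    refine Nat.card_congr ((Equiv.subtypeEquiv β.toEquiv fun y => ?_).symm)
    rw [mem_centralizer_singleton_iff, mem_centralizer_singleton_iff]
    show y * a = a * y ↔ β y * b = b * β y
    rw [← hab, ← map_mul, ← map_mul, β.injective.eq_iff]
  obtain ⟨g, hg⟩ := invol_twelve e hb2 ha2 hcb s.card_cent_z
  obtain ⟨⟨x, hx⟩, rfl⟩ := QuotientGroup.mk'_surjective s.Rc g
  have hz2 : z ^ 2 = 1 := by rw [sq]; exact c.zz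
  have h1 : x * (n * z * n⁻¹) * x⁻¹ = z :=
    s.conj_exact (n := 2) (a := ⟨n * z * n⁻¹, hz'⟩) (a' := ⟨z, s.z_Cr⟩) (b := ⟨x, hx⟩) (by norm_num)
      (by rw [conj_pow, hz2, mul_one, mul_inv_cancel]) hz2 hg
  refine s.no_inv (h := x * n) (mem_centralizer_singleton_iff.mpr ?_) ?_
  · calc x * n * z = x * (n * z * n⁻¹) * x⁻¹ * (x * n) := by group
      _ = z * (x * n) := by rw [h1]
  · have hxr : Commute x s.r := s.mem_Cr.mp hx
    rw [show x * n * s.r * (x * n)⁻¹ = x * (n * s.r * n⁻¹) * x⁻¹ by group, hn, hxr.inv_right.eq, mul_inv_cancel_right]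

theorem card_normalizer (hQ : Nonempty (s.Q ≃* Equiv.Perm (Fin 5))) :
    Nat.card ↥(normalizer (zpowers s.r : Set G)) = 2520 := by
  classical
  have hyn : ∀ i : ℕ, s.y ^ i * s.r * (s.y ^ i)⁻¹ = s.r ^ (s.k ^ i) := by
    intro i
    induction i with
    | zero => simp
    | succ i ih =>
      calc s.y ^ (i + 1) * s.r * (s.y ^ (i + 1))⁻¹ = s.y * (s.y ^ i * s.r * (s.y ^ i)⁻¹) * s.y⁻¹ := by
            rw [pow_succ']; group
        _ = s.r ^ (s.k ^ (i + 1)) := by rw [ih, ← conj_pow, s.yr, ← pow_mul, pow_succ']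
  have hN : ∀ i : ℕ, s.y ^ i ∈ normalizer (zpowers s.r : Set G) := fun i => by
    refine mem_norm_of fun a ha => ?_
    obtain ⟨k, rfl⟩ := mem_zpowers_iff.mp ha
    rw [← conj_zpow, hyn]
    exact zpow_mem (pow_mem (mem_zpowers _) _) k
  have hC : s.Cr ≤ normalizer (zpowers s.r : Set G) := by
    rw [← s.cent_zpowers_r]; exact centralizer_le_normalizer _
  let Φ : Fin 3 × s.Cr → normalizer (zpowers s.r : Set G) := fun x =>
    ⟨s.y ^ (x.1 : ℕ) * x.2, mul_mem (hN _) (hC x.2.2)⟩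
  have hΦ : Function.Bijective Φ := by
    constructor
    · rintro ⟨i, x⟩ ⟨j, y⟩ h
      have h' : s.y ^ (i : ℕ) * x = s.y ^ (j : ℕ) * y := congrArg Subtype.val h
      have hcx : ∀ u : s.Cr, ∀ v : G, v * u * s.r * (v * u)⁻¹ = v * s.r * v⁻¹ := fun u v => by
        rw [mul_assoc v (u : G) s.r, s.mem_Cr.mp u.2]; group
      have he : s.r ^ (s.k ^ (i : ℕ)) = s.r ^ (s.k ^ (j : ℕ)) := by
        rw [← hyn, ← hyn, ← hcx x (s.y ^ (i : ℕ)), ← hcx y (s.y ^ (j : ℕ)), h']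
      rw [pow_eq_pow_iff_modEq, s.order_r] at he
      have hfin : ∀ k : ℕ, k = 2 ∨ k = 4 → ∀ a b : Fin 3, k ^ (a : ℕ) % 7 = k ^ (b : ℕ) % 7 → a = b := by
        rintro k (rfl | rfl) <;> decide
      obtain rfl : i = j := hfin s.k s.k24 i j he
      exact Prod.ext rfl (Subtype.ext (mul_left_cancel h'))
    · rintro ⟨n, hn⟩
      have hmem := (mem_normalizer_iff.mp hn s.r).mp (mem_zpowers s.r)
      obtain ⟨j0, hj0⟩ : ∃ j : ℕ, s.r ^ j = n * s.r * n⁻¹ :=
        (mem_powers_iff_mem_zpowers.mpr hmem : n * s.r * n⁻¹ ∈ Submonoid.powers s.r)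
      rw [pow_eq_pow_mod j0 s.r7] at hj0
      have hj7 : j0 % 7 < 7 := Nat.mod_lt _ (by norm_num)
      set j := j0 % 7
      have hj1 : j ≠ 0 := fun h => by
        rw [h, pow_zero] at hj0
        exact s.r1 (conj_eq_one_iff.mp hj0.symm)
      have hcube : n ^ 3 * s.r * (n ^ 3)⁻¹ = s.r ^ (j * j * j) := by
        calc n ^ 3 * s.r * (n ^ 3)⁻¹ = n * (n * (n * s.r * n⁻¹) * n⁻¹) * n⁻¹ := by
              simp only [pow_succ, pow_zero]; group
          _ = s.r ^ (j * j * j) := by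
              rw [← hj0, ← conj_pow, ← hj0, ← pow_mul, ← conj_pow, ← hj0, ← pow_mul]
              congr 1; ring
      have hinv : s.r ^ 6 = s.r⁻¹ := eq_inv_of_mul_eq_one_left (by rw [← pow_succ, s.r7])
      obtain ⟨i, hi⟩ : ∃ i : Fin 3, s.k ^ (i : ℕ) % 7 = j := by
        have hbad : j ≠ 3 ∧ j ≠ 5 ∧ j ≠ 6 := by
          refine ⟨fun h => s.no_inv_G hQ (n ^ 3) ?_, fun h => s.no_inv_G hQ (n ^ 3) ?_, fun h => s.no_inv_G hQ n ?_⟩
          · rw [hcube, h, pow_eq_pow_mod _ s.r7, ← hinv]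
          · rw [hcube, h, pow_eq_pow_mod _ s.r7, ← hinv]
          · rw [← hj0, h, hinv]
        rcases s.k24 with e | e <;> rw [e] <;> interval_cases j <;>
          first | omega | exact ⟨0, rfl⟩ | exact ⟨1, rfl⟩ | exact ⟨2, rfl⟩
      have hm : (s.y ^ (i : ℕ))⁻¹ * n ∈ s.Cr := s.mem_Cr.mpr (mul_inv_eq_iff_eq_mul.mp (by
        have hyi : s.y ^ (i : ℕ) * s.r * (s.y ^ (i : ℕ))⁻¹ = n * s.r * n⁻¹ := by
          rw [hyn, pow_eq_pow_mod _ s.r7, hi, hj0]
        calc (s.y ^ (i : ℕ))⁻¹ * n * s.r * ((s.y ^ (i : ℕ))⁻¹ * n)⁻¹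
            = (s.y ^ (i : ℕ))⁻¹ * (n * s.r * n⁻¹) * s.y ^ (i : ℕ) := by group
          _ = s.r := by rw [← hyi]; group))
      exact ⟨(i, ⟨_, hm⟩), Subtype.ext (mul_inv_cancel_left _ _)⟩
  rw [← Nat.card_congr (Equiv.ofBijective Φ hΦ), Nat.card_prod, Nat.card_eq_fintype_card, Fintype.card_fin,
    s.card_Cr hQ]

theorem seven_local_at {m : FiveModel} (d : FiveData5 c m) [IsSimpleGroup G] (hG : ¬ IsMulCommutative G)
    (hinv : ∃ n ∈ centralizer ({z} : Set G), ∀ q ∈ P, n * q * n⁻¹ = q⁻¹) : SevenLocalAt (zpowers s.r) := by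
  obtain ⟨X⟩ := s.exists_sevenX d hG hinv
  have hQ := X.sym_five
  refine ⟨s.not_fortynine hQ, s.exists_I hQ, ?_, ?_⟩
  · rw [s.card_normalizer hQ, s.cent_zpowers_r, s.card_Cr hQ]
  · rw [s.card_normalizer hQ]; norm_num

end SevenPack

end CfsgLib.JankoFour
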