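/-
Elements of order 2, 3, 5 and 7 in a group of Janko-four type commute with no element of order at least 23,
and the group contains an element of order 31 conjugate to its square by an element of order five.
-/
import Cfsg.Agent.Lib.JankoFour.BigPrimeArith
import Cfsg.Agent.Lib.JankoFour.Three
import Cfsg.Agent.Lib.Golay.ElemClasses
import Cfsg.Agent.S5569
import Cfsg.Agent.S5567
import Cfsg.Agent.S5570
import Cfsg.Agent.S5572
import Cfsg.Agent.S5573
import Cfsg.Agent.S0371

set_option autoImplicit false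
set_option linter.style.haveILetI false
set_option linter.unusedSectionVars false

namespace CfsgLib.JankoFour.Big

open Cfsg Subgroup CfsgGolay

attribute [local irreducible] codeL octadL dodecadL slpCodes

universe u

/-- A fixed-point element of order three, with an element of order five commuting with it. -/
def c3A : ℕ := 975592183759776313089330835488888339
/-- A fixed-point-free element of order three, with an element of order seven commuting with it. -/
def c3B : ℕ := 476923999236394755113815683370716631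
/-- The element of order five. -/
def c5 : ℕ := 527678820127701795032510086920635956
/-- The element of order seven. -/
def c7 : ℕ := 355280851268357374792533151368052873

theorem codes_ok : (permOK c3A = true ∧ gensKept c3A = true) ∧ (permOK c3B = true ∧ gensKept c3B = true) ∧
    (permOK c5 = true ∧ gensKept c5 = true) ∧ (permOK c7 = true ∧ gensKept c7 = true) ∧
    ppow c3A 3 = pid ∧ ppow c3B 3 = pid ∧ ppow c5 5 = pid ∧ ppow c7 7 = pid ∧
    c3A ≠ pid ∧ c3B ≠ pid ∧ c5 ≠ pid ∧ c7 ≠ pid ∧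
    c3A < 2 ^ 120 ∧ c3B < 2 ^ 120 ∧ c5 < 2 ^ 120 ∧ c7 < 2 ^ 120 ∧
    pcomp c3A c5 = pcomp c5 c3A ∧ pcomp c3B c7 = pcomp c7 c3B ∧
    papp c3A 3 = 3 ∧ ∀ i < 24, papp c3B i ≠ i := by decide +kernel

attribute [local irreducible] c3A c3B c5 c7 pcomp ppow pid papp permOK gensKept permDec

/-- Every element of order three of M24 commutes with an element of order five or seven. -/
theorem m24_three {g : Equiv.Perm GolayPt} (hg : g ∈ M24) (ho : orderOf g = 3) :
    ∃ h ∈ M24, (orderOf h = 5 ∨ orderOf h = 7) ∧ g * h = h * g := by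
  classical
  haveI : Fact (Nat.Prime 3) := ⟨by norm_num⟩
  haveI : Fact (Nat.Prime 5) := ⟨by norm_num⟩
  haveI : Fact (Nat.Prime 7) := ⟨by norm_num⟩
  obtain ⟨a, b, c, d, pa, pb, pc, pd, na, nb, nc, nd, la, lb, lc, ld, hac, hbd, hfix, hfree⟩ := codes_ok
  obtain ⟨rA, mA⟩ := rep_spec a
  obtain ⟨rB, mB⟩ := rep_spec b
  obtain ⟨r5, m5⟩ := rep_spec c
  obtain ⟨r7, m7⟩ := rep_spec d
  have oA := orderOf_rep rA pa na la
  have oB := orderOf_rep rB pb nb lb
  have o5 := orderOf_rep r5 pc nc lc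
  have o7 := orderOf_rep r7 pd nd ld
  have cA : permDec c3A * permDec c5 = permDec c5 * permDec c3A := (rA.comp r5).unique (hac ▸ r5.comp rA)
  have cB : permDec c3B * permDec c7 = permDec c7 * permDec c3B := (rB.comp r7).unique (hbd ▸ r7.comp rB)
  have fA : (fixF (permDec c3A)).card ≠ 0 := fun h => fixF_empty_iff.mp h (pt 3) (by
    rw [rA.apply_pt (by norm_num), hfix])
  have fB : (fixF (permDec c3B)).card ≠ 6 := by
    rw [fixF_empty_iff.mpr fun p h => hfree (idx p) (idx_lt p) (by rw [← rB p, h])]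
    norm_num
  have key : ∀ {x y : Equiv.Perm GolayPt}, y ∈ M24 → ∀ {j : Equiv.Perm GolayPt}, j ∈ M24 →
      j * g * j⁻¹ = x → x * y = y * x → ∀ n, orderOf y = n → (n = 5 ∨ n = 7) →
      ∃ h ∈ M24, (orderOf h = 5 ∨ orderOf h = 7) ∧ g * h = h * g := by
    intro x y hy j hj hx hc n hn hn'
    refine ⟨j⁻¹ * y * j, mul_mem (mul_mem (inv_mem hj) hy) hj, ?_, ?_⟩
    · have e := (MulAut.conj j⁻¹).orderOf_eq y
      rw [MulAut.conj_apply, inv_inv] at e
      rw [e, hn]; exact hn'
    · rw [← hx] at hc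
      calc g * (j⁻¹ * y * j) = j⁻¹ * ((j * g * j⁻¹) * y) * j := by group
        _ = j⁻¹ * y * j * g := by rw [hc]; group
  obtain ⟨k, hk, h | h⟩ := class_three hg ho
  · obtain ⟨i, hi, e⟩ := class_3A mA oA fA
    exact key m5 (j := i⁻¹ * k) (mul_mem (inv_mem hi) hk)
      (by rw [show i⁻¹ * k * g * (i⁻¹ * k)⁻¹ = i⁻¹ * (k * g * k⁻¹) * i by group, h, ← e]; group) cA 5 o5 (Or.inl rfl)
  · obtain ⟨i, hi, e⟩ := class_3B mB oB fB
    exact key m7 (j := i⁻¹ * k) (mul_mem (inv_mem hi) hk)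
      (by rw [show i⁻¹ * k * g * (i⁻¹ * k)⁻¹ = i⁻¹ * (k * g * k⁻¹) * i by group, h, ← e]; group) cB 7 o7 (Or.inr rfl)

/-- Multiplication by two on the residues modulo 23. -/
def mulTwo : Equiv.Perm GolayPt := Equiv.optionCongr (Units.mulLeft (⟨2, 12, by decide, by decide⟩ : (ZMod 23)ˣ))

theorem isSquare_two : IsSquare (⟨2, 12, by decide, by decide⟩ : (ZMod 23)ˣ) :=
  ⟨⟨5, 14, by decide, by decide⟩, Units.ext (by decide)⟩

theorem mulTwo_mem : mulTwo ∈ M24 := Cfsg.Agent.S0371.result _ isSquare_two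

theorem twentythree_facts : permT ^ 23 = 1 ∧ permT ≠ 1 ∧ mulTwo ^ 11 = 1 ∧ mulTwo ≠ 1 ∧
    mulTwo * permT = permT * permT * mulTwo := by decide +kernel

theorem exists_m24_twentythree : ∃ u f : ↥M24, orderOf u = 23 ∧ orderOf f = 11 ∧ f * u * f⁻¹ = u * u := by
  obtain ⟨t, t1, m, m1, h⟩ := twentythree_facts
  haveI : Fact (Nat.Prime 23) := ⟨by norm_num⟩
  haveI : Fact (Nat.Prime 11) := ⟨by norm_num⟩
  refine ⟨⟨permT, mem_M24_of_gensKept repr_T gensKept_all.1⟩,
    ⟨mulTwo, mulTwo_mem⟩, ?_, ?_, ?_⟩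
  · rw [Subgroup.orderOf_mk]; exact orderOf_eq_prime t t1
  · rw [Subgroup.orderOf_mk]; exact orderOf_eq_prime m m1
  · rw [mul_inv_eq_iff_eq_mul]; exact Subtype.ext h

variable {G : Type u} [Group G] [Finite G]

theorem zpowers_conj (g x : G) :
    (zpowers x).map (MulAut.conj g).toMonoidHom = zpowers (g * x * g⁻¹) := by
  rw [MonoidHom.map_zpowers]; rfl

/-- Two elements of prime order `p` generate conjugate subgroups when `p` divides the order once. -/
theorem zpowers_conjugate {p : ℕ} [hp : Fact p.Prime] (hfac : (Nat.card G).factorization p = 1) {x y : G}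
    (hx : orderOf x = p) (hy : orderOf y = p) : ∃ g : G, zpowers (g * x * g⁻¹) = zpowers y := by
  let X : Sylow p G := Sylow.ofCard (zpowers x) (by rw [Nat.card_zpowers, hx, hfac, pow_one])
  let Y : Sylow p G := Sylow.ofCard (zpowers y) (by rw [Nat.card_zpowers, hy, hfac, pow_one])
  obtain ⟨g, hg⟩ := MulAction.exists_smul_eq G X Y
  refine ⟨g, ?_⟩
  rw [← zpowers_conj]
  have := congrArg (fun S : Sylow p G => (S : Subgroup G)) hg
  rw [Sylow.coe_subgroup_smul] at this
  exact this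

theorem conj_comm {g x y : G} (h : x * y = y * x) :
    g * x * g⁻¹ * (g * y * g⁻¹) = g * y * g⁻¹ * (g * x * g⁻¹) :=
  ((Commute.conj_iff g).mpr h).eq

theorem orderOf_conj (g x : G) : orderOf (g * x * g⁻¹) = orderOf x := (MulAut.conj g).orderOf_eq x

theorem fac_card (hcard : Nat.card G = orderJ4) :
    (Nat.card G).factorization 3 = 3 ∧ (Nat.card G).factorization 5 = 1 ∧ (Nat.card G).factorization 7 = 1 := by
  rw [hcard]
  exact ⟨factorization_eq (q := 3213910038743613440) (by norm_num) (by norm_num [orderJ4]) (by norm_num),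
    factorization_eq (q := 17355114209215512576) (by norm_num) (by norm_num [orderJ4]) (by norm_num),
    factorization_eq (q := 12396510149439651840) (by norm_num) (by norm_num [orderJ4]) (by norm_num)⟩

section

variable [IsSimpleGroup G]

/-- An element of H of large prime order does not exist. -/
theorem not_mem_H {z : G} {P E : Subgroup G} (c : Ctx z P E) {p : ℕ} (hp : p ∈ bigs) {y : G}
    (hy : orderOf y = p) : y ∉ centralizer ({z} : Set G) := by
  intro hyH
  have hodd : p % 2 = 1 := by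
    simp only [bigs, List.mem_cons, List.not_mem_nil, or_false] at hp
    rcases hp with rfl | rfl | rfl | rfl | rfl <;> rfl
  have hy0 : y ∈ c.H0 := by
    by_contra h0
    have h2 : y * y ∈ c.H0 := c.H0two _ hyH h0 _ hyH h0
    refine h0 ?_
    have e : y = (y * y) ^ (p / 2 + 1) := by
      rw [← pow_two, ← pow_mul, show 2 * (p / 2 + 1) = p + 1 by omega, pow_succ, ← hy, pow_orderOf_eq_one, one_mul]
    rw [e]; exact pow_mem h2 _
  have hd : p ∣ Nat.card c.H0 := by
    rw [← hy, ← Subgroup.orderOf_mk y hy0]; exact orderOf_dvd_natCard _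
  rw [c.card_H0] at hd
  simp only [bigs, List.mem_cons, List.not_mem_nil, or_false] at hp
  rcases hp with rfl | rfl | rfl | rfl | rfl <;> norm_num at hd

theorem card_aut_m22 : Nat.card (MulAut ↥Spor.M22) = 887040 := by
  have hidx : (MulAut.conj (G := ↥Spor.M22)).range.index = 2 := CfsgGolay.OutSmall.out_M22
  have := Subgroup.card_mul_index (MulAut.conj (G := ↥Spor.M22)).range
  rw [hidx, ← Nat.card_congr (MonoidHom.ofInjective conj_m22_injective).toEquiv,
    CfsgGolay.card_sporM22] at this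
  exact this.symm

theorem invol_small (hG : ¬ IsMulCommutative G) {z : G} (hJ : IsOfJankoFourTypeAt z) {p : ℕ} (hp : p ∈ bigs)
    {x y : G} (hx : orderOf x = 2) (hy : orderOf y = p) (hc : x * y = y * x) : False := by
  classical
  obtain ⟨P, hJ'⟩ := hJ
  obtain ⟨c⟩ := ctx_of_type hJ'
  by_cases hz : IsConj z x
  · obtain ⟨g, hg⟩ := isConj_iff.mp hz.symm
    refine not_mem_H c hp ((orderOf_conj g y).trans hy) (mem_centralizer_singleton_iff.mpr ?_)
    rw [← hg]; exact conj_comm hc.symm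
  · obtain ⟨V, K, -, -, hCN, -, hV, hinf, hsup, ⟨e⟩⟩ := Cfsg.Agent.S5569.result hG z ⟨P, hJ'⟩ x hx hz
    have hKN : K ≤ normalizer (V : Set G) := (le_sup_left.trans_eq hsup).trans hCN
    have hyC : y ∈ V ⊔ K := by
      rw [sup_comm, hsup]; exact mem_centralizer_singleton_iff.mpr hc.symm
    obtain ⟨v, hv, k, hk, hvk⟩ := CfsgLib.mem_sup_of_le_normalizer hKN hyC
    have hpp := bigs_prime hp
    haveI := Fact.mk hpp
    -- the image of y in K
    let W := V ⊔ K
    have hdvd : Nat.card ↥W ∣ Nat.card V * Nat.card K := by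
      refine dvd_of_eq (Nat.card_eq_of_bijective (α := ↥V × ↥K)
        (fun a => (⟨(a.1 : G) * a.2, mul_mem (mem_sup_left a.1.2) (mem_sup_right a.2.2)⟩ : ↥W)) ⟨?_, ?_⟩ |>.symm.trans
        (Nat.card_prod _ _))
      · rintro ⟨a, b⟩ ⟨a', b'⟩ hab
        have h1 : (a : G) * b = a' * b' := congrArg Subtype.val hab
        have h2 : (a' : G)⁻¹ * a = b' * (b : G)⁻¹ := by
          calc (a' : G)⁻¹ * a = (a' : G)⁻¹ * (a * b) * (b : G)⁻¹ := by group
            _ = _ := by rw [h1]; group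
        have h3 : (a' : G)⁻¹ * a ∈ K ⊓ V :=
          Subgroup.mem_inf.mpr ⟨h2 ▸ K.mul_mem b'.2 (K.inv_mem b.2), V.mul_mem (V.inv_mem a'.2) a.2⟩
        rw [hinf, mem_bot, inv_mul_eq_one] at h3
        rw [← h3] at h1
        exact Prod.ext (Subtype.ext h3.symm) (Subtype.ext (mul_left_cancel h1))
      · rintro ⟨w, hw⟩
        obtain ⟨a, ha, b, hb, hab⟩ := CfsgLib.mem_sup_of_le_normalizer hKN hw
        exact ⟨(⟨a, ha⟩, ⟨b, hb⟩), Subtype.ext hab⟩
    have hyd : p ∣ Nat.card ↥W := by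
      rw [← hy, ← Subgroup.orderOf_mk y hyC]; exact orderOf_dvd_natCard _
    have h := hyd.trans hdvd
    rw [hV, Nat.card_congr e.toEquiv, card_aut_m22] at h
    simp only [bigs, List.mem_cons, List.not_mem_nil, or_false] at hp
    rcases hp with rfl | rfl | rfl | rfl | rfl <;> norm_num at h

theorem exists_five_cen {z : G} {P E : Subgroup G} (c : Ctx z P E) {r : ℕ} (hr : r = 5 ∨ r = 7) :
    ∃ w ∈ c.cen, orderOf w = r := by
  haveI : Fact r.Prime := ⟨by rcases hr with rfl | rfl <;> norm_num⟩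
  obtain ⟨⟨w, hw⟩, ho⟩ := exists_prime_orderOf_dvd_card' (G := c.cen) r
    (by rw [c.card_cen]; rcases hr with rfl | rfl <;> norm_num)
  exact ⟨w, hw, by rw [← ho, ← Subgroup.orderOf_coe]⟩

/-- The normaliser of a subgroup of order five or seven of H. -/
theorem norm_five_seven (hG : ¬ IsMulCommutative G) {z : G} (hJ : IsOfJankoFourTypeAt z) {w : G}
    (hw : w ∈ centralizer ({z} : Set G)) (ho : orderOf w = 5 ∨ orderOf w = 7) :
    (∀ p ∈ bigs, ¬ p ∣ Nat.card ↥(centralizer (zpowers w : Set G))) ∧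
      ¬ 9 ∣ Nat.card ↥(centralizer (zpowers w : Set G)) ∧ ¬ 11 ∣ Nat.card ↥(centralizer (zpowers w : Set G)) := by
  rcases ho with ho | ho
  · obtain ⟨-, -, -, hN⟩ := Cfsg.Agent.S5572.result hG z hJ (zpowers w) (by rw [Nat.card_zpowers, ho])
      (zpowers_le.mpr hw)
    have hd := card_dvd_of_le (centralizer_le_normalizer (zpowers w : Set G))
    rw [hN] at hd
    refine ⟨fun p hp h => ?_, fun h => ?_, fun h => ?_⟩
    · have h' := h.trans hd
      simp only [bigs, List.mem_cons, List.not_mem_nil, or_false] at hp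
      rcases hp with rfl | rfl | rfl | rfl | rfl <;> norm_num at h'
    · have h' := h.trans hd
      norm_num at h'
    · have h' := h.trans hd
      norm_num at h'
  · obtain ⟨-, -, hN, hN'⟩ := Cfsg.Agent.S5573.result hG z hJ (zpowers w) (by rw [Nat.card_zpowers, ho])
      (zpowers_le.mpr hw)
    have hd : Nat.card ↥(centralizer (zpowers w : Set G)) = 840 := by omega
    rw [hd]
    refine ⟨fun p hp h => ?_, fun h => by norm_num at h, fun h => by norm_num at h⟩
    simp only [bigs, List.mem_cons, List.not_mem_nil, or_false] at hp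
    rcases hp with rfl | rfl | rfl | rfl | rfl <;> norm_num at h

theorem five_seven_small (hG : ¬ IsMulCommutative G) {z : G} (hJ : IsOfJankoFourTypeAt z)
    (hcard : Nat.card G = orderJ4) {p : ℕ} (hp : p ∈ bigs ∨ p = 11) {x y : G}
    (hx : orderOf x = 5 ∨ orderOf x = 7) (hy : orderOf y = p) (hc : x * y = y * x) : False := by
  obtain ⟨P, hJ'⟩ := hJ
  obtain ⟨c⟩ := ctx_of_type hJ'
  obtain ⟨w, hwc, hw⟩ := exists_five_cen c hx
  haveI : Fact (orderOf x).Prime := ⟨by rcases hx with h | h <;> rw [h] <;> norm_num⟩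
  have hfac : (Nat.card G).factorization (orderOf x) = 1 := by
    obtain ⟨-, h5, h7⟩ := fac_card hcard
    rcases hx with h | h <;> rw [h] <;> assumption
  obtain ⟨g, hg⟩ := zpowers_conjugate hfac rfl hw
  have hmem : g * y * g⁻¹ ∈ centralizer (zpowers w : Set G) := mem_centralizer_iff.mpr fun v hv => by
    rw [← hg] at hv
    obtain ⟨i, rfl⟩ := mem_zpowers_iff.mp hv
    exact (Commute.zpow_left (conj_comm hc) i).eq
  obtain ⟨h1, -, h2⟩ := norm_five_seven hG ⟨P, hJ'⟩ hwc.1 (hw ▸ hx)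
  have hd : p ∣ Nat.card ↥(centralizer (zpowers w : Set G)) := by
    rw [← hy, ← orderOf_conj g y, ← Subgroup.orderOf_mk _ hmem]
    exact orderOf_dvd_natCard _
  rcases hp with hp | rfl
  exacts [h1 p hp hd, h2 hd]

/-- An element of order three commutes with an element of order five or seven. -/
theorem three_partner (hG : ¬ IsMulCommutative G) (hJ : IsOfJankoFourType G)
    (hcard : Nat.card G = orderJ4) {x : G} (hx : orderOf x = 3) :
    ∃ w : G, (orderOf w = 5 ∨ orderOf w = 7) ∧ x * w = w * x := by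
  classical
  haveI : Fact (Nat.Prime 3) := ⟨by norm_num⟩
  obtain ⟨z, P, hJ'⟩ := hJ
  obtain ⟨c⟩ := ctx_of_type hJ'
  obtain ⟨A, o⟩ := c.exists_orb hG (hinv_of_type hJ')
  obtain ⟨hex, hfaith⟩ := c.outer_facts hJ'
  obtain ⟨K, -, -, -, ⟨e⟩⟩ := o.exists_compl hex hfaith
  obtain ⟨f3, -, -⟩ := fac_card hcard
  obtain ⟨T⟩ : Nonempty (Sylow 3 ↥K) := inferInstance
  have hT : Nat.card ↥((T : Subgroup ↥K).map K.subtype) = 3 ^ (Nat.card G).factorization 3 := by
    rw [card_map_of_injective K.subtype_injective, T.card_eq_multiplicity, Nat.card_congr e.toEquiv, f3]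
    exact congrArg (3 ^ ·) card_M24_facts.2.1
  let S : Sylow 3 G := Sylow.ofCard ((T : Subgroup ↥K).map K.subtype) hT
  obtain ⟨R, hR⟩ := (IsPGroup.of_card (n := 1) (by rw [Nat.card_zpowers, hx, pow_one]) :
    IsPGroup 3 ↥(zpowers x)).exists_le_sylow
  obtain ⟨g, hg⟩ := MulAction.exists_smul_eq G R S
  have hxK : g * x * g⁻¹ ∈ K := by
    have h1 : g * x * g⁻¹ ∈ ((g • R : Sylow 3 G) : Subgroup G) := by
      rw [Sylow.coe_subgroup_smul]
      exact ⟨x, hR (mem_zpowers x), rfl⟩
    rw [hg] at h1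
    obtain ⟨t, -, ht⟩ := h1
    exact ht ▸ t.2
  have ho : orderOf ((e ⟨_, hxK⟩ : ↥M24) : Equiv.Perm GolayPt) = 3 := by
    rw [Subgroup.orderOf_coe, e.orderOf_eq, Subgroup.orderOf_mk, orderOf_conj, hx]
  obtain ⟨h, hhM, hho, hhc⟩ := m24_three (e ⟨_, hxK⟩).2 ho
  set w0 : ↥K := e.symm ⟨h, hhM⟩ with hw0
  have hcomm : (⟨_, hxK⟩ : ↥K) * w0 = w0 * ⟨_, hxK⟩ := e.injective (by
    rw [map_mul, map_mul, hw0, e.apply_symm_apply]; exact Subtype.ext hhc)
  have hc' : g * x * g⁻¹ * (w0 : G) = (w0 : G) * (g * x * g⁻¹) := congrArg Subtype.val hcomm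
  have how : orderOf (w0 : G) = orderOf h := by
    rw [Subgroup.orderOf_coe, hw0, e.symm.orderOf_eq, Subgroup.orderOf_mk]
  refine ⟨g⁻¹ * (w0 : G) * g, ?_, ?_⟩
  · have h1 := orderOf_conj g⁻¹ (w0 : G)
    rw [inv_inv] at h1
    rw [h1, how]; exact hho
  · calc x * (g⁻¹ * (w0 : G) * g) = g⁻¹ * (g * x * g⁻¹ * w0) * g := by group
      _ = g⁻¹ * (w0 : G) * g * x := by rw [hc']; group

/-- Every subgroup of order three is conjugate to P. -/
theorem three_into_P (hG : ¬ IsMulCommutative G) {z : G} {P : Subgroup G} (hJ' : IsOfJankoFourTypeWith z P)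
    (hcard : Nat.card G = orderJ4) {x : G} (hx : orderOf x = 3) :
    ∃ k : G, zpowers (k * x * k⁻¹) = P := by
  classical
  haveI : Fact (Nat.Prime 3) := ⟨by norm_num⟩
  obtain ⟨w', hw', hxw⟩ := three_partner hG ⟨z, P, hJ'⟩ hcard hx
  obtain ⟨c⟩ := ctx_of_type hJ'
  obtain ⟨w, hwc, hw⟩ := exists_five_cen c hw'
  haveI : Fact (orderOf w').Prime := ⟨by rcases hw' with h | h <;> rw [h] <;> norm_num⟩
  have hfac : (Nat.card G).factorization (orderOf w') = 1 := by
    obtain ⟨-, h5, h7⟩ := fac_card hcard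
    rcases hw' with h | h <;> rw [h] <;> assumption
  obtain ⟨g, hg⟩ := zpowers_conjugate hfac rfl hw
  set D := centralizer (zpowers w : Set G) with hD
  set x' := g * x * g⁻¹ with hx'
  have hxD : x' ∈ D := mem_centralizer_iff.mpr fun v hv => by
    rw [← hg] at hv
    obtain ⟨i, rfl⟩ := mem_zpowers_iff.mp hv
    exact (Commute.zpow_left (conj_comm hxw.symm) i).eq
  have hPD : P ≤ D := fun q hq => mem_centralizer_iff.mpr fun v hv => by
    obtain ⟨i, rfl⟩ := mem_zpowers_iff.mp hv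
    exact (Commute.zpow_left (c.cen_comm hwc hq) i).eq
  have hfac3 : (Nat.card D).factorization 3 = 1 := by
    have h9 : ¬ 9 ∣ Nat.card D := (norm_five_seven hG ⟨P, hJ'⟩ hwc.1 (hw ▸ hw')).2.1
    have h3 : 3 ∣ Nat.card D := c.hP ▸ card_dvd_of_le hPD
    refine le_antisymm ?_ (Nat.prime_three.factorization_pos_of_dvd Nat.card_pos.ne' h3)
    by_contra hcon
    exact h9 ((Nat.prime_three.pow_dvd_iff_le_factorization Nat.card_pos.ne').mpr
      (show 2 ≤ (Nat.card D).factorization 3 by omega))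
  let S1 : Sylow 3 ↥D := Sylow.ofCard (P.subgroupOf D) (by
    rw [Nat.card_congr (subgroupOfEquivOfLe hPD).toEquiv, c.hP, hfac3, pow_one])
  let S2 : Sylow 3 ↥D := Sylow.ofCard (zpowers (⟨x', hxD⟩ : ↥D)) (by
    rw [Nat.card_zpowers, Subgroup.orderOf_mk, hx', orderOf_conj, hx, hfac3, pow_one])
  obtain ⟨d, hd⟩ := MulAction.exists_smul_eq ↥D S2 S1
  have hxP : (d : G) * x' * (d : G)⁻¹ ∈ P := by
    have h1 : MulAut.conj d ⟨x', hxD⟩ ∈ ((d • S2 : Sylow 3 ↥D) : Subgroup ↥D) := by
      rw [Sylow.coe_subgroup_smul]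
      exact ⟨_, mem_zpowers _, rfl⟩
    rw [hd] at h1
    exact mem_subgroupOf.mp h1
  set k := (d : G) * g with hk
  have hkx : k * x * k⁻¹ ∈ P := by
    rw [hk, show (d : G) * g * x * ((d : G) * g)⁻¹ = d * x' * (d : G)⁻¹ by rw [hx']; group]
    exact hxP
  have hgen : zpowers (k * x * k⁻¹) = P := eq_of_le_of_card_ge (zpowers_le.mpr hkx) (by
    rw [Nat.card_zpowers, orderOf_conj, hx, c.hP])
  exact ⟨k, hgen⟩

theorem three_small (hG : ¬ IsMulCommutative G) {z : G} (hJ : IsOfJankoFourTypeAt z)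
    (hcard : Nat.card G = orderJ4) {p : ℕ} (hp : p ∈ bigs) {x y : G}
    (hx : orderOf x = 3) (hy : orderOf y = p) (hc : x * y = y * x) : False := by
  obtain ⟨P, hJ'⟩ := hJ
  obtain ⟨c⟩ := ctx_of_type hJ'
  obtain ⟨k, hgen⟩ := three_into_P hG hJ' hcard hx
  refine not_mem_H c hp ((orderOf_conj k y).trans hy)
    (c.norm_P hG (hinv_of_type hJ') (centralizer_le_normalizer _ (mem_centralizer_iff.mpr fun q hq => ?_)))
  rw [← hgen] at hq
  obtain ⟨i, rfl⟩ := mem_zpowers_iff.mp hq
  exact (Commute.zpow_left (conj_comm hc) i).eq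

/-- An element of order 31 conjugate to its square by an element of order five. -/
theorem thirtyone (hG : ¬ IsMulCommutative G) (hJ : IsOfJankoFourType G) :
    ∃ u f : G, orderOf u = 31 ∧ orderOf f = 5 ∧ f * u * f⁻¹ = u * u := by
  obtain ⟨⟨A, hA1, hA2, hA3⟩, -, h3⟩ := Cfsg.Agent.S5570.result hG hJ
  obtain ⟨⟨B, -, -, -, ⟨e⟩⟩, -⟩ := h3 A hA1 hA2 hA3
  obtain ⟨u, f, hu, hf, h⟩ := exists_singer
  let ι := B.subtype.comp e.symm.toMonoidHom
  have hι : Function.Injective ι := B.subtype_injective.comp e.symm.injective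
  refine ⟨ι u, ι f, (orderOf_injective ι hι u).trans hu, (orderOf_injective ι hι f).trans hf, ?_⟩
  rw [← map_inv, ← map_mul, ← map_mul, h, map_mul]

/-- An element of order 23 conjugate to its square by an element of order eleven. -/
theorem twentythree (hG : ¬ IsMulCommutative G) (hJ : IsOfJankoFourType G) :
    ∃ u f : G, orderOf u = 23 ∧ orderOf f = 11 ∧ f * u * f⁻¹ = u * u := by
  obtain ⟨z, P, hJ'⟩ := hJ
  obtain ⟨c⟩ := ctx_of_type hJ'
  obtain ⟨A, o⟩ := c.exists_orb hG (hinv_of_type hJ')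
  obtain ⟨hex, hfaith⟩ := c.outer_facts hJ'
  obtain ⟨K, -, -, -, ⟨e⟩⟩ := o.exists_compl hex hfaith
  obtain ⟨u, f, hu, hf, h⟩ := exists_m24_twentythree
  let ι := K.subtype.comp e.symm.toMonoidHom
  have hι : Function.Injective ι := K.subtype_injective.comp e.symm.injective
  refine ⟨ι u, ι f, (orderOf_injective ι hι u).trans hu, (orderOf_injective ι hι f).trans hf, ?_⟩
  rw [← map_inv, ← map_mul, ← map_mul, h, map_mul]

/-- The hypotheses of the counting argument, given the order. -/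
theorem hyp_of (hG : ¬ IsMulCommutative G) (hJ : IsOfJankoFourType G) (hcard : Nat.card G = orderJ4) : Hyp G := by
  refine ⟨hcard, fun r hr p hp x y hx hy hc => ?_, thirtyone hG hJ, twentythree hG hJ⟩
  obtain ⟨z, hz⟩ := hJ
  simp only [smalls, List.mem_cons, List.not_mem_nil, or_false] at hr
  rcases hr with rfl | rfl | rfl | rfl
  · exact invol_small hG hz hp hx hy hc
  · exact three_small hG hz hcard hp hx hy hc
  · exact five_seven_small hG hz hcard (Or.inl hp) (Or.inl hx) hy hc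
  · exact five_seven_small hG hz hcard (Or.inl hp) (Or.inr hx) hy hc

end

end CfsgLib.JankoFour.Big
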