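/-
No element of order 11 centralises an element of order 31 in a group of Janko-four type.
-/
import Cfsg.Agent.Lib.JankoFour.BigPrimeSmall

set_option autoImplicit false
set_option linter.style.haveILetI false
set_option linter.unusedSectionVars false

namespace CfsgLib.JankoFour.Big

open Cfsg Subgroup

universe u

variable {G : Type u} [Group G] [Finite G] [IsSimpleGroup G]

theorem card_sup_eq {A B : Subgroup G} (hn : B ≤ normalizer (A : Set G)) (hd : A ⊓ B = ⊥) :
    Nat.card ↥(A ⊔ B) = Nat.card A * Nat.card B := by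
  refine (Nat.card_eq_of_bijective (α := ↥A × ↥B)
    (fun a => (⟨(a.1 : G) * a.2, mul_mem (mem_sup_left a.1.2) (mem_sup_right a.2.2)⟩ : ↥(A ⊔ B))) ⟨?_, ?_⟩).symm.trans
    (Nat.card_prod _ _)
  · rintro ⟨a, b⟩ ⟨a', b'⟩ hab
    have h1 : (a : G) * b = a' * b' := congrArg Subtype.val hab
    have h2 : (a' : G)⁻¹ * a = b' * (b : G)⁻¹ := by
      calc (a' : G)⁻¹ * a = (a' : G)⁻¹ * (a * b) * (b : G)⁻¹ := by group
        _ = _ := by rw [h1]; group
    have h3 : (a' : G)⁻¹ * a ∈ A ⊓ B :=
      Subgroup.mem_inf.mpr ⟨A.mul_mem (A.inv_mem a'.2) a.2, h2 ▸ B.mul_mem b'.2 (B.inv_mem b.2)⟩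
    rw [hd, mem_bot, inv_mul_eq_one] at h3
    rw [← h3] at h1
    exact Prod.ext (Subtype.ext h3.symm) (Subtype.ext (mul_left_cancel h1))
  · rintro ⟨w, hw⟩
    obtain ⟨a, ha, b, hb, hab⟩ := CfsgLib.mem_sup_of_le_normalizer hn hw
    exact ⟨(⟨a, ha⟩, ⟨b, hb⟩), Subtype.ext hab⟩

/-- No group of order nine centralises an element of order eleven. -/
theorem not_nine (hG : ¬ IsMulCommutative G) {z : G} {P : Subgroup G} (hJ' : IsOfJankoFourTypeWith z P)
    (hcard : Nat.card G = orderJ4) {x : G} (hx : orderOf x = 11) :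
    ¬ 9 ∣ Nat.card ↥(centralizer ({x} : Set G)) := by
  classical
  intro h9
  haveI : Fact (Nat.Prime 3) := ⟨by norm_num⟩
  set D := centralizer ({x} : Set G) with hD
  obtain ⟨T0, hT0⟩ := Sylow.exists_subgroup_card_pow_prime (G := ↥D) 3 (n := 2) h9
  obtain ⟨y0, hy0⟩ := exists_prime_orderOf_dvd_card' (G := ↥T0) 3 (by rw [hT0]; norm_num)
  have hy : orderOf (((y0 : ↥D) : G)) = 3 := by
    rw [Subgroup.orderOf_coe, Subgroup.orderOf_coe, hy0]
  obtain ⟨k, hgen⟩ := three_into_P hG hJ' hcard hy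
  obtain ⟨c⟩ := ctx_of_type hJ'
  have hcen : ∀ w : G, w * ((y0 : ↥D) : G) = ((y0 : ↥D) : G) * w → k * w * k⁻¹ ∈ c.cen := by
    intro w hw
    have hwP : k * w * k⁻¹ ∈ centralizer (P : Set G) := mem_centralizer_iff.mpr fun q hq => by
      rw [← hgen] at hq
      obtain ⟨i, rfl⟩ := mem_zpowers_iff.mp hq
      exact (Commute.zpow_left (conj_comm hw.symm) i).eq
    exact ⟨c.norm_P hG (hinv_of_type hJ') (centralizer_le_normalizer _ hwP), hwP⟩
  haveI : IsMulCommutative ↥T0 := IsPGroup.isMulCommutative_of_card_eq_prime_sq (p := 3) hT0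
  let f : ↥T0 →* ↥c.cen :=
    { toFun := fun w => ⟨k * ((w : ↥D) : G) * k⁻¹, hcen _ (by
        have h := congrArg (fun v : ↥T0 => ((v : ↥D) : G)) (mul_comm' w y0)
        simpa using h)⟩
      map_one' := Subtype.ext (by simp)
      map_mul' := fun a b => Subtype.ext (by simp [mul_assoc]) }
  set v := c.valHom.comp f with hv
  obtain ⟨w, hw⟩ : ∃ w : ↥T0, v w ≠ 1 := by
    by_contra hall
    push Not at hall
    have hinj : Function.Injective f := fun a b hab => by
      have h : k * ((a : ↥D) : G) * k⁻¹ = k * ((b : ↥D) : G) * k⁻¹ := congrArg Subtype.val hab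
      exact Subtype.ext (Subtype.ext (mul_left_cancel (mul_right_cancel h)))
    have h1 := card_dvd_of_le (show f.range ≤ c.valHom.ker by
      rintro _ ⟨a, rfl⟩; exact MonoidHom.mem_ker.mpr (hall a))
    rw [← Nat.card_congr (MonoidHom.ofInjective hinj).toEquiv, hT0, c.card_valKer] at h1
    norm_num at h1
  have w9 : w ^ 9 = 1 := by
    have := pow_card_eq_one' (x := w)
    rwa [hT0, show 3 ^ 2 = 9 from rfl] at this
  obtain ⟨r, hr, hr3, hr1⟩ : ∃ r : ↥T0, (v r) ^ 3 = 1 ∧ v r ≠ 1 ∧ True := by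
    by_cases h3 : (v w) ^ 3 = 1
    · exact ⟨w, h3, hw, trivial⟩
    · refine ⟨w ^ 3, ?_, by rwa [map_pow], trivial⟩
      rw [map_pow, ← pow_mul, show 3 * 3 = 9 from rfl, ← map_pow, w9, map_one]
  have hxw : x * ((y0 : ↥D) : G) = ((y0 : ↥D) : G) * x := (mem_centralizer_singleton_iff.mp (y0 : ↥D).2).symm
  set x' : ↥c.cen := ⟨k * x * k⁻¹, hcen x hxw⟩ with hx'
  have hxr : x' * f r = f r * x' :=
    Subtype.ext (conj_comm (mem_centralizer_singleton_iff.mp (r : ↥D).2).symm)
  have hx11 : orderOf x' = 11 := by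
    rw [← Subgroup.orderOf_coe]; exact (orderOf_conj k x).trans hx
  have h1 : c.valHom x' = 1 := cent_three_prime hr hr3 (q := 11) (by norm_num) (by norm_num)
    (by rw [← map_pow, ← hx11, pow_orderOf_eq_one, map_one])
    (show c.valHom x' * c.valHom (f r) = c.valHom (f r) * c.valHom x' by rw [← map_mul, ← map_mul, hxr])
  have h2 : orderOf x' ∣ Nat.card c.valHom.ker := by
    rw [← Subgroup.orderOf_mk x' (MonoidHom.mem_ker.mpr h1)]
    exact orderOf_dvd_natCard _
  rw [hx11, c.card_valKer] at h2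
  norm_num at h2

theorem count_checked : ∀ i < 22, ∀ k < 3, k ≠ 0 → 2 ^ i * 11 ^ k % 31 ≠ 1 := by decide +kernel

/-- No element of order 11 centralises an element of order 31. -/
theorem eleven_thirtyone (hG : ¬ IsMulCommutative G) (hJ : IsOfJankoFourType G) (hcard : Nat.card G = orderJ4)
    {x y : G} (hx : orderOf x = 11) (hy : orderOf y = 31) (hc : x * y = y * x) : False := by
  classical
  have h := hyp_of hG hJ hcard
  have hI := inv_final h
  obtain ⟨z, P, hJ'⟩ := hJ
  haveI : Fact (Nat.Prime 31) := ⟨by norm_num⟩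
  haveI : Fact (Nat.Prime 11) := ⟨by norm_num⟩
  set D := centralizer ({x} : Set G) with hD
  have hyD : y ∈ D := mem_centralizer_singleton_iff.mpr hc.symm
  have hxD : x ∈ D := mem_centralizer_singleton_iff.mpr rfl
  have f31 : (Nat.card G).factorization 31 = 1 := by
    rw [hcard]
    exact CfsgGolay.factorization_eq (q := orderJ4 / 31) (by norm_num) (by norm_num [orderJ4]) (by norm_num [orderJ4])
  let U : Sylow 31 G := Sylow.ofCard (zpowers y) (by rw [Nat.card_zpowers, hy, f31, pow_one])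
  set C := centralizer ((zpowers y : Subgroup G) : Set G) with hC
  set N := normalizer ((zpowers y : Subgroup G) : Set G) with hN
  have hxC : x ∈ C := mem_centralizer_iff.mpr fun w hw => by
    obtain ⟨i, rfl⟩ := mem_zpowers_iff.mp hw
    exact (Commute.zpow_left hc.symm i).eq
  -- orders of C and N
  obtain ⟨hCc, hNc⟩ : Nat.card C = 341 ∧ Nat.card N = 341 * 15 := by
    obtain ⟨e, hm, hNe⟩ := hI 31 (by decide) U
    change (Nat.card C, e) ∈ [(31, 10), (341, 15)] at hm
    change Nat.card N = Nat.card C * e at hNe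
    rw [List.mem_cons, List.mem_singleton, Prod.mk.injEq, Prod.mk.injEq] at hm
    rcases hm with ⟨hd, -⟩ | ⟨hd, rfl⟩
    · exfalso
      have h11 : 11 ∣ Nat.card C := by
        rw [← hx, ← Subgroup.orderOf_mk x hxC]; exact orderOf_dvd_natCard _
      rw [hd] at h11
      norm_num at h11
    · exact ⟨hd, by rw [hNe, hd]⟩
  have hCD : C ≤ D := by
    have hle : zpowers x ⊔ zpowers y ≤ C := sup_le (zpowers_le.mpr hxC)
      (zpowers_le.mpr (mem_centralizer_iff.mpr fun w hw => by
        obtain ⟨i, rfl⟩ := mem_zpowers_iff.mp hw; exact (Commute.zpow_self y i).eq))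
    have h341 : 341 ≤ Nat.card ↥(zpowers x ⊔ zpowers y) := Nat.le_of_dvd Nat.card_pos <| by
      refine (show 341 = 11 * 31 from rfl) ▸ Nat.Coprime.mul_dvd_of_dvd_of_dvd (by norm_num) ?_ ?_
      · rw [← hx, ← Nat.card_zpowers]; exact card_dvd_of_le le_sup_left
      · rw [← hy, ← Nat.card_zpowers]; exact card_dvd_of_le le_sup_right
    rw [← eq_of_le_of_card_ge hle (by rw [hCc]; exact h341)]
    exact sup_le (zpowers_le.mpr hxD) (zpowers_le.mpr hyD)
  -- no primes 5, 7, 23, 29, 37, 43
  have hno : ∀ q ∈ [5, 7, 23, 29, 37, 43], ¬ q ∣ Nat.card D := by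
    intro q hq hqd
    haveI : Fact q.Prime := ⟨by
      simp only [List.mem_cons, List.not_mem_nil, or_false] at hq
      rcases hq with rfl | rfl | rfl | rfl | rfl | rfl <;> norm_num⟩
    obtain ⟨⟨w, hwD⟩, hw⟩ := exists_prime_orderOf_dvd_card' q hqd
    rw [← Subgroup.orderOf_coe] at hw
    change orderOf w = q at hw
    have hwx : w * x = x * w := mem_centralizer_singleton_iff.mp hwD
    simp only [List.mem_cons, List.not_mem_nil, or_false] at hq
    rcases hq with hq | hq | hq
    · exact five_seven_small hG ⟨P, hJ'⟩ hcard (Or.inr rfl) (Or.inl (hw.trans hq)) hx hwx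
    · exact five_seven_small hG ⟨P, hJ'⟩ hcard (Or.inr rfl) (Or.inr (hw.trans hq)) hx hwx
    · have hqb : q ∈ bigs := by rcases hq with rfl | rfl | rfl | rfl <;> decide
      obtain ⟨W, hW⟩ := (IsPGroup.of_card (n := 1) (by rw [Nat.card_zpowers, hw, pow_one]) :
        IsPGroup q ↥(zpowers w)).exists_le_sylow
      have hWw : (W : Subgroup G) = zpowers w := (eq_of_le_of_card_ge hW (by
        rw [card_sylow_big h hqb W, Nat.card_zpowers, hw])).symm
      have h11 : 11 ∣ Nat.card ↥(centralizer ((W : Subgroup G) : Set G)) := by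
        have hm : x ∈ centralizer ((W : Subgroup G) : Set G) := mem_centralizer_iff.mpr fun v hv => by
          rw [hWw] at hv
          obtain ⟨i, rfl⟩ := mem_zpowers_iff.mp hv
          exact (Commute.zpow_left hwx i).eq
        rw [← hx, ← Subgroup.orderOf_mk x hm]; exact orderOf_dvd_natCard _
      obtain ⟨e, hm, -⟩ := hI q hqb W
      rcases hq with rfl | rfl | rfl | rfl
      · change (_, e) ∈ [(23, 22)] at hm
        rw [List.mem_singleton, Prod.mk.injEq] at hm
        rw [hm.1] at h11; norm_num at h11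
      · change (_, e) ∈ [(29, 28)] at hm
        rw [List.mem_singleton, Prod.mk.injEq] at hm
        rw [hm.1] at h11; norm_num at h11
      · change (_, e) ∈ [(37, 12)] at hm
        rw [List.mem_singleton, Prod.mk.injEq] at hm
        rw [hm.1] at h11; norm_num at h11
      · change (_, e) ∈ [(43, 14)] at hm
        rw [List.mem_singleton, Prod.mk.injEq] at hm
        rw [hm.1] at h11; norm_num at h11
  have hDdvd : Nat.card D ∣ 2 ^ 21 * 3 ^ 3 * 11 ^ 3 * 31 := by
    have hall := card_subgroup_dvd_card D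
    rw [hcard, show orderJ4 = (2 ^ 21 * 3 ^ 3 * 11 ^ 3 * 31) * (5 * 7 * 23 * 29 * 37 * 43) by
      norm_num [orderJ4]] at hall
    refine Nat.Coprime.dvd_of_dvd_mul_right ?_ hall
    have hc' : ∀ q ∈ [5, 7, 23, 29, 37, 43], q.Prime → Nat.Coprime (Nat.card D) q := fun q hq hq' =>
      ((Nat.Prime.coprime_iff_not_dvd hq').mpr (hno q hq)).symm
    exact Nat.Coprime.mul_right (Nat.Coprime.mul_right (Nat.Coprime.mul_right (Nat.Coprime.mul_right
      (Nat.Coprime.mul_right (hc' 5 (by decide) (by norm_num)) (hc' 7 (by decide) (by norm_num)))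
      (hc' 23 (by decide) (by norm_num))) (hc' 29 (by decide) (by norm_num)))
      (hc' 37 (by decide) (by norm_num))) (hc' 43 (by decide) (by norm_num))
  have h121 : 11 ^ 2 ∣ Nat.card D := by
    obtain ⟨W, hW⟩ := (IsPGroup.of_card (n := 1) (by rw [Nat.card_zpowers, hx, pow_one]) :
      IsPGroup 11 ↥(zpowers x)).exists_le_sylow
    have hWc : Nat.card ↥(W : Subgroup G) = 11 ^ 3 := by
      rw [W.card_eq_multiplicity, hcard, CfsgGolay.factorization_eq (k := 3) (q := orderJ4 / 11 ^ 3)
        (by norm_num) (by norm_num [orderJ4]) (by norm_num [orderJ4])]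
    haveI := W.isPGroup'.isNilpotent
    have hlt : (zpowers x).subgroupOf (W : Subgroup G) < ⊤ := by
      rw [lt_top_iff_ne_top]
      intro e
      have hle : (W : Subgroup G) ≤ zpowers x := fun v hv => mem_subgroupOf.mp (e ▸ mem_top (⟨v, hv⟩ : ↥(W : Subgroup G)))
      have := Nat.le_of_dvd Nat.card_pos (card_dvd_of_le hle)
      rw [hWc, Nat.card_zpowers, hx] at this
      norm_num at this
    obtain ⟨⟨w, hwW⟩, hwn, hw0⟩ := SetLike.exists_of_lt (Group.normalizerCondition_of_isNilpotent _ hlt)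
    have hwx : w * x * w⁻¹ ∈ zpowers x :=
      mem_subgroupOf.mp ((mem_normalizer_iff.mp hwn ⟨x, hW (mem_zpowers x)⟩).mp (mem_subgroupOf.mpr (mem_zpowers x)))
    have hwN : w ∈ normalizer (zpowers x : Set G) := by
      have hle : (zpowers x).map (MulAut.conj w).toMonoidHom ≤ zpowers x := by
        rw [MonoidHom.map_zpowers, zpowers_le]; exact hwx
      have heq := eq_of_le_of_card_ge hle (by rw [card_map_of_injective (MulAut.conj w).injective])
      rw [mem_normalizer_iff]
      refine fun v => ⟨fun hv => hle ⟨v, hv, rfl⟩, fun hv => ?_⟩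
      obtain ⟨u, hu, huv⟩ := heq.symm ▸ hv
      have : u = v := by
        simpa using huv
      exact this ▸ hu
    set φ := (zpowers x).normalizerMonoidHom
    have hφ : φ ⟨w, hwN⟩ = 1 := by
      rw [← orderOf_eq_one_iff]
      have h1 : orderOf (φ ⟨w, hwN⟩) ∣ 11 ^ 3 := by
        refine orderOf_dvd_iff_pow_eq_one.mpr ?_
        rw [← map_pow, show (⟨w, hwN⟩ : ↥(normalizer (zpowers x : Set G))) ^ (11 ^ 3) = 1 from Subtype.ext (by
          show w ^ (11 ^ 3) = 1
          rw [← hWc]; exact congrArg Subtype.val (pow_card_eq_one' (x := (⟨w, hwW⟩ : ↥(W : Subgroup G))))),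
          map_one]
      have h2 := orderOf_dvd_natCard (φ ⟨w, hwN⟩)
      rw [(inferInstance : IsCyclic ↥(zpowers x)).card_mulAut, Nat.card_zpowers, hx,
        Nat.totient_prime (by norm_num)] at h2
      exact Nat.eq_one_of_dvd_coprimes (by norm_num : Nat.Coprime (11 ^ 3) 10) h1 h2
    have hwD : w ∈ D := by
      have hk : (⟨w, hwN⟩ : ↥(normalizer (zpowers x : Set G))) ∈ φ.ker := hφ
      rw [normalizerMonoidHom_ker, mem_subgroupOf] at hk
      exact mem_centralizer_singleton_iff.mpr (mem_centralizer_iff.mp hk x (mem_zpowers x)).symm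
    set Q := zpowers x ⊔ zpowers w
    have hQD : Q ≤ D := sup_le (zpowers_le.mpr hxD) (zpowers_le.mpr hwD)
    have hQW : Q ≤ (W : Subgroup G) := sup_le hW (zpowers_le.mpr hwW)
    refine dvd_trans ?_ (card_dvd_of_le hQD)
    obtain ⟨i, hi, hiQ⟩ := (Nat.dvd_prime_pow (show Nat.Prime 11 by norm_num)).mp (hWc ▸ card_dvd_of_le hQW)
    rw [hiQ]
    refine Nat.pow_dvd_pow 11 ?_
    by_contra hlt2
    have hQx : zpowers x = Q := eq_of_le_of_card_ge le_sup_left (by
      rw [hiQ, Nat.card_zpowers, hx]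
      calc 11 ^ i ≤ 11 ^ 1 := Nat.pow_le_pow_right (by norm_num) (by omega)
        _ = 11 := by norm_num)
    exact hw0 (mem_subgroupOf.mpr (hQx ▸ mem_sup_right (mem_zpowers w)))
  -- the Sylow subgroup inside D
  have hf31 : (Nat.card D).factorization 31 = 1 := by
    refine le_antisymm ?_ ((show Nat.Prime 31 by norm_num).factorization_pos_of_dvd Nat.card_pos.ne' ?_)
    · rw [← f31]
      exact ((Nat.factorization_le_iff_dvd Nat.card_pos.ne' Nat.card_pos.ne').mpr (card_subgroup_dvd_card D)) 31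
    · rw [← hy, ← Subgroup.orderOf_mk y hyD]; exact orderOf_dvd_natCard _
  let S : Sylow 31 ↥D := Sylow.ofCard (zpowers (⟨y, hyD⟩ : ↥D)) (by
    rw [Nat.card_zpowers, Subgroup.orderOf_mk, hy, hf31, pow_one])
  set NS := normalizer ((S : Subgroup ↥D) : Set ↥D) with hNS
  have hNSmap : NS.map D.subtype ≤ N := by
    rintro _ ⟨⟨n, hnD⟩, hn, rfl⟩
    refine mem_norm_of fun v hv => ?_
    have hvD : v ∈ D := (zpowers_le.mpr hyD) hv
    obtain ⟨i, rfl⟩ := mem_zpowers_iff.mp hv
    have h2 := (mem_normalizer_iff.mp hn ((⟨y, hyD⟩ : ↥D) ^ i)).mp (zpow_mem (mem_zpowers _) i)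
    obtain ⟨j, hj⟩ := mem_zpowers_iff.mp h2
    exact mem_zpowers_iff.mpr ⟨j, by simpa using congrArg Subtype.val hj⟩
  have hCNS : C ≤ NS.map D.subtype := fun v hv => ⟨⟨v, hCD hv⟩, centralizer_le_normalizer _
    (mem_centralizer_iff.mpr fun u hu => by
      obtain ⟨i, rfl⟩ := mem_zpowers_iff.mp hu
      exact Subtype.ext (by simpa using mem_centralizer_iff.mp hv (y ^ i) (zpow_mem (mem_zpowers y) i))), rfl⟩
  have hcNS : Nat.card ↥(NS.map D.subtype) = Nat.card NS := card_map_of_injective D.subtype_injective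
  obtain ⟨e, he⟩ : 341 ∣ Nat.card NS := hcNS ▸ hCc ▸ card_dvd_of_le hCNS
  have he15 : e ∣ 15 := by
    have := card_dvd_of_le hNSmap
    rw [hcNS, hNc, he] at this
    exact Nat.dvd_of_mul_dvd_mul_left (by norm_num) this
  have hidx : Nat.card D = 341 * e * NS.index := by rw [← he, NS.card_mul_index]
  have hn1 : NS.index % 31 = 1 := by
    have := card_sylow_modEq_one 31 ↥D
    rw [Nat.ModEq, S.card_eq_index_normalizer] at this
    exact this
  have he5 : ¬ 5 ∣ e := fun h5 => hno 5 (by decide) (h5.trans ⟨341 * NS.index, by rw [hidx]; ring⟩)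
  have he3 : e = 1 ∨ e = 3 := by
    have hle := Nat.le_of_dvd (by norm_num) he15
    interval_cases e <;> omega
  rcases he3 with rfl | rfl
  · -- a normal complement
    have hP : NS ≤ centralizer ((S : Subgroup ↥D) : Set ↥D) := by
      intro n hn
      have hnC : (n : G) ∈ C := by
        rw [eq_of_le_of_card_ge hCNS (by rw [hcNS, he, hCc])]
        exact ⟨n, hn, rfl⟩
      refine mem_centralizer_iff.mpr fun u hu => ?_
      obtain ⟨i, rfl⟩ := mem_zpowers_iff.mp hu
      exact Subtype.ext (by simpa using mem_centralizer_iff.mp hnC (y ^ i) (zpow_mem (mem_zpowers y) i))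
    set M := (MonoidHom.transferSylow S hP).ker with hM
    have hMS : Nat.card M * 31 = Nat.card D := by
      rw [← (MonoidHom.ker_transferSylow_isComplement' S hP).card_mul_card]
      congr 1
      show 31 = Nat.card ↥(zpowers (⟨y, hyD⟩ : ↥D))
      rw [Nat.card_zpowers, Subgroup.orderOf_mk, hy]
    obtain ⟨R⟩ : Nonempty (Sylow 11 ↥M) := inferInstance
    set R' := (R : Subgroup ↥M).map M.subtype with hR'
    have hR121 : 11 ^ 2 ∣ Nat.card R' := by
      rw [hR', card_map_of_injective M.subtype_injective]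
      exact R.pow_dvd_card_of_pow_dvd_card
        (Nat.Coprime.dvd_of_dvd_mul_right (by norm_num : Nat.Coprime (11 ^ 2) 31) (hMS ▸ h121))
    set NR := normalizer (R' : Set ↥D) with hNR
    have hsup : NR ⊔ M = ⊤ := Sylow.normalizer_sup_eq_top R
    have h31N : 31 ∣ Nat.card NR := by
      set q := (QuotientGroup.mk' M).comp NR.subtype
      have hq : Function.Surjective q := fun u => by
        obtain ⟨u, rfl⟩ := QuotientGroup.mk'_surjective M u
        have hu : u ∈ M ⊔ NR := by rw [sup_comm, hsup]; exact mem_top u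
        obtain ⟨m, hm, n, hn, rfl⟩ := CfsgLib.mem_sup_of_le_normalizer
          (le_top.trans_eq (normalizer_eq_top (H := M)).symm) hu
        exact ⟨⟨n, hn⟩, by
          show QuotientGroup.mk' M n = QuotientGroup.mk' M (m * n)
          rw [map_mul, show QuotientGroup.mk' M m = 1 from (QuotientGroup.eq_one_iff m).mpr hm, one_mul]⟩
      have h31 : M.index = 31 := Nat.eq_of_mul_eq_mul_left Nat.card_pos ((M.card_mul_index).trans hMS.symm)
      rw [← h31, Subgroup.index, ← Nat.card_congr Subgroup.topEquiv.toEquiv, ← MonoidHom.range_eq_top.mpr hq]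
      exact Subgroup.card_range_dvd q
    obtain ⟨⟨y', hy'N⟩, hy'⟩ := exists_prime_orderOf_dvd_card' 31 h31N
    rw [← Subgroup.orderOf_coe] at hy'
    change orderOf y' = 31 at hy'
    set A := R'.map D.subtype with hA
    have hy'o : orderOf (y' : G) = 31 := (Subgroup.orderOf_coe y').trans hy'
    have hy'A : zpowers (y' : G) ≤ normalizer (A : Set G) := zpowers_le.mpr <| mem_norm_of fun v hv => by
      obtain ⟨v', hv', rfl⟩ := hv
      exact ⟨y' * v' * y'⁻¹, (mem_normalizer_iff.mp hy'N v').mp hv', by simp⟩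
    have hAc : Nat.card A = Nat.card R' := card_map_of_injective D.subtype_injective
    obtain ⟨j, hj, hjA⟩ : ∃ j ≤ 3, Nat.card A = 11 ^ j := by
      have hp : IsPGroup 11 A := (R.isPGroup'.map M.subtype).map D.subtype
      obtain ⟨j, hj⟩ := IsPGroup.iff_card.mp hp
      refine ⟨j, ?_, hj⟩
      have hd := hj ▸ card_subgroup_dvd_card A
      by_contra hgt
      have h4 := (Nat.pow_dvd_pow 11 (show 4 ≤ j by omega)).trans hd
      rw [hcard] at h4
      norm_num [orderJ4] at h4
    have hdis : A ⊓ zpowers (y' : G) = ⊥ :=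
      Subgroup.inf_eq_bot_of_coprime (by
        rw [hjA, Nat.card_zpowers, hy'o]; exact Nat.Coprime.pow_left _ (by norm_num))
    have hH : Nat.card ↥(A ⊔ zpowers (y' : G)) = 31 * 11 ^ j := by
      rw [card_sup_eq hy'A hdis, hjA, Nat.card_zpowers, hy'o, mul_comm]
    have hle := le_normalizer_of (A ⊔ zpowers (y' : G)) (q := 31) (m := 11 ^ j) (by norm_num) hH
      (fun h31 => by
        have := (show Nat.Prime 31 by norm_num).dvd_of_dvd_pow h31
        norm_num at this)
      (fun k hk hk1 => by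
        obtain ⟨i, hi, rfl⟩ := (Nat.dvd_prime_pow (show Nat.Prime 11 by norm_num)).mp hk
        have : i ≤ 3 := hi.trans hj
        interval_cases i <;> first | rfl | norm_num at hk1)
      (mem_sup_right (mem_zpowers _)) hy'o
    let V : Sylow 31 G := Sylow.ofCard (zpowers (y' : G)) (by rw [Nat.card_zpowers, hy'o, f31, pow_one])
    obtain ⟨e, hm, hNe⟩ := hI 31 (by decide) V
    change (Nat.card ↥(centralizer (zpowers (y' : G) : Set G)), e) ∈ [(31, 10), (341, 15)] at hm
    change Nat.card ↥(normalizer (zpowers (y' : G) : Set G)) =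
      Nat.card ↥(centralizer (zpowers (y' : G) : Set G)) * e at hNe
    have hfin := (hAc ▸ hR121).trans (card_dvd_of_le (le_sup_left.trans hle))
    rw [hNe] at hfin
    rw [List.mem_cons, List.mem_singleton, Prod.mk.injEq, Prod.mk.injEq] at hm
    rcases hm with ⟨hd, rfl⟩ | ⟨hd, rfl⟩ <;> rw [hd] at hfin <;> norm_num at hfin
  · -- counting
    have h9 : ¬ 9 ∣ Nat.card D := not_nine hG hJ' hcard hx
    set n := NS.index with hn
    have h3n : ¬ 3 ∣ n := fun ⟨m, hm⟩ => h9 ⟨341 * m, by rw [hidx, hm]; ring⟩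
    have hnd : n ∣ 2 ^ 21 * 11 ^ 2 := by
      have h1 : 341 * 3 * n ∣ 341 * 3 * (2 ^ 21 * 3 ^ 2 * 11 ^ 2) := by
        rw [← hidx]; exact hDdvd.trans (dvd_of_eq (by norm_num))
      have h2 := Nat.dvd_of_mul_dvd_mul_left (by norm_num) h1
      rw [show 2 ^ 21 * 3 ^ 2 * 11 ^ 2 = (2 ^ 21 * 11 ^ 2) * 3 ^ 2 by ring] at h2
      exact Nat.Coprime.dvd_of_dvd_mul_right
        (Nat.Coprime.pow_right _ ((Nat.Prime.coprime_iff_not_dvd Nat.prime_three).mpr h3n).symm) h2
    obtain ⟨a, b, ha, hb, hab⟩ := Nat.dvd_mul.mp hnd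
    obtain ⟨i, hi, rfl⟩ := (Nat.dvd_prime_pow Nat.prime_two).mp ha
    obtain ⟨k, hk, rfl⟩ := (Nat.dvd_prime_pow (show Nat.Prime 11 by norm_num)).mp hb
    refine count_checked i (by omega) k (by omega) (fun hk0 => ?_) (by rw [hab]; exact hn1)
    rw [hk0, pow_zero, mul_one] at hab
    rw [hidx, ← hab, show 341 * 3 * 2 ^ i = 11 * (93 * 2 ^ i) by ring] at h121
    rw [show 11 ^ 2 = 11 * 11 from rfl] at h121
    have h4 := (Nat.Prime.dvd_mul (show Nat.Prime 11 by norm_num)).mp
      (Nat.dvd_of_mul_dvd_mul_left (by norm_num) h121)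
    rcases h4 with h4 | h4
    · norm_num at h4
    · have := (show Nat.Prime 11 by norm_num).dvd_of_dvd_pow h4
      norm_num at this

end CfsgLib.JankoFour.Big
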