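/-
General facts for the count of elements of order eleven.
-/
import Cfsg.Agent.Lib.JankoFour.BigPrimeEleven

set_option autoImplicit false
set_option linter.style.haveILetI false
set_option linter.unusedSectionVars false

namespace CfsgLib.JankoFour.Eleven

open Cfsg Subgroup
open scoped Pointwise
open CfsgLib.JankoFour.Big (orderJ4)

universe u

variable {G : Type u} [Group G] [Finite G]

/-- A group normalised by an element of prime order without fixed points has order one modulo the prime. -/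
theorem fixed_mod {p : ℕ} [Fact p.Prime] {x : G} (hx : x ^ p = 1) {R : Subgroup G}
    (hn : ∀ r ∈ R, x * r * x⁻¹ ∈ R) (hfix : ∀ r ∈ R, x * r = r * x → r = 1) : Nat.card R % p = 1 := by
  have h := Ctx.fixed_count hx R (mem_norm_of hn)
  have e : R ⊓ centralizer ({x} : Set G) = ⊥ := (eq_bot_iff).mpr fun r hr =>
    mem_bot.mpr (hfix r hr.1 (mem_centralizer_singleton_iff.mp hr.2).symm)
  rw [e, card_bot, Nat.ModEq] at h
  rw [h, Nat.one_mod_eq_one]
  exact (Fact.out : p.Prime).ne_one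

/-- An element of prime order normalising a group of order prime to it normalises a Sylow subgroup of it. -/
theorem exists_inv_sylow {p r : ℕ} [Fact p.Prime] [Fact r.Prime] {x : G} (hx : x ^ p = 1) {M : Subgroup G}
    (hn : ∀ m ∈ M, x * m * x⁻¹ ∈ M) (hp : ¬ p ∣ Nat.card M) :
    ∃ R ≤ M, (∀ a ∈ R, x * a * x⁻¹ ∈ R) ∧ Nat.card R = r ^ (Nat.card M).factorization r := by
  classical
  have hxN : x ∈ normalizer (M : Set G) := mem_norm_of hn
  let σ : MulAut ↥M := M.normalizerMonoidHom ⟨x, hxN⟩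
  have hσ : σ ^ p = 1 := by
    rw [← map_pow, show (⟨x, hxN⟩ : ↥(normalizer (M : Set G))) ^ p = 1 from Subtype.ext hx, map_one]
  have hval : ∀ m : ↥M, ((σ m : ↥M) : G) = x * m * x⁻¹ := fun m => rfl
  have hgrp : IsPGroup p ↥(zpowers σ) := by
    rintro ⟨g, hg⟩
    obtain ⟨i, rfl⟩ := mem_zpowers_iff.mp hg
    refine ⟨1, Subtype.ext ?_⟩
    simp only [coe_pow, OneMemClass.coe_one, pow_one]
    rw [← zpow_natCast, ← zpow_mul, mul_comm, zpow_mul, zpow_natCast, hσ, one_zpow]
  have hnd : ¬ p ∣ Nat.card (Sylow r ↥M) := by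
    intro h
    obtain ⟨S⟩ : Nonempty (Sylow r ↥M) := inferInstance
    exact hp (h.trans (S.card_dvd_index.trans (index_dvd_card (S : Subgroup ↥M))))
  haveI : Finite (Sylow r ↥M) := inferInstance
  obtain ⟨S, hS⟩ := hgrp.nonempty_fixed_point_of_prime_not_dvd_card (Sylow r ↥M) hnd
  have hfix : σ • S = S := hS ⟨σ, mem_zpowers σ⟩
  refine ⟨(S : Subgroup ↥M).map M.subtype, map_subtype_le _, ?_, ?_⟩
  · rintro _ ⟨m, hm, rfl⟩
    refine ⟨σ m, ?_, hval m⟩
    have h1 : σ • m ∈ (σ • (S : Subgroup ↥M)) := Subgroup.smul_mem_pointwise_smul m σ _ hm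
    rw [← Sylow.pointwise_smul_def, hfix] at h1
    exact h1
  · rw [card_map_of_injective M.subtype_injective]
    exact S.card_eq_multiplicity

/-- An element of prime order fixes a point in an invariant coset of a group of order prime to it. -/
theorem coset_fixed {p : ℕ} [Fact p.Prime] {h u : G} {X : Subgroup G} (hh : h ^ p = 1)
    (hX : ∀ x ∈ X, h * x * h⁻¹ ∈ X) (hu : ∃ x ∈ X, h * u * h⁻¹ = u * x) (hp : ¬ p ∣ Nat.card X) :
    ∃ x ∈ X, h * (u * x) = u * x * h := by
  classical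
  haveI : Fintype ↥X := Fintype.ofFinite _
  obtain ⟨x0, hx0, he⟩ := hu
  have hmem : ∀ x : ↥X, u⁻¹ * h * u * x * h⁻¹ ∈ X := fun x => by
    rw [show u⁻¹ * h * u * (x : G) * h⁻¹ = u⁻¹ * (h * u * h⁻¹) * (h * x * h⁻¹) by group, he, inv_mul_cancel_left]
    exact mul_mem hx0 (hX x x.2)
  let f : ↥X → ↥X := fun x => ⟨_, hmem x⟩
  have hfi : Function.Injective f := fun a b hab => by
    have h' := congrArg Subtype.val hab
    simp only [f, mul_left_inj, mul_right_inj] at h'
    exact Subtype.ext h'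
  let σ : Equiv.Perm ↥X := Equiv.ofBijective f (Finite.injective_iff_bijective.mp hfi)
  have hpow : ∀ (n : ℕ) (x : ↥X), ((σ ^ n) x : G) = u⁻¹ * h ^ n * u * x * (h ^ n)⁻¹ := by
    intro n
    induction n with
    | zero => intro x; simp
    | succ n ih =>
      intro x
      rw [pow_succ', Equiv.Perm.mul_apply]
      show u⁻¹ * h * u * ((σ ^ n) x : G) * h⁻¹ = _
      rw [ih x, pow_succ']
      group
  have hσ : σ ^ p ^ 1 = 1 := Equiv.ext fun x => Subtype.ext (by rw [pow_one, hpow, hh]; simp)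
  obtain ⟨x, hx⟩ := Equiv.Perm.exists_fixed_point_of_prime (by rwa [← Nat.card_eq_fintype_card]) hσ
  refine ⟨x, x.2, ?_⟩
  have h' : u⁻¹ * h * u * (x : G) * h⁻¹ = x := congrArg Subtype.val hx
  calc h * (u * x) = u * (u⁻¹ * h * u * x * h⁻¹) * h := by group
    _ = u * x * h := by rw [h']

/-- Two subgroups meet in at least the product of their orders over the order of the group. -/
theorem inf_card_ge (A B : Subgroup G) : Nat.card A * Nat.card B ≤ Nat.card ↥(A ⊓ B) * Nat.card G := by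
  have h := Subgroup.index_inf_le (H := A) (K := B)
  have h1 := (A ⊓ B).card_mul_index
  have hA := A.card_mul_index
  have hB := B.card_mul_index
  have h2 : Nat.card G ≤ Nat.card ↥(A ⊓ B) * (A.index * B.index) := h1.symm.trans_le (Nat.mul_le_mul_left _ h)
  have hpos : 0 < A.index * B.index :=
    Nat.mul_pos (Nat.pos_of_ne_zero index_ne_zero_of_finite) (Nat.pos_of_ne_zero index_ne_zero_of_finite)
  refine Nat.le_of_mul_le_mul_right ?_ hpos
  calc Nat.card A * Nat.card B * (A.index * B.index) = (Nat.card A * A.index) * (Nat.card B * B.index) := by ring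
    _ = Nat.card G * Nat.card G := by rw [hA, hB]
    _ ≤ Nat.card ↥(A ⊓ B) * (A.index * B.index) * Nat.card G := Nat.mul_le_mul_right _ h2
    _ = _ := by ring

theorem fac_eleven (hcard : Nat.card G = orderJ4) : (Nat.card G).factorization 11 = 3 := by
  rw [hcard]
  exact CfsgGolay.factorization_eq (q := orderJ4 / 11 ^ 3) (by norm_num) (by norm_num [orderJ4]) (by norm_num [orderJ4])

theorem card_sylow_eleven (hcard : Nat.card G = orderJ4) [Fact (Nat.Prime 11)] (U : Sylow 11 G) :
    Nat.card ↥(U : Subgroup G) = 1331 := by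
  rw [U.card_eq_multiplicity, fac_eleven hcard]; norm_num

theorem cent_121 (hcard : Nat.card G = orderJ4) {x : G} (hx : orderOf x = 11) :
    121 ∣ Nat.card ↥(centralizer ({x} : Set G)) := by
  classical
  haveI : Fact (Nat.Prime 11) := ⟨by norm_num⟩
  obtain ⟨W, hW⟩ := (IsPGroup.of_card (n := 1) (by rw [Nat.card_zpowers, hx, pow_one]) :
    IsPGroup 11 ↥(zpowers x)).exists_le_sylow
  have hWc := card_sylow_eleven hcard W
  haveI : Nontrivial ↥(W : Subgroup G) := Finite.one_lt_card_iff_nontrivial.mp (by rw [hWc]; norm_num)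
  set Z := (center ↥(W : Subgroup G)).map (W : Subgroup G).subtype with hZ
  have hcomm : ∀ v ∈ Z, ∀ w ∈ (W : Subgroup G), w * v = v * w := by
    rintro _ ⟨v, hv, rfl⟩ w hw
    exact congrArg Subtype.val (mem_center_iff.mp hv ⟨w, hw⟩)
  have hZ1 : 1 < Nat.card Z := by
    rw [hZ, card_map_of_injective (W : Subgroup G).subtype_injective]
    haveI := W.isPGroup'.center_nontrivial
    exact Finite.one_lt_card
  have hxW : x ∈ (W : Subgroup G) := hW (mem_zpowers x)
  set D := centralizer ({x} : Set G) with hD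
  have hle : zpowers x ⊔ Z ≤ (W : Subgroup G) ⊓ D := sup_le
    (zpowers_le.mpr ⟨hxW, mem_centralizer_singleton_iff.mpr rfl⟩)
    fun v hv => ⟨(map_subtype_le _) hv, mem_centralizer_singleton_iff.mpr (hcomm v hv x hxW).symm⟩
  obtain ⟨i, hi, hc⟩ := (Nat.dvd_prime_pow (show Nat.Prime 11 by norm_num)).mp
    (show Nat.card ↥((W : Subgroup G) ⊓ D) ∣ 11 ^ 3 by
      rw [show 11 ^ 3 = 1331 by norm_num, ← hWc]; exact card_dvd_of_le inf_le_left)
  have h2 : 2 ≤ i := by
    by_contra hlt
    have hxD : zpowers x = (W : Subgroup G) ⊓ D := eq_of_le_of_card_ge (le_sup_left.trans hle) (by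
      rw [hc, Nat.card_zpowers, hx]
      calc 11 ^ i ≤ 11 ^ 1 := Nat.pow_le_pow_right (by norm_num) (by omega)
        _ = 11 := by norm_num)
    have hZx : Z ≤ zpowers x := hxD ▸ le_sup_right.trans hle
    have hZe : Z = zpowers x := eq_of_le_of_card_ge hZx (by
      have hd := card_dvd_of_le hZx
      rw [Nat.card_zpowers, hx] at hd ⊢
      rcases (Nat.dvd_prime (show Nat.Prime 11 by norm_num)).mp hd with h | h <;> omega)
    -- then x is central, so all of W centralises it
    have hWD : (W : Subgroup G) ⊓ D = (W : Subgroup G) := inf_eq_left.mpr fun w hw =>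
      mem_centralizer_singleton_iff.mpr (hcomm x (hZe ▸ mem_zpowers x) w hw)
    rw [hWD, hWc] at hc
    have : 11 ^ i ≤ 11 ^ 1 := Nat.pow_le_pow_right (by norm_num) (by omega)
    omega
  exact (show 121 ∣ Nat.card ↥((W : Subgroup G) ⊓ D) by
    rw [hc, show 121 = 11 ^ 2 by norm_num]; exact Nat.pow_dvd_pow 11 h2).trans (card_dvd_of_le inf_le_right)

section

variable [IsSimpleGroup G]

/-- The order of the centraliser of an element of order eleven. -/
theorem cent_shape (hG : ¬ IsMulCommutative G) {z : G} {P : Subgroup G} (hJ' : IsOfJankoFourTypeWith z P)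
    (hcard : Nat.card G = orderJ4) {x : G} (hx : orderOf x = 11) :
    ∃ a b d : ℕ, a ≤ 21 ∧ b ≤ 1 ∧ 2 ≤ d ∧ d ≤ 3 ∧
      Nat.card ↥(centralizer ({x} : Set G)) = 2 ^ a * 3 ^ b * 11 ^ d := by
  classical
  have hJ : IsOfJankoFourType G := ⟨z, P, hJ'⟩
  haveI : Fact (Nat.Prime 23) := ⟨by norm_num⟩
  haveI : Fact (Nat.Prime 29) := ⟨by norm_num⟩
  haveI : Fact (Nat.Prime 31) := ⟨by norm_num⟩
  haveI : Fact (Nat.Prime 37) := ⟨by norm_num⟩
  haveI : Fact (Nat.Prime 43) := ⟨by norm_num⟩
  obtain ⟨s23, s29, s31, s37, s43⟩ := Big.sylow_big (Big.hyp_of hG hJ hcard)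
    fun a b ha hb hc => Big.eleven_thirtyone hG hJ hcard ha hb hc
  set D := centralizer ({x} : Set G) with hD
  have hxc : ∀ {w}, w ∈ D → w * x = x * w := fun hw => mem_centralizer_singleton_iff.mp hw
  have hno : ∀ q ∈ [5, 7, 23, 29, 31, 37, 43], ¬ q ∣ Nat.card D := by
    intro q hq hqd
    simp only [List.mem_cons, List.not_mem_nil, or_false] at hq
    haveI : Fact q.Prime := ⟨by rcases hq with rfl | rfl | rfl | rfl | rfl | rfl | rfl <;> norm_num⟩
    obtain ⟨⟨w, hwD⟩, hw⟩ := exists_prime_orderOf_dvd_card' q hqd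
    rw [Subgroup.orderOf_mk] at hw
    rcases hq with rfl | rfl | hq
    · exact Big.five_seven_small hG ⟨P, hJ'⟩ hcard (Or.inr rfl) (Or.inl hw) hx (hxc hwD)
    · exact Big.five_seven_small hG ⟨P, hJ'⟩ hcard (Or.inr rfl) (Or.inr hw) hx (hxc hwD)
    obtain ⟨W, hW⟩ := (IsPGroup.of_card (n := 1) (by rw [Nat.card_zpowers, hw, pow_one]) :
      IsPGroup q ↥(zpowers w)).exists_le_sylow
    have hqb : q ∈ Big.bigs := by rcases hq with rfl | rfl | rfl | rfl | rfl <;> decide
    have hWw : (W : Subgroup G) = zpowers w := (eq_of_le_of_card_ge hW (by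
      rw [Big.card_sylow_big (Big.hyp_of hG hJ hcard) hqb W, Nat.card_zpowers, hw])).symm
    have hxm : x ∈ centralizer ((W : Subgroup G) : Set G) := mem_centralizer_iff.mpr fun v hv => by
      rw [hWw] at hv
      obtain ⟨i, rfl⟩ := mem_zpowers_iff.mp hv
      exact ((show Commute w x from hxc hwD).zpow_left i).eq
    have hc : centralizer ((W : Subgroup G) : Set G) = (W : Subgroup G) := by
      rcases hq with rfl | rfl | rfl | rfl | rfl
      exacts [(s23 W).1, (s29 W).1, (s31 W).1, (s37 W).1, (s43 W).1]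
    rw [hc] at hxm
    have h11 : 11 ∣ q := by
      rw [← Big.card_sylow_big (Big.hyp_of hG hJ hcard) hqb W, ← hx, ← Subgroup.orderOf_mk x hxm]
      exact orderOf_dvd_natCard _
    rcases hq with rfl | rfl | rfl | rfl | rfl <;> norm_num at h11
  have hdvd : Nat.card D ∣ 2 ^ 21 * 3 ^ 3 * 11 ^ 3 := by
    have hall := card_subgroup_dvd_card D
    rw [hcard, show orderJ4 = (2 ^ 21 * 3 ^ 3 * 11 ^ 3) * (5 * 7 * 23 * 29 * 31 * 37 * 43) by
      norm_num [orderJ4]] at hall
    refine Nat.Coprime.dvd_of_dvd_mul_right ?_ hall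
    have hc' : ∀ q ∈ [5, 7, 23, 29, 31, 37, 43], q.Prime → Nat.Coprime (Nat.card D) q := fun q hq hq' =>
      ((Nat.Prime.coprime_iff_not_dvd hq').mpr (hno q hq)).symm
    exact Nat.Coprime.mul_right (Nat.Coprime.mul_right (Nat.Coprime.mul_right (Nat.Coprime.mul_right
      (Nat.Coprime.mul_right (Nat.Coprime.mul_right (hc' 5 (by decide) (by norm_num)) (hc' 7 (by decide) (by norm_num)))
      (hc' 23 (by decide) (by norm_num))) (hc' 29 (by decide) (by norm_num))) (hc' 31 (by decide) (by norm_num)))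
      (hc' 37 (by decide) (by norm_num))) (hc' 43 (by decide) (by norm_num))
  obtain ⟨m, e, hm, he, hme⟩ := Nat.dvd_mul.mp hdvd
  obtain ⟨a', b', ha', hb', rfl⟩ := Nat.dvd_mul.mp hm
  obtain ⟨a, ha, rfl⟩ := (Nat.dvd_prime_pow Nat.prime_two).mp ha'
  obtain ⟨b, hb, rfl⟩ := (Nat.dvd_prime_pow Nat.prime_three).mp hb'
  obtain ⟨d, hd, rfl⟩ := (Nat.dvd_prime_pow (show Nat.Prime 11 by norm_num)).mp he
  refine ⟨a, b, d, ha, ?_, ?_, hd, hme.symm⟩
  · by_contra hb1
    exact Big.not_nine hG hJ' hcard hx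
      (hme ▸ Dvd.dvd.mul_right (Dvd.dvd.mul_left (show 3 ^ 2 ∣ 3 ^ b from Nat.pow_dvd_pow 3 (by omega)) _) _)
  · by_contra hd2
    have h121 := cent_121 hcard hx
    rw [← hD, ← hme] at h121
    have hc : Nat.Coprime 121 (2 ^ a * 3 ^ b) :=
      Nat.Coprime.mul_right (Nat.Coprime.pow_right _ (by norm_num)) (Nat.Coprime.pow_right _ (by norm_num))
    have := Nat.le_of_dvd (by positivity) (hc.dvd_of_dvd_mul_left h121)
    interval_cases d <;> norm_num at this

end

end CfsgLib.JankoFour.Eleven
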