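/-
Elements of order eleven in M24 and in the automorphism group of M22.
-/
import Cfsg.Agent.Lib.JankoFour.BigPrimeSmall
import Cfsg.Agent.Lib.JankoFour.SevenModel
import Cfsg.Agent.Lib.JankoFour.PairStab
import Cfsg.Agent.Lib.Golay.L223

set_option autoImplicit false
set_option linter.style.haveILetI false

namespace CfsgLib.JankoFour.Eleven

open Cfsg Subgroup CfsgGolay
open scoped Pointwise

attribute [local irreducible] codeL octadL dodecadL slpCodes

/-- No involution of M24 commutes with an element of order eleven. -/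
theorem m24_eleven_invol {g i : Equiv.Perm GolayPt} (hg : g ∈ M24) (hi : i ∈ M24) (ho : orderOf g = 11)
    (hi2 : orderOf i = 2) (hc : g * i = i * g) : False := by
  obtain ⟨k, hk, e⟩ := class_two hi hi2
  have key : ∀ r : Equiv.Perm GolayPt, k * i * k⁻¹ = r → ¬ 11 ∣ Nat.card ↥(centM r) → False := by
    intro r hr h11
    refine h11 ?_
    have hmem : k * g * k⁻¹ ∈ centM r := mem_centM.mpr ⟨mul_mem (mul_mem hk hg) (inv_mem hk), by
      rw [← hr]; exact Big.conj_comm hc⟩
    rw [← ho, ← Big.orderOf_conj k g, ← Subgroup.orderOf_mk _ hmem]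
    exact orderOf_dvd_natCard _
  rcases e with e | e
  · exact key _ e (by rw [card_cent_2A]; norm_num)
  · exact key _ e (by rw [card_cent_2B]; norm_num)

/-- In the automorphism group of M22 an element of order eleven commutes only with its powers. -/
theorem aut_cent_eleven {σ : MulAut ↥Spor.M22} (hσ : orderOf σ = 11) :
    Nat.card ↥(centralizer ({σ} : Set (MulAut ↥Spor.M22))) = 11 := by
  classical
  haveI : Finite (MulAut ↥Spor.M22) := Nat.finite_of_card_ne_zero (by rw [Big.card_aut_m22]; norm_num)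
  set C := centralizer ({σ} : Set (MulAut ↥Spor.M22)) with hC
  have hσC : σ ∈ C := mem_centralizer_singleton_iff.mpr rfl
  have h11 : 11 ∣ Nat.card C := by
    rw [← hσ, ← Subgroup.orderOf_mk σ hσC]; exact orderOf_dvd_natCard _
  have hidx : (MulAut.conj (G := ↥Spor.M22)).range.index = 2 := CfsgGolay.OutSmall.out_M22
  haveI := Subgroup.normal_of_index_eq_two hidx
  -- elements of odd order are inner
  have hinner : ∀ τ : MulAut ↥Spor.M22, Odd (orderOf τ) → ∃ m, MulAut.conj m = τ := by
    intro τ hτ
    by_contra hne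
    have hn : τ ∉ (MulAut.conj (G := ↥Spor.M22)).range := fun ⟨m, hm⟩ => hne ⟨m, hm⟩
    obtain ⟨j, hj⟩ := hτ
    have h2 : τ * τ ∈ (MulAut.conj (G := ↥Spor.M22)).range := by
      rw [Subgroup.mul_mem_iff_of_index_two hidx]
    have h3 : τ ^ (2 * j + 1) ∈ (MulAut.conj (G := ↥Spor.M22)).range := by
      rw [← hj, pow_orderOf_eq_one]; exact one_mem _
    rw [pow_succ, pow_mul, sq, Subgroup.mul_mem_iff_of_index_two hidx] at h3
    exact hn (h3.mp (pow_mem h2 j))
  obtain ⟨g, hg⟩ := hinner σ (by rw [hσ]; decide)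
  have hg11 : g ^ 11 = 1 := conj_m22_injective (by rw [map_pow, hg, ← hσ, pow_orderOf_eq_one, map_one])
  have hg1 : g ≠ 1 := fun h => by
    rw [h, map_one] at hg
    rw [← hg, orderOf_one] at hσ
    norm_num at hσ
  have hprime : ∀ r, r.Prime → r ≠ 11 → ¬ r ∣ Nat.card C := by
    intro r hr hr11 hrd
    haveI := Fact.mk hr
    obtain ⟨⟨τ, hτC⟩, hτ⟩ := exists_prime_orderOf_dvd_card' r hrd
    rw [Subgroup.orderOf_mk] at hτ
    have hc : τ * σ = σ * τ := mem_centralizer_singleton_iff.mp hτC
    rcases hr.eq_two_or_odd' with rfl | hodd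
    · obtain ⟨e⟩ := pair_stab_aut (show (none : GolayPt) ≠ pt 0 by decide)
      refine m24_eleven_invol (g := (e.symm σ : Equiv.Perm GolayPt)) (i := (e.symm τ : Equiv.Perm GolayPt))
        (mem_stabM.mp (e.symm σ).2).1 (mem_stabM.mp (e.symm τ).2).1 ?_ ?_ ?_
      · rw [Subgroup.orderOf_coe, e.symm.orderOf_eq, hσ]
      · rw [Subgroup.orderOf_coe, e.symm.orderOf_eq, hτ]
      · rw [← Subgroup.coe_mul, ← Subgroup.coe_mul, ← map_mul, ← map_mul, hc]
    · obtain ⟨m, hm⟩ := hinner τ (hτ ▸ hodd)
      have hmg : m * g = g * m := conj_m22_injective (by rw [map_mul, map_mul, hm, hg, hc])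
      have hmC : m ∈ centralizer (zpowers g : Set ↥Spor.M22) := mem_centralizer_iff.mpr fun v hv => by
        obtain ⟨i, rfl⟩ := mem_zpowers_iff.mp hv
        exact ((show Commute g m from hmg.symm).zpow_left i).eq
      have hd : r ∣ 11 := by
        rw [← hτ, ← hm, orderOf_injective _ conj_m22_injective, ← (eleven_local hg11 hg1).1,
          ← Subgroup.orderOf_mk m hmC]
        exact orderOf_dvd_natCard _
      exact hr11 ((Nat.prime_dvd_prime_iff_eq hr (by norm_num)).mp hd)
  have hdvd := card_subgroup_dvd_card C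
  rw [Big.card_aut_m22, show 887040 = 11 * (2 ^ 8 * 3 ^ 2 * 5 * 7) by norm_num] at hdvd
  have hc : ∀ r, r.Prime → r ≠ 11 → Nat.Coprime (Nat.card C) r := fun r hr hr11 =>
    ((Nat.Prime.coprime_iff_not_dvd hr).mpr (hprime r hr hr11)).symm
  have hle : Nat.card C ∣ 11 := Nat.Coprime.dvd_of_dvd_mul_right
    (Nat.Coprime.mul_right (Nat.Coprime.mul_right (Nat.Coprime.mul_right
      (Nat.Coprime.pow_right _ (hc 2 (by norm_num) (by norm_num)))
      (Nat.Coprime.pow_right _ (hc 3 (by norm_num) (by norm_num))))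
      (hc 5 (by norm_num) (by norm_num))) (hc 7 (by norm_num) (by norm_num))) hdvd
  exact Nat.dvd_antisymm hle h11

/-- No element of order eleven of M24 normalises a subgroup of order 2^10. -/
theorem m24_no_two_ten {R : Subgroup (Equiv.Perm GolayPt)} (hR : R ≤ M24) (hc : Nat.card R = 2 ^ 10)
    {x : Equiv.Perm GolayPt} (hx : x ∈ M24) (ho : orderOf x = 11) (hn : ∀ r ∈ R, x * r * x⁻¹ ∈ R) : False := by
  classical
  haveI : Fact (Nat.Prime 11) := ⟨by norm_num⟩
  have h11 : (11 : ℕ).Prime := by norm_num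
  have hxN : x ∈ normalizer (R : Set (Equiv.Perm GolayPt)) := mem_norm_of hn
  have hfx := CfsgL223.fix_eleven hx ho
  let orb : GolayPt → Finset GolayPt := fun p => Finset.univ.filter fun y => ∃ r ∈ R, r p = y
  have hmem : ∀ {p y}, y ∈ orb p ↔ ∃ r ∈ R, r p = y := by simp [orb]
  have hsame : ∀ {p y}, y ∈ orb p → orb y = orb p := by
    intro p y hy
    obtain ⟨r, hr, rfl⟩ := hmem.mp hy
    ext w
    rw [hmem, hmem]
    exact ⟨fun ⟨s, hs, e⟩ => ⟨s * r, mul_mem hs hr, e⟩, fun ⟨s, hs, e⟩ => ⟨s * r⁻¹, mul_mem hs (inv_mem hr), by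
      rw [Equiv.Perm.mul_apply, Equiv.Perm.coe_inv, Equiv.symm_apply_apply]; exact e⟩⟩
  have hmove : ∀ {g : Equiv.Perm GolayPt}, g ∈ normalizer (R : Set (Equiv.Perm GolayPt)) → ∀ p,
      (orb p).image g = orb (g p) := by
    intro g hg p
    ext w
    rw [Finset.mem_image, hmem]
    constructor
    · rintro ⟨y, hy, rfl⟩
      obtain ⟨r, hr, rfl⟩ := hmem.mp hy
      exact ⟨g * r * g⁻¹, (mem_normalizer_iff.mp hg r).mp hr, by
        simp [Equiv.Perm.mul_apply]⟩
    · rintro ⟨r, hr, rfl⟩
      exact ⟨(g⁻¹ * r * g) p, hmem.mpr ⟨_, (mem_normalizer_iff''.mp hg r).mp hr, rfl⟩, by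
        simp [Equiv.Perm.mul_apply]⟩
  -- orbits have at most two points
  have htwo : ∀ p, (orb p).card ≤ 2 := by
    intro p
    have hdvd : (orb p).card ∣ 2 ^ 10 := by
      have h := MulAction.card_orbit_mul_card_stabilizer_eq_card_group R p
      rw [← Nat.card_eq_fintype_card, ← Nat.card_eq_fintype_card, ← Nat.card_eq_fintype_card, hc] at h
      have e : Nat.card (MulAction.orbit R p) = (orb p).card := by
        rw [← Nat.card_eq_finsetCard]
        refine Nat.card_congr (Equiv.subtypeEquivRight fun y => ?_)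
        rw [hmem]
        exact ⟨fun ⟨r, hr⟩ => ⟨r, r.2, hr⟩, fun ⟨r, hr, e⟩ => ⟨⟨r, hr⟩, e⟩⟩
      exact ⟨_, (e ▸ h).symm⟩
    obtain ⟨a, -, ha⟩ := (Nat.dvd_prime_pow Nat.prime_two).mp hdvd
    have h24 : (orb p).card ≤ 24 := (Finset.card_le_univ _).trans_eq rfl
    by_cases hinv : x p ∈ orb p
    · have hS : ∀ y ∈ orb p, x y ∈ orb p := fun y hy => by
        rw [← hsame hinv, ← hmove hxN p]
        exact Finset.mem_image_of_mem x hy
      have hm := fix_count x (orb p) hS h11 (by rw [← ho]; exact pow_orderOf_eq_one x)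
      set f := ((orb p).filter fun y => x y = y).card
      have hf : f ≤ 2 := hfx ▸ Finset.card_le_card fun y hy => mem_fixF.mpr (Finset.mem_filter.mp hy).2
      rw [Nat.ModEq, ha] at hm
      have ha4 : a ≤ 4 := by
        by_contra hgt
        have := Nat.pow_le_pow_right (show 1 ≤ 2 by norm_num) (show 5 ≤ a by omega)
        omega
      rw [ha]
      interval_cases a <;> omega
    · -- the eleven translates are disjoint
      have hdis : ∀ i < 11, ∀ j < 11, i ≠ j → Disjoint ((orb p).image (x ^ i : Equiv.Perm GolayPt))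
          ((orb p).image (x ^ j : Equiv.Perm GolayPt)) := by
        intro i hi j hj hij
        rw [hmove (pow_mem hxN i), hmove (pow_mem hxN j), Finset.disjoint_left]
        intro w hwi hwj
        apply hinv
        have he : orb ((x ^ i : Equiv.Perm GolayPt) p) = orb ((x ^ j : Equiv.Perm GolayPt) p) :=
          (hsame hwi).symm.trans (hsame hwj)
        -- stabiliser of the orbit in the cyclic group
        let St : Subgroup (Equiv.Perm GolayPt) := MulAction.stabilizer _ (orb p)
        have hst : ∀ {g : Equiv.Perm GolayPt}, g ∈ St ↔ (orb p).image g = orb p := Iff.rfl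
        set y : Equiv.Perm GolayPt := (x ^ j)⁻¹ * x ^ i with hy
        have hySt : y ∈ St := hst.mpr (by
          rw [hy, Equiv.Perm.coe_mul, ← Finset.image_image, hmove (pow_mem hxN i), he, ← hmove (pow_mem hxN j),
            Finset.image_image, ← Equiv.Perm.coe_mul, inv_mul_cancel, Equiv.Perm.coe_one, Finset.image_id])
        have hy1 : y ≠ 1 := by
          rw [hy, ne_eq, inv_mul_eq_one]
          intro h
          rw [pow_eq_pow_iff_modEq, ho, Nat.ModEq, Nat.mod_eq_of_lt hi, Nat.mod_eq_of_lt hj] at h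
          exact hij h.symm
        have hyx : y ∈ zpowers x := mul_mem (inv_mem (pow_mem (mem_zpowers x) j)) (pow_mem (mem_zpowers x) i)
        have hx11 : Nat.card (zpowers x) = 11 := by rw [Nat.card_zpowers, ho]
        have hgen : zpowers y = zpowers x := eq_of_le_of_card_ge (zpowers_le.mpr hyx) (by
          rw [hx11]
          have hd := card_dvd_of_le (zpowers_le.mpr hyx)
          rw [hx11] at hd
          rcases (Nat.dvd_prime h11).mp hd with h | h
          · exact absurd (zpowers_eq_bot.mp (eq_bot_of_card_eq _ h)) hy1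
          · rw [h])
        have hxSt : x ∈ St := (zpowers_le.mpr hySt) (hgen ▸ mem_zpowers x)
        rw [← hst.mp hxSt]
        exact Finset.mem_image_of_mem x (hmem.mpr ⟨1, one_mem _, rfl⟩)
      have hsum : 11 * (orb p).card ≤ 24 := by
        have h := Finset.card_biUnion (s := Finset.range 11)
          (t := fun i => (orb p).image (x ^ i : Equiv.Perm GolayPt))
          (fun i hi j hj hij => hdis i (Finset.mem_range.mp hi) j (Finset.mem_range.mp hj) hij)
        have h' : ((Finset.range 11).biUnion fun i => (orb p).image (x ^ i : Equiv.Perm GolayPt)).card ≤ 24 :=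
          (Finset.card_le_univ _).trans_eq rfl
        rw [h] at h'
        simp only [Finset.card_image_of_injective _ (Equiv.injective _), Finset.sum_const, Finset.card_range,
          smul_eq_mul] at h'
        exact h'
      omega
  -- so R has exponent two
  have hother : ∀ {p a b : GolayPt}, a ∈ orb p → b ∈ orb p → a ≠ p → b ≠ p → a = b := by
    intro p a b ha hb hap hbp
    by_contra hab
    have hp : p ∈ orb p := hmem.mpr ⟨1, one_mem _, rfl⟩
    have : ({p, a, b} : Finset GolayPt).card ≤ 2 := (Finset.card_le_card (by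
      simp [Finset.insert_subset_iff, hp, ha, hb])).trans (htwo p)
    rw [Finset.card_eq_three.mpr ⟨p, a, b, Ne.symm hap, Ne.symm hbp, hab, rfl⟩] at this
    omega
  have hsq : ∀ g ∈ R, g * g = 1 := by
    intro g hg
    refine Equiv.ext fun p => ?_
    show g (g p) = p
    by_cases h1 : g p = p
    · rw [h1, h1]
    by_contra h2
    have := hother (hmem.mpr ⟨g * g, mul_mem hg hg, rfl⟩) (hmem.mpr ⟨g, hg, rfl⟩) h2 h1
    exact h1 (g.injective this)
  let f : R → (Fin 9 → Bool) := fun g i => decide ((g : Equiv.Perm GolayPt) (pt i) = pt i)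
  have hinj : Function.Injective f := by
    intro a b hab
    by_contra hne
    have hfix : ∀ i : Fin 9, (a : Equiv.Perm GolayPt) (pt i) = (b : Equiv.Perm GolayPt) (pt i) := by
      intro i
      have h := congrFun hab i
      simp only [f, decide_eq_decide] at h
      by_cases ha : (a : Equiv.Perm GolayPt) (pt i) = pt i
      · rw [ha, h.mp ha]
      · exact hother (hmem.mpr ⟨_, a.2, rfl⟩) (hmem.mpr ⟨_, b.2, rfl⟩) ha fun hb => ha (h.mpr hb)
    set k : R := b⁻¹ * a with hk
    have hk1 : (k : Equiv.Perm GolayPt) ≠ 1 := fun e => hne (inv_mul_eq_one.mp (Subtype.ext e)).symm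
    have hsub : (Finset.univ : Finset (Fin 9)).image (fun i : Fin 9 => pt i) ⊆ fixF (k : Equiv.Perm GolayPt) := by
      intro p hp
      obtain ⟨i, -, rfl⟩ := Finset.mem_image.mp hp
      rw [mem_fixF, hk, Subgroup.coe_mul, Subgroup.coe_inv, Equiv.Perm.mul_apply, hfix i,
        Equiv.Perm.coe_inv, Equiv.symm_apply_apply]
    have h9 := Finset.card_le_card hsub
    rw [Finset.card_image_of_injective _ (by decide +kernel), Finset.card_univ, Fintype.card_fin] at h9
    rcases invol_fix_card (hR k.2) (hsq _ k.2) hk1 with h | h <;> omega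
  have hle := Nat.card_le_card_of_injective f hinj
  rw [hc, Nat.card_eq_fintype_card, Fintype.card_fun, Fintype.card_bool, Fintype.card_fin] at hle
  norm_num at hle

end CfsgLib.JankoFour.Eleven
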