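/-
The centraliser in H of an element of order eleven centralising P.
-/
import Cfsg.Agent.Lib.JankoFour.ElevenGen
import Cfsg.Agent.Lib.JankoFour.ElevenModel
import Cfsg.Agent.Lib.JankoFour.CenCenter
import Cfsg.Agent.Lib.BinaryOctahedralTame

set_option autoImplicit false
set_option linter.style.haveILetI false
set_option linter.unusedSectionVars false

namespace CfsgLib.JankoFour.Eleven

open Cfsg Subgroup

universe u

variable {G : Type u} [Group G] [Finite G] {z : G} {P E : Subgroup G}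

/-- The action of H on M22 with kernel N. -/
theorem exists_phi (hJ : IsOfJankoFourTypeWith z P) (c : Ctx z P (twoCoreOfCentralizer z)) :
    ∃ φ : ↥(centralizer ({z} : Set G)) →* MulAut ↥Spor.M22, ∀ h, φ h = 1 ↔ (h : G) ∈ c.N := by
  classical
  obtain ⟨-, -, -, -, ⟨N', hE', hN'H, -, hN', ⟨hn, ⟨iso⟩⟩, hP'⟩, -, -, -, -⟩ := hJ
  have hcN : c.N ≤ N' := fun n hn => by
    obtain ⟨e, he, p, hp, rfl⟩ := c.N_decomp hn
    exact mul_mem (hE' he) (hP' hp)
  have heq : c.N = N' := eq_of_le_of_card_ge hcN (by rw [hN', c.hE, c.hN])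
  refine ⟨iso.toMonoidHom.comp (QuotientGroup.mk' (N'.subgroupOf _)), fun h => ?_⟩
  rw [heq]
  show iso (QuotientGroup.mk' (N'.subgroupOf _) h) = 1 ↔ _
  rw [EmbeddingLike.map_eq_one_iff]
  exact (QuotientGroup.eq_one_iff h).trans mem_subgroupOf

theorem exists_inner (c : Ctx z P E) : ∃ x ∈ c.cen, orderOf x = 11 := by
  haveI : Fact (Nat.Prime 11) := ⟨by norm_num⟩
  obtain ⟨⟨x, hx⟩, ho⟩ := exists_prime_orderOf_dvd_card' (G := c.cen) 11 (by rw [c.card_cen]; norm_num)
  exact ⟨x, hx, by rw [← ho, Subgroup.orderOf_mk]⟩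

theorem not_mem_N (c : Ctx z P E) {x : G} (hx : orderOf x = 11) : x ∉ c.N := fun h => by
  have hd : orderOf x ∣ Nat.card c.N := by rw [← Subgroup.orderOf_mk x h]; exact orderOf_dvd_natCard _
  rw [hx, c.hN] at hd
  norm_num at hd

/-- The fixed points in E. -/
def fixE (_c : Ctx z P E) (x : G) : Subgroup G := E ⊓ centralizer ({x} : Set G)

theorem mem_fixE {c : Ctx z P E} {x e : G} : e ∈ fixE c x ↔ e ∈ E ∧ e * x = x * e :=
  ⟨fun h => ⟨h.1, mem_centralizer_singleton_iff.mp h.2⟩, fun h => ⟨h.1, mem_centralizer_singleton_iff.mpr h.2⟩⟩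

theorem pow_two_checked : ∀ j < 14, 2 ^ j % 11 = 8 → j = 3 ∨ j = 13 := by decide

/-- An x-invariant subgroup of E containing its fixed points has order eight or is all of E. -/
theorem inv_in_E (c : Ctx z P E) {x : G} (hx : orderOf x = 11) (hxc : x ∈ c.cen) {K : Subgroup G} (hK : K ≤ E)
    (hKx : ∀ k ∈ K, x * k * x⁻¹ ∈ K) (hfix : fixE c x ≤ K) : Nat.card K = 8 ∨ K = E := by
  haveI : Fact (Nat.Prime 11) := ⟨by norm_num⟩
  have hx11 : x ^ 11 = 1 := by rw [← hx, pow_orderOf_eq_one]
  have e1 := Ctx.fixed_count hx11 K (mem_norm_of hKx)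
  have e2 := Ctx.fixed_count hx11 E (mem_norm_of fun e he => c.conj_E hxc.1 he)
  have e : K ⊓ centralizer ({x} : Set G) = fixE c x :=
    le_antisymm (inf_le_inf_right _ hK) fun v hv => ⟨hfix hv, hv.2⟩
  rw [e] at e1
  obtain ⟨j, hj, hjc⟩ := (Nat.dvd_prime_pow Nat.prime_two).mp (c.hE ▸ card_dvd_of_le hK)
  have h8 : 2 ^ j % 11 = 8 := by
    have := e1.trans e2.symm
    rw [hjc, c.hE, Nat.ModEq] at this
    rw [this]; rfl
  rcases pow_two_checked j (by omega) h8 with rfl | rfl
  · exact Or.inl hjc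
  · exact Or.inr (eq_of_le_of_card_ge hK (by rw [hjc, c.hE]))

theorem card_fixE (c : Ctx z P E) {x : G} (hx : orderOf x = 11) (hxc : x ∈ c.cen) : Nat.card (fixE c x) = 8 := by
  refine (inv_in_E c hx hxc (K := fixE c x) inf_le_left (fun k hk => ?_) le_rfl).resolve_right fun h => ?_
  · rw [show x * k * x⁻¹ = k by rw [← (mem_fixE.mp hk).2, mul_inv_cancel_right]]; exact hk
  · have hE : x ∈ E := c.cent _ hxc.1 fun e he => (mem_fixE.mp (show e ∈ fixE c x by rw [h]; exact he)).2
    exact not_mem_N c hx (c.EN hE)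

theorem z_mem_fixE (c : Ctx z P E) {x : G} (hxc : x ∈ c.cen) : z ∈ fixE c x :=
  mem_fixE.mpr ⟨c.zE, (mem_centralizer_singleton_iff.mp hxc.1).symm⟩

theorem P_conj_fixE (c : Ctx z P E) {x : G} (hxc : x ∈ c.cen) {p e : G} (hp : p ∈ P) (he : e ∈ fixE c x) :
    p * e * p⁻¹ ∈ fixE c x := by
  obtain ⟨heE, hc⟩ := mem_fixE.mp he
  have hpx : Commute p x := (c.cen_comm hxc hp).symm
  refine mem_fixE.mpr ⟨c.conj_E (c.P_le hp) heE, ?_⟩
  exact ((hpx.mul_left (show Commute e x from hc)).mul_left hpx.inv_left).eq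

theorem fixE_nonabelian (c : Ctx z P E) {x : G} (hx : orderOf x = 11) (hxc : x ∈ c.cen) :
    ∃ a ∈ fixE c x, ∃ b ∈ fixE c x, a * b ≠ b * a := by
  classical
  obtain ⟨a, ha, haz⟩ : ∃ a ∈ fixE c x, a ∉ zpowers z := by
    by_contra hall
    push Not at hall
    have := card_dvd_of_le (show fixE c x ≤ zpowers z from hall)
    rw [card_fixE c hx hxc, c.card_Z] at this
    norm_num at this
  by_contra hab
  push Not at hab
  obtain ⟨haE, hax⟩ := mem_fixE.mp ha
  have hK := inv_in_E c hx hxc (K := E ⊓ centralizer ({a} : Set G)) inf_le_left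
    (fun k hk => ⟨c.conj_E hxc.1 hk.1, by
      refine mem_centralizer_singleton_iff.mpr ?_
      have hxa : Commute x a := hax.symm
      exact ((hxa.mul_left (show Commute k a from mem_centralizer_singleton_iff.mp hk.2)).mul_left hxa.inv_left).eq⟩)
    (fun v hv => ⟨(mem_fixE.mp hv).1, mem_centralizer_singleton_iff.mpr (hab v hv a ha)⟩)
  rcases hK with h8 | hKE
  · -- the centraliser of a in E has index at most two
    let f : ↥E →* ↥(zpowers z) := MonoidHom.mk' (fun e => ⟨(e : G) * a * (e : G)⁻¹ * a⁻¹, c.comm_mem_Z e.2 haE⟩)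
      fun e e' => Subtype.ext (by
        show (e : G) * e' * a * ((e : G) * e')⁻¹ * a⁻¹ = (e : G) * a * (e : G)⁻¹ * a⁻¹ * ((e' : G) * a * (e' : G)⁻¹ * a⁻¹)
        calc (e : G) * e' * a * ((e : G) * e')⁻¹ * a⁻¹
            = (e : G) * ((e' : G) * a * (e' : G)⁻¹ * a⁻¹) * (a * (e : G)⁻¹ * a⁻¹) := by group
          _ = ((e' : G) * a * (e' : G)⁻¹ * a⁻¹) * ((e : G) * (a * (e : G)⁻¹ * a⁻¹)) := by
            rw [c.Z_comm (c.Ez e.2) (c.comm_mem_Z e'.2 haE)]; group
          _ = (e : G) * a * (e : G)⁻¹ * a⁻¹ * ((e' : G) * a * (e' : G)⁻¹ * a⁻¹) := by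
            rw [c.Z_comm (mul_mem (mul_mem (mul_mem (c.Ez e.2) (c.Ez haE)) (inv_mem (c.Ez e.2))) (inv_mem (c.Ez haE)))
              (c.comm_mem_Z e'.2 haE)]
            group)
    have hker : f.ker.map E.subtype ≤ E ⊓ centralizer ({a} : Set G) := by
      rintro _ ⟨e, he, rfl⟩
      refine ⟨e.2, mem_centralizer_singleton_iff.mpr ?_⟩
      have h1 : (e : G) * a * (e : G)⁻¹ * a⁻¹ = 1 := congrArg Subtype.val (MonoidHom.mem_ker.mp he)
      rw [mul_inv_eq_one, mul_inv_eq_iff_eq_mul] at h1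
      exact h1
    have h1 := Nat.le_of_dvd Nat.card_pos (card_dvd_of_le hker)
    rw [card_map_of_injective E.subtype_injective, h8] at h1
    have h2 := f.ker.card_mul_index
    rw [index_ker, c.hE] at h2
    have h3 := Nat.le_of_dvd Nat.card_pos (card_subgroup_dvd_card f.range)
    rw [c.card_Z] at h3
    have : Nat.card f.ker * Nat.card f.range ≤ 8 * 2 := Nat.mul_le_mul h1 h3
    omega
  · obtain ⟨hz, hext⟩ := c.extE
    have hcen : (⟨a, haE⟩ : ↥E) ∈ center ↥E := Subgroup.mem_center_iff.mpr fun e => Subtype.ext (by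
      have := (hKE.symm ▸ e.2 : (e : G) ∈ E ⊓ centralizer ({a} : Set G))
      exact mem_centralizer_singleton_iff.mp this.2)
    exact haz (c.center_E.mp hcen)

theorem fixE_invol (c : Ctx z P E) {x : G} (hx : orderOf x = 11) (hxc : x ∈ c.cen) {e : G} (he : e ∈ fixE c x)
    (h2 : e * e = 1) : e ∈ zpowers z := by
  classical
  by_contra hez
  obtain ⟨p, hp, -, hgen⟩ := c.exists_gen
  have hsm : ∀ {t}, t ∈ zpowers z → Commute t e := fun ht => (c.Z_comm (c.Ez (mem_fixE.mp he).1) ht).symm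
  set e' := p * e * p⁻¹ with he'
  have he'Q := P_conj_fixE c hxc hp he
  have h2' : e' * e' = 1 := by rw [he', show p * e * p⁻¹ * (p * e * p⁻¹) = p * (e * e) * p⁻¹ by group, h2]; group
  have hconjZ : ∀ t ∈ zpowers z, p * t * p⁻¹ = t := fun t ht => c.Z_conj (c.P_le hp) ht
  have hp3 : p * p * p = 1 := c.P_cube hp
  -- e' is not in e Z
  have hne : ∀ t ∈ zpowers z, e' ≠ e * t := by
    intro t ht h
    have h1 : p * e' * p⁻¹ = e * (t * t) := by
      rw [h, show p * (e * t) * p⁻¹ = p * e * p⁻¹ * (p * t * p⁻¹) by group, ← he', h, hconjZ t ht, mul_assoc]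
    have h1' : p * p * e * (p * p)⁻¹ = e := by
      rw [c.Z_sq ht, mul_one] at h1
      calc p * p * e * (p * p)⁻¹ = p * (p * e * p⁻¹) * p⁻¹ := by group
        _ = e := h1
    have hf : e' = e := by
      have : p * (p * p * e * (p * p)⁻¹) * p⁻¹ = e := by
        rw [show p * (p * p * e * (p * p)⁻¹) * p⁻¹ = p * p * p * e * (p * p * p)⁻¹ by group, hp3]; group
      rw [h1', ← he'] at this
      exact this
    refine hez (c.fpf e (mem_fixE.mp he).1 fun q hq => ?_)
    rw [hgen] at hq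
    obtain ⟨i, rfl⟩ := mem_zpowers_iff.mp hq
    exact ((show Commute p e from mul_inv_eq_iff_eq_mul.mp hf).zpow_left i).eq
  set B := zpowers z ⊔ zpowers e with hB
  have hez2 : zpowers z ⊓ zpowers e = ⊥ := by
    rw [eq_bot_iff]
    intro v hv
    rcases Ctx.mem_zpowers_two h2 hv.2 with h | h
    · exact h.symm ▸ one_mem _
    · exact absurd (h ▸ hv.1) hez
  have hmemB : ∀ {v}, v ∈ B → v ∈ zpowers z ∨ ∃ t ∈ zpowers z, v = e * t := by
    intro v hv
    obtain ⟨t, ht, w, hw, rfl⟩ := CfsgLib.mem_sup_of_le_normalizer (fun w hw => mem_norm_of fun t ht => by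
      rcases Ctx.mem_zpowers_two h2 hw with rfl | rfl
      · simpa using ht
      · rw [← (hsm ht).eq, mul_inv_cancel_right]; exact ht) hv
    rcases Ctx.mem_zpowers_two h2 hw with rfl | rfl
    · exact Or.inl (by rwa [mul_one])
    · exact Or.inr ⟨t, ht, (hsm ht).eq⟩
  have he'Z : e' ∉ zpowers z := fun h => hez (by
    have h1 : p⁻¹ * e' * p = e := by rw [he']; group
    have h4 := c.Z_conj (inv_mem (c.P_le hp)) h
    rw [inv_inv, h1] at h4
    exact h4 ▸ h)
  have he'B : e' ∉ B := fun h => by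
    rcases hmemB h with h' | ⟨t, ht, h'⟩
    exacts [he'Z h', hne t ht h']
  have hBQ : B ≤ fixE c x := sup_le (zpowers_le.mpr (z_mem_fixE c hxc)) (zpowers_le.mpr he)
  have hB4 : Nat.card B = 4 := by
    have h8 := card_dvd_of_le hBQ
    rw [card_fixE c hx hxc] at h8
    have hlt : Nat.card B < 8 := by
      by_contra hge
      exact he'B (eq_of_le_of_card_ge hBQ (by rw [card_fixE c hx hxc]; omega) ▸ he'Q)
    have hgt : 2 < Nat.card B := by
      by_contra hle
      exact hez (eq_of_le_of_card_ge (le_sup_left : zpowers z ≤ B) (by rw [c.card_Z]; exact Nat.le_of_not_lt hle) ▸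
        mem_sup_right (mem_zpowers e))
    obtain ⟨j, hj, hjc⟩ := (Nat.dvd_prime_pow Nat.prime_two).mp (show Nat.card B ∣ 2 ^ 3 from h8)
    interval_cases j <;> omega
  by_cases hcomm : e * e' = e' * e
  · -- then everything commutes
    set S : Set G := {z, e, e'} with hS
    have hcl : closure S = fixE c x := by
      refine eq_of_le_of_card_ge ((closure_le _).mpr ?_) ?_
      · simp only [hS, Set.insert_subset_iff, Set.singleton_subset_iff, SetLike.mem_coe]
        exact ⟨z_mem_fixE c hxc, he, he'Q⟩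
      · rw [card_fixE c hx hxc]
        have hle : B ≤ closure S := sup_le (zpowers_le.mpr (subset_closure (by simp [hS])))
          (zpowers_le.mpr (subset_closure (by simp [hS])))
        have hd := card_dvd_of_le hle
        obtain ⟨k, hk⟩ := hd
        have hk1 : k ≠ 1 := fun h => he'B ((eq_of_le_of_card_ge hle (by rw [hk, h, mul_one])) ▸
          subset_closure (by simp [hS]))
        have hk0 : k ≠ 0 := fun h => by rw [h, mul_zero] at hk; exact Nat.card_pos.ne' hk
        rw [hk, hB4]; omega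
    obtain ⟨a, ha, b, hb, hab⟩ := fixE_nonabelian c hx hxc
    refine hab ?_
    rw [← hcl] at ha hb
    have hz' := fun {v} (hv : v ∈ E) => (c.Z_comm (c.Ez hv) (mem_zpowers z))
    have hpair : ∀ u ∈ S, ∀ w ∈ S, u * w = w * u := by
      simp only [hS, Set.mem_insert_iff, Set.mem_singleton_iff]
      rintro u (rfl | rfl | rfl) w (rfl | rfl | rfl) <;>
        first
          | rfl
          | exact hz' (mem_fixE.mp he).1
          | exact (hz' (mem_fixE.mp he).1).symm
          | exact hz' (mem_fixE.mp he'Q).1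
          | exact (hz' (mem_fixE.mp he'Q).1).symm
          | exact hcomm
          | exact hcomm.symm
    haveI := Subgroup.isMulCommutative_closure hpair
    exact congrArg Subtype.val (mul_comm' (⟨a, ha⟩ : ↥(closure S)) ⟨b, hb⟩)
  · -- the third conjugate is the product, of order four
    set e'' := p * e' * p⁻¹ with he''
    have he''Q := P_conj_fixE c hxc hp he'Q
    have h2'' : e'' * e'' = 1 := by
      rw [he'', show p * e' * p⁻¹ * (p * e' * p⁻¹) = p * (e' * e') * p⁻¹ by group, h2']; group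
    have hback : p * e'' * p⁻¹ = e := by
      rw [he'', he', show p * (p * (p * e * p⁻¹) * p⁻¹) * p⁻¹ = p * p * p * e * (p * p * p)⁻¹ by group, hp3]; group
    have he''B : e'' ∉ B := fun h => by
      rcases hmemB h with h' | ⟨t, ht, h'⟩
      · exact hez (by rw [← hback, c.Z_conj (c.P_le hp) h']; exact h')
      · have : e = e' * t := by
          rw [← hback, h', show p * (e * t) * p⁻¹ = p * e * p⁻¹ * (p * t * p⁻¹) by group, hconjZ t ht]
        exact hne t ht (by rw [this, mul_assoc, c.Z_sq ht, mul_one])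
    have hidx : (B.subgroupOf (fixE c x)).index = 2 := by
      have h := (B.subgroupOf (fixE c x)).card_mul_index
      rw [Nat.card_congr (subgroupOfEquivOfLe hBQ).toEquiv, card_fixE c hx hxc, hB4] at h
      omega
    have hmem : (⟨e', he'Q⟩ : ↥(fixE c x)) * ⟨e'', he''Q⟩ ∈ B.subgroupOf (fixE c x) :=
      (Subgroup.mul_mem_iff_of_index_two hidx).mpr (iff_of_false he'B he''B)
    rcases hmemB (mem_subgroupOf.mp hmem) with h | ⟨t, ht, h⟩
    · have h' : e' * e'' ∈ zpowers z := h
      have e3 : e'' = e' * (e' * e'') := by rw [← mul_assoc, h2', one_mul]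
      have : e' = e * (e' * e'') := by
        calc e' = p⁻¹ * e'' * p := by rw [he'']; group
          _ = p⁻¹ * (e' * (e' * e'')) * p := by rw [← e3]
          _ = p⁻¹ * e' * p * (p⁻¹ * (e' * e'') * p) := by group
          _ = e * (e' * e'') := by
            have h5 := c.Z_conj (inv_mem (c.P_le hp)) h'
            rw [inv_inv] at h5
            rw [h5, he']; group
      exact hne _ h' this
    · have h' : e' * e'' = e * t := h
      have e4 : e'' = e' * e * t := by rw [mul_assoc, ← h', ← mul_assoc, h2', one_mul]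
      refine hcomm ?_
      have h5 : e' * e * (e' * e) = 1 := by
        have ht' : Commute t (e' * e) := Commute.mul_right (show Commute t e' from (c.Z_comm (c.Ez (mem_fixE.mp he'Q).1) ht).symm) (hsm ht)
        rw [e4] at h2''
        calc e' * e * (e' * e) = e' * e * (e' * e) * (t * t) := by rw [c.Z_sq ht, mul_one]
          _ = e' * e * t * (e' * e * t) := by rw [mul_assoc (e' * e) t, ← mul_assoc t, ht'.eq]; group
          _ = 1 := h2''
      rw [eq_comm]
      calc e' * e = (e' * e)⁻¹ := eq_inv_of_mul_eq_one_left h5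
        _ = e * e' := by rw [mul_inv_rev, inv_eq_of_mul_eq_one_right h2, inv_eq_of_mul_eq_one_right h2']

/-- H meets the centraliser in a group of order 264. -/
theorem card_centH {P : Subgroup G} (c : Ctx z P (twoCoreOfCentralizer z)) [IsSimpleGroup G]
    (hJ : IsOfJankoFourTypeWith z P) {x : G} (hx : orderOf x = 11) (hxc : x ∈ c.cen) :
    Nat.card ↥(fixE c x ⊔ P) = 24 ∧
      Nat.card ↥(centralizer ({z} : Set G) ⊓ centralizer ({x} : Set G)) = 264 ∧
      fixE c x ⊔ P ⊔ zpowers x = centralizer ({z} : Set G) ⊓ centralizer ({x} : Set G) := by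
  classical
  have hxP : ∀ p ∈ P, p * x = x * p := fun p hp => (c.cen_comm hxc hp).symm
  have hPn : P ≤ normalizer (fixE c x : Set G) := fun p hp => mem_norm_of fun e he => P_conj_fixE c hxc hp he
  have h24 : Nat.card ↥(fixE c x ⊔ P) = 24 := by
    rw [Big.card_sup_eq hPn (Subgroup.inf_eq_bot_of_coprime (by rw [card_fixE c hx hxc, c.hP]; norm_num)),
      card_fixE c hx hxc, c.hP]
  set H := centralizer ({z} : Set G) with hH
  set D := H ⊓ centralizer ({x} : Set G) with hD
  have hxH : x ∈ H := hxc.1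
  have hS : fixE c x ⊔ P ≤ D := sup_le (inf_le_inf_right _ c.Ez) fun p hp =>
    ⟨c.P_le hp, mem_centralizer_singleton_iff.mpr (hxP p hp)⟩
  have hxD : x ∈ D := ⟨hxH, mem_centralizer_singleton_iff.mpr rfl⟩
  have hle : fixE c x ⊔ P ⊔ zpowers x ≤ D := sup_le hS (zpowers_le.mpr hxD)
  obtain ⟨φ, hφ⟩ := exists_phi hJ c
  let f : ↥D →* MulAut ↥Spor.M22 := φ.comp (inclusion inf_le_left)
  have hker : f.ker = (fixE c x ⊔ P).subgroupOf D := by
    ext d
    rw [MonoidHom.mem_ker, mem_subgroupOf]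
    show φ _ = 1 ↔ _
    rw [hφ]
    constructor
    · intro hd
      obtain ⟨e, he, p, hp, hep⟩ := c.N_decomp hd
      have hdx : (d : G) * x = x * d := mem_centralizer_singleton_iff.mp d.2.2
      rw [show (d : G) = e * p from hep]
      refine mul_mem (mem_sup_left (mem_fixE.mpr ⟨he, ?_⟩)) (mem_sup_right hp)
      have hec : e = (d : G) * p⁻¹ := by rw [show (d : G) = e * p from hep, mul_inv_cancel_right]
      rw [hec]
      exact ((show Commute (d : G) x from hdx).mul_left (show Commute p x from hxP p hp).inv_left).eq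
    · intro hd
      exact sup_le (inf_le_left.trans c.EN) c.PN hd
  have hσ : orderOf (φ ⟨x, hxH⟩) = 11 := by
    haveI : Fact (Nat.Prime 11) := ⟨by norm_num⟩
    refine orderOf_eq_prime ?_ fun h => not_mem_N c hx ((hφ _).mp h)
    rw [← map_pow, show (⟨x, hxH⟩ : ↥H) ^ 11 = 1 from Subtype.ext (by
      show x ^ 11 = 1
      rw [← hx, pow_orderOf_eq_one]), map_one]
  haveI : Finite (MulAut ↥Spor.M22) := Nat.finite_of_card_ne_zero (by rw [Big.card_aut_m22]; norm_num)
  have hrange : Nat.card f.range = 11 := by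
    refine Nat.dvd_antisymm ?_ ?_
    · rw [← aut_cent_eleven hσ]
      refine card_dvd_of_le ?_
      rintro _ ⟨d, rfl⟩
      refine mem_centralizer_singleton_iff.mpr ?_
      show φ _ * φ _ = φ _ * φ _
      rw [← map_mul, ← map_mul]
      exact congrArg φ (Subtype.ext (mem_centralizer_singleton_iff.mp d.2.2))
    · rw [← hσ, ← Subgroup.orderOf_mk (φ ⟨x, hxH⟩) (show φ ⟨x, hxH⟩ ∈ f.range from ⟨⟨x, hxD⟩, rfl⟩)]
      exact orderOf_dvd_natCard _
  have hDc : Nat.card D = 264 := by
    have h := f.ker.card_mul_index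
    rw [index_ker, hrange, hker, Nat.card_congr (subgroupOfEquivOfLe hS).toEquiv, h24] at h
    omega
  refine ⟨h24, hDc, eq_of_le_of_card_ge hle ?_⟩
  rw [hDc]
  refine Nat.le_of_dvd Nat.card_pos ?_
  rw [show 264 = 24 * 11 by norm_num]
  refine Nat.Coprime.mul_dvd_of_dvd_of_dvd (by norm_num) (h24 ▸ card_dvd_of_le le_sup_left) ?_
  rw [← hx, ← Nat.card_zpowers]
  exact card_dvd_of_le le_sup_right

/-- No element of H inverting x centralises P. -/
theorem no_inverter (c : Ctx z P E) {x h : G} (hx : orderOf x = 11) (hxc : x ∈ c.cen) (hh : h ∈ c.cen)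
    (hinv : h * x * h⁻¹ = x⁻¹) : False := by
  classical
  set m := c.valHom ⟨h, hh⟩ with hm
  set g := c.valHom ⟨x, hxc⟩ with hg
  have hg1 : g ≠ 1 := fun e => by
    have h1 := MonoidHom.mem_ker.mpr e
    have h2 : orderOf (⟨x, hxc⟩ : ↥c.cen) ∣ Nat.card c.valHom.ker := by
      rw [← Subgroup.orderOf_mk _ h1]; exact orderOf_dvd_natCard _
    rw [Subgroup.orderOf_mk, hx, c.card_valKer] at h2
    norm_num at h2
  have hg11 : g ^ 11 = 1 := by
    rw [hg, ← map_pow, show (⟨x, hxc⟩ : ↥c.cen) ^ 11 = 1 from Subtype.ext (by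
      show x ^ 11 = 1
      rw [← hx, pow_orderOf_eq_one]), map_one]
  have hmg : m * g * m⁻¹ = g⁻¹ := by
    rw [hm, hg, ← map_inv, ← map_mul, ← map_mul, ← map_inv]
    exact congrArg c.valHom (Subtype.ext hinv)
  have hodd : ∀ k : ℕ, Odd k → m ^ k * g * (m ^ k)⁻¹ = g⁻¹ := by
    rintro k ⟨j, rfl⟩
    induction j with
    | zero => simpa using hmg
    | succ j ih =>
      have h1 : m * g⁻¹ * m⁻¹ = g := by rw [← conj_inv, hmg, inv_inv]
      rw [show 2 * (j + 1) + 1 = (2 * j + 1) + 1 + 1 by ring, pow_succ', pow_succ']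
      calc m * (m * m ^ (2 * j + 1)) * g * (m * (m * m ^ (2 * j + 1)))⁻¹
          = m * (m * (m ^ (2 * j + 1) * g * (m ^ (2 * j + 1))⁻¹) * m⁻¹) * m⁻¹ := by group
        _ = g⁻¹ := by rw [ih, h1, hmg]
  have hmN : m ∈ normalizer (zpowers g : Set MTwoTwo) := mem_norm_of fun v hv => by
    obtain ⟨i, rfl⟩ := mem_zpowers_iff.mp hv
    rw [← conj_zpow, hmg]
    exact zpow_mem (inv_mem (mem_zpowers g)) i
  have h55 : m ^ 55 = 1 := by
    have h0 := pow_card_eq_one' (x := (⟨m, hmN⟩ : ↥(normalizer (zpowers g : Set MTwoTwo))))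
    rw [(eleven_local hg11 hg1).2] at h0
    exact congrArg Subtype.val h0
  have := hodd 55 (by decide)
  rw [h55, one_mul, inv_one, mul_one] at this
  have hgg : g ^ 2 = 1 := by rw [sq]; nth_rw 2 [this]; exact mul_inv_cancel g
  have hd := Nat.dvd_gcd (orderOf_dvd_of_pow_eq_one hg11) (orderOf_dvd_of_pow_eq_one hgg)
  rw [show Nat.gcd 11 2 = 1 from rfl, Nat.dvd_one, orderOf_eq_one_iff] at hd
  exact hg1 hd

/-- The group of order 24 is SL(2,3). -/
theorem exists_sl {P : Subgroup G} (c : Ctx z P E) [IsSimpleGroup G] {x : G} (hx : orderOf x = 11) (hxc : x ∈ c.cen) :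
    ∃ θ : CfsgLib.QuatSection.SL23 →* G, Function.Injective θ ∧ θ.range = fixE c x ⊔ P := by
  classical
  set Q := fixE c x with hQ
  set S := Q ⊔ P with hS
  obtain ⟨p, hp, p1, -⟩ := c.exists_gen
  have hpo : orderOf p = 3 := orderOf_eq_prime (hp := ⟨Nat.prime_three⟩) (by
    rw [pow_succ, sq]; exact c.P_cube hp) p1
  have hQp : IsPGroup 2 Q := IsPGroup.of_card (n := 3) (card_fixE c hx hxc)
  have hu : CfsgLib.Frob.UniqSub 2 ↥Q := by
    intro X Y hX hY
    have key : ∀ W : Subgroup ↥Q, Nat.card W = 2 → W.map Q.subtype = zpowers z := by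
      intro W hW
      refine eq_of_le_of_card_ge ?_ (by rw [c.card_Z, card_map_of_injective Q.subtype_injective, hW])
      rintro _ ⟨w, hw, rfl⟩
      refine fixE_invol c hx hxc w.2 ?_
      have h0 := pow_card_eq_one' (x := (⟨w, hw⟩ : ↥W))
      rw [hW, sq] at h0
      exact congrArg (fun v : ↥W => ((v : ↥Q) : G)) h0
    exact map_injective Q.subtype_injective ((key X hX).trans (key Y hY).symm)
  have hpN : p ∈ normalizer (Q : Set G) := mem_norm_of fun e he => P_conj_fixE c hxc hp he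
  have hpC : p ∉ centralizer (Q : Set G) := by
    intro h
    obtain ⟨a, ha, b, hb, hab⟩ := fixE_nonabelian c hx hxc
    obtain ⟨p', hp', -, hgen⟩ := c.exists_gen
    have hgen' : P = zpowers p := (eq_of_le_of_card_ge (zpowers_le.mpr hp) (by
      rw [Nat.card_zpowers, hpo, c.hP])).symm
    have hz : ∀ v ∈ Q, v ∈ zpowers z := fun v hv => c.fpf v (mem_fixE.mp hv).1 fun q hq => by
      rw [hgen'] at hq
      obtain ⟨i, rfl⟩ := mem_zpowers_iff.mp hq
      exact ((show Commute p v from (mem_centralizer_iff.mp h v hv).symm).zpow_left i).eq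
    exact hab (c.Z_comm (c.Ez (mem_fixE.mp ha).1) (hz b hb))
  obtain ⟨e⟩ := CfsgLib.QuatSection.q8_of_moved hQp hu hpN hpC (by rw [hpo]; decide)
  obtain ⟨φ, hφi, hφr, hφp⟩ := CfsgLib.QuatSection.exists_param e hpN hpC (by rw [hpo]; decide)
  let φ' : QuaternionGroup 2 →* ↥S := φ.codRestrict S fun q => mem_sup_left (hφr ▸ ⟨q, rfl⟩)
  obtain ⟨θ, hθ⟩ := CfsgLib.DihedralCore.exists_sl23 (φ := φ') (fun a b h => hφi (congrArg Subtype.val h))
    (g := (⟨p, mem_sup_right hp⟩ : ↥S)) (Subtype.ext (by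
      show p ^ 3 = 1
      rw [← hpo, pow_orderOf_eq_one])) fun q => Subtype.ext (hφp q)
  have hinj : Function.Injective (S.subtype.comp θ) := fun a b h => hθ (Subtype.ext h)
  refine ⟨S.subtype.comp θ, hinj, ?_⟩
  have hPn : P ≤ normalizer (Q : Set G) := fun q hq => mem_norm_of fun v hv => P_conj_fixE c hxc hq hv
  have hc24 : Nat.card ↥S = 24 := by
    rw [hS, Big.card_sup_eq hPn (Subgroup.inf_eq_bot_of_coprime (by rw [hQ, card_fixE c hx hxc, c.hP]; norm_num)),
      hQ, card_fixE c hx hxc, c.hP]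
  have hcr : Nat.card ↥(S.subtype.comp θ).range = 24 :=
    (Nat.card_congr (MonoidHom.ofInjective hinj).toEquiv).symm.trans (by
      rw [← Nat.card_congr (Equiv.ofBijective _ CfsgLib.QuatSection.slMap_bijective), Nat.card_prod,
        Nat.card_eq_fintype_card, QuaternionGroup.card, Nat.card_zmod])
  exact eq_of_le_of_card_ge (by rintro _ ⟨s, rfl⟩; exact (θ s).2) (hc24.le.trans hcr.ge)

end CfsgLib.JankoFour.Eleven
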