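/-
The centraliser of an element of order eleven centralising P.
-/
import Cfsg.Agent.Lib.JankoFour.ElevenInner

set_option autoImplicit false
set_option linter.style.haveILetI false
set_option linter.unusedSectionVars false

namespace CfsgLib.JankoFour.Eleven

open Cfsg Subgroup
open CfsgLib.JankoFour.Big (orderJ4)

universe u

variable {G : Type u} [Group G] [Finite G]

/-- What the centraliser of x looks like. -/
structure Central (z x : G) (R : Subgroup G) : Prop where
  card : Nat.card R = 1331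
  le : R ≤ centralizer ({x} : Set G)
  norm : centralizer ({x} : Set G) ≤ normalizer (R : Set G)
  cardC : Nat.card ↥(centralizer ({x} : Set G)) = 31944
  fix : ∀ r ∈ R, r * z = z * r → r ∈ zpowers x
  inv : ∀ r ∈ R, r * (z * r * z) ∈ zpowers x
  all : ∀ w : G, w * x = x * w → w ^ 1331 = 1 → w ∈ R

/-- An involution fixing only a central subgroup of odd order inverts the quotient. -/
theorem inverts {z : G} {R X : Subgroup G} (hz : z * z = 1) (hXR : X ≤ R) (hX : Odd (Nat.card X))
    (hcen : ∀ a ∈ X, ∀ r ∈ R, a * r = r * a) (hn : ∀ r ∈ R, z * r * z ∈ R) (hXz : ∀ a ∈ X, z * a * z = a)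
    (hfix : ∀ r ∈ R, z * r * z = r → r ∈ X) : ∀ r ∈ R, r * (z * r * z) ∈ X := by
  classical
  have hsq : ∀ a ∈ X, a * a = 1 → a = 1 := by
    intro a ha haa
    have h1 : orderOf a ∣ 2 := orderOf_dvd_of_pow_eq_one (by rw [sq]; exact haa)
    have h2 : orderOf a ∣ Nat.card X := by rw [← Subgroup.orderOf_mk a ha]; exact orderOf_dvd_natCard _
    exact orderOf_eq_one_iff.mp (Nat.eq_one_of_dvd_coprimes (Nat.coprime_two_left.mpr hX) h1 h2)
  have hzz : ∀ v : G, z * (z * v * z) * z = v := fun v => by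
    rw [show z * (z * v * z) * z = (z * z) * v * (z * z) by group, hz, one_mul, mul_one]
  let I := {w : ↥R // z * (w : G) * z = (w : G)⁻¹}
  let f : ↥R → I := fun r => ⟨⟨(r : G)⁻¹ * (z * r * z), mul_mem (inv_mem r.2) (hn r r.2)⟩, by
    show z * ((r : G)⁻¹ * (z * r * z)) * z = ((r : G)⁻¹ * (z * r * z))⁻¹
    have h1 : z * (r : G)⁻¹ * z = (z * r * z)⁻¹ := by
      rw [mul_inv_rev, mul_inv_rev, inv_eq_of_mul_eq_one_right hz, mul_assoc]
    calc z * ((r : G)⁻¹ * (z * r * z)) * z = z * (r : G)⁻¹ * z * (z⁻¹ * z⁻¹) * (z * (z * r * z) * z) := by group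
      _ = (z * r * z)⁻¹ * r := by rw [h1, hzz, inv_eq_of_mul_eq_one_right hz, hz, mul_one]
      _ = ((r : G)⁻¹ * (z * r * z))⁻¹ := by rw [mul_inv_rev _ (z * r * z), inv_inv]⟩
  let g : I × ↥X → ↥R := fun p => ⟨(p.1.1 : G) * p.2, mul_mem p.1.1.2 (hXR p.2.2)⟩
  have hg : Function.Injective g := by
    rintro ⟨⟨i, hi⟩, a⟩ ⟨⟨j, hj⟩, b⟩ h
    have h' : (i : G) * a = j * b := congrArg Subtype.val h
    have hji : (i : G) = j * ((b : G) * (a : G)⁻¹) := by rw [← mul_assoc, ← h', mul_inv_cancel_right]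
    set y := (b : G) * (a : G)⁻¹
    have hy : y ∈ X := mul_mem b.2 (inv_mem a.2)
    have hy2 : y * y = 1 := by
      have h1 : z * ((j : G) * y) * z = ((j : G) * y)⁻¹ := hji ▸ hi
      rw [show z * ((j : G) * y) * z = z * j * z * (z⁻¹ * z⁻¹) * (z * y * z) by group, hj, hXz y hy,
        inv_eq_of_mul_eq_one_right hz, hz, mul_one, mul_inv_rev] at h1
      have h2 : (j : G)⁻¹ * y = (j : G)⁻¹ * y⁻¹ := by
        rw [h1, ← (show Commute y (j : G) from hcen y hy j j.2).inv_inv.eq]
      rw [mul_right_inj] at h2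
      nth_rw 1 [h2]; exact inv_mul_cancel y
    have hy1 := hsq y hy hy2
    rw [hy1, mul_one] at hji
    refine Prod.ext (Subtype.ext (Subtype.ext hji)) (Subtype.ext ?_)
    exact (mul_inv_eq_one.mp hy1).symm
  -- the fibres of f lie in cosets of X
  let F : ↥R → I × ↥X := fun r =>
    (f r, ⟨(Classical.epsilon fun s : ↥R => f s = f r : ↥R) * (r : G)⁻¹ , by
      set s : ↥R := Classical.epsilon fun s : ↥R => f s = f r with hs
      have hs' : f s = f r := Classical.epsilon_spec (p := fun s : ↥R => f s = f r) ⟨r, rfl⟩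
      have h1 : (s : G)⁻¹ * (z * s * z) = (r : G)⁻¹ * (z * r * z) := congrArg (fun w : I => ((w.1 : ↥R) : G)) hs'
      refine hfix _ (mul_mem s.2 (inv_mem r.2)) ?_
      have h2 : z * (s : G) * z = s * ((r : G)⁻¹ * (z * r * z)) := by rw [← h1, mul_inv_cancel_left]
      calc z * ((s : G) * (r : G)⁻¹) * z = z * s * z * (z * r * z)⁻¹ * (z * z) := by group
        _ = (s : G) * (r : G)⁻¹ := by rw [h2, hz]; group⟩)
  have hF : Function.Injective F := by
    intro r r' h
    have h1 : f r = f r' := congrArg Prod.fst h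
    have h2 := congrArg (fun p : I × ↥X => (p.2 : G)) h
    simp only [F, h1, mul_right_inj, inv_inj] at h2
    exact Subtype.ext h2
  have hbij : Function.Bijective g := (Nat.bijective_iff_injective_and_card g).mpr
    ⟨hg, le_antisymm (Nat.card_le_card_of_injective g hg) (Nat.card_le_card_of_injective F hF)⟩
  intro r hr
  obtain ⟨⟨⟨i, hi⟩, a⟩, he⟩ := hbij.2 ⟨r, hr⟩
  have he' : (i : G) * a = r := congrArg Subtype.val he
  rw [← he', show z * ((i : G) * a) * z = z * i * z * (z⁻¹ * z⁻¹) * (z * a * z) by group, hi, hXz a a.2,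
    inv_eq_of_mul_eq_one_right hz, hz, mul_one, show (i : G) * a * ((i : G)⁻¹ * a) = (i : G) * ((a : G) * (i : G)⁻¹) * a by group,
    (show Commute (a : G) (i : G) from hcen a a.2 i i.2).inv_right.eq, mul_inv_cancel_left]
  exact mul_mem a.2 a.2

variable [IsSimpleGroup G]

/-- The centraliser of x. -/
theorem cent_inner (hG : ¬ IsMulCommutative G) {z : G} {P : Subgroup G} (hJ : IsOfJankoFourTypeWith z P)
    (hcard : Nat.card G = orderJ4) (c : Ctx z P (twoCoreOfCentralizer z)) {x : G} (hx : orderOf x = 11)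
    (hxc : x ∈ c.cen) : ∃ R : Subgroup G, Central z x R := by
  classical
  haveI : Fact (Nat.Prime 2) := ⟨Nat.prime_two⟩
  haveI : Fact (Nat.Prime 3) := ⟨Nat.prime_three⟩
  haveI : Fact (Nat.Prime 11) := ⟨by norm_num⟩
  obtain ⟨h24, hD, hdec⟩ := card_centH c hJ hx hxc
  set C := centralizer ({x} : Set G) with hC
  set H := centralizer ({z} : Set G) with hH
  set Q := fixE c x with hQ
  have hQC : Q ≤ C := inf_le_right
  have hzC : z ∈ C := hQC (z_mem_fixE c hxc)
  have hPC : P ≤ C := fun p hp => mem_centralizer_singleton_iff.mpr (c.cen_comm hxc hp).symm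
  obtain ⟨a, b, d, ha, hb, hd2, hd3, hCc⟩ := cent_shape hG hJ hcard hx
  have hb1 : b = 1 := by
    have h3 : 3 ∣ Nat.card C := c.hP ▸ card_dvd_of_le hPC
    rw [hCc] at h3
    by_contra hne
    rw [show b = 0 by omega, pow_zero, mul_one] at h3
    exact absurd h3 ((Nat.Prime.coprime_iff_not_dvd Nat.prime_three).mp
      (Nat.Coprime.mul_right (Nat.Coprime.pow_right _ (by norm_num)) (Nat.Coprime.pow_right _ (by norm_num))))
  have ha3 : a = 3 := by
    have h8 : 2 ^ 3 ∣ Nat.card C := by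
      rw [show 2 ^ 3 = Nat.card Q by rw [hQ, card_fixE c hx hxc]; rfl]
      exact card_dvd_of_le hQC
    rw [hCc] at h8
    have h3a : 3 ≤ a := by
      have := (Nat.Coprime.mul_right (Nat.Coprime.pow_right b (Nat.Coprime.pow_left 3 (show Nat.Coprime 2 3 by norm_num)))
        (Nat.Coprime.pow_right d (Nat.Coprime.pow_left 3 (show Nat.Coprime 2 11 by norm_num))))
      rw [mul_assoc] at h8
      exact (Nat.pow_dvd_pow_iff_le_right (by norm_num)).mp (this.dvd_of_dvd_mul_right h8)
    by_contra hne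
    have h16 : 2 ^ (3 + 1) ∣ Nat.card C := by
      rw [hCc, mul_assoc]; exact Dvd.dvd.mul_right (Nat.pow_dvd_pow 2 (by omega)) _
    obtain ⟨T, hT, hQT⟩ := Sylow.exists_subgroup_card_pow_succ h16 (H := Q.subgroupOf C)
      (by rw [Nat.card_congr (subgroupOfEquivOfLe hQC).toEquiv, hQ, card_fixE c hx hxc]; norm_num)
    have hidx : ((Q.subgroupOf C).subgroupOf T).index = 2 := by
      have h := ((Q.subgroupOf C).subgroupOf T).card_mul_index
      rw [Nat.card_congr (subgroupOfEquivOfLe hQT).toEquiv, Nat.card_congr (subgroupOfEquivOfLe hQC).toEquiv,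
        hQ, card_fixE c hx hxc, hT] at h
      rw [hQ]
      norm_num at h ⊢
      omega
    have hnT := Subgroup.normal_of_index_eq_two hidx
    have hTD : T.map C.subtype ≤ H ⊓ C := by
      rintro _ ⟨t, ht, rfl⟩
      refine ⟨?_, t.2⟩
      have hz2 : (t : G) * z * (t : G)⁻¹ ∈ Q := mem_subgroupOf.mp (mem_subgroupOf.mp
        (hnT.conj_mem ⟨⟨z, hzC⟩, hQT (mem_subgroupOf.mpr (z_mem_fixE c hxc))⟩
          (mem_subgroupOf.mpr (mem_subgroupOf.mpr (z_mem_fixE c hxc))) ⟨t, ht⟩))
      have h1 : ((t : G) * z * (t : G)⁻¹) * ((t : G) * z * (t : G)⁻¹) = 1 := by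
        rw [show (t : G) * z * (t : G)⁻¹ * ((t : G) * z * (t : G)⁻¹) = (t : G) * (z * z) * (t : G)⁻¹ by group, c.zz]
        group
      rcases c.mem_Z.mp (fixE_invol c hx hxc hz2 h1) with e | e
      · exact absurd (conj_eq_one_iff.mp e) c.z_ne_one
      · exact mem_centralizer_singleton_iff.mpr (mul_inv_eq_iff_eq_mul.mp e)
    have := card_dvd_of_le hTD
    rw [card_map_of_injective C.subtype_injective, hT, hD] at this
    norm_num at this
  subst ha3 hb1
  -- the normal 3-complement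
  set P' := P.subgroupOf C with hP'
  have hP'c : Nat.card P' = 3 := (Nat.card_congr (subgroupOfEquivOfLe hPC).toEquiv).trans c.hP
  have hfac : (Nat.card C).factorization 3 = 1 := by
    rw [hCc]
    exact CfsgGolay.factorization_eq (q := 2 ^ 3 * 11 ^ d) Nat.prime_three (by ring)
      ((Nat.Prime.coprime_iff_not_dvd Nat.prime_three).mp
        (Nat.Coprime.mul_right (Nat.Coprime.pow_right _ (by norm_num)) (Nat.Coprime.pow_right _ (by norm_num))))
  let S : Sylow 3 ↥C := Sylow.ofCard P' (by rw [hP'c, hfac, pow_one])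
  have hSc : (S : Subgroup ↥C) = P' := rfl
  have hPS : normalizer ((S : Subgroup ↥C) : Set ↥C) ≤ centralizer ((S : Subgroup ↥C) : Set ↥C) := by
    intro n hn
    rw [hSc] at hn ⊢
    have hnP : (n : G) ∈ normalizer (P : Set G) := mem_norm_of fun q hq =>
      mem_subgroupOf.mp ((mem_normalizer_iff.mp hn ⟨q, hPC hq⟩).mp (mem_subgroupOf.mpr hq))
    have hnH : (n : G) ∈ H := c.norm_P hG (hinv_of_type hJ) hnP
    have hnD : (n : G) ∈ fixE c x ⊔ P ⊔ zpowers x := hdec.symm ▸ ⟨hnH, n.2⟩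
    have hxnorm : zpowers x ≤ normalizer ((fixE c x ⊔ P : Subgroup G) : Set G) := by
      refine zpowers_le.mpr (centralizer_le_normalizer _ (mem_centralizer_iff.mpr fun v hv => ?_))
      have hle : fixE c x ⊔ P ≤ C := sup_le hQC hPC
      exact mem_centralizer_singleton_iff.mp (hle hv)
    obtain ⟨s, hs, w, hw, hsw⟩ := CfsgLib.mem_sup_of_le_normalizer hxnorm hnD
    obtain ⟨e, he, p, hp, hep⟩ := CfsgLib.mem_sup_of_le_normalizer
      (fun q hq => mem_norm_of fun v hv => P_conj_fixE c hxc hq hv) hs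
    have hwP : w ∈ centralizer (P : Set G) := by
      obtain ⟨i, rfl⟩ := mem_zpowers_iff.mp hw
      exact zpow_mem (show x ∈ centralizer (P : Set G) from hxc.2) i
    have hpP : p ∈ centralizer (P : Set G) := (c.P_le_cen hp).2
    have heC : e ∈ centralizer (P : Set G) := mem_centralizer_iff.mpr fun q hq => by
      have hwN : w ∈ normalizer (P : Set G) := centralizer_le_normalizer _ hwP
      have hpN : p ∈ normalizer (P : Set G) := le_normalizer hp
      have heN : e ∈ normalizer (P : Set G) := by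
        have := mul_mem (mul_mem hnP (inv_mem hwN)) (inv_mem hpN)
        rwa [← hsw, ← hep, mul_inv_cancel_right, mul_inv_cancel_right] at this
      have h1 : e * q * e⁻¹ * q⁻¹ ∈ P := mul_mem ((mem_normalizer_iff.mp heN q).mp hq) (inv_mem hq)
      have h2 : e * q * e⁻¹ * q⁻¹ ∈ Q := by
        rw [show e * q * e⁻¹ * q⁻¹ = e * (q * e⁻¹ * q⁻¹) by group]
        exact mul_mem he (P_conj_fixE c hxc hq (inv_mem he))
      have h3 : e * q * e⁻¹ * q⁻¹ ∈ Q ⊓ P := ⟨h2, h1⟩
      rw [Subgroup.inf_eq_bot_of_coprime (by rw [hQ, card_fixE c hx hxc, c.hP]; norm_num), mem_bot, mul_inv_eq_one,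
        mul_inv_eq_iff_eq_mul] at h3
      exact h3.symm
    have hnC : (n : G) ∈ centralizer (P : Set G) := by rw [← hsw, ← hep]; exact mul_mem (mul_mem heC hpP) hwP
    exact mem_centralizer_iff.mpr fun q hq => Subtype.ext (mem_centralizer_iff.mp hnC _ (mem_subgroupOf.mp hq))
  set M := (MonoidHom.transferSylow S hPS).ker with hM
  have hMc : Nat.card M = 2 ^ 3 * 11 ^ d := by
    have h := (MonoidHom.ker_transferSylow_isComplement' S hPS).card_mul_card
    rw [show Nat.card ↥(S : Subgroup ↥C) = 3 from hP'c, hCc] at h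
    refine Nat.eq_of_mul_eq_mul_right (show 0 < 3 by norm_num) (h.trans ?_)
    ring
  obtain ⟨R0⟩ : Nonempty (Sylow 11 ↥M) := inferInstance
  have hR0c : Nat.card ↥(R0 : Subgroup ↥M) = 11 ^ d := by
    rw [R0.card_eq_multiplicity, CfsgGolay.factorization_eq (q := 2 ^ 3) (by norm_num) (hMc.trans (by ring)) (by norm_num)]
  have hsub : Subsingleton (Sylow 11 ↥M) := by
    have h1 : Nat.card (Sylow 11 ↥M) ∣ 2 ^ 3 := by
      have h2 := (R0 : Subgroup ↥M).card_mul_index
      rw [hR0c, hMc] at h2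
      have h3 : (R0 : Subgroup ↥M).index = 2 ^ 3 :=
        Nat.eq_of_mul_eq_mul_left (show 0 < 11 ^ d by positivity) (h2.trans (mul_comm _ _))
      exact h3 ▸ R0.card_dvd_index
    have h2 := card_sylow_modEq_one 11 ↥M
    obtain ⟨j, hj, hjc⟩ := (Nat.dvd_prime_pow Nat.prime_two).mp h1
    rw [hjc, Nat.ModEq] at h2
    have : j = 0 := by interval_cases j <;> norm_num at h2 <;> rfl
    exact (Nat.card_eq_one_iff_unique.mp (by rw [hjc, this, pow_zero])).1
  set R := ((R0 : Subgroup ↥M).map M.subtype).map C.subtype with hR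
  have hRc : Nat.card R = 11 ^ d := by
    rw [hR, card_map_of_injective C.subtype_injective, card_map_of_injective M.subtype_injective, hR0c]
  have hRC : R ≤ C := map_subtype_le _
  have h11d : 11 ^ d ∣ 1331 := (Nat.pow_dvd_pow 11 hd3).trans (by norm_num)
  have hall : ∀ w : G, w * x = x * w → w ^ 1331 = 1 → w ∈ R := by
    intro w hw hw1
    set w' : ↥C := ⟨w, mem_centralizer_singleton_iff.mpr hw⟩
    have hwM : w' ∈ M := by
      rw [hM, MonoidHom.mem_ker, ← orderOf_eq_one_iff]
      refine Nat.eq_one_of_dvd_coprimes (show Nat.Coprime 1331 3 by norm_num) (orderOf_dvd_of_pow_eq_one ?_) ?_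
      · rw [← map_pow, show w' ^ 1331 = 1 from Subtype.ext hw1, map_one]
      · have h := orderOf_dvd_natCard (MonoidHom.transferSylow S hPS w')
        rwa [show Nat.card ↥(S : Subgroup ↥C) = 3 from hP'c] at h
    have hp : IsPGroup 11 ↥(zpowers (⟨w', hwM⟩ : ↥M)) := by
      obtain ⟨k, -, hk⟩ := (Nat.dvd_prime_pow (show Nat.Prime 11 by norm_num)).mp (show orderOf (⟨w', hwM⟩ : ↥M) ∣ 11 ^ 3 by
        refine orderOf_dvd_of_pow_eq_one (Subtype.ext (Subtype.ext ?_))
        show w ^ (11 ^ 3) = 1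
        norm_num [hw1])
      exact IsPGroup.of_card (n := k) (by rw [Nat.card_zpowers, hk])
    obtain ⟨R', hR'⟩ := hp.exists_le_sylow
    rw [hsub.elim R' R0] at hR'
    exact ⟨w', ⟨⟨w', hwM⟩, hR' (mem_zpowers _), rfl⟩, rfl⟩
  have hpow : ∀ r ∈ R, r ^ 1331 = 1 := fun r hr => orderOf_dvd_iff_pow_eq_one.mp
    (dvd_trans (by rw [← hRc, ← Subgroup.orderOf_mk r hr]; exact orderOf_dvd_natCard _) h11d)
  have hnorm : C ≤ normalizer (R : Set G) := fun g hg => mem_norm_of fun r hr => hall _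
    (mem_centralizer_singleton_iff.mp (mul_mem (mul_mem hg (hRC hr)) (inv_mem hg)))
    (by rw [conj_pow, hpow r hr, mul_one, mul_inv_cancel])
  have hxR : x ∈ R := hall x rfl (orderOf_dvd_iff_pow_eq_one.mp (by rw [hx]; norm_num))
  have hfix : ∀ r ∈ R, r * z = z * r → r ∈ zpowers x := by
    intro r hr hrz
    have hle : zpowers x ≤ R ⊓ H := zpowers_le.mpr ⟨hxR, hxc.1⟩
    have hd' : Nat.card ↥(R ⊓ H) ∣ 11 := by
      have h1 : Nat.card ↥(R ⊓ H) ∣ 264 := hD ▸ card_dvd_of_le (le_inf inf_le_right (inf_le_left.trans hRC))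
      have h2 : Nat.card ↥(R ⊓ H) ∣ 11 ^ d := hRc ▸ card_dvd_of_le inf_le_left
      exact (Nat.dvd_gcd h1 (h2.trans h11d)).trans (by norm_num)
    rw [eq_of_le_of_card_ge hle (by rw [Nat.card_zpowers, hx]; exact Nat.le_of_dvd (by norm_num) hd')]
    exact ⟨hr, mem_centralizer_singleton_iff.mpr hrz⟩
  have hd : d = 3 := by
    by_contra hne
    have hd' : d = 2 := by omega
    subst hd'
    haveI : IsMulCommutative ↥R := IsPGroup.isMulCommutative_of_card_eq_prime_sq hRc
    obtain ⟨r, hr, hrx⟩ : ∃ r ∈ R, r ∉ zpowers x := by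
      by_contra hall'
      push Not at hall'
      have := card_dvd_of_le (show R ≤ zpowers x from hall')
      rw [hRc, Nat.card_zpowers, hx] at this
      norm_num at this
    have hgen : zpowers r ⊔ zpowers x = R := by
      refine eq_of_le_of_card_ge (sup_le (zpowers_le.mpr hr) (zpowers_le.mpr hxR)) ?_
      obtain ⟨i, hi, hic⟩ := (Nat.dvd_prime_pow (show Nat.Prime 11 by norm_num)).mp
        (hRc ▸ card_dvd_of_le (sup_le (zpowers_le.mpr hr) (zpowers_le.mpr hxR)))
      have h2 : 11 < Nat.card ↥(zpowers r ⊔ zpowers x) := by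
        by_contra hle
        exact hrx ((eq_of_le_of_card_ge (le_sup_right : zpowers x ≤ zpowers r ⊔ zpowers x)
          (by rw [Nat.card_zpowers, hx]; omega)) ▸ mem_sup_left (mem_zpowers r))
      rw [hRc, hic]
      interval_cases i <;> omega
    have hrep : ∀ q ∈ C, ∃ i : ℤ, ∃ y ∈ zpowers x, q * r * q⁻¹ = r ^ i * y := by
      intro q hq
      have hmem : q * r * q⁻¹ ∈ zpowers r ⊔ zpowers x := hgen.symm ▸ (mem_normalizer_iff.mp (hnorm hq) r).mp hr
      obtain ⟨u, hu, y, hy, e⟩ := CfsgLib.mem_sup_of_le_normalizer (fun v hv => centralizer_le_normalizer _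
        (mem_centralizer_iff.mpr fun w hw => congrArg Subtype.val
          (mul_comm' (⟨w, (zpowers_le.mpr hr) hw⟩ : ↥R) ⟨v, (zpowers_le.mpr hxR) hv⟩))) hmem
      obtain ⟨i, rfl⟩ := mem_zpowers_iff.mp hu
      exact ⟨i, y, hy, e.symm⟩
    have hcomp : ∀ {q q' : G} {i k : ℤ} {y y' : G}, q ∈ C → y ∈ zpowers x → y' ∈ zpowers x →
        q * r * q⁻¹ = r ^ i * y → q' * r * q'⁻¹ = r ^ k * y' →
        ∃ w ∈ zpowers x, q * q' * r * (q * q')⁻¹ = r ^ (i * k) * w := by
      intro q q' i k y y' hq hy hy' e e'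
      have hyq : q * y' * q⁻¹ = y' := by
        obtain ⟨m, rfl⟩ := mem_zpowers_iff.mp hy'
        rw [← conj_zpow, mem_centralizer_singleton_iff.mp hq, mul_inv_cancel_right]
      have hyr : Commute (r ^ i) y := congrArg Subtype.val
        (mul_comm' (⟨r ^ i, zpow_mem hr i⟩ : ↥R) ⟨y, (zpowers_le.mpr hxR) hy⟩)
      refine ⟨y ^ k * y', mul_mem (zpow_mem hy k) hy', ?_⟩
      calc q * q' * r * (q * q')⁻¹ = q * (q' * r * q'⁻¹) * q⁻¹ := by group
        _ = (q * r ^ k * q⁻¹) * (q * y' * q⁻¹) := by rw [e']; group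
        _ = (q * r * q⁻¹) ^ k * y' := by rw [← conj_zpow, hyq]
        _ = r ^ (i * k) * (y ^ k * y') := by rw [e, hyr.mul_zpow, ← zpow_mul, mul_assoc]
    obtain ⟨q, hq, q', hq', hqq⟩ := fixE_nonabelian c hx hxc
    obtain ⟨i, y, hy, e⟩ := hrep q (hQC hq)
    obtain ⟨k, y', hy', e'⟩ := hrep q' (hQC hq')
    obtain ⟨w, hw, ew⟩ := hcomp (hQC hq) hy hy' e e'
    obtain ⟨w', hw', ew'⟩ := hcomp (hQC hq') hy' hy e' e
    have hzc : q * q' * q⁻¹ * q'⁻¹ = z := by
      rcases c.mem_Z.mp (c.comm_mem_Z (mem_fixE.mp hq).1 (mem_fixE.mp hq').1) with h | h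
      · exact absurd (by rw [mul_inv_eq_one, mul_inv_eq_iff_eq_mul] at h; exact h) hqq
      · exact h
    set r' := q' * q * r * (q' * q)⁻¹ with hr'
    have hr'R : r' ∈ R := (mem_normalizer_iff.mp (hnorm (mul_mem (hQC hq') (hQC hq))) r).mp hr
    have hmove : ∃ v ∈ zpowers x, z * r' * z = r' * v := by
      refine ⟨w'⁻¹ * w, mul_mem (inv_mem hw') hw, ?_⟩
      calc z * r' * z = z * r' * z⁻¹ := by rw [inv_eq_of_mul_eq_one_right c.zz]
        _ = q * q' * r * (q * q')⁻¹ := by rw [← hzc, hr']; group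
        _ = r ^ (i * k) * w := ew
        _ = r' * (w'⁻¹ * w) := by rw [show r' = r ^ (k * i) * w' from ew', mul_comm k i]; group
    obtain ⟨v, hv, hzr⟩ := hmove
    have hzv : z * v * z = v := by
      obtain ⟨m, rfl⟩ := mem_zpowers_iff.mp hv
      have hzm : Commute z (x ^ m) := (show Commute z x from mem_centralizer_singleton_iff.mp hzC).zpow_right m
      rw [hzm.eq, mul_assoc, c.zz, mul_one]
    have hv1 : v = 1 := by
      have h2 : r' * (v * v) = r' := by
        calc r' * (v * v) = r' * v * (z * v * z) := by rw [hzv, ← mul_assoc]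
          _ = z * r' * (z * z) * v * z := by rw [← hzr]; group
          _ = z * (r' * v) * z := by rw [c.zz]; group
          _ = z * (z * r' * z) * z := by rw [hzr]
          _ = (z * z) * r' * (z * z) := by group
          _ = r' := by rw [c.zz, one_mul, mul_one]
      rw [mul_eq_left] at h2
      have h3 : orderOf v ∣ 2 := orderOf_dvd_of_pow_eq_one (by rw [sq]; exact h2)
      have h4 : orderOf v ∣ 11 := by
        rw [← hx, ← Nat.card_zpowers x, ← Subgroup.orderOf_mk v hv]; exact orderOf_dvd_natCard _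
      exact orderOf_eq_one_iff.mp (Nat.eq_one_of_dvd_coprimes (by norm_num) h3 h4)
    have hfx : r' * z = z * r' := by
      calc r' * z = z * r' * z * z := by rw [hzr, hv1, mul_one]
        _ = z * r' := by rw [mul_assoc, c.zz, mul_one]
    have hr'x := hfix r' hr'R hfx
    refine hrx ?_
    have hqn : ∀ v ∈ zpowers x, (q' * q)⁻¹ * v * (q' * q) = v := fun v hv => by
      obtain ⟨m, rfl⟩ := mem_zpowers_iff.mp hv
      have hm : Commute (q' * q) (x ^ m) :=
        (show Commute (q' * q) x from mem_centralizer_singleton_iff.mp (mul_mem (hQC hq') (hQC hq))).zpow_right m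
      rw [mul_assoc, ← hm.eq, inv_mul_cancel_left]
    have := hqn r' hr'x
    rw [show (q' * q)⁻¹ * r' * (q' * q) = r by rw [hr']; group] at this
    rw [this]; exact hr'x
  subst hd
  have hzinv : z⁻¹ = z := inv_eq_of_mul_eq_one_right c.zz
  refine ⟨R, ⟨by rw [hRc]; norm_num, hRC, hnorm, by rw [hCc]; norm_num, hfix, ?_, hall⟩⟩
  refine inverts c.zz (zpowers_le.mpr hxR) (by rw [Nat.card_zpowers, hx]; decide) (fun v hv r hr => ?_)
    (fun r hr => ?_) (fun v hv => ?_) fun r hr hzr => hfix r hr ?_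
  · obtain ⟨m, rfl⟩ := mem_zpowers_iff.mp hv
    exact ((show Commute r x from mem_centralizer_singleton_iff.mp (hRC hr)).zpow_right m).symm.eq
  · have := (mem_normalizer_iff.mp (hnorm hzC) r).mp hr
    rwa [hzinv] at this
  · obtain ⟨m, rfl⟩ := mem_zpowers_iff.mp hv
    rw [((show Commute z x from mem_centralizer_singleton_iff.mp hzC).zpow_right m).eq, mul_assoc, c.zz, mul_one]
  · calc r * z = z * r * z * z := by rw [hzr]
      _ = z * r := by rw [mul_assoc, c.zz, mul_one]

end CfsgLib.JankoFour.Eleven
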