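/-
The centraliser of an element of order eleven centralising an involution outside the class of z.
-/
import Cfsg.Agent.Lib.JankoFour.ElevenInner
import Cfsg.Agent.S5569

set_option autoImplicit false
set_option linter.style.haveILetI false
set_option linter.unusedSectionVars false

namespace CfsgLib.JankoFour.Eleven

open Cfsg Subgroup CfsgGolay
open scoped Pointwise
open CfsgLib.JankoFour.Big (orderJ4)

attribute [local irreducible] codeL octadL dodecadL slpCodes

universe u

variable {G : Type u} [Group G] [Finite G] [IsSimpleGroup G]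

/-- No centraliser of an involution has order divisible by 121. -/
theorem invol_121 (hG : ¬ IsMulCommutative G) {z : G} {P : Subgroup G} (hJ : IsOfJankoFourTypeWith z P)
    (c : Ctx z P (twoCoreOfCentralizer z)) {h : G} (hh : orderOf h = 2) :
    ¬ 121 ∣ Nat.card ↥(centralizer ({h} : Set G)) := by
  intro hd
  by_cases hz : IsConj z h
  · obtain ⟨g, rfl⟩ := isConj_iff.mp hz
    obtain ⟨φ, hφ⟩ := exists_phi hJ c
    have hmap : centralizer ({g * z * g⁻¹} : Set G) = (centralizer ({z} : Set G)).map (MulAut.conj g).toMonoidHom := by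
      ext v
      rw [mem_map_equiv, mem_centralizer_singleton_iff, mem_centralizer_singleton_iff, MulAut.conj_symm_apply]
      constructor
      · intro e
        calc g⁻¹ * v * g * z = g⁻¹ * (v * (g * z * g⁻¹)) * g := by group
          _ = z * (g⁻¹ * v * g) := by rw [e]; group
      · intro e
        calc v * (g * z * g⁻¹) = g * (g⁻¹ * v * g * z) * g⁻¹ := by group
          _ = g * z * g⁻¹ * v := by rw [e]; group
    rw [hmap, card_map_of_injective (MulAut.conj g).injective] at hd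
    haveI : Finite (MulAut ↥Spor.M22) := Nat.finite_of_card_ne_zero (by rw [Big.card_aut_m22]; norm_num)
    have h1 := φ.ker.card_mul_index
    rw [index_ker] at h1
    have hker : Nat.card φ.ker ∣ 3 * 2 ^ 13 := by
      rw [← c.hN, ← card_map_of_injective (centralizer ({z} : Set G)).subtype_injective (K := φ.ker)]
      refine card_dvd_of_le ?_
      rintro _ ⟨v, hv, rfl⟩
      exact (hφ v).mp hv
    have hr : Nat.card φ.range ∣ 887040 := Big.card_aut_m22 ▸ card_subgroup_dvd_card φ.range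
    have := hd.trans (h1 ▸ Nat.mul_dvd_mul hker hr)
    norm_num at this
  · obtain ⟨V, K, -, hK, hCN, -, hV, hinf, hsup, ⟨e⟩⟩ := Cfsg.Agent.S5569.result hG z ⟨P, hJ⟩ h hh hz
    rw [← hsup, sup_comm, Big.card_sup_eq (hK.trans hCN) (by rw [inf_comm]; exact hinf), hV,
      Nat.card_congr e.toEquiv, Big.card_aut_m22] at hd
    norm_num at hd

theorem two_checked : ∀ j < 12, 2 ^ j % 11 = 2 → j = 1 ∨ j = 11 := by decide

/-- The order of the centraliser of t. -/
theorem card_cent_t (hG : ¬ IsMulCommutative G) {z : G} {P : Subgroup G} (hJ : IsOfJankoFourTypeWith z P)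
    {c : Ctx z P (twoCoreOfCentralizer z)} {A : Subgroup MTwoTwo} {o : c.Orb A} {t : G}
    (ht : t ∈ c.Tset (c.vGrp A o.hA.1.1)) : Nat.card ↥(centralizer ({t} : Set G)) = 2 ^ 11 * 887040 := by
  have ht2 : orderOf t = 2 := orderOf_eq_prime (hp := ⟨Nat.prime_two⟩)
    (by rw [sq]; exact c.vGrp_sq o.hA.1 ht.1) ht.2.1
  obtain ⟨V', K, -, hK, hCN, -, hV, hinf, hsup, ⟨e⟩⟩ :=
    Cfsg.Agent.S5569.result hG z ⟨P, hJ⟩ t ht2 fun h => ht.2.2 (isConj_iff.mp h)
  rw [← hsup, sup_comm, Big.card_sup_eq (hK.trans hCN) (by rw [inf_comm]; exact hinf), hV,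
    Nat.card_congr e.toEquiv, Big.card_aut_m22]

/-- In V only t and 1 are fixed by x; the centraliser of x meets N(V) inside C(t) in 22 elements. -/
theorem local_cent {z : G} {P E : Subgroup G} {c : Ctx z P E} {A : Subgroup MTwoTwo} {o : c.Orb A} (d : o.Duads)
    {t x : G} (ht : t ∈ c.Tset (c.vGrp A o.hA.1.1)) (hx : orderOf x = 11) (hxt : x * t = t * x) :
    Nat.card ↥(centralizer ({t} : Set G) ⊓ centralizer ({x} : Set G)) = 22 ∧
      (∀ v ∈ c.vGrp A o.hA.1.1, v * x = x * v → v = 1 ∨ v = t) ∧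
      x ∈ normalizer (c.vGrp A o.hA.1.1 : Set G) ∧
      ∀ n ∈ normalizer (c.vGrp A o.hA.1.1 : Set G), n * x = x * n → n * t = t * n := by
  classical
  haveI : Fact (Nat.Prime 11) := ⟨by norm_num⟩
  set V := c.vGrp A o.hA.1.1 with hV
  set N0 := normalizer (V : Set G) with hN0
  have hxC : x ∈ centralizer ({t} : Set G) := mem_centralizer_singleton_iff.mpr hxt
  have hxN : x ∈ N0 := o.cent_T ht hxC
  obtain ⟨-, hVc⟩ := c.vGrp_facts o.hA.1
  set g : Equiv.Perm GolayPt := (d.θ ⟨x, hxN⟩).1 with hg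
  have hxV : x ∉ V := fun h => by
    have h2 : x ^ 2 = 1 := by rw [sq]; exact c.vGrp_sq o.hA.1 h
    have := orderOf_dvd_of_pow_eq_one h2
    rw [hx] at this
    norm_num at this
  have hgo : orderOf g = 11 := by
    rw [hg, Subgroup.orderOf_coe]
    refine orderOf_eq_prime ?_ fun h => hxV ((d.theta_one _).mp h)
    rw [← map_pow, show (⟨x, hxN⟩ : ↥N0) ^ 11 = 1 from Subtype.ext (by
      show x ^ 11 = 1
      rw [← hx, pow_orderOf_eq_one]), map_one]
  -- fixed points in V
  set F := V ⊓ centralizer ({x} : Set G) with hF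
  have htF : t ∈ F := ⟨ht.1, mem_centralizer_singleton_iff.mpr hxt.symm⟩
  have hF2 : Nat.card F = 2 := by
    have hcnt := Ctx.fixed_count (show x ^ 11 = 1 by rw [← hx, pow_orderOf_eq_one]) V hxN
    rw [hVc, ← hF] at hcnt
    obtain ⟨j, hj, hjc⟩ := (Nat.dvd_prime_pow Nat.prime_two).mp (hVc ▸ card_dvd_of_le (inf_le_left : F ≤ V))
    rw [hjc, Nat.ModEq] at hcnt
    rcases two_checked j (by omega) hcnt.symm with rfl | rfl
    · exact hjc
    · exfalso
      have hVF : F = V := eq_of_le_of_card_ge inf_le_left (by rw [hjc, hVc])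
      obtain ⟨p, hp⟩ : ∃ p, g p ≠ p := by
        by_contra hall
        push Not at hall
        rw [show g = 1 from Equiv.ext hall, orderOf_one] at hgo
        norm_num at hgo
      obtain ⟨q, hqp, hqg⟩ : ∃ q : GolayPt, q ≠ p ∧ q ≠ g p := by
        obtain ⟨q, hq⟩ := Finset.exists_mem_notMem_of_card_lt_card (s := ({p, g p} : Finset GolayPt))
          (t := Finset.univ) ((Finset.card_le_two).trans_lt (by decide))
        exact ⟨q, fun h => hq.2 (by simp [h]), fun h => hq.2 (by simp [h])⟩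
      have hfix : x * d.D p q * x⁻¹ = d.D p q := by
        have hD : d.D p q ∈ F := hVF.symm ▸ d.memV p q
        rw [← mem_centralizer_singleton_iff.mp hD.2, mul_inv_cancel_right]
      have h1 : d.D (g p) (g q) = d.D p q := (d.conj ⟨x, hxN⟩ p q).symm.trans hfix
      rcases d.inj p q (g p) (g q) (Ne.symm hqp) h1.symm with ⟨a, -⟩ | ⟨a, -⟩
      · exact hp a
      · exact hqg a.symm
  have hFmem : ∀ v ∈ F, v = 1 ∨ v = t := by
    intro v hv
    have hle : zpowers t ≤ F := zpowers_le.mpr htF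
    have ht2 : orderOf t = 2 := orderOf_eq_prime (hp := ⟨Nat.prime_two⟩)
      (by rw [sq]; exact c.vGrp_sq o.hA.1 ht.1) ht.2.1
    rw [← eq_of_le_of_card_ge hle (by rw [hF2, Nat.card_zpowers, ht2])] at hv
    exact Ctx.mem_zpowers_two (c.vGrp_sq o.hA.1 ht.1) hv
  refine ⟨?_, fun v hv hvx => hFmem v ⟨hv, mem_centralizer_singleton_iff.mpr hvx⟩, hxN, fun n hn hnx => ?_⟩
  · set L := centralizer ({t} : Set G) ⊓ centralizer ({x} : Set G) with hL
    have hLN : L ≤ N0 := inf_le_left.trans (o.cent_T ht)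
    obtain ⟨p, q, hpq, hD⟩ := d.onto t ht
    obtain ⟨e⟩ := pair_stab_aut hpq
    let f : ↥L →* ↥M24 := d.θ.comp (inclusion hLN)
    have hker : f.ker = F.subgroupOf L := by
      ext v
      rw [MonoidHom.mem_ker, mem_subgroupOf]
      exact (d.theta_one _).trans ⟨fun h => ⟨h, v.2.2⟩, fun h => h.1⟩
    have hstab : ∀ v : ↥L, (f v : Equiv.Perm GolayPt) ∈ stabM ({p, q} : Finset GolayPt) := by
      intro v
      refine mem_stabM.mpr ⟨(f v).2, ?_⟩
      have hv : (v : G) * d.D p q * (v : G)⁻¹ = d.D p q := by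
        rw [hD, mem_centralizer_singleton_iff.mp v.2.1, mul_inv_cancel_right]
      have h1 : d.D ((f v).1 p) ((f v).1 q) = d.D p q := (d.conj ⟨v, hLN v.2⟩ p q).symm.trans hv
      show ({p, q} : Finset GolayPt).image (f v).1 = {p, q}
      rw [Finset.image_insert, Finset.image_singleton]
      rcases d.inj p q _ _ hpq h1.symm with ⟨a, b⟩ | ⟨a, b⟩
      · rw [a, b]
      · rw [a, b, Finset.pair_comm]
    have hxL : x ∈ L := ⟨hxC, mem_centralizer_singleton_iff.mpr rfl⟩
    let F' : ↥L →* MulAut ↥Spor.M22 := e.toMonoidHom.comp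
      ((M24.subtype.comp f).codRestrict (stabM ({p, q} : Finset GolayPt)) hstab)
    have hk' : F'.ker = F.subgroupOf L := by
      rw [← hker]
      ext v
      rw [MonoidHom.mem_ker, MonoidHom.mem_ker]
      show e _ = 1 ↔ _
      rw [EmbeddingLike.map_eq_one_iff]
      exact ⟨fun h => Subtype.ext (congrArg (fun w : ↥(stabM ({p, q} : Finset GolayPt)) => (w : Equiv.Perm GolayPt)) h),
        fun h => Subtype.ext (by
        show (f v : Equiv.Perm GolayPt) = 1
        rw [h]; rfl)⟩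
    have hσ : orderOf (F' ⟨x, hxL⟩) = 11 := by
      show orderOf (e _) = 11
      rw [e.orderOf_eq, ← Subgroup.orderOf_coe]
      exact hgo
    haveI : Finite (MulAut ↥Spor.M22) := Nat.finite_of_card_ne_zero (by rw [Big.card_aut_m22]; norm_num)
    have hrange : Nat.card F'.range = 11 := by
      refine Nat.dvd_antisymm ?_ ?_
      · rw [← aut_cent_eleven hσ]
        refine card_dvd_of_le ?_
        rintro _ ⟨v, rfl⟩
        refine mem_centralizer_singleton_iff.mpr ?_
        rw [← map_mul, ← map_mul]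
        exact congrArg F' (Subtype.ext (mem_centralizer_singleton_iff.mp v.2.2))
      · rw [← hσ, ← Subgroup.orderOf_mk (F' ⟨x, hxL⟩) (show F' ⟨x, hxL⟩ ∈ F'.range from ⟨_, rfl⟩)]
        exact orderOf_dvd_natCard _
    have hFL : F ≤ L := fun v hv => ⟨mem_centralizer_singleton_iff.mpr (c.vGrp_comm o.hA.1 hv.1 ht.1), hv.2⟩
    have h := F'.ker.card_mul_index
    rw [index_ker, hrange, hk', Nat.card_congr (subgroupOfEquivOfLe hFL).toEquiv, hF2] at h
    exact h.symm
  · have hcx : Commute n x := hnx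
    have htx : Commute t x := hxt.symm
    have h : n * t * n⁻¹ ∈ F := ⟨(mem_normalizer_iff.mp hn t).mp ht.1,
      mem_centralizer_singleton_iff.mpr ((hcx.mul_left htx).mul_left hcx.inv_left).eq⟩
    rcases hFmem _ h with e | e
    · exact absurd (conj_eq_one_iff.mp e) ht.2.1
    · exact mul_inv_eq_iff_eq_mul.mp e

/-- An 11-invariant 2-group of N(V) without fixed points lies in V. -/
theorem two_ten_le {z : G} {P E : Subgroup G} {c : Ctx z P E} {A : Subgroup MTwoTwo} {o : c.Orb A} (d : o.Duads)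
    {x : G} (hx : orderOf x = 11) (hxN : x ∈ normalizer (c.vGrp A o.hA.1.1 : Set G)) {R : Subgroup G}
    (hR : R ≤ normalizer (c.vGrp A o.hA.1.1 : Set G)) (hn : ∀ r ∈ R, x * r * x⁻¹ ∈ R)
    (hfix : ∀ r ∈ R, x * r = r * x → r = 1) (hc : Nat.card R = 2 ^ 10 ∨ Nat.card R = 2 ^ 20) :
    R ≤ c.vGrp A o.hA.1.1 ∧ Nat.card R = 2 ^ 10 := by
  classical
  haveI : Fact (Nat.Prime 11) := ⟨by norm_num⟩
  set V := c.vGrp A o.hA.1.1 with hV
  set N0 := normalizer (V : Set G) with hN0
  obtain ⟨-, hVc⟩ := c.vGrp_facts o.hA.1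
  have hx11 : x ^ 11 = 1 := by rw [← hx, pow_orderOf_eq_one]
  have h1 := fixed_mod hx11 (R := R ⊓ V) (fun r hr => ⟨hn r hr.1, (mem_normalizer_iff.mp hxN r).mp hr.2⟩)
    fun r hr => hfix r hr.1
  obtain ⟨j, hj, hjc⟩ := (Nat.dvd_prime_pow Nat.prime_two).mp (hVc ▸ card_dvd_of_le (inf_le_right : R ⊓ V ≤ V))
  rw [hjc] at h1
  have hj' : j = 0 ∨ j = 10 := (show ∀ j < 12, 2 ^ j % 11 = 1 → j = 0 ∨ j = 10 by decide) j (by omega) h1
  let f : ↥R →* Equiv.Perm GolayPt := M24.subtype.comp (d.θ.comp (inclusion hR))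
  have hker : Nat.card f.ker = 2 ^ j := by
    rw [← hjc, ← card_map_of_injective R.subtype_injective (K := f.ker)]
    congr 2
    ext v
    constructor
    · rintro ⟨r, hr, rfl⟩
      exact ⟨r.2, (d.theta_one _).mp (Subtype.ext (MonoidHom.mem_ker.mp hr))⟩
    · intro hv
      exact ⟨⟨v, hv.1⟩, MonoidHom.mem_ker.mpr (congrArg Subtype.val ((d.theta_one _).mpr hv.2)), rfl⟩
  have hle : f.range ≤ M24 := by
    rintro _ ⟨r, rfl⟩
    exact (d.θ _).2
  have hprod := f.ker.card_mul_index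
  rw [index_ker, hker] at hprod
  have h24 : ¬ 2 ^ 11 ∣ Nat.card f.range := fun h => by
    have := h.trans (card_dvd_of_le hle)
    rw [card_M24] at this
    norm_num at this
  have hno : Nat.card f.range ≠ 2 ^ 10 := fun h => by
    refine m24_no_two_ten hle h (x := (d.θ ⟨x, hxN⟩).1) (d.θ _).2 ?_ ?_
    · rw [Subgroup.orderOf_coe]
      refine orderOf_eq_prime ?_ fun h => ?_
      · rw [← map_pow, show (⟨x, hxN⟩ : ↥N0) ^ 11 = 1 from Subtype.ext hx11, map_one]
      · have hxV : x ∈ V := (d.theta_one _).mp h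
        have h2 : x ^ 2 = 1 := by rw [sq]; exact c.vGrp_sq o.hA.1 hxV
        have := orderOf_dvd_of_pow_eq_one h2
        rw [hx] at this
        norm_num at this
    · rintro _ ⟨r, rfl⟩
      refine ⟨⟨x * r * x⁻¹, hn r r.2⟩, ?_⟩
      show (d.θ _).1 = (d.θ ⟨x, hxN⟩).1 * (d.θ _).1 * ((d.θ ⟨x, hxN⟩).1)⁻¹
      rw [← Subgroup.coe_inv, ← Subgroup.coe_mul, ← Subgroup.coe_mul, ← map_inv, ← map_mul, ← map_mul]
      rfl
  rcases hj' with rfl | rfl <;> rcases hc with hc | hc <;> rw [hc] at hprod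
  · exact absurd (by simpa using hprod) hno
  · rw [pow_zero, one_mul] at hprod
    exact absurd (hprod ▸ Nat.pow_dvd_pow 2 (by norm_num : 11 ≤ 20)) h24
  · have hRV : R ⊓ V = R := eq_of_le_of_card_ge inf_le_left (by rw [hjc, hc])
    exact ⟨inf_eq_left.mp hRV, hc⟩
  · exact absurd (Nat.eq_of_mul_eq_mul_left (by norm_num) (hprod.trans (by norm_num))) hno

/-- What the centraliser of the outer element looks like. -/
structure Outer (t x : G) (d : ℕ) (O : Subgroup G) : Prop where
  card : Nat.card O = 11 ^ d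
  le : O ≤ centralizer ({x} : Set G)
  cardC : Nat.card ↥(centralizer ({x} : Set G)) = 2 * 11 ^ d
  norm : centralizer ({x} : Set G) ≤ normalizer (O : Set G)
  fix : ∀ w ∈ O, w * t = t * w → w ∈ zpowers x
  all : ∀ w : G, w * x = x * w → w ^ 1331 = 1 → w ∈ O

/-- The centraliser has order twice a power of eleven. -/
theorem cent_outer (hG : ¬ IsMulCommutative G) {z : G} {P : Subgroup G} (hJ : IsOfJankoFourTypeWith z P)
    (hcard : Nat.card G = orderJ4) {c : Ctx z P (twoCoreOfCentralizer z)} {A : Subgroup MTwoTwo} {o : c.Orb A}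
    (dd : o.Duads) {t x : G} (ht : t ∈ c.Tset (c.vGrp A o.hA.1.1)) (hx : orderOf x = 11) (hxt : x * t = t * x) :
    ∃ d O, 2 ≤ d ∧ d ≤ 3 ∧ Outer t x d O := by
  classical
  haveI : Fact (Nat.Prime 2) := ⟨Nat.prime_two⟩
  haveI : Fact (Nat.Prime 3) := ⟨Nat.prime_three⟩
  haveI : Fact (Nat.Prime 11) := ⟨by norm_num⟩
  obtain ⟨h22, -, -, -⟩ := local_cent dd ht hx hxt
  have ht2 : orderOf t = 2 := orderOf_eq_prime (hp := ⟨Nat.prime_two⟩)
    (by rw [sq]; exact c.vGrp_sq o.hA.1 ht.1) ht.2.1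
  set C := centralizer ({x} : Set G) with hC
  have htC : t ∈ C := mem_centralizer_singleton_iff.mpr hxt.symm
  obtain ⟨a, b, d, ha, hb, hd2, hd3, hCc⟩ := cent_shape hG hJ hcard hx
  rw [← hC] at hCc
  have ha1 : a = 1 := by
    have h2 : 2 ∣ Nat.card C := by rw [← ht2, ← Subgroup.orderOf_mk t htC]; exact orderOf_dvd_natCard _
    by_contra hne
    rcases Nat.lt_or_ge a 1 with h0 | h0
    · rw [hCc, show a = 0 by omega, pow_zero, one_mul] at h2
      exact absurd h2 ((Nat.Prime.coprime_iff_not_dvd Nat.prime_two).mp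
        (Nat.Coprime.mul_right (Nat.Coprime.pow_right _ (by norm_num)) (Nat.Coprime.pow_right _ (by norm_num))))
    · have h4 : 2 ^ (1 + 1) ∣ Nat.card C := by
        rw [hCc, mul_assoc]; exact Dvd.dvd.mul_right (Nat.pow_dvd_pow 2 (by omega)) _
      obtain ⟨T, hT, htT⟩ := Sylow.exists_subgroup_card_pow_succ h4 (H := zpowers (⟨t, htC⟩ : ↥C))
        (by rw [Nat.card_zpowers, Subgroup.orderOf_mk, ht2]; norm_num)
      haveI : IsMulCommutative ↥T := IsPGroup.isMulCommutative_of_card_eq_prime_sq (p := 2) hT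
      have hTD : T.map C.subtype ≤ centralizer ({t} : Set G) ⊓ C := by
        rintro _ ⟨v, hv, rfl⟩
        refine ⟨mem_centralizer_singleton_iff.mpr ?_, v.2⟩
        exact congrArg (fun w : ↥T => ((w : ↥C) : G)) (mul_comm' (⟨v, hv⟩ : ↥T) ⟨⟨t, htC⟩, htT (mem_zpowers _)⟩)
      have := card_dvd_of_le hTD
      rw [card_map_of_injective C.subtype_injective, hT, h22] at this
      norm_num at this
  subst ha1
  have hb0 : b = 0 := by
    by_contra hne
    obtain ⟨⟨y, hyC⟩, hy⟩ := exists_prime_orderOf_dvd_card' (G := ↥C) 3 (by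
      rw [hCc]; exact Dvd.dvd.mul_right (Dvd.dvd.mul_left (dvd_pow_self 3 hne) _) _)
    rw [Subgroup.orderOf_mk] at hy
    obtain ⟨k, hk⟩ := Big.three_into_P hG hJ hcard hy
    have hkx : k * x * k⁻¹ ∈ centralizer (P : Set G) := mem_centralizer_iff.mpr fun q hq => by
      rw [← hk] at hq
      obtain ⟨i, rfl⟩ := mem_zpowers_iff.mp hq
      exact ((show Commute (k * y * k⁻¹) (k * x * k⁻¹) from
        Big.conj_comm (mem_centralizer_singleton_iff.mp hyC)).zpow_left i).eq
    have hkH := c.norm_P hG (hinv_of_type hJ) (centralizer_le_normalizer _ hkx)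
    have hwC : k⁻¹ * z * k ∈ C := mem_centralizer_singleton_iff.mpr (by
      calc k⁻¹ * z * k * x = k⁻¹ * (z * (k * x * k⁻¹)) * k := by group
        _ = x * (k⁻¹ * z * k) := by rw [← mem_centralizer_singleton_iff.mp hkH]; group)
    have hw2 : orderOf (k⁻¹ * z * k) = 2 := by
      have h1 := Big.orderOf_conj k⁻¹ z
      rw [inv_inv] at h1
      rw [h1, c.oz]
    have hfac : (Nat.card C).factorization 2 = 1 := by
      rw [hCc]
      exact CfsgGolay.factorization_eq (q := 3 ^ b * 11 ^ d) Nat.prime_two (by ring)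
        ((Nat.Prime.coprime_iff_not_dvd Nat.prime_two).mp
          (Nat.Coprime.mul_right (Nat.Coprime.pow_right _ (by norm_num)) (Nat.Coprime.pow_right _ (by norm_num))))
    obtain ⟨g, hg⟩ := Big.zpowers_conjugate hfac (x := (⟨t, htC⟩ : ↥C)) (y := ⟨_, hwC⟩)
      (by rw [Subgroup.orderOf_mk, ht2]) (by rw [Subgroup.orderOf_mk, hw2])
    obtain ⟨i, hi⟩ := mem_zpowers_iff.mp (hg.symm ▸ mem_zpowers (⟨_, hwC⟩ : ↥C))
    have hi' : ((g : G) * t * (g : G)⁻¹) ^ i = k⁻¹ * z * k := by simpa using congrArg Subtype.val hi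
    have hgt : (g : G) * t * (g : G)⁻¹ * ((g : G) * t * (g : G)⁻¹) = 1 := by
      rw [show (g : G) * t * (g : G)⁻¹ * ((g : G) * t * (g : G)⁻¹) = (g : G) * (t * t) * (g : G)⁻¹ by group,
        c.vGrp_sq o.hA.1 ht.1]
      group
    rcases Ctx.mem_zpowers_two hgt (show k⁻¹ * z * k ∈ zpowers _ from mem_zpowers_iff.mpr ⟨i, hi'⟩) with e | e
    · rw [e, orderOf_one] at hw2; norm_num at hw2
    · refine ht.2.2 ⟨(g : G)⁻¹ * k⁻¹, ?_⟩
      rw [show (g : G)⁻¹ * k⁻¹ * z * ((g : G)⁻¹ * k⁻¹)⁻¹ = (g : G)⁻¹ * (k⁻¹ * z * k) * g by group, e]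
      group
  subst hb0
  rw [pow_zero, mul_one, pow_one] at hCc
  obtain ⟨R0⟩ : Nonempty (Sylow 11 ↥C) := inferInstance
  have hR0c : Nat.card ↥(R0 : Subgroup ↥C) = 11 ^ d := by
    rw [R0.card_eq_multiplicity, CfsgGolay.factorization_eq (q := 2) (by norm_num) (hCc.trans (by ring)) (by norm_num)]
  have hsub : Subsingleton (Sylow 11 ↥C) := by
    have h2 := (R0 : Subgroup ↥C).card_mul_index
    rw [hR0c, hCc, mul_comm 2] at h2
    have h3 : Nat.card (Sylow 11 ↥C) ∣ 2 := Nat.eq_of_mul_eq_mul_left (by positivity) h2 ▸ R0.card_dvd_index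
    have h4 := card_sylow_modEq_one 11 ↥C
    rw [Nat.ModEq] at h4
    rcases (Nat.dvd_prime Nat.prime_two).mp h3 with h5 | h5
    · exact (Nat.card_eq_one_iff_unique.mp h5).1
    · rw [h5] at h4; norm_num at h4
  set O := (R0 : Subgroup ↥C).map C.subtype with hO
  have hOc : Nat.card O = 11 ^ d := by rw [hO, card_map_of_injective C.subtype_injective, hR0c]
  have hOC : O ≤ C := map_subtype_le _
  have hall : ∀ w : G, w * x = x * w → w ^ 1331 = 1 → w ∈ O := by
    intro w hw hw1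
    obtain ⟨k, -, hk⟩ := (Nat.dvd_prime_pow (show Nat.Prime 11 by norm_num)).mp
      (show orderOf (⟨w, mem_centralizer_singleton_iff.mpr hw⟩ : ↥C) ∣ 11 ^ 3 by
        refine orderOf_dvd_of_pow_eq_one (Subtype.ext ?_)
        show w ^ (11 ^ 3) = 1
        norm_num [hw1])
    obtain ⟨R', hR'⟩ := (IsPGroup.of_card (n := k) (by rw [Nat.card_zpowers, hk]) :
      IsPGroup 11 ↥(zpowers (⟨w, mem_centralizer_singleton_iff.mpr hw⟩ : ↥C))).exists_le_sylow
    rw [hsub.elim R' R0] at hR'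
    exact ⟨_, hR' (mem_zpowers _), rfl⟩
  have hpow : ∀ r ∈ O, r ^ 1331 = 1 := fun r hr => orderOf_dvd_iff_pow_eq_one.mp
    (dvd_trans (by rw [← hOc, ← Subgroup.orderOf_mk r hr]; exact orderOf_dvd_natCard _)
      ((Nat.pow_dvd_pow 11 hd3).trans (by norm_num)))
  have hxO : x ∈ O := hall x rfl (orderOf_dvd_iff_pow_eq_one.mp (by rw [hx]; norm_num))
  refine ⟨d, O, hd2, hd3, ⟨hOc, hOC, hCc, fun g hg => mem_norm_of fun r hr => hall _
    (mem_centralizer_singleton_iff.mp (mul_mem (mul_mem hg (hOC hr)) (inv_mem hg)))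
    (by rw [conj_pow, hpow r hr, mul_one, mul_inv_cancel]), fun w hw hwt => ?_, hall⟩⟩
  have hle : zpowers x ≤ O ⊓ centralizer ({t} : Set G) :=
    zpowers_le.mpr ⟨hxO, mem_centralizer_singleton_iff.mpr hxt⟩
  have hdv : Nat.card ↥(O ⊓ centralizer ({t} : Set G)) ∣ 11 := by
    have h1 : Nat.card ↥(O ⊓ centralizer ({t} : Set G)) ∣ 22 :=
      h22 ▸ card_dvd_of_le (le_inf inf_le_right (inf_le_left.trans hOC))
    have h2 : Nat.card ↥(O ⊓ centralizer ({t} : Set G)) ∣ 1331 :=
      (hOc ▸ card_dvd_of_le inf_le_left).trans ((Nat.pow_dvd_pow 11 hd3).trans (by norm_num))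
    exact (Nat.dvd_gcd h1 h2).trans (by norm_num)
  rw [eq_of_le_of_card_ge hle (by rw [Nat.card_zpowers, hx]; exact Nat.le_of_dvd (by norm_num) hdv)]
  exact ⟨hw, mem_centralizer_singleton_iff.mpr hwt⟩

/-- The automiser of the outer group of order eleven inside C(t). -/
theorem norm_outer (hG : ¬ IsMulCommutative G) {z : G} {P : Subgroup G} (hJ : IsOfJankoFourTypeWith z P)
    {c : Ctx z P (twoCoreOfCentralizer z)} {A : Subgroup MTwoTwo} {o : c.Orb A}
    (dd : o.Duads) {t x : G} (ht : t ∈ c.Tset (c.vGrp A o.hA.1.1)) (hx : orderOf x = 11) (hxt : x * t = t * x) :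
    Nat.card ↥(centralizer ({t} : Set G) ⊓ normalizer (zpowers x : Set G)) = 220 := by
  classical
  haveI : Fact (Nat.Prime 11) := ⟨by norm_num⟩
  obtain ⟨h22, -, -, -⟩ := local_cent dd ht hx hxt
  set Ct := centralizer ({t} : Set G) with hCt
  set L := Ct ⊓ normalizer (zpowers x : Set G) with hL
  let φ : ↥L →* MulAut ↥(zpowers x) := (zpowers x).normalizerMonoidHom.comp (inclusion inf_le_right)
  have hker : φ.ker.map L.subtype = Ct ⊓ centralizer ({x} : Set G) := by
    ext v
    constructor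
    · rintro ⟨w, hw, rfl⟩
      have h1 : inclusion inf_le_right w ∈ (zpowers x).normalizerMonoidHom.ker := hw
      rw [normalizerMonoidHom_ker, mem_subgroupOf] at h1
      exact ⟨w.2.1, mem_centralizer_singleton_iff.mpr (mem_centralizer_iff.mp h1 x (mem_zpowers x)).symm⟩
    · intro hv
      have hcz : v ∈ centralizer (zpowers x : Set G) := mem_centralizer_iff.mpr fun w hw => by
        obtain ⟨i, rfl⟩ := mem_zpowers_iff.mp hw
        exact ((show Commute x v from (mem_centralizer_singleton_iff.mp hv.2).symm).zpow_left i).eq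
      refine ⟨⟨v, hv.1, centralizer_le_normalizer _ hcz⟩, ?_, rfl⟩
      show inclusion inf_le_right _ ∈ (zpowers x).normalizerMonoidHom.ker
      rw [normalizerMonoidHom_ker, mem_subgroupOf]
      exact hcz
  have h1 := φ.ker.card_mul_index
  rw [index_ker, ← card_map_of_injective L.subtype_injective (K := φ.ker), hker, h22] at h1
  have hr : Nat.card φ.range ∣ 10 := by
    have := card_subgroup_dvd_card φ.range
    rwa [(inferInstance : IsCyclic ↥(zpowers x)).card_mulAut, Nat.card_zpowers, hx,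
      Nat.totient_prime (by norm_num)] at this
  -- Sylow's congruence in C(t)
  have hxC : x ∈ Ct := mem_centralizer_singleton_iff.mpr hxt
  have hfac : (Nat.card Ct).factorization 11 = 1 := by
    rw [card_cent_t hG hJ (o := o) ht]
    exact CfsgGolay.factorization_eq (q := 165150720) (by norm_num) (by norm_num) (by norm_num)
  let S : Sylow 11 ↥Ct := Sylow.ofCard (zpowers (⟨x, hxC⟩ : ↥Ct)) (by
    rw [Nat.card_zpowers, Subgroup.orderOf_mk, hx, hfac, pow_one])
  have hNS : Nat.card ↥(normalizer ((S : Subgroup ↥Ct) : Set ↥Ct)) = Nat.card L := by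
    rw [← card_map_of_injective Ct.subtype_injective]
    congr 2
    have hmap : (zpowers (⟨x, hxC⟩ : ↥Ct)).map Ct.subtype = zpowers x := by rw [MonoidHom.map_zpowers]; rfl
    ext v
    constructor
    · rintro ⟨n, hn, rfl⟩
      refine ⟨n.2, mem_norm_of fun w hw => ?_⟩
      rw [← hmap] at hw ⊢
      obtain ⟨w', hw', rfl⟩ := hw
      exact ⟨n * w' * n⁻¹, (mem_normalizer_iff.mp hn w').mp hw', by simp⟩
    · intro hv
      refine ⟨⟨v, hv.1⟩, mem_norm_of fun w hw => ?_, rfl⟩
      have h2 : v * (w : G) * v⁻¹ ∈ zpowers x :=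
        (mem_normalizer_iff.mp hv.2 _).mp (hmap ▸ mem_map_of_mem _ hw)
      obtain ⟨i, hi⟩ := mem_zpowers_iff.mp h2
      exact mem_zpowers_iff.mpr ⟨i, Subtype.ext (by simpa using hi)⟩
  have h2 := (normalizer ((S : Subgroup ↥Ct) : Set ↥Ct)).card_mul_index
  rw [hNS, ← h1, card_cent_t hG hJ (o := o) ht] at h2
  have h3 := card_sylow_modEq_one 11 ↥Ct
  rw [S.card_eq_index_normalizer, Nat.ModEq] at h3
  replace h3 : (normalizer ((S : Subgroup ↥Ct) : Set ↥Ct)).index % 11 = 1 := h3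
  rw [← h1]
  obtain ⟨k, hk⟩ : ∃ k, k = Nat.card φ.range := ⟨_, rfl⟩
  rw [← hk] at h1 h2 hr ⊢
  have hle := Nat.le_of_dvd (by norm_num) hr
  have hk0 : k ≠ 0 := fun h => by rw [h] at hr; norm_num at hr
  interval_cases k <;> first | omega | (norm_num at hr; done)

end CfsgLib.JankoFour.Eleven
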