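/-
The centraliser of the outer element of order eleven has no Sylow subgroup of G.
-/
import Cfsg.Agent.Lib.JankoFour.ElevenOuter

set_option autoImplicit false
set_option linter.style.haveILetI false
set_option linter.unusedSectionVars false

namespace CfsgLib.JankoFour.Eleven

open Cfsg Subgroup CfsgGolay
open CfsgLib.JankoFour.Big (orderJ4)

attribute [local irreducible] codeL octadL dodecadL slpCodes

universe u

variable {G : Type u} [Group G] [Finite G] [IsSimpleGroup G]

theorem pow_one_checked : ∀ r ∈ [3, 5, 7], ∀ k < 4, 0 < k → r ^ k % 11 = 1 → r = 5 ∧ 2 ≤ k ∨ r = 3 ∧ 4 ≤ k ∨ r = 7 ∧ 2 ≤ k := by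
  decide

theorem two_pow_checked : ∀ a < 22, 2 ^ a % 11 = 1 → a = 0 ∨ a = 10 ∨ a = 20 := by decide

/-- An involution normalising a group of order eleven centralises or inverts it. -/
theorem invol_on_eleven {h x : G} (hh : h * h = 1) (hx : orderOf x = 11)
    (hn : h ∈ normalizer (zpowers x : Set G)) : h * x * h⁻¹ = x ∨ h * x * h⁻¹ = x⁻¹ := by
  obtain ⟨i, hi⟩ := mem_zpowers_iff.mp ((mem_normalizer_iff.mp hn x).mp (mem_zpowers x))
  have h2 : x ^ (i * i) = x := by
    calc x ^ (i * i) = (x ^ i) ^ i := zpow_mul x i i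
      _ = h * (x ^ i) * h⁻¹ := by rw [hi, conj_zpow, hi]
      _ = h * h * x * (h * h)⁻¹ := by rw [hi]; group
      _ = x := by rw [hh]; group
  have h3 : x ^ ((i - 1) * (i + 1)) = 1 := by
    rw [show (i - 1) * (i + 1) = i * i - 1 by ring, zpow_sub_one, h2, mul_inv_cancel]
  have hd : (11 : ℤ) ∣ (i - 1) * (i + 1) := by
    have := orderOf_dvd_iff_zpow_eq_one.mpr h3
    rwa [hx] at this
  have hx' : x ^ (11 : ℤ) = 1 := by
    rw [show (11 : ℤ) = ((11 : ℕ) : ℤ) from rfl, zpow_natCast, ← hx, pow_orderOf_eq_one]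
  rcases Int.Prime.dvd_mul' (by norm_num : Nat.Prime 11) hd with ⟨m, hm⟩ | ⟨m, hm⟩
  · left
    rw [← hi, show i = ((11 : ℕ) : ℤ) * m + 1 by omega, zpow_add, zpow_mul, zpow_natCast, ← hx, pow_orderOf_eq_one]
    simp
  · right
    rw [← hi, show i = ((11 : ℕ) : ℤ) * m + (-1) by omega, zpow_add, zpow_mul, zpow_natCast, ← hx, pow_orderOf_eq_one]
    simp

theorem outer_small (hG : ¬ IsMulCommutative G) {z : G} {P : Subgroup G} (hJ : IsOfJankoFourTypeWith z P)
    (hcard : Nat.card G = orderJ4) {c : Ctx z P (twoCoreOfCentralizer z)} {A : Subgroup MTwoTwo} {o : c.Orb A}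
    (dd : o.Duads) {t x : G} (ht : t ∈ c.Tset (c.vGrp A o.hA.1.1)) (hx : orderOf x = 11) (hxt : x * t = t * x)
    {d : ℕ} {O : Subgroup G} (hO : Outer t x d O) : d ≠ 3 := by
  classical
  intro hd
  subst hd
  haveI : Fact (Nat.Prime 2) := ⟨Nat.prime_two⟩
  haveI : Fact (Nat.Prime 11) := ⟨by norm_num⟩
  obtain ⟨h22, hVx, hxN, hcent⟩ := local_cent dd ht hx hxt
  have h220 := norm_outer hG hJ dd ht hx hxt
  obtain ⟨hVel, hVc⟩ := c.vGrp_facts o.hA.1
  set V := c.vGrp A o.hA.1.1 with hV
  set N0 := normalizer (V : Set G) with hN0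
  set Ct := centralizer ({t} : Set G) with hCt
  set X := zpowers x with hX
  set L := Ct ⊓ normalizer (X : Set G) with hL
  have hOc : Nat.card O = 1331 := by rw [hO.card]; norm_num
  have hx11 : x ^ 11 = 1 := by rw [← hx, pow_orderOf_eq_one]
  have hXc : Nat.card X = 11 := by rw [hX, Nat.card_zpowers, hx]
  have hxO : x ∈ O := hO.all x rfl (orderOf_dvd_iff_pow_eq_one.mp (by rw [hx]; norm_num))
  have hXO : X ≤ O := zpowers_le.mpr hxO
  have hpow : ∀ w ∈ O, w ^ 1331 = 1 := fun w hw => orderOf_dvd_iff_pow_eq_one.mp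
    (by rw [← hOc, ← Subgroup.orderOf_mk w hw]; exact orderOf_dvd_natCard _)
  have hcomX : ∀ w ∈ O, ∀ v ∈ X, Commute w v := fun w hw v hv => by
    obtain ⟨i, rfl⟩ := mem_zpowers_iff.mp hv
    exact (show Commute w x from mem_centralizer_singleton_iff.mp (hO.le hw)).zpow_right i
  have ht1 : t * t = 1 := c.vGrp_sq o.hA.1 ht.1
  have ht2 : orderOf t = 2 := orderOf_eq_prime (by rw [sq]; exact ht1) ht.2.1
  -- N0 ∩ N(X) lies in C(t)
  have hNXt : ∀ n ∈ N0, n ∈ normalizer (X : Set G) → n ∈ Ct := by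
    intro n hn hnX
    have hxs : x ∈ centralizer ({n * t * n⁻¹} : Set G) := by
      refine mem_centralizer_singleton_iff.mpr ?_
      have h1 : n⁻¹ * x * n ∈ X := (mem_normalizer_iff''.mp hnX x).mp (mem_zpowers x)
      obtain ⟨i, hi⟩ := mem_zpowers_iff.mp h1
      have hc : Commute t (n⁻¹ * x * n) := hi ▸ (show Commute t x from hxt.symm).zpow_right i
      calc x * (n * t * n⁻¹) = n * ((n⁻¹ * x * n) * t) * n⁻¹ := by group
        _ = n * t * n⁻¹ * x := by rw [← hc.eq]; group
    rcases hVx _ ((mem_normalizer_iff.mp hn t).mp ht.1) (mem_centralizer_singleton_iff.mp hxs).symm with e | e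
    · exact absurd (conj_eq_one_iff.mp e) ht.2.1
    · exact mem_centralizer_singleton_iff.mpr (mul_inv_eq_iff_eq_mul.mp e)
  -- a reference inverting involution
  obtain ⟨h0, hh0⟩ : ∃ h0 : G, ∀ h ∈ L, h * h = 1 → h * x * h⁻¹ = x⁻¹ →
      h0 ∈ L ∧ h0 * h0 = 1 ∧ h0 * x * h0⁻¹ = x⁻¹ := by
    by_cases hex : ∃ h ∈ L, h * h = 1 ∧ h * x * h⁻¹ = x⁻¹
    · obtain ⟨h0, a, b, e⟩ := hex
      exact ⟨h0, fun _ _ _ _ => ⟨a, b, e⟩⟩
    · exact ⟨1, fun h a b e => absurd ⟨h, a, b, e⟩ hex⟩
  -- the union of the bad sets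
  let B : G → Set G := fun h => (fun p : G × G => p.1 * p.2) '' ((↑(O ⊓ centralizer ({h} : Set G)) : Set G) ×ˢ (X : Set G))
  have hB : ∀ h : G, orderOf h = 2 → (B h).ncard ≤ 121 := by
    intro h hh
    refine (Set.ncard_image_le (Set.toFinite _)).trans ?_
    rw [Set.ncard_prod, ← Nat.card_coe_set_eq, ← Nat.card_coe_set_eq]
    have h1 : Nat.card ↥(O ⊓ centralizer ({h} : Set G)) ≤ 11 := by
      obtain ⟨i, hi, hic⟩ := (Nat.dvd_prime_pow (show Nat.Prime 11 by norm_num)).mp
        (hO.card ▸ card_dvd_of_le (inf_le_left : O ⊓ centralizer ({h} : Set G) ≤ O))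
      have hi1 : i ≤ 1 := by
        by_contra hgt
        exact invol_121 hG hJ c hh ((Nat.pow_dvd_pow 11 (show 2 ≤ i by omega)).trans
          (hic ▸ card_dvd_of_le inf_le_right))
      rw [hic]
      exact (Nat.pow_le_pow_right (by norm_num) hi1).trans_eq (by norm_num)
    calc _ ≤ 11 * 11 := Nat.mul_le_mul h1 hXc.le
      _ = 121 := by norm_num
  let cands : Set G := {h | orderOf h = 2 ∧ (h = t ∨ h = h0 ∨ h = t * h0)}
  have hsmall : (⋃ h ∈ cands, B h).ncard ≤ 363 := by
    have hsub : (⋃ h ∈ cands, B h) ⊆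
        (if orderOf t = 2 then B t else ∅) ∪ (if orderOf h0 = 2 then B h0 else ∅) ∪
          (if orderOf (t * h0) = 2 then B (t * h0) else ∅) := by
      intro v hv
      simp only [Set.mem_iUnion, cands, Set.mem_setOf_eq] at hv
      obtain ⟨h, ⟨h2, rfl | rfl | rfl⟩, hm⟩ := hv
      · exact Or.inl (Or.inl (by rw [if_pos h2]; exact hm))
      · exact Or.inl (Or.inr (by rw [if_pos h2]; exact hm))
      · exact Or.inr (by rw [if_pos h2]; exact hm)
    refine (Set.ncard_le_ncard hsub (Set.toFinite _)).trans ?_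
    have hle : ∀ h : G, (if orderOf h = 2 then B h else ∅).ncard ≤ 121 := fun h => by
      split_ifs with hh
      · exact hB h hh
      · simp
    refine (Set.ncard_union_le _ _).trans ?_
    have := (Set.ncard_union_le (if orderOf t = 2 then B t else ∅) (if orderOf h0 = 2 then B h0 else ∅))
    have := hle t
    have := hle h0
    have := hle (t * h0)
    omega
  obtain ⟨u, hu, hgood⟩ : ∃ u ∈ (O : Set G), u ∉ ⋃ h ∈ cands, B h := by
    refine Set.exists_mem_notMem_of_ncard_lt_ncard ?_ (Set.toFinite _)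
    rw [← Nat.card_coe_set_eq (O : Set G), SetLike.coe_sort_coe, hOc]
    omega
  have hgood' : ∀ h, orderOf h = 2 → (h = t ∨ h = h0 ∨ h = t * h0) → ∀ y ∈ X, h * (u * y) = u * y * h → False := by
    intro h h1 h2 y hy hc
    refine hgood (Set.mem_iUnion₂.mpr ⟨h, ⟨h1, h2⟩, ?_⟩)
    exact ⟨(u * y, y⁻¹), ⟨⟨mul_mem hu (hXO hy), mem_centralizer_singleton_iff.mpr hc.symm⟩, inv_mem hy⟩,
      mul_inv_cancel_right u y⟩
  have huX : u ∉ X := fun h => hgood' t ht2 (Or.inl rfl) 1 (one_mem _) (by
    obtain ⟨i, rfl⟩ := mem_zpowers_iff.mp h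
    rw [mul_one]
    exact ((show Commute t x from hxt.symm).zpow_right i).eq)
  have hux : Commute u x := mem_centralizer_singleton_iff.mp (hO.le hu)
  have hOt : ∀ w ∈ O, w ∈ Ct → w ∈ X := fun w hw hwt => hO.fix w hw (mem_centralizer_singleton_iff.mp hwt)
  -- conjugate of N0
  set N1 := N0.map (MulAut.conj u).toMonoidHom with hN1
  have hmemN1 : ∀ {v}, v ∈ N1 ↔ u⁻¹ * v * u ∈ N0 := fun {v} => by
    rw [hN1, mem_map_equiv, MulAut.conj_symm_apply]
  set S := N0 ⊓ N1 with hS
  have hxN1 : x ∈ N1 := hmemN1.mpr (by rw [mul_assoc, ← hux.eq, inv_mul_cancel_left]; exact hxN)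
  have hXS : X ≤ S := zpowers_le.mpr ⟨hxN, hxN1⟩
  set St := S ⊓ normalizer (X : Set G) with hSt
  have hStL : St ≤ L := fun n hn => ⟨hNXt n hn.1.1 hn.2, hn.2⟩
  -- no element of order two or five in St
  have hfixed : ∀ k ∈ St, ∀ p, p.Prime → orderOf k = p → p ≠ 11 → ∃ y ∈ X, k * (u * y) = u * y * k := by
    intro k hk p hp hko hp11
    haveI := Fact.mk hp
    set k' := u⁻¹ * k * u with hk'
    have hk'N : k' ∈ N0 := hmemN1.mp hk.1.2
    have hk'X : k' ∈ normalizer (X : Set G) := by
      have huN : u ∈ normalizer (X : Set G) := centralizer_le_normalizer _ (mem_centralizer_iff.mpr fun v hv =>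
        (hcomX u hu v hv).symm.eq)
      exact mul_mem (mul_mem (inv_mem huN) hk.2) huN
    set w := k⁻¹ * k' with hw
    have hwO : w ∈ O := by
      have hkC : k⁻¹ * u⁻¹ * k ∈ O := by
        have hxk : (k⁻¹ * u⁻¹ * k) * x = x * (k⁻¹ * u⁻¹ * k) := by
          have h1 : k * x * k⁻¹ ∈ X := (mem_normalizer_iff.mp hk.2 x).mp (mem_zpowers x)
          calc k⁻¹ * u⁻¹ * k * x = k⁻¹ * (u⁻¹ * (k * x * k⁻¹)) * k := by group
            _ = x * (k⁻¹ * u⁻¹ * k) := by rw [((hcomX u hu _ h1).inv_left).eq]; group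
        refine hO.all _ hxk ?_
        have h1 := hpow u⁻¹ (inv_mem hu)
        calc (k⁻¹ * u⁻¹ * k) ^ 1331 = k⁻¹ * u⁻¹ ^ 1331 * k := by
              have h2 := conj_pow (i := 1331) (a := k⁻¹) (b := u⁻¹)
              rwa [inv_inv] at h2
          _ = 1 := by rw [h1, mul_one, inv_mul_cancel]
      rw [hw, hk', show k⁻¹ * (u⁻¹ * k * u) = k⁻¹ * u⁻¹ * k * u by group]
      exact mul_mem hkC hu
    have hwX : w ∈ X := hOt w hwO
      (mul_mem (inv_mem (hStL hk).1) (hNXt k' hk'N hk'X))
    refine coset_fixed (p := p) (by rw [← hko, pow_orderOf_eq_one]) (fun y hy => (mem_normalizer_iff.mp hk.2 y).mp hy)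
      ⟨k * w * k⁻¹, (mem_normalizer_iff.mp hk.2 w).mp hwX, ?_⟩ ?_
    · rw [hw, hk']; group
    · rw [hXc]
      exact fun h => hp11 ((Nat.prime_dvd_prime_iff_eq hp (by norm_num)).mp h)
  have hSt : St = X := by
    have hle : X ≤ St := le_inf hXS le_normalizer
    refine (eq_of_le_of_card_ge hle ?_).symm
    obtain ⟨m, hm⟩ := card_dvd_of_le hle
    rw [hXc] at hm
    have hdvd : Nat.card St ∣ 220 := h220 ▸ card_dvd_of_le hStL
    rw [hm] at hdvd
    have hm20 : m ∣ 20 := Nat.dvd_of_mul_dvd_mul_left (by norm_num) (hdvd.trans (dvd_of_eq (show 220 = 11 * 20 by norm_num)))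
    rw [hm, hXc]
    by_contra hgt
    obtain ⟨p, hp, hpm⟩ := Nat.exists_prime_and_dvd (show m ≠ 1 by omega)
    haveI := Fact.mk hp
    have hp20 : p ∣ 2 * 2 * 5 := hpm.trans hm20
    obtain ⟨⟨k, hk⟩, hko⟩ := exists_prime_orderOf_dvd_card' (G := St) p (hm ▸ hpm.mul_left 11)
    rw [Subgroup.orderOf_mk] at hko
    have hp25 : p = 2 ∨ p = 5 := by
      rcases (Nat.Prime.dvd_mul hp).mp hp20 with h | h
      · rcases (Nat.Prime.dvd_mul hp).mp h with h | h <;>
          exact Or.inl ((Nat.prime_dvd_prime_iff_eq hp Nat.prime_two).mp h)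
      · exact Or.inr ((Nat.prime_dvd_prime_iff_eq hp (by norm_num)).mp h)
    obtain ⟨y, hy, hky⟩ := hfixed k hk p hp hko (by rcases hp25 with rfl | rfl <;> norm_num)
    rcases hp25 with rfl | rfl
    · -- an involution
      have hkk : k * k = 1 := by rw [← sq, ← hko, pow_orderOf_eq_one]
      have hkL := hStL hk
      rcases invol_on_eleven hkk hx hk.2 with e | e
      · -- then it is t
        have hkx : k * x = x * k := mul_inv_eq_iff_eq_mul.mp e
        set D := Ct ⊓ centralizer ({x} : Set G) with hD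
        have hkD : k ∈ D := ⟨hkL.1, mem_centralizer_singleton_iff.mpr hkx⟩
        have htD : t ∈ D := ⟨mem_centralizer_singleton_iff.mpr rfl, mem_centralizer_singleton_iff.mpr hxt.symm⟩
        by_cases hkt : k = t
        · exact hgood' k hko (Or.inl hkt) y hy hky
        · have hcomm : Commute k t := mem_centralizer_singleton_iff.mp hkD.1
          have hle4 : zpowers t ⊔ zpowers k ≤ D := sup_le (zpowers_le.mpr htD) (zpowers_le.mpr hkD)
          have h4 : Nat.card ↥(zpowers t ⊔ zpowers k) = 4 := by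
            rw [Big.card_sup_eq (zpowers_le.mpr (centralizer_le_normalizer _ (mem_centralizer_iff.mpr fun v hv => by
                obtain ⟨i, rfl⟩ := mem_zpowers_iff.mp hv
                exact (hcomm.symm.zpow_left i).eq))) ?_, Nat.card_zpowers, Nat.card_zpowers, ht2, hko]
            rw [eq_bot_iff]
            intro v hv
            rcases Ctx.mem_zpowers_two ht1 hv.1 with h | h
            · exact h.symm ▸ one_mem _
            · rcases Ctx.mem_zpowers_two hkk hv.2 with h' | h'
              · exact h'.symm ▸ one_mem _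
              · exact absurd (h'.symm.trans h) hkt
          have := card_dvd_of_le hle4
          rw [h4, h22] at this
          norm_num at this
      · obtain ⟨hL0, h00, h0x⟩ := hh0 k hkL hkk e
        set m := h0 * k with hm0
        have hmx : m * x = x * m := by
          refine mul_inv_eq_iff_eq_mul.mp ?_
          calc h0 * k * x * (h0 * k)⁻¹ = h0 * (k * x * k⁻¹) * h0⁻¹ := by group
            _ = (h0 * x * h0⁻¹)⁻¹ := by rw [e]; group
            _ = x := by rw [h0x, inv_inv]
        set D := Ct ⊓ centralizer ({x} : Set G) with hD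
        have hmD : m ∈ D := ⟨mul_mem hL0.1 hkL.1, mem_centralizer_singleton_iff.mpr hmx⟩
        -- D is generated by t and x
        have hdec : D = zpowers t ⊔ X := by
          refine (eq_of_le_of_card_ge (sup_le (zpowers_le.mpr (show t ∈ D from
            ⟨mem_centralizer_singleton_iff.mpr rfl, mem_centralizer_singleton_iff.mpr hxt.symm⟩))
            (zpowers_le.mpr (show x ∈ D from
              ⟨mem_centralizer_singleton_iff.mpr hxt, mem_centralizer_singleton_iff.mpr rfl⟩))) ?_).symm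
          rw [h22]
          refine Nat.le_of_dvd Nat.card_pos ?_
          refine (show 22 = 2 * 11 from rfl) ▸ Nat.Coprime.mul_dvd_of_dvd_of_dvd (by norm_num) ?_ ?_
          · rw [← ht2, ← Nat.card_zpowers]; exact card_dvd_of_le le_sup_left
          · rw [← hXc]; exact card_dvd_of_le le_sup_right
        rw [hdec] at hmD
        have hnorm : X ≤ normalizer (zpowers t : Set G) := fun v hv => centralizer_le_normalizer _
          (mem_centralizer_iff.mpr fun w hw => by
            obtain ⟨i, rfl⟩ := mem_zpowers_iff.mp hv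
            obtain ⟨j, rfl⟩ := mem_zpowers_iff.mp hw
            exact (((show Commute t x from hxt.symm).zpow_left j).zpow_right i).eq)
        obtain ⟨s, hs, v, hv, hsv⟩ := CfsgLib.mem_sup_of_le_normalizer hnorm hmD
        -- k = h0 s v
        have hk' : k = h0 * s * v := by
          rw [mul_assoc, hsv, hm0, ← mul_assoc, h00, one_mul]
        have hs2 : s = 1 ∨ s = t := Ctx.mem_zpowers_two ht1 hs
        have h0t : Commute t h0 := (mem_centralizer_singleton_iff.mp hL0.1).symm
        set h' := h0 * s with hh'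
        have h'2 : orderOf h' = 2 := by
          refine orderOf_eq_prime ?_ ?_
          · rw [sq]
            rcases hs2 with e' | e' <;> rw [hh', e']
            · rw [mul_one]; exact h00
            · rw [mul_assoc, ← mul_assoc t, h0t.eq, mul_assoc h0 t t, ht1, mul_one, h00]
          · intro h1
            rw [hk', h1, one_mul] at hko
            have : orderOf v ∣ Nat.card X := by rw [← Subgroup.orderOf_mk v hv]; exact orderOf_dvd_natCard _
            rw [hko, hXc] at this
            norm_num at this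
        have hcand : h' = t ∨ h' = h0 ∨ h' = t * h0 := by
          rcases hs2 with e' | e' <;> rw [hh', e']
          · exact Or.inr (Or.inl (mul_one h0))
          · exact Or.inr (Or.inr h0t.eq.symm)
        refine hgood' h' h'2 hcand y hy ?_
        have hvc : Commute v (u * y) := ((hcomX (u * y) (mul_mem hu (hXO hy)) v hv)).symm
        rw [hk'] at hky
        calc h' * (u * y) = h0 * s * (u * y) * v * v⁻¹ := by rw [hh']; group
          _ = h0 * s * (v * (u * y)) * v⁻¹ := by rw [hvc.eq]; group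
          _ = u * y * (h0 * s * v) * v⁻¹ := by rw [← mul_assoc (h0 * s), hky]
          _ = u * y * h' := by rw [hh']; group
    · -- an element of order five
      set w := u * y with hw
      have hwO : w ∈ O := mul_mem hu (hXO hy)
      have hw1 : w ≠ 1 := fun h => huX (by
        have : u = y⁻¹ := eq_inv_of_mul_eq_one_left h
        rw [this]; exact inv_mem hy)
      have hd : orderOf w ∣ 11 ^ 3 := by
        rw [show 11 ^ 3 = 1331 by norm_num]; exact orderOf_dvd_of_pow_eq_one (hpow w hwO)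
      obtain ⟨j, hj, hjc⟩ := (Nat.dvd_prime_pow (show Nat.Prime 11 by norm_num)).mp hd
      have hj0 : j ≠ 0 := fun h => hw1 (orderOf_eq_one_iff.mp (by rw [hjc, h, pow_zero]))
      have ho : orderOf (w ^ 11 ^ (j - 1)) = 11 := by
        rw [orderOf_pow_of_dvd (by positivity) (by rw [hjc]; exact Nat.pow_dvd_pow 11 (by omega)), hjc,
          Nat.pow_div (by omega) (by norm_num), show j - (j - 1) = 1 by omega, pow_one]
      exact Big.five_seven_small hG ⟨P, hJ⟩ hcard (Or.inr rfl) (Or.inl hko) ho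
        ((show Commute k w from hky).pow_right _).eq
  -- a normal complement in S
  have hN0c : Nat.card N0 = 501397585920 := by
    rw [hN0, o.card_norm]
    norm_num
  have hSd : Nat.card S ∣ 501397585920 := hN0c ▸ card_dvd_of_le inf_le_left
  have hbound : 2897 ≤ Nat.card S := by
    have h1 := inf_card_ge N0 N1
    rw [hN1, card_map_of_injective (MulAut.conj u).injective, ← hN1, ← hS, hN0c, hcard] at h1
    by_contra hlt
    have h2 : Nat.card S * orderJ4 ≤ 2896 * orderJ4 := Nat.mul_le_mul_right _ (by omega)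
    exact absurd (h1.trans h2) (by norm_num [orderJ4])
  set X' := X.subgroupOf S with hX'
  have hX'c : Nat.card X' = 11 := (Nat.card_congr (subgroupOfEquivOfLe hXS).toEquiv).trans hXc
  have hSfac : (Nat.card S).factorization 11 = 1 := by
    obtain ⟨q, hq⟩ : 11 ∣ Nat.card S := hXc ▸ card_dvd_of_le hXS
    refine CfsgGolay.factorization_eq (q := q) (by norm_num) (by rw [hq, pow_one]) fun h => ?_
    have h121 : 121 ∣ Nat.card S := hq ▸ (show 121 = 11 * 11 from rfl) ▸ Nat.mul_dvd_mul_left 11 h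
    have := h121.trans hSd
    norm_num at this
  let T : Sylow 11 ↥S := Sylow.ofCard X' (by rw [hX'c, hSfac, pow_one])
  have hTS : normalizer ((T : Subgroup ↥S) : Set ↥S) ≤ centralizer ((T : Subgroup ↥S) : Set ↥S) := by
    intro n hn
    have hnX : (n : G) ∈ normalizer (X : Set G) := mem_norm_of fun v hv =>
      mem_subgroupOf.mp ((mem_normalizer_iff.mp hn ⟨v, hXS hv⟩).mp (mem_subgroupOf.mpr hv))
    have hn' : (n : G) ∈ X := hSt ▸ (show (n : G) ∈ St from ⟨n.2, hnX⟩)
    exact mem_centralizer_iff.mpr fun v hv => Subtype.ext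
      ((hcomX _ (hXO hn') _ (mem_subgroupOf.mp hv)).symm.eq)
  obtain ⟨M, hMn, hMc'⟩ : ∃ M : Subgroup ↥S, M.Normal ∧ Nat.card M * 11 = Nat.card S := by
    refine ⟨(MonoidHom.transferSylow T hTS).ker, inferInstance, ?_⟩
    have h := (MonoidHom.ker_transferSylow_isComplement' T hTS).card_mul_card
    rwa [show Nat.card ↥(T : Subgroup ↥S) = 11 from hX'c] at h
  set M0 := M.map S.subtype with hM0
  have hMS : M0 ≤ S := map_subtype_le _
  have hMc : Nat.card M0 * 11 = Nat.card S := by
    rw [hM0, card_map_of_injective S.subtype_injective]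
    exact hMc'
  have hM11 : ¬ 11 ∣ Nat.card M0 := fun h => by
    have h121 : 11 * 11 ∣ Nat.card S := hMc ▸ Nat.mul_dvd_mul_right h 11
    have := h121.trans hSd
    norm_num at this
  have hMinv : ∀ v ∈ M0, x * v * x⁻¹ ∈ M0 := by
    rintro _ ⟨v, hv, rfl⟩
    exact ⟨⟨x, hXS (mem_zpowers x)⟩ * v * ⟨x, hXS (mem_zpowers x)⟩⁻¹,
      hMn.conj_mem v hv _, by simp⟩
  have hMfix : ∀ v ∈ M0, x * v = v * x → v = 1 := by
    intro v hv hc
    have hvN : v ∈ normalizer (X : Set G) := centralizer_le_normalizer _ (mem_centralizer_iff.mpr fun w hw => by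
      obtain ⟨i, rfl⟩ := mem_zpowers_iff.mp hw
      exact ((show Commute x v from hc).zpow_left i).eq)
    have hvX : v ∈ X := hSt ▸ (show v ∈ St from ⟨hMS hv, hvN⟩)
    have h1 : orderOf v ∣ Nat.card X := by rw [← Subgroup.orderOf_mk v hvX]; exact orderOf_dvd_natCard _
    have h2 : orderOf v ∣ Nat.card M0 := by rw [← Subgroup.orderOf_mk v hv]; exact orderOf_dvd_natCard _
    rw [hXc] at h1
    rcases (Nat.dvd_prime (by norm_num)).mp h1 with h | h
    · exact orderOf_eq_one_iff.mp h
    · exact absurd (h ▸ h2) hM11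
  have hM45 : Nat.card M0 ∣ 2 ^ 21 * 23 * (3 ^ 3 * 5 * 7) := by
    have := hMc ▸ hSd
    rw [show 501397585920 = (2 ^ 21 * 23 * (3 ^ 3 * 5 * 7)) * 11 by norm_num] at this
    exact Nat.dvd_of_mul_dvd_mul_right (by norm_num) this
  have hMle : ∀ r : ℕ, (Nat.card M0).factorization r ≤ (2 ^ 21 * 23 * (3 ^ 3 * 5 * 7) : ℕ).factorization r := fun r =>
    ((Nat.factorization_le_iff_dvd Nat.card_pos.ne' (by norm_num)).mpr hM45) r
  -- invariant Sylow subgroups
  have hsyl : ∀ r, r.Prime → ∃ R ≤ M0, (∀ a ∈ R, x * a * x⁻¹ ∈ R) ∧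
      Nat.card R = r ^ (Nat.card M0).factorization r ∧ r ^ (Nat.card M0).factorization r % 11 = 1 := by
    intro r hr
    haveI := Fact.mk hr
    obtain ⟨R, hRM, hRn, hRc⟩ := exists_inv_sylow (r := r) hx11 hMinv hM11
    exact ⟨R, hRM, hRn, hRc, hRc ▸ fixed_mod hx11 hRn fun a ha => hMfix a (hRM ha)⟩
  have hno : ∀ r ∈ [3, 5, 7], ¬ r ∣ Nat.card M0 := by
    intro r hr hrd
    have hrp : r.Prime := by
      simp only [List.mem_cons, List.not_mem_nil, or_false] at hr
      rcases hr with rfl | rfl | rfl <;> norm_num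
    obtain ⟨-, -, -, -, h1⟩ := hsyl r hrp
    have hpos := hrp.factorization_pos_of_dvd Nat.card_pos.ne' hrd
    have hle := hMle r
    simp only [List.mem_cons, List.not_mem_nil, or_false] at hr
    rcases hr with rfl | rfl | rfl
    · rw [CfsgGolay.factorization_eq (k := 3) (q := 2 ^ 21 * 23 * (5 * 7)) (m := 2 ^ 21 * 23 * (3 ^ 3 * 5 * 7))
        (by norm_num) (by norm_num) (by norm_num)] at hle
      rcases pow_one_checked 3 (by decide) _ (by omega) hpos h1 with h | h | h <;> omega
    · rw [CfsgGolay.factorization_eq (k := 1) (q := 2 ^ 21 * 23 * (3 ^ 3 * 7)) (m := 2 ^ 21 * 23 * (3 ^ 3 * 5 * 7))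
        (by norm_num) (by norm_num) (by norm_num)] at hle
      rcases pow_one_checked 5 (by decide) _ (by omega) hpos h1 with h | h | h <;> omega
    · rw [CfsgGolay.factorization_eq (k := 1) (q := 2 ^ 21 * 23 * (3 ^ 3 * 5)) (m := 2 ^ 21 * 23 * (3 ^ 3 * 5 * 7))
        (by norm_num) (by norm_num) (by norm_num)] at hle
      rcases pow_one_checked 7 (by decide) _ (by omega) hpos h1 with h | h | h <;> omega
  obtain ⟨R, hRM, hRn, hRc, hR1⟩ := hsyl 2 Nat.prime_two
  set a := (Nat.card M0).factorization 2 with ha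
  have ha21 : a ≤ 21 := (hMle 2).trans_eq (CfsgGolay.factorization_eq (q := 23 * (3 ^ 3 * 5 * 7))
    (by norm_num) (by norm_num) (by norm_num))
  rcases two_pow_checked a (by omega) hR1 with h0 | h
  · -- M is too small
    have h2 : ¬ 2 ∣ Nat.card M0 := fun h => by
      have := Nat.prime_two.factorization_pos_of_dvd Nat.card_pos.ne' h
      rw [← ha, h0] at this
      exact absurd this (lt_irrefl 0)
    have hcop : ∀ r, r.Prime → ¬ r ∣ Nat.card M0 → Nat.Coprime (Nat.card M0) r := fun r hr h =>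
      ((Nat.Prime.coprime_iff_not_dvd hr).mpr h).symm
    have h23 : Nat.card M0 ∣ 23 := by
      refine Nat.Coprime.dvd_of_dvd_mul_right ?_ (hM45.trans (dvd_of_eq
        (show 2 ^ 21 * 23 * (3 ^ 3 * 5 * 7) = 23 * (2 ^ 21 * (3 ^ 3 * 5 * 7)) by norm_num)))
      exact Nat.Coprime.mul_right (Nat.Coprime.pow_right _ (hcop 2 Nat.prime_two h2))
        (Nat.Coprime.mul_right (Nat.Coprime.mul_right (Nat.Coprime.pow_right _ (hcop 3 Nat.prime_three (hno 3 (by decide))))
          (hcop 5 (by norm_num) (hno 5 (by decide)))) (hcop 7 (by norm_num) (hno 7 (by decide))))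
    have := Nat.le_of_dvd (by norm_num) h23
    omega
  · have hRc' : Nat.card R = 2 ^ 10 ∨ Nat.card R = 2 ^ 20 := by
      rcases h with h | h <;> rw [hRc, h] <;> simp
    have hRS : R ≤ S := hRM.trans hMS
    have hRfix : ∀ r ∈ R, x * r = r * x → r = 1 := fun r hr => hMfix r (hRM hr)
    obtain ⟨hRV, hR10⟩ := two_ten_le dd hx hxN (fun r hr => (hRS hr).1) hRn hRfix hRc'
    -- the same for the conjugate of R
    set R' := R.map (MulAut.conj u⁻¹).toMonoidHom with hR'
    have hR'mem : ∀ {v}, v ∈ R' ↔ u * v * u⁻¹ ∈ R := fun {v} => by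
      rw [hR', mem_map_equiv, MulAut.conj_symm_apply, inv_inv]
    have hux' : ∀ v : G, u * (x * v * x⁻¹) * u⁻¹ = x * (u * v * u⁻¹) * x⁻¹ := fun v => by
      rw [show u * (x * v * x⁻¹) * u⁻¹ = u * x * v * (u * x)⁻¹ by group, hux.eq]; group
    obtain ⟨hR'V, -⟩ := two_ten_le dd hx hxN
      (R := R') (fun v hv => by
        have := hmemN1.mp (hRS (hR'mem.mp hv)).2
        rwa [show u⁻¹ * (u * v * u⁻¹) * u = v by group] at this)
      (fun v hv => hR'mem.mpr (by rw [hux']; exact hRn _ (hR'mem.mp hv)))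
      (fun v hv hc => by
        have h1 : u * v * u⁻¹ = 1 := hRfix _ (hR'mem.mp hv) (by
          calc x * (u * v * u⁻¹) = x * (u * v * u⁻¹) * x⁻¹ * x := by group
            _ = u * v * u⁻¹ * x := by rw [← hux', hc, mul_inv_cancel_right])
        exact conj_eq_one_iff.mp h1)
      (by rw [hR', card_map_of_injective (MulAut.conj u⁻¹).injective]; exact hRc')
    -- a duad in the hyperplane R
    obtain ⟨p, q, hpq, hDR⟩ : ∃ p q, p ≠ q ∧ dd.D p q ∈ R := by
      by_contra hall
      push Not at hall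
      have hidx : (R.subgroupOf V).index = 2 := by
        have h := (R.subgroupOf V).card_mul_index
        rw [Nat.card_congr (subgroupOfEquivOfLe hRV).toEquiv, hR10, hVc] at h
        norm_num at h
        omega
      obtain ⟨p, q, r, hpq, hpr, hqr⟩ : ∃ p q r : GolayPt, p ≠ q ∧ p ≠ r ∧ q ≠ r :=
        ⟨none, some 0, some 1, by decide, by decide, by decide⟩
      have := (Subgroup.mul_mem_iff_of_index_two hidx (a := (⟨dd.D p q, dd.memV p q⟩ : ↥V))
        (b := ⟨dd.D q r, dd.memV q r⟩)).mpr (iff_of_false (hall p q hpq) (hall q r hqr))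
      refine hall p r hpr ?_
      rw [← dd.mul p q r]
      exact mem_subgroupOf.mp this
    set s := dd.D p q with hs
    have hsT : s ∈ c.Tset V := dd.mem p q hpq
    set V1 := V.map (MulAut.conj u).toMonoidHom with hV1
    have hmemV1 : ∀ {v}, v ∈ V1 ↔ u⁻¹ * v * u ∈ V := fun {v} => by
      rw [hV1, mem_map_equiv, MulAut.conj_symm_apply]
    have hsV1 : u⁻¹ * s * u ∈ V := hR'V (hR'mem.mpr (by
      rw [show u * (u⁻¹ * s * u) * u⁻¹ = s by group]; exact hDR))
    have hV1N : V1 ≤ N0 := fun v hv => o.cent_T hsT (mem_centralizer_singleton_iff.mpr (by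
      have h := c.vGrp_comm o.hA.1 (hmemV1.mp hv) hsV1
      calc v * s = u * (u⁻¹ * v * u * (u⁻¹ * s * u)) * u⁻¹ := by group
        _ = s * v := by rw [h]; group))
    have hV1e : V1 = V := c.eq_of_norm hVel hVc (elem_map _ hVel)
      (by rw [hV1, card_map_of_injective (MulAut.conj u).injective, hVc]) hV1N
    have huN : u ∈ N0 := by
      refine mem_norm_of fun v hv => ?_
      rw [← hV1e]
      exact ⟨v, hv, rfl⟩
    exact huX (hOt u hu (mem_centralizer_singleton_iff.mpr (hcent u huN hux.eq)))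

end CfsgLib.JankoFour.Eleven
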