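/-
The normaliser of a Sylow subgroup for eleven and the two classes of elements of order eleven.
-/
import Cfsg.Agent.Lib.JankoFour.ElevenSmall
import Cfsg.Agent.Lib.JankoFour.ElevenCent
import Cfsg.Agent.Lib.Fusion.EssentialSmall.Cube

set_option autoImplicit false
set_option linter.style.haveILetI false
set_option linter.unusedSectionVars false

namespace CfsgLib.JankoFour.Eleven

open Cfsg Subgroup
open CfsgLib.JankoFour.Big (orderJ4)
open scoped Pointwise

universe u

variable {G : Type u} [Group G] [Finite G]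

/-- A group inducing all ten automorphisms makes all nontrivial powers conjugate. -/
theorem conj_power {x : G} (hx : orderOf x = 11) {M : Subgroup G} (hM : M ≤ normalizer (zpowers x : Set G))
    (hc : Nat.card M = 10 * Nat.card ↥(M ⊓ centralizer ({x} : Set G))) {i : ℕ} (hi : ¬ 11 ∣ i) :
    ∃ n ∈ M, n * x * n⁻¹ = x ^ i := by
  classical
  let X := zpowers x
  let φ : ↥M →* MulAut ↥X := (zpowers x).normalizerMonoidHom.comp (inclusion hM)
  have hval : ∀ (n : ↥M) (v : ↥X), ((φ n v : ↥X) : G) = (n : G) * v * (n : G)⁻¹ := fun _ _ => rfl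
  have hker : φ.ker = (M ⊓ centralizer ({x} : Set G)).subgroupOf M := by
    ext n
    rw [mem_subgroupOf, MonoidHom.mem_ker]
    constructor
    · intro h
      refine ⟨n.2, mem_centralizer_singleton_iff.mpr ?_⟩
      have h1 := hval n ⟨x, mem_zpowers x⟩
      rw [h] at h1
      exact mul_inv_eq_iff_eq_mul.mp h1.symm
    · intro h
      refine MulEquiv.ext fun v => Subtype.ext ?_
      rw [hval]
      obtain ⟨j, hj⟩ := mem_zpowers_iff.mp v.2
      show _ = (v : G)
      rw [← hj, ((show Commute (n : G) x from mem_centralizer_singleton_iff.mp h.2).zpow_right j).eq,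
        mul_inv_cancel_right]
  let σ : ↥φ.range → {v : ↥X // v ≠ 1} := fun a => ⟨(a : MulAut ↥X) ⟨x, mem_zpowers x⟩, fun h => by
    have h' := congrArg (a : MulAut ↥X).symm h
    rw [MulEquiv.symm_apply_apply, map_one] at h'
    have h'' : x = 1 := congrArg Subtype.val h'
    rw [h'', orderOf_one] at hx
    norm_num at hx⟩
  have hσ : Function.Injective σ := by
    intro a b h
    refine Subtype.ext (MulEquiv.ext fun v => ?_)
    obtain ⟨j, hj⟩ := mem_zpowers_iff.mp v.2
    have hv : v = (⟨x, mem_zpowers x⟩ : ↥X) ^ j := Subtype.ext (by rw [coe_zpow]; exact hj.symm)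
    rw [hv, map_zpow, map_zpow]
    exact congrArg (· ^ j) (congrArg Subtype.val h)
  have hcard : Nat.card {v : ↥X // v ≠ 1} ≤ Nat.card ↥φ.range := by
    have h1 : Nat.card {v : ↥X // v ≠ 1} = 10 := by
      haveI : Fintype ↥X := Fintype.ofFinite _
      rw [Nat.card_eq_fintype_card, Fintype.card_subtype_compl (· = (1 : ↥X)), ← Nat.card_eq_fintype_card,
        Fintype.card_subtype_eq, show Nat.card ↥X = 11 by rw [Nat.card_zpowers, hx]]
    have h2 := φ.ker.card_mul_index
    rw [index_ker, hker, Nat.card_congr (subgroupOfEquivOfLe inf_le_left).toEquiv, hc, mul_comm 10] at h2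
    rw [h1, Nat.eq_of_mul_eq_mul_left Nat.card_pos h2]
  have hbij : Function.Bijective σ := (Nat.bijective_iff_injective_and_card σ).mpr
    ⟨hσ, le_antisymm (Nat.card_le_card_of_injective σ hσ) hcard⟩
  obtain ⟨⟨a, n, rfl⟩, ha⟩ := hbij.2 ⟨⟨x ^ i, pow_mem (mem_zpowers x) i⟩, fun h => hi (by
    have h1 : x ^ i = 1 := congrArg Subtype.val h
    exact hx ▸ orderOf_dvd_of_pow_eq_one h1)⟩
  exact ⟨n, n.2, (hval n ⟨x, mem_zpowers x⟩).symm.trans (congrArg (fun w => ((w : {v : ↥X // v ≠ 1}).1 : G)) ha)⟩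

theorem cent_conj_card (g x : G) :
    Nat.card ↥(centralizer ({g * x * g⁻¹} : Set G)) = Nat.card ↥(centralizer ({x} : Set G)) := by
  have : centralizer ({g * x * g⁻¹} : Set G) = (centralizer ({x} : Set G)).map (MulAut.conj g).toMonoidHom := by
    ext v
    rw [mem_map_equiv, mem_centralizer_singleton_iff, mem_centralizer_singleton_iff, MulAut.conj_symm_apply]
    constructor
    · intro e
      calc g⁻¹ * v * g * x = g⁻¹ * (v * (g * x * g⁻¹)) * g := by group
        _ = x * (g⁻¹ * v * g) := by rw [e]; group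
    · intro e
      calc v * (g * x * g⁻¹) = g * (g⁻¹ * v * g * x) * g⁻¹ := by group
        _ = g * x * g⁻¹ * v := by rw [e]; group
  rw [this, card_map_of_injective (MulAut.conj g).injective]

/-- An involution acting on a group with an odd number of Sylow subgroups fixes one of them. -/
theorem invol_fix_sylow {s : G} {C : Subgroup G} (hs : s * s = 1) (hn : s ∈ normalizer (C : Set G))
    [Fact (Nat.Prime 2)] (T : Sylow 2 ↥C) :
    ∃ d ∈ C, ∀ v ∈ (T : Subgroup ↥C).map C.subtype, (d⁻¹ * s * d) * v * (d⁻¹ * s * d)⁻¹ ∈ (T : Subgroup ↥C).map C.subtype := by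
  classical
  let σ : MulAut ↥C := C.normalizerMonoidHom ⟨s, hn⟩
  have hσ : σ ^ 2 = 1 := by
    rw [← map_pow, show (⟨s, hn⟩ : ↥(normalizer (C : Set G))) ^ 2 = 1 from Subtype.ext (by
      show s ^ 2 = 1
      rw [sq, hs]), map_one]
  have hgrp : IsPGroup 2 ↥(zpowers σ) := by
    rintro ⟨g, hg⟩
    obtain ⟨i, rfl⟩ := mem_zpowers_iff.mp hg
    refine ⟨1, Subtype.ext ?_⟩
    simp only [coe_pow, OneMemClass.coe_one, pow_one]
    rw [← zpow_natCast, ← zpow_mul, mul_comm, zpow_mul, zpow_natCast, hσ, one_zpow]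
  have hnd : ¬ 2 ∣ Nat.card (Sylow 2 ↥C) := not_dvd_card_sylow 2 ↥C
  obtain ⟨S, hS⟩ := hgrp.nonempty_fixed_point_of_prime_not_dvd_card (Sylow 2 ↥C) hnd
  have hfix : σ • S = S := hS ⟨σ, mem_zpowers σ⟩
  obtain ⟨d, hd⟩ := MulAction.exists_smul_eq ↥C T S
  refine ⟨d, d.2, ?_⟩
  rintro _ ⟨v, hv, rfl⟩
  have h1 : MulAut.conj d v ∈ (S : Subgroup ↥C) := by
    rw [← hd, Sylow.coe_subgroup_smul]; exact ⟨v, hv, rfl⟩
  have h2 : σ (MulAut.conj d v) ∈ (S : Subgroup ↥C) := by
    have h3 : σ • MulAut.conj d v ∈ σ • (S : Subgroup ↥C) := Subgroup.smul_mem_pointwise_smul _ σ _ h1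
    rw [← Sylow.pointwise_smul_def, hfix] at h3
    exact h3
  rw [← hd, Sylow.coe_subgroup_smul] at h2
  obtain ⟨w, hw, hwe⟩ := h2
  refine ⟨w, hw, ?_⟩
  have hwe' : (d : G) * (w : G) * (d : G)⁻¹ = s * ((d : G) * (v : G) * (d : G)⁻¹) * s⁻¹ := congrArg Subtype.val hwe
  show (w : G) = _
  calc (w : G) = (d : G)⁻¹ * ((d : G) * (w : G) * (d : G)⁻¹) * d := by group
    _ = _ := by rw [hwe']; simp only [coe_subtype]; group

/-- What we prove about the prime eleven. -/
structure Facts (G : Type u) [Group G] (x0 x1 : G) (R : Subgroup G) : Prop where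
  cardR : Nat.card R = 1331
  nonab : ¬ ∀ a b : ↥R, a * b = b * a
  expo : ∀ r ∈ R, r ^ 11 = 1
  ord0 : orderOf x0 = 11
  ord1 : orderOf x1 = 11
  diff : ¬ IsConj x0 x1
  classes : ∀ w : G, orderOf w = 11 → IsConj w x0 ∨ IsConj w x1
  cardN : Nat.card ↥(normalizer (R : Set G)) = 319440
  gl : ∃ K : Subgroup G, K ≤ normalizer (R : Set G) ∧ Nonempty (↥K ≃* GL (Fin 2) (ZMod 3))

variable [IsSimpleGroup G]

theorem exists_facts (hG : ¬ IsMulCommutative G) (hJ : IsOfJankoFourType G) (hcard : Nat.card G = orderJ4) :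
    ∃ x0 x1 R, Facts G x0 x1 R := by
  classical
  haveI : Fact (Nat.Prime 2) := ⟨Nat.prime_two⟩
  haveI : Fact (Nat.Prime 3) := ⟨Nat.prime_three⟩
  haveI : Fact (Nat.Prime 11) := ⟨by norm_num⟩
  obtain ⟨z, P, hJ'⟩ := hJ
  obtain ⟨c⟩ := ctx_of_type hJ'
  obtain ⟨A, o⟩ := c.exists_orb hG (hinv_of_type hJ')
  obtain ⟨dd⟩ := o.duads
  obtain ⟨x0, hx0c, hx0⟩ := exists_inner c
  obtain ⟨R, hR⟩ := cent_inner hG hJ' hcard c hx0 hx0c
  obtain ⟨θ, hθi, hθr⟩ := exists_sl c hx0 hx0c
  obtain ⟨h24, hD, hdec⟩ := card_centH c hJ' hx0 hx0c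
  set H := centralizer ({z} : Set G) with hH
  set C0 := centralizer ({x0} : Set G) with hC0
  set X0 := zpowers x0 with hX0
  set Q := fixE c x0 with hQ
  set S0 := Q ⊔ P with hS0
  -- the outer element
  obtain ⟨t, ht⟩ := Set.nonempty_of_ncard_ne_zero (s := c.Tset (c.vGrp A o.hA.1.1)) (by rw [o.cardT]; norm_num)
  obtain ⟨⟨x1, hx1t⟩, hx1'⟩ := exists_prime_orderOf_dvd_card' (G := ↥(centralizer ({t} : Set G))) 11
    (by rw [card_cent_t hG hJ' (o := o) ht]; norm_num)
  have hx1 : orderOf x1 = 11 := by rw [← hx1', Subgroup.orderOf_mk]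
  have hxt : x1 * t = t * x1 := mem_centralizer_singleton_iff.mp hx1t
  obtain ⟨d, O, hd2, hd3, hO⟩ := cent_outer hG hJ' hcard dd ht hx1 hxt
  have hd : d = 2 := by
    have := outer_small hG hJ' hcard dd ht hx1 hxt hO
    omega
  subst hd
  have hC1 : Nat.card ↥(centralizer ({x1} : Set G)) = 242 := by rw [hO.cardC]; norm_num
  have hne : ¬ IsConj x0 x1 := fun h => by
    obtain ⟨g, hg⟩ := isConj_iff.mp h
    have := cent_conj_card g x0
    rw [hg, hC1, hR.cardC] at this
    norm_num at this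
  -- R is a Sylow subgroup
  let U : Sylow 11 G := Sylow.ofCard R (by rw [hR.card, fac_eleven hcard]; norm_num)
  have hUR : (U : Subgroup G) = R := rfl
  have hpow : ∀ r ∈ R, r ^ 1331 = 1 := fun r hr => orderOf_dvd_iff_pow_eq_one.mp
    (by rw [← hR.card, ← Subgroup.orderOf_mk r hr]; exact orderOf_dvd_natCard _)
  have hx0R : x0 ∈ R := hR.all x0 rfl (orderOf_dvd_iff_pow_eq_one.mp (by rw [hx0]; norm_num))
  have hX0R : X0 ≤ R := zpowers_le.mpr hx0R
  have hX0c : Nat.card X0 = 11 := by rw [hX0, Nat.card_zpowers, hx0]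
  have hcen : ∀ a ∈ X0, ∀ r ∈ R, Commute a r := fun a ha r hr => by
    obtain ⟨i, rfl⟩ := mem_zpowers_iff.mp ha
    exact (show Commute x0 r from (mem_centralizer_singleton_iff.mp (hR.le hr)).symm).zpow_left i
  have intoR : ∀ w : G, orderOf w = 11 → ∃ g : G, g * w * g⁻¹ ∈ R := by
    intro w hw
    obtain ⟨W, hW⟩ := (IsPGroup.of_card (n := 1) (by rw [Nat.card_zpowers, hw, pow_one]) :
      IsPGroup 11 ↥(zpowers w)).exists_le_sylow
    obtain ⟨g, hg⟩ := MulAction.exists_smul_eq G W U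
    refine ⟨g, ?_⟩
    rw [← hUR, ← hg, Sylow.coe_subgroup_smul]
    exact ⟨w, hW (mem_zpowers w), rfl⟩
  obtain ⟨g1, hy1R⟩ := intoR x1 hx1
  set y := g1 * x1 * g1⁻¹ with hy
  have hyC : Nat.card ↥(centralizer ({y} : Set G)) = 242 := (cent_conj_card g1 x1).trans hC1
  have hnonab : ¬ ∀ a b : ↥R, a * b = b * a := by
    intro hab
    have hle : R ≤ centralizer ({y} : Set G) := fun r hr =>
      mem_centralizer_singleton_iff.mpr (congrArg Subtype.val (hab ⟨r, hr⟩ ⟨y, hy1R⟩))
    have := card_dvd_of_le hle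
    rw [hR.card, hyC] at this
    norm_num at this
  obtain ⟨hext, hpc, -⟩ := Cfsg.EssentialSmall.extraspecial_cube (p := 11) (E := ↥R) (by rw [hR.card]; norm_num) hnonab
  -- the centre
  have hcenter : center ↥R = X0.subgroupOf R := by
    refine (eq_of_le_of_card_ge (fun a ha => mem_center_iff.mpr fun b =>
      Subtype.ext (hcen a (mem_subgroupOf.mp ha) b b.2).symm.eq) ?_).symm
    rw [hext.2, Nat.card_congr (subgroupOfEquivOfLe hX0R).toEquiv, hX0c]
  have hmemcen : ∀ a : ↥R, a ∈ center ↥R → (a : G) ∈ X0 := fun a ha => by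
    rw [hcenter] at ha; exact mem_subgroupOf.mp ha
  have hxcomm : ∀ a ∈ X0, a * z = z * a := fun a ha => by
    obtain ⟨i, rfl⟩ := mem_zpowers_iff.mp ha
    exact ((show Commute x0 z from mem_centralizer_singleton_iff.mp hx0c.1).zpow_left i).eq
  have hzinv : z⁻¹ = z := inv_eq_of_mul_eq_one_right c.zz
  have hexp : ∀ r ∈ R, r ^ 11 = 1 := by
    intro r hr
    have hm : r ^ 11 ∈ X0 := hmemcen ⟨r ^ 11, pow_mem hr 11⟩ (hpc ⟨r, hr⟩)
    set a := r * (z * r * z) with ha
    have ha0 : a ∈ X0 := hR.inv r hr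
    have h1 : (z * r * z) ^ 11 = r ^ 11 := by
      calc (z * r * z) ^ 11 = (z * r * z⁻¹) ^ 11 := by rw [hzinv]
        _ = z * r ^ 11 * z⁻¹ := conj_pow
        _ = r ^ 11 := by rw [← hxcomm _ hm, mul_inv_cancel_right]
    have h2 : (z * r * z) ^ 11 = (r ^ 11)⁻¹ := by
      rw [show z * r * z = r⁻¹ * a by rw [ha, inv_mul_cancel_left],
        Commute.mul_pow (show Commute r⁻¹ a from ((hcen a ha0 r hr).symm).inv_left), inv_pow]
      have : a ^ 11 = 1 := by
        rw [← hX0c]; exact congrArg Subtype.val (pow_card_eq_one' (x := (⟨a, ha0⟩ : ↥X0)))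
      rw [this, mul_one]
    have h22 : r ^ 22 = 1 := by
      calc r ^ 22 = r ^ 11 * r ^ 11 := by rw [← pow_add]
        _ = 1 := by nth_rw 1 [← h1]; rw [h2, inv_mul_cancel]
    have := pow_gcd_eq_one.mpr ⟨hpow r hr, h22⟩
    rwa [show Nat.gcd 1331 22 = 11 by rfl] at this
  -- N(R) = N(X0)
  have hNeq : normalizer (R : Set G) = normalizer (X0 : Set G) := by
    refine le_antisymm (fun n hn => mem_norm_of fun a ha => ?_) fun n hn => mem_norm_of fun r hr => ?_
    · have hm : n * a * n⁻¹ ∈ R := (mem_normalizer_iff.mp hn a).mp (hX0R ha)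
      refine hmemcen ⟨_, hm⟩ (mem_center_iff.mpr fun b => Subtype.ext ?_)
      have hb : n⁻¹ * (b : G) * n ∈ R := (mem_normalizer_iff''.mp hn (b : G)).mp b.2
      show (b : G) * (n * a * n⁻¹) = n * a * n⁻¹ * b
      calc (b : G) * (n * a * n⁻¹) = n * (n⁻¹ * b * n * a) * n⁻¹ := by group
        _ = n * a * n⁻¹ * b := by rw [← (hcen a ha _ hb).eq]; group
    · refine hR.all _ ?_ (by rw [conj_pow, hpow r hr, mul_one, mul_inv_cancel])
      have hb : n⁻¹ * x0 * n ∈ X0 := (mem_normalizer_iff''.mp hn x0).mp (mem_zpowers x0)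
      calc n * r * n⁻¹ * x0 = n * (r * (n⁻¹ * x0 * n)) * n⁻¹ := by group
        _ = x0 * (n * r * n⁻¹) := by rw [← (hcen _ hb r hr).eq]; group
  set N := normalizer (X0 : Set G) with hN
  have hC0N : C0 ≤ N := fun v hv => centralizer_le_normalizer _ (mem_centralizer_iff.mpr fun w hw => by
    obtain ⟨i, rfl⟩ := mem_zpowers_iff.mp hw
    exact ((show Commute x0 v from (mem_centralizer_singleton_iff.mp hv).symm).zpow_left i).eq)
  have hNc : Nat.card N = 319440 := by
    let φ := X0.normalizerMonoidHom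
    have hker : φ.ker = C0.subgroupOf N := by
      rw [normalizerMonoidHom_ker]
      ext v
      rw [mem_subgroupOf, mem_subgroupOf]
      constructor
      · exact fun h => mem_centralizer_singleton_iff.mpr (mem_centralizer_iff.mp h x0 (mem_zpowers x0)).symm
      · intro h
        refine mem_centralizer_iff.mpr fun w hw => ?_
        obtain ⟨i, rfl⟩ := mem_zpowers_iff.mp hw
        exact ((show Commute x0 (v : G) from (mem_centralizer_singleton_iff.mp h).symm).zpow_left i).eq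
    have h1 := φ.ker.card_mul_index
    rw [index_ker, hker, Nat.card_congr (subgroupOfEquivOfLe hC0N).toEquiv, hR.cardC] at h1
    have he : Nat.card φ.range ∣ 10 := by
      have := card_subgroup_dvd_card φ.range
      rwa [(inferInstance : IsCyclic ↥X0).card_mulAut, hX0c, Nat.totient_prime (by norm_num)] at this
    have h2 := N.card_mul_index
    rw [hcard, ← h1] at h2
    have h3 := card_sylow_modEq_one 11 G
    rw [U.card_eq_index_normalizer, Nat.ModEq] at h3
    replace h3 : (normalizer (R : Set G)).index % 11 = 1 := h3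
    rw [hNeq] at h3
    rw [← h1]
    obtain ⟨k, hk⟩ : ∃ k, k = Nat.card φ.range := ⟨_, rfl⟩
    rw [← hk] at h2 he ⊢
    rw [orderJ4] at h2
    have hle := Nat.le_of_dvd (by norm_num) he
    have hk0 : k ≠ 0 := fun h => by rw [h] at he; norm_num at he
    interval_cases k <;> first | omega | (norm_num at he; done)
  have hpow0 : ∀ i : ℕ, ¬ 11 ∣ i → IsConj x0 (x0 ^ i) := fun i hi => by
    obtain ⟨n, -, hn⟩ := conj_power hx0 (M := N) le_rfl (by
      rw [show N ⊓ C0 = C0 from inf_eq_right.mpr hC0N, hR.cardC, hNc]) hi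
    exact isConj_iff.mpr ⟨n, hn⟩
  -- y is not central
  have hyX : y ∉ X0 := by
    intro h
    have hy11 : orderOf y = 11 := by rw [hy, Big.orderOf_conj, hx1]
    have hy1 : y ≠ 1 := fun e => by rw [e, orderOf_one] at hy11; norm_num at hy11
    have hzp : zpowers y = X0 := eq_of_le_of_card_ge (zpowers_le.mpr h) (by rw [hX0c, Nat.card_zpowers, hy11])
    have hle : R ≤ centralizer ({y} : Set G) := fun r hr => mem_centralizer_singleton_iff.mpr (hcen y h r hr).symm.eq
    have := card_dvd_of_le hle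
    rw [hR.card, hyC] at this
    norm_num at this
  have hS0C : S0 ≤ C0 := sup_le inf_le_right fun p hp =>
    mem_centralizer_singleton_iff.mpr (c.cen_comm hx0c hp).symm
  have hzS : z ∈ S0 := mem_sup_left (z_mem_fixE c hx0c)
  have hzC : z ∈ C0 := hS0C hzS
  have hSH : S0 ≤ H := sup_le (inf_le_left.trans c.Ez) c.P_le
  have hQ8 : Nat.card ↥Q = 8 := card_fixE c hx0 hx0c
  have hS24 : Nat.card ↥S0 = 24 := h24
  have hQidx : (Q.subgroupOf S0).index = 3 := by
    have h := (Q.subgroupOf S0).card_mul_index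
    rw [Nat.card_congr (subgroupOfEquivOfLe (le_sup_left : Q ≤ S0)).toEquiv, hQ8, hS24] at h
    omega
  have hS3 : (Nat.card ↥S0).factorization 3 = 1 := by
    rw [hS24]; exact CfsgGolay.factorization_eq (q := 8) Nat.prime_three (by norm_num) (by norm_num)
  have hinvol : ∀ v ∈ S0, v * v = 1 → v ∈ zpowers z := by
    intro v hv hvv
    haveI : (Q.subgroupOf S0).Normal := by
      refine ⟨fun a ha b => mem_subgroupOf.mpr ?_⟩
      refine ⟨c.conj_E (hSH b.2) (mem_fixE.mp (mem_subgroupOf.mp ha)).1, ?_⟩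
      exact C0.mul_mem (C0.mul_mem (hS0C b.2) (mem_subgroupOf.mp ha).2) (C0.inv_mem (hS0C b.2))
    have h3 := Subgroup.pow_index_mem (Q.subgroupOf S0) (⟨v, hv⟩ : ↥S0)
    rw [hQidx] at h3
    have hvQ : v ∈ Q := by
      have h4 : v ^ 3 ∈ Q := mem_subgroupOf.mp h3
      rwa [pow_succ, sq, hvv, one_mul] at h4
    exact fixE_invol c hx0 hx0c hvQ hvv
  -- the stabiliser of a line
  have hline : ∀ τ ∈ S0, ∀ w ∈ R, w ∉ X0 → ∀ m : ℕ, (∃ a ∈ X0, τ * w * τ⁻¹ = w ^ m * a) → τ = 1 ∨ τ = z := by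
    rintro τ hτ w hw hwX m ⟨a, ha, hτw⟩
    have hact : ∀ k : ℕ, ∃ b ∈ X0, τ ^ k * w * (τ ^ k)⁻¹ = w ^ (m ^ k) * b := by
      intro k
      induction k with
      | zero => exact ⟨1, one_mem _, by simp⟩
      | succ k ih =>
        obtain ⟨b, hb, e⟩ := ih
        have hτb : τ * b * τ⁻¹ = b := by
          obtain ⟨i, rfl⟩ := mem_zpowers_iff.mp hb
          rw [((show Commute τ x0 from mem_centralizer_singleton_iff.mp (hS0C hτ)).zpow_right i).eq,
            mul_inv_cancel_right]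
        refine ⟨a ^ (m ^ k) * b, mul_mem (pow_mem ha _) hb, ?_⟩
        calc τ ^ (k + 1) * w * (τ ^ (k + 1))⁻¹ = τ * (τ ^ k * w * (τ ^ k)⁻¹) * τ⁻¹ := by rw [pow_succ']; group
          _ = (τ * w ^ (m ^ k) * τ⁻¹) * (τ * b * τ⁻¹) := by rw [e]; group
          _ = (τ * w * τ⁻¹) ^ (m ^ k) * b := by rw [conj_pow, hτb]
          _ = _ := by
            rw [hτw, Commute.mul_pow ((hcen a ha (w ^ m) (pow_mem hw m)).symm), ← pow_mul, mul_assoc,
              show m ^ (k + 1) = m * m ^ k by ring]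
    obtain ⟨b, hb, e10⟩ := hact 10
    have hm0 : ¬ 11 ∣ m := by
      intro h
      obtain ⟨q, rfl⟩ := h
      rw [pow_mul, hexp w hw, one_pow, one_mul] at hτw
      refine hwX ?_
      have hτC : τ ∈ C0 := hS0C hτ
      have : w = τ⁻¹ * a * τ := by rw [← hτw]; group
      rw [this]
      obtain ⟨i, rfl⟩ := mem_zpowers_iff.mp ha
      rw [mul_assoc, ← ((show Commute τ x0 from mem_centralizer_singleton_iff.mp hτC).zpow_right i).eq,
        inv_mul_cancel_left]
      exact zpow_mem (mem_zpowers x0) i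
    have h10 : w ^ (m ^ 10) = w := by
      have hmod : m ^ 10 % 11 = 1 := by
        rw [Nat.pow_mod]
        have hlt : m % 11 < 11 := Nat.mod_lt _ (by norm_num)
        have hne0 : m % 11 ≠ 0 := fun h => hm0 (Nat.dvd_of_mod_eq_zero h)
        interval_cases m % 11 <;> first | omega | rfl
      rw [← Nat.mod_add_div (m ^ 10) 11, hmod, pow_add, pow_mul, hexp w hw, one_pow, mul_one, pow_one]
    rw [h10] at e10
    set τ' := τ ^ 10 with hτ'
    have hτ'1 : τ' = 1 := by
      by_contra hne1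
      obtain ⟨p, hp, hpd⟩ := Nat.exists_prime_and_dvd (fun h => hne1 (orderOf_eq_one_iff.mp h))
      haveI := Fact.mk hp
      set k := τ' ^ (orderOf τ' / p) with hk
      have hkS : k ∈ S0 := pow_mem (pow_mem hτ 10) _
      have hko : orderOf k = p := orderOf_pow_orderOf_div (orderOf_pos τ').ne' hpd
      have hp23 : p = 2 ∨ p = 3 := by
        have hd : p ∣ 2 ^ 3 * 3 := by
          rw [← hko, show 2 ^ 3 * 3 = Nat.card ↥S0 by rw [hS24]; norm_num, ← Subgroup.orderOf_mk k hkS]
          exact orderOf_dvd_natCard _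
        rcases (Nat.Prime.dvd_mul hp).mp hd with h | h
        · exact Or.inl ((Nat.prime_dvd_prime_iff_eq hp Nat.prime_two).mp (hp.dvd_of_dvd_pow h))
        · exact Or.inr ((Nat.prime_dvd_prime_iff_eq hp Nat.prime_three).mp h)
      have hkw : ∀ n : ℕ, ∃ b' ∈ X0, τ' ^ n * w * (τ' ^ n)⁻¹ = w * b' := by
        intro n
        induction n with
        | zero => exact ⟨1, one_mem _, by simp⟩
        | succ n ih =>
          obtain ⟨b', hb', e⟩ := ih
          have hτb : τ' * b' * τ'⁻¹ = b' := by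
            obtain ⟨i, rfl⟩ := mem_zpowers_iff.mp hb'
            rw [((show Commute τ' x0 from mem_centralizer_singleton_iff.mp (hS0C (pow_mem hτ 10))).zpow_right i).eq,
              mul_inv_cancel_right]
          refine ⟨b * b', mul_mem hb hb', ?_⟩
          calc τ' ^ (n + 1) * w * (τ' ^ (n + 1))⁻¹ = τ' * (τ' ^ n * w * (τ' ^ n)⁻¹) * τ'⁻¹ := by rw [pow_succ']; group
            _ = (τ' * w * τ'⁻¹) * (τ' * b' * τ'⁻¹) := by rw [e]; group
            _ = w * (b * b') := by rw [e10, hτb, mul_assoc]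
      obtain ⟨b', hb', eb⟩ := hkw (orderOf τ' / p)
      obtain ⟨a', ha', hcomm⟩ := coset_fixed (p := p) (h := k) (u := w) (X := X0)
        (by rw [← hko, pow_orderOf_eq_one]) (fun v hv => by
          obtain ⟨i, rfl⟩ := mem_zpowers_iff.mp hv
          rw [((show Commute k x0 from mem_centralizer_singleton_iff.mp (hS0C hkS)).zpow_right i).eq,
            mul_inv_cancel_right]
          exact zpow_mem (mem_zpowers x0) i) ⟨b', hb', eb⟩
        (by rw [hX0c]; rcases hp23 with rfl | rfl <;> norm_num)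
      have hwa : w * a' ∈ R := mul_mem hw (hX0R ha')
      have hgoal : w * a' ∈ X0 → False := fun h => hwX (by
        have := mul_mem h (inv_mem ha')
        rwa [mul_inv_cancel_right] at this)
      rcases hp23 with rfl | rfl
      · have hkk : k * k = 1 := by rw [← sq, ← hko, pow_orderOf_eq_one]
        rcases c.mem_Z.mp (hinvol k hkS hkk) with e | e
        · rw [e, orderOf_one] at hko; norm_num at hko
        · exact hgoal (hR.fix _ hwa (e ▸ hcomm).symm)
      · obtain ⟨p0, hp0, p01, hgen⟩ := c.exists_gen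
        have hp0o : orderOf p0 = 3 := orderOf_eq_prime (by rw [pow_succ, sq]; exact c.P_cube hp0) p01
        obtain ⟨g, hg⟩ := Big.zpowers_conjugate hS3 (x := (⟨k, hkS⟩ : ↥S0)) (y := ⟨p0, mem_sup_right hp0⟩)
          (by rw [Subgroup.orderOf_mk, hko]) (by rw [Subgroup.orderOf_mk, hp0o])
        set v := (g : G) * (w * a') * (g : G)⁻¹ with hv
        have hvR : v ∈ R := (mem_normalizer_iff.mp (hR.norm (hS0C g.2)) _).mp hwa
        have hp0v : Commute p0 v := by
          obtain ⟨i, hi⟩ := mem_zpowers_iff.mp (hg.symm ▸ mem_zpowers (⟨p0, mem_sup_right hp0⟩ : ↥S0))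
          have hi' : ((g : G) * k * (g : G)⁻¹) ^ i = p0 := by simpa using congrArg Subtype.val hi
          rw [← hi']
          exact (show Commute ((g : G) * k * (g : G)⁻¹) v from Big.conj_comm hcomm).zpow_left i
        have hvH : v ∈ H := c.norm_P hG (hinv_of_type hJ') (centralizer_le_normalizer _ (mem_centralizer_iff.mpr
          fun q hq => by
            rw [hgen] at hq
            obtain ⟨p', hp', hp'1, hgen'⟩ := c.exists_gen
            have hz0 : zpowers p0 = P := eq_of_le_of_card_ge (zpowers_le.mpr hp0) (by rw [Nat.card_zpowers, hp0o, c.hP])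
            rw [← hgen, ← hz0] at hq
            obtain ⟨i, rfl⟩ := mem_zpowers_iff.mp hq
            exact (hp0v.zpow_left i).eq))
        have hvX : v ∈ X0 := hR.fix v hvR (mem_centralizer_singleton_iff.mp hvH)
        refine hgoal ?_
        obtain ⟨i, hi⟩ := mem_zpowers_iff.mp hvX
        have : w * a' = (g : G)⁻¹ * v * g := by rw [hv]; group
        rw [this, ← hi, mul_assoc,
          ← ((show Commute (g : G) x0 from mem_centralizer_singleton_iff.mp (hS0C g.2)).zpow_right i).eq,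
          inv_mul_cancel_left]
        exact zpow_mem (mem_zpowers x0) i
    have h24' : τ ^ 24 = 1 := by
      have h0 := pow_card_eq_one' (x := (⟨τ, hτ⟩ : ↥S0))
      rw [hS24] at h0
      exact congrArg Subtype.val h0
    have h2 := pow_gcd_eq_one.mpr ⟨h24', hτ'1⟩
    rw [show Nat.gcd 24 10 = 2 by rfl, sq] at h2
    exact c.mem_Z.mp (hinvol τ hτ h2)
  -- every noncentral element of R is conjugate to x1
  have hy11 : orderOf y = 11 := by rw [hy, Big.orderOf_conj, hx1]
  have hpow1 : ∀ i : ℕ, ¬ 11 ∣ i → IsConj x1 (x1 ^ i) := fun i hi => by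
    obtain ⟨h22, -, -, -⟩ := local_cent dd ht hx1 hxt
    obtain ⟨n, -, hn⟩ := conj_power hx1 (M := centralizer ({t} : Set G) ⊓ normalizer (zpowers x1 : Set G))
      inf_le_right (by
        rw [norm_outer hG hJ' dd ht hx1 hxt]
        have hle : centralizer ({x1} : Set G) ≤ normalizer (zpowers x1 : Set G) := fun v hv =>
          centralizer_le_normalizer _ (mem_centralizer_iff.mpr fun w hw => by
            obtain ⟨j, rfl⟩ := mem_zpowers_iff.mp hw
            exact ((show Commute x1 v from (mem_centralizer_singleton_iff.mp hv).symm).zpow_left j).eq)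
        rw [inf_assoc, inf_eq_right.mpr hle, h22]) hi
    exact isConj_iff.mpr ⟨n, hn⟩
  have hnon : ∀ w ∈ R, w ∉ X0 → IsConj w x1 := by
    let F : Fin 5 × ↥S0 × ↥X0 → {w : ↥R // (w : G) ∉ X0} := fun p =>
      ⟨⟨(p.2.1 : G) * y ^ (p.1.1 + 1) * (p.2.1 : G)⁻¹ * p.2.2,
        mul_mem ((mem_normalizer_iff.mp (hR.norm (hS0C p.2.1.2)) _).mp (pow_mem hy1R _)) (hX0R p.2.2.2)⟩, by
        intro h
        have h1 := mul_mem h (inv_mem p.2.2.2)
        rw [mul_inv_cancel_right] at h1
        have h2 : y ^ (p.1.1 + 1) ∈ X0 := by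
          obtain ⟨i, hi⟩ := mem_zpowers_iff.mp h1
          have e : y ^ (p.1.1 + 1) = (p.2.1 : G)⁻¹ * x0 ^ i * p.2.1 := by rw [hi]; group
          rw [e, mul_assoc,
            ← ((show Commute (p.2.1 : G) x0 from mem_centralizer_singleton_iff.mp (hS0C p.2.1.2)).zpow_right i).eq,
            inv_mul_cancel_left]
          exact zpow_mem (mem_zpowers x0) i
        refine hyX ?_
        obtain ⟨q, -, hq⟩ := (Nat.exists_mul_mod_eq_one_of_coprime (n := p.1.1 + 1) (k := 11)
          ((Nat.Prime.coprime_iff_not_dvd (by norm_num)).mpr (by have := p.1.2; omega)).symm (by norm_num))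
        have hy' : (y ^ (p.1.1 + 1)) ^ q = y := by
          rw [← pow_mul, ← pow_mod_orderOf, hy11, hq, pow_one]
        exact hy' ▸ pow_mem h2 q⟩
    have hF : Function.Injective F := by
      rintro ⟨i, s, a⟩ ⟨j, s', a'⟩ he
      have he' : (s : G) * y ^ (i.1 + 1) * (s : G)⁻¹ * a = (s' : G) * y ^ (j.1 + 1) * (s' : G)⁻¹ * a' :=
        congrArg (fun w : {w : ↥R // (w : G) ∉ X0} => ((w : ↥R) : G)) he
      set τ := (s' : G)⁻¹ * s with hτ
      have hτS : τ ∈ S0 := mul_mem (inv_mem s'.2) s.2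
      set b := (a' : G) * (a : G)⁻¹ with hb
      have hbX : b ∈ X0 := mul_mem a'.2 (inv_mem a.2)
      have hbs : (s' : G)⁻¹ * b * s' = b := by
        obtain ⟨k, hk⟩ := mem_zpowers_iff.mp hbX
        rw [← hk, mul_assoc,
          ← ((show Commute (s' : G) x0 from mem_centralizer_singleton_iff.mp (hS0C s'.2)).zpow_right k).eq,
          inv_mul_cancel_left]
      have hτy : τ * y ^ (i.1 + 1) * τ⁻¹ = y ^ (j.1 + 1) * b := by
        calc τ * y ^ (i.1 + 1) * τ⁻¹ = (s' : G)⁻¹ * ((s : G) * y ^ (i.1 + 1) * (s : G)⁻¹ * a) * (a : G)⁻¹ * s' := by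
              rw [hτ]; group
          _ = y ^ (j.1 + 1) * ((s' : G)⁻¹ * b * s') := by rw [he', hb]; group
          _ = _ := by rw [hbs]
      -- the line is fixed
      obtain ⟨q, -, hq⟩ := (Nat.exists_mul_mod_eq_one_of_coprime (n := i.1 + 1) (k := 11)
        ((Nat.Prime.coprime_iff_not_dvd (by norm_num)).mpr (by have := i.2; omega)).symm (by norm_num))
      have hyq : (y ^ (i.1 + 1)) ^ q = y := by rw [← pow_mul, ← pow_mod_orderOf, hy11, hq, pow_one]
      have hτ1 : τ = 1 ∨ τ = z := by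
        refine hline τ hτS y hy1R hyX ((j.1 + 1) * q) ⟨b ^ q, pow_mem hbX q, ?_⟩
        calc τ * y * τ⁻¹ = τ * (y ^ (i.1 + 1)) ^ q * τ⁻¹ := by rw [hyq]
          _ = (τ * y ^ (i.1 + 1) * τ⁻¹) ^ q := conj_pow.symm
          _ = _ := by rw [hτy, Commute.mul_pow ((hcen b hbX _ (pow_mem hy1R _)).symm), ← pow_mul]
      -- powers in the same line modulo X0
      have hypow : ∀ {k l : ℕ} {v : G}, v ∈ X0 → y ^ k = y ^ l * v → (k : ℤ) ≡ l [ZMOD 11] := by
        intro k l v hv e
        by_contra hne'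
        have h1 : y ^ ((k : ℤ) - l) = v := by
          have h2 : v = (y ^ l)⁻¹ * y ^ k := by rw [e, inv_mul_cancel_left]
          rw [h2, ← zpow_natCast, ← zpow_natCast, ← zpow_neg, ← zpow_add]
          ring_nf
        have hne2 : y ^ ((k : ℤ) - l) ≠ 1 := fun h => hne' (by
          have h3 := orderOf_dvd_iff_zpow_eq_one.mpr h
          rw [hy11] at h3
          exact (Int.modEq_iff_dvd.mpr h3).symm)
        have hv1 : v ≠ 1 := h1 ▸ hne2
        have hzv : zpowers v = zpowers y := by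
          have hvy : v ∈ zpowers y := h1 ▸ zpow_mem (mem_zpowers y) _
          refine eq_of_le_of_card_ge (zpowers_le.mpr hvy) ?_
          have hd := card_dvd_of_le (zpowers_le.mpr hvy)
          rw [Nat.card_zpowers, Nat.card_zpowers, hy11] at hd
          rw [Nat.card_zpowers, Nat.card_zpowers, hy11]
          rcases (Nat.dvd_prime (by norm_num)).mp hd with h | h
          · exact absurd (orderOf_eq_one_iff.mp h) hv1
          · rw [h]
        exact hyX ((zpowers_le.mpr hv) (hzv.symm ▸ mem_zpowers y))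
      have hij : τ = 1 ∧ i = j := by
        rcases hτ1 with e | e
        · refine ⟨e, Fin.ext ?_⟩
          rw [e, one_mul, inv_one, mul_one] at hτy
          have h := hypow hbX hτy
          have := i.2; have := j.2
          rw [Int.modEq_iff_dvd] at h
          obtain ⟨w, hw⟩ := h
          omega
        · exfalso
          rw [e, hzinv] at hτy
          have hy' : y ^ (i.1 + 1) * (z * y ^ (i.1 + 1) * z) ∈ X0 := hR.inv _ (pow_mem hy1R _)
          rw [hτy, ← mul_assoc, ← pow_add] at hy'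
          have h1 := mul_mem hy' (inv_mem hbX)
          rw [mul_inv_cancel_right] at h1
          have h := hypow (k := i.1 + 1 + (j.1 + 1)) (l := 0) h1 (by rw [pow_zero, one_mul])
          have := i.2; have := j.2
          rw [Int.modEq_iff_dvd] at h
          obtain ⟨w, hw⟩ := h
          omega
      obtain ⟨hτe, rfl⟩ := hij
      have hss : s = s' := Subtype.ext (inv_mul_eq_one.mp hτe).symm
      subst hss
      have : a = a' := Subtype.ext (mul_left_cancel he')
      rw [this]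
    have hcardT : Nat.card {w : ↥R // (w : G) ∉ X0} ≤ Nat.card (Fin 5 × ↥S0 × ↥X0) := by
      haveI : Fintype ↥R := Fintype.ofFinite _
      rw [Nat.card_prod, Nat.card_prod, Nat.card_fin, hS24, hX0c, Nat.card_eq_fintype_card,
        Fintype.card_subtype_compl (fun w : ↥R => (w : G) ∈ X0), ← Nat.card_eq_fintype_card, hR.card,
        ← Nat.card_eq_fintype_card, show Nat.card {w : ↥R // (w : G) ∈ X0} = 11 from
          (Nat.card_congr (subgroupOfEquivOfLe hX0R).toEquiv).trans hX0c]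
    have hbij : Function.Bijective F := (Nat.bijective_iff_injective_and_card F).mpr
      ⟨hF, le_antisymm (Nat.card_le_card_of_injective F hF) hcardT⟩
    intro w hw hwX
    obtain ⟨⟨i, s, a⟩, hi⟩ := hbij.2 ⟨⟨w, hw⟩, hwX⟩
    have hi' : (s : G) * y ^ (i.1 + 1) * (s : G)⁻¹ * a = w :=
      congrArg (fun v : {v : ↥R // (v : G) ∉ X0} => ((v : ↥R) : G)) hi
    -- absorb the central factor
    set yk := (s : G) * y ^ (i.1 + 1) * (s : G)⁻¹ with hyk
    have hykR : yk ∈ R := (mem_normalizer_iff.mp (hR.norm (hS0C s.2)) _).mp (pow_mem hy1R _)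
    have hykX : yk ∉ X0 := fun h => hwX (hi' ▸ mul_mem h a.2)
    have hc1 : IsConj yk x1 := by
      refine (isConj_iff.mpr ⟨(s : G)⁻¹, by rw [hyk]; group⟩ : IsConj yk (y ^ (i.1 + 1))).trans ?_
      rw [hy, conj_pow]
      refine (isConj_iff.mpr ⟨g1⁻¹, by group⟩ : IsConj (g1 * x1 ^ (i.1 + 1) * g1⁻¹) (x1 ^ (i.1 + 1))).trans ?_
      exact (hpow1 _ (by have := i.2; omega)).symm
    refine IsConj.trans ?_ hc1
    let κ : ↥R →* ↥X0 := MonoidHom.mk' (fun g => ⟨(g : G) * yk * (g : G)⁻¹ * yk⁻¹, by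
      have h1 := Subgroup.commutator_mem_commutator (H₁ := (⊤ : Subgroup ↥R)) (H₂ := ⊤) (mem_top g) (mem_top ⟨yk, hykR⟩)
      rw [← _root_.commutator_def, hext.1.2.2] at h1
      exact hmemcen _ h1⟩) fun g g' => Subtype.ext (by
        have hcm : ∀ v : ↥R, ∃ b ∈ X0, (v : G) * yk * (v : G)⁻¹ * yk⁻¹ = b := fun v => ⟨_, by
          have h1 := Subgroup.commutator_mem_commutator (H₁ := (⊤ : Subgroup ↥R)) (H₂ := ⊤) (mem_top v) (mem_top ⟨yk, hykR⟩)
          rw [← _root_.commutator_def, hext.1.2.2] at h1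
          exact hmemcen _ h1, rfl⟩
        obtain ⟨b, hb, eb⟩ := hcm g'
        show (g : G) * g' * yk * ((g : G) * g')⁻¹ * yk⁻¹ =
          (g : G) * yk * (g : G)⁻¹ * yk⁻¹ * ((g' : G) * yk * (g' : G)⁻¹ * yk⁻¹)
        rw [eb]
        calc (g : G) * g' * yk * ((g : G) * g')⁻¹ * yk⁻¹
            = (g : G) * ((g' : G) * yk * (g' : G)⁻¹ * yk⁻¹) * (yk * (g : G)⁻¹ * yk⁻¹) := by group
          _ = b * ((g : G) * (yk * (g : G)⁻¹ * yk⁻¹)) := by
            rw [eb, (hcen b hb g g.2).symm.eq]; group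
          _ = (g : G) * yk * (g : G)⁻¹ * yk⁻¹ * b := by
            rw [(hcen b hb _ (mul_mem g.2 (mul_mem (mul_mem hykR (inv_mem g.2)) (inv_mem hykR)))).eq]; group)
    have hsurj : Function.Surjective κ := by
      rw [← MonoidHom.range_eq_top]
      haveI : Fact (Nat.card ↥X0).Prime := ⟨by rw [hX0c]; norm_num⟩
      refine (Subgroup.eq_bot_or_eq_top_of_prime_card κ.range).resolve_left
        fun hbot => hykX ?_
      refine hmemcen ⟨yk, hykR⟩ (mem_center_iff.mpr fun g => Subtype.ext ?_)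
      have h1 : κ g = 1 := mem_bot.mp (hbot ▸ ⟨g, rfl⟩)
      have h2 : (g : G) * yk * (g : G)⁻¹ * yk⁻¹ = 1 := congrArg Subtype.val h1
      rw [mul_inv_eq_one, mul_inv_eq_iff_eq_mul] at h2
      exact h2
    obtain ⟨g, hg⟩ := hsurj a
    have hg' : (g : G) * yk * (g : G)⁻¹ * yk⁻¹ = a := congrArg Subtype.val hg
    refine (isConj_iff.mpr ⟨g, ?_⟩ : IsConj yk w).symm
    rw [← hi', (hcen a a.2 yk hykR).symm.eq, ← hg', inv_mul_cancel_right]
  have hcls : ∀ w : G, orderOf w = 11 → IsConj w x0 ∨ IsConj w x1 := by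
    intro w hw
    obtain ⟨g, hg⟩ := intoR w hw
    have hc : IsConj w (g * w * g⁻¹) := isConj_iff.mpr ⟨g, rfl⟩
    by_cases hX : g * w * g⁻¹ ∈ X0
    · left
      obtain ⟨k, hk⟩ := ((isOfFinOrder_of_finite x0).mem_powers_iff_mem_zpowers).mpr hX
      have hk' : x0 ^ k = g * w * g⁻¹ := hk
      refine hc.trans ?_
      rw [← hk']
      refine (hpow0 k fun ⟨q, hq⟩ => ?_).symm
      have h1 : g * w * g⁻¹ = 1 := by rw [← hk', hq, pow_mul, ← hx0, pow_orderOf_eq_one, one_pow]
      rw [conj_eq_one_iff.mp h1, orderOf_one] at hw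
      norm_num at hw
    · exact Or.inr (hc.trans (hnon _ hg hX))
  -- an involution inverting x0
  obtain ⟨h22, -, -, -⟩ := local_cent dd ht hx1 hxt
  have ht11 : t * t = 1 := c.vGrp_sq o.hA.1 ht.1
  set s := g1 * t * g1⁻¹ with hs
  have hss : s * s = 1 := by rw [hs, show g1 * t * g1⁻¹ * (g1 * t * g1⁻¹) = g1 * (t * t) * g1⁻¹ by group, ht11]; group
  have hx0y : x0 * y = y * x0 := (hcen x0 (mem_zpowers x0) y hy1R).eq
  set O' := O.map (MulAut.conj g1).toMonoidHom with hO'
  have hO'mem : ∀ {v}, v ∈ O' ↔ g1⁻¹ * v * g1 ∈ O := fun {v} => by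
    rw [hO', mem_map_equiv, MulAut.conj_symm_apply]
  have hO'all : ∀ v : G, v * y = y * v → v ^ 1331 = 1 → v ∈ O' := fun v hv hv1 => hO'mem.mpr (hO.all _ (by
    calc g1⁻¹ * v * g1 * x1 = g1⁻¹ * (v * y) * g1 := by rw [hy]; group
      _ = x1 * (g1⁻¹ * v * g1) := by rw [hv, hy]; group) (by
    have h2 := conj_pow (i := 1331) (a := g1⁻¹) (b := v)
    rw [inv_inv] at h2
    rw [h2, hv1, mul_one, inv_mul_cancel]))
  have hyO' : y ∈ O' := hO'all y rfl (hpow y hy1R)
  have hx0O' : x0 ∈ O' := hO'all x0 hx0y (hpow x0 hx0R)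
  have hO'R : O' ≤ R := by
    have hle : zpowers x0 ⊔ zpowers y ≤ O' := sup_le (zpowers_le.mpr hx0O') (zpowers_le.mpr hyO')
    have hle2 : zpowers x0 ⊔ zpowers y ≤ R := sup_le hX0R (zpowers_le.mpr hy1R)
    refine le_trans (le_of_eq (eq_of_le_of_card_ge hle ?_).symm) hle2
    have hc121 : Nat.card ↥(zpowers x0 ⊔ zpowers y) = 121 := by
      rw [Big.card_sup_eq (zpowers_le.mpr (centralizer_le_normalizer _ (mem_centralizer_iff.mpr fun v hv =>
          (hcen v hv y hy1R).eq))) ?_, Nat.card_zpowers, Nat.card_zpowers, hx0, hy11]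
      rw [eq_bot_iff]
      intro v hv
      by_contra hv1
      have hv1' : v ≠ 1 := fun h => hv1 (mem_bot.mpr h)
      have hzy : zpowers v = zpowers y := by
        refine eq_of_le_of_card_ge (zpowers_le.mpr hv.2) ?_
        have hd := card_dvd_of_le (zpowers_le.mpr hv.2)
        rw [Nat.card_zpowers, Nat.card_zpowers, hy11] at hd
        rw [Nat.card_zpowers, Nat.card_zpowers, hy11]
        rcases (Nat.dvd_prime (by norm_num)).mp hd with h | h
        · exact absurd (orderOf_eq_one_iff.mp h) hv1'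
        · rw [h]
      exact hyX ((zpowers_le.mpr hv.1) (hzy.symm ▸ mem_zpowers y))
    rw [hO', card_map_of_injective (MulAut.conj g1).injective, hO.card, hc121]
    norm_num
  have hsO : s * x0 * s⁻¹ ∈ O' := by
    refine hO'mem.mpr ?_
    have h1 := hO'mem.mp hx0O'
    have h2 := (mem_normalizer_iff.mp (hO.norm (mem_centralizer_singleton_iff.mpr hxt.symm)) _).mp h1
    rwa [show g1⁻¹ * (s * x0 * s⁻¹) * g1 = t * (g1⁻¹ * x0 * g1) * t⁻¹ by rw [hs]; group]
  have hsX : s * x0 * s⁻¹ ∈ X0 := by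
    by_contra h
    exact hne ((isConj_iff.mpr ⟨s, rfl⟩).trans (hnon _ (hO'R hsO) h))
  have hsN : s ∈ normalizer (X0 : Set G) := mem_norm_of fun v hv => by
    obtain ⟨i, rfl⟩ := mem_zpowers_iff.mp hv
    rw [← conj_zpow]
    exact zpow_mem hsX i
  have hsinv : s * x0 * s⁻¹ = x0⁻¹ := by
    refine (invol_on_eleven hss hx0 hsN).resolve_left fun e => ?_
    have h1 : Commute t (g1⁻¹ * x0 * g1) := by
      show t * (g1⁻¹ * x0 * g1) = g1⁻¹ * x0 * g1 * t
      rw [mul_inv_eq_iff_eq_mul] at e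
      calc t * (g1⁻¹ * x0 * g1) = g1⁻¹ * (s * x0) * g1 := by rw [hs]; group
        _ = g1⁻¹ * x0 * g1 * t := by rw [e, hs]; group
    obtain ⟨i, hi⟩ := mem_zpowers_iff.mp (hO.fix _ (hO'mem.mp hx0O') h1.eq.symm)
    have h2 : x0 ∈ zpowers y := mem_zpowers_iff.mpr ⟨i, by rw [hy, conj_zpow, hi]; group⟩
    have hzp : X0 = zpowers y := eq_of_le_of_card_ge (zpowers_le.mpr h2) (by rw [Nat.card_zpowers, hy11, hX0c])
    exact hyX (hzp ▸ mem_zpowers y)
  -- move it to normalise Q
  have hsC : s ∈ normalizer (C0 : Set G) := mem_norm_of fun v hv => mem_centralizer_singleton_iff.mpr (by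
    have hb : s⁻¹ * x0 * s ∈ X0 := (mem_normalizer_iff''.mp hsN x0).mp (mem_zpowers x0)
    obtain ⟨i, hi⟩ := mem_zpowers_iff.mp hb
    have hvb : Commute v (s⁻¹ * x0 * s) := hi ▸ (show Commute v x0 from mem_centralizer_singleton_iff.mp hv).zpow_right i
    calc s * v * s⁻¹ * x0 = s * (v * (s⁻¹ * x0 * s)) * s⁻¹ := by group
      _ = x0 * (s * v * s⁻¹) := by rw [hvb.eq]; group)
  have hQC : Q ≤ C0 := inf_le_right
  let T : Sylow 2 ↥C0 := Sylow.ofCard (Q.subgroupOf C0) (by
    rw [Nat.card_congr (subgroupOfEquivOfLe hQC).toEquiv, hQ, card_fixE c hx0 hx0c,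
      CfsgGolay.factorization_eq (k := 3) (q := 3993) (m := Nat.card ↥C0) Nat.prime_two (by rw [hR.cardC]; norm_num)
        (by norm_num)]
    norm_num)
  have hTQ : (T : Subgroup ↥C0).map C0.subtype = Q := by
    show (Q.subgroupOf C0).map C0.subtype = Q
    rw [subgroupOf_map_subtype, inf_eq_left.mpr hQC]
  obtain ⟨d0, hd0, hnormQ⟩ := invol_fix_sylow hss hsC T
  rw [hTQ] at hnormQ
  set t' := d0⁻¹ * s * d0 with ht'
  have ht'2 : t' * t' = 1 := by
    rw [ht', show d0⁻¹ * s * d0 * (d0⁻¹ * s * d0) = d0⁻¹ * (s * s) * d0 by group, hss]; group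
  have hd0x : Commute d0 x0 := mem_centralizer_singleton_iff.mp hd0
  have ht'inv : t' * x0 * t'⁻¹ = x0⁻¹ := by
    calc t' * x0 * t'⁻¹ = d0⁻¹ * (s * (d0 * x0 * d0⁻¹) * s⁻¹) * d0 := by rw [ht']; group
      _ = d0⁻¹ * x0⁻¹ * d0 := by rw [hd0x.eq, mul_inv_cancel_right, hsinv]
      _ = x0⁻¹ := by rw [mul_assoc, ← hd0x.inv_right.eq, inv_mul_cancel_left]
  have hzQ : z ∈ Q := z_mem_fixE c hx0c
  have ht'H : t' ∈ H := by
    have h1 : t' * z * t'⁻¹ * (t' * z * t'⁻¹) = 1 := by
      rw [show t' * z * t'⁻¹ * (t' * z * t'⁻¹) = t' * (z * z) * t'⁻¹ by group, c.zz]; group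
    rcases c.mem_Z.mp (fixE_invol c hx0 hx0c (hnormQ z hzQ) h1) with e | e
    · exact absurd (conj_eq_one_iff.mp e) c.z_ne_one
    · exact mem_centralizer_singleton_iff.mpr (mul_inv_eq_iff_eq_mul.mp e)
  have ht'N : t' ∈ normalizer (X0 : Set G) := mem_norm_of fun v hv => by
    obtain ⟨i, rfl⟩ := mem_zpowers_iff.mp hv
    rw [← conj_zpow, ht'inv]
    exact zpow_mem (inv_mem (mem_zpowers x0)) i
  have ht'S : t' ∈ normalizer (S0 : Set G) := by
    refine mem_norm_of fun v hv => ?_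
    have hxnorm : X0 ≤ normalizer (S0 : Set G) := fun w hw => centralizer_le_normalizer _
      (mem_centralizer_iff.mpr fun u hu => by
        obtain ⟨i, rfl⟩ := mem_zpowers_iff.mp hw
        exact ((show Commute u x0 from mem_centralizer_singleton_iff.mp (hS0C hu)).zpow_right i).eq)
    have hmemD : t' * v * t'⁻¹ ∈ S0 ⊔ X0 := by
      rw [hdec]
      refine ⟨H.mul_mem (H.mul_mem ht'H (hSH hv)) (H.inv_mem ht'H), mem_centralizer_singleton_iff.mpr ?_⟩
      have hb : Commute v (t'⁻¹ * x0 * t') := by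
        have e : t'⁻¹ * x0 * t' = x0⁻¹ := by
          rw [inv_eq_of_mul_eq_one_right ht'2]
          rwa [inv_eq_of_mul_eq_one_right ht'2] at ht'inv
        rw [e]
        exact (show Commute v x0 from mem_centralizer_singleton_iff.mp (hS0C hv)).inv_right
      calc t' * v * t'⁻¹ * x0 = t' * (v * (t'⁻¹ * x0 * t')) * t'⁻¹ := by group
        _ = x0 * (t' * v * t'⁻¹) := by rw [hb.eq]; group
    obtain ⟨a, ha, b, hb, hab⟩ := CfsgLib.mem_sup_of_le_normalizer hxnorm hmemD
    have h24v : ∀ u ∈ S0, u ^ 24 = 1 := fun u hu => by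
      have h0 := pow_card_eq_one' (x := (⟨u, hu⟩ : ↥S0))
      rw [hS24] at h0
      exact congrArg Subtype.val h0
    have hcomm : Commute a b := by
      obtain ⟨i, rfl⟩ := mem_zpowers_iff.mp hb
      exact (show Commute a x0 from mem_centralizer_singleton_iff.mp (hS0C ha)).zpow_right i
    have hb24 : b ^ 24 = 1 := by
      have h1 : (t' * v * t'⁻¹) ^ 24 = 1 := by rw [conj_pow, h24v v hv, mul_one, mul_inv_cancel]
      rwa [← hab, hcomm.mul_pow, h24v a ha, one_mul] at h1
    have hb11 : b ^ 11 = 1 := by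
      rw [← hX0c]; exact congrArg Subtype.val (pow_card_eq_one' (x := (⟨b, hb⟩ : ↥X0)))
    have hb1 := pow_gcd_eq_one.mpr ⟨hb24, hb11⟩
    rw [show Nat.gcd 24 11 = 1 by rfl, pow_one] at hb1
    rw [← hab, hb1, mul_one]
    exact ha
  have ht'S0 : t' ∉ S0 := fun h => by
    have hc := mem_centralizer_singleton_iff.mp (hS0C h)
    rw [hc, mul_inv_cancel_right] at ht'inv
    have : x0 ^ 2 = 1 := by rw [sq]; nth_rw 1 [ht'inv]; exact inv_mul_cancel x0
    have := orderOf_dvd_of_pow_eq_one this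
    rw [hx0] at this
    norm_num at this
  set K := S0 ⊔ zpowers t' with hK
  have ht'o : orderOf t' = 2 := orderOf_eq_prime (by rw [sq]; exact ht'2)
    fun h => ht'S0 (h ▸ one_mem _)
  have hKc : Nat.card K = 48 := by
    rw [hK, Big.card_sup_eq (zpowers_le.mpr ht'S) ?_, hS24, Nat.card_zpowers, ht'o]
    rw [eq_bot_iff]
    intro v hv
    rcases Ctx.mem_zpowers_two ht'2 hv.2 with e | e
    · exact e.symm ▸ one_mem _
    · exact absurd (e ▸ hv.1) ht'S0
  let θ' : CfsgLib.QuatSection.SL23 →* ↥K := θ.codRestrict K fun q =>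
    mem_sup_left (hθr ▸ ⟨q, rfl⟩ : θ q ∈ S0)
  have hθ'i : Function.Injective θ' := fun a b h => hθi (congrArg Subtype.val h)
  have hθ'r : θ'.range = S0.subgroupOf K := by
    ext v
    rw [mem_subgroupOf]
    constructor
    · rintro ⟨q, rfl⟩
      exact hθr ▸ ⟨q, rfl⟩
    · intro hv
      obtain ⟨q, hq⟩ := (hθr.symm ▸ hv : (v : G) ∈ θ.range)
      exact ⟨q, Subtype.ext hq⟩
  have hidx : θ'.range.index = 2 := by
    have h := θ'.range.card_mul_index
    rw [hθ'r, Nat.card_congr (subgroupOfEquivOfLe le_sup_left).toEquiv, hS24, hKc] at h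
    rw [hθ'r]
    omega
  obtain ⟨eK⟩ := CfsgLib.GLTwoThreeExt.nonempty_equiv θ' hθ'i hidx (t := (⟨t', mem_sup_right (mem_zpowers t')⟩ : ↥K))
    (Subtype.ext ht'2) (by rw [hθ'r, mem_subgroupOf]; exact ht'S0) (by
      intro v hv
      rw [hθ'r, mem_subgroupOf]
      by_contra hvS
      obtain ⟨a, ha, b, hb, hab⟩ := CfsgLib.mem_sup_of_le_normalizer (zpowers_le.mpr ht'S) v.2
      rcases Ctx.mem_zpowers_two ht'2 hb with e | e
      · exact hvS (by rw [← hab, e, mul_one]; exact ha)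
      · have hvcen : (v : G) ∈ c.cen := by
          refine ⟨by rw [← hab, e]; exact H.mul_mem (hSH ha) ht'H, mem_centralizer_iff.mpr fun q hq => ?_⟩
          obtain ⟨q', hq'⟩ := (hθr.symm ▸ mem_sup_right hq : q ∈ θ.range)
          have h := congrArg Subtype.val (hv q')
          rw [← hq']
          exact h.symm
        refine no_inverter c hx0 hx0c hvcen ?_
        rw [← hab, e, show a * t' * x0 * (a * t')⁻¹ = a * (t' * x0 * t'⁻¹) * a⁻¹ by group, ht'inv,
          ((show Commute a x0 from mem_centralizer_singleton_iff.mp (hS0C ha)).inv_right).eq, mul_inv_cancel_right])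
  refine ⟨x0, x1, R, ⟨hR.card, hnonab, hexp, hx0, hx1, hne, hcls, hNeq ▸ hNc, K, ?_, ⟨eK.symm⟩⟩⟩
  rw [hNeq]
  exact sup_le (hS0C.trans hC0N) (zpowers_le.mpr ht'N)

end CfsgLib.JankoFour.Eleven
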