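/-
The largest normal two-subgroup L of the centralizer of A and the quotient by it.
-/
import Cfsg.Agent.Lib.JankoFour.EightCent
import Cfsg.Agent.Lib.JankoFour.SevenFinal

set_option autoImplicit false

namespace CfsgLib.JankoFour

open Cfsg Subgroup
open scoped commutatorElement

universe u

variable {G : Type u} [Group G] [Finite G] {z : G} {P E : Subgroup G}

namespace EightC

variable {c : Ctx z P E} {m : FiveModel} {d : FiveData5 c m} {o : Eight d} {em : EightModel m} (k : EightC o em)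

/-- The centralizer of A. -/
abbrev CA (_k : EightC o em) : Subgroup G := centralizer (o.A : Set G)

/-- The largest normal two-subgroup of the centralizer of A. -/
noncomputable def L : Subgroup G := (em.R.comap k.φ).map k.CA.subtype

theorem mem_L {x : G} : x ∈ k.L ↔ ∃ h : x ∈ k.CA, k.φ ⟨x, h⟩ ∈ em.R := by
  constructor
  · rintro ⟨⟨y, hy⟩, hy', rfl⟩
    exact ⟨hy, hy'⟩
  · rintro ⟨h, h'⟩
    exact ⟨⟨x, h⟩, h', rfl⟩

theorem L_le : k.L ≤ k.CA := map_subtype_le _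

theorem card_ker : Nat.card k.φ.ker = 2 ^ 11 := by
  rw [← k.cardE, ← card_map_of_injective (f := k.CA.subtype) k.CA.subtype_injective]
  congr 2
  ext x
  constructor
  · rintro ⟨y, hy, rfl⟩
    exact ⟨(k.φker y).mp hy, y.2⟩
  · rintro ⟨hE, hC⟩
    exact ⟨⟨x, hC⟩, (k.φker ⟨x, hC⟩).mpr hE, rfl⟩

theorem card_CA : Nat.card k.CA = 2 ^ 11 * 1920 := by
  have := Subgroup.card_mul_index k.φ.ker
  rw [Subgroup.index_ker, k.card_ker, k.range, k.cardU] at this
  exact this.symm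

theorem card_L : Nat.card k.L = 2 ^ 15 := by
  rw [L, card_map_of_injective k.CA.subtype_injective]
  let ψ : ↥(em.R.comap k.φ) →* ↥em.R := (k.φ.comp (em.R.comap k.φ).subtype).codRestrict em.R fun x => x.2
  have hs : Function.Surjective ψ := by
    rintro ⟨r, hr⟩
    obtain ⟨x, hx⟩ : r ∈ k.φ.range := k.range.symm ▸ k.RU hr
    exact ⟨⟨x, show k.φ x ∈ em.R by rw [hx]; exact hr⟩, Subtype.ext hx⟩
  have h := Subgroup.card_mul_index ψ.ker
  rw [Subgroup.index_ker, MonoidHom.range_eq_top.mpr hs, card_top, em.cardR] at h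
  have hk : Nat.card ψ.ker = 2 ^ 11 := by
    rw [← k.card_ker]
    exact Nat.card_congr
      { toFun := fun x => ⟨x.1.1, congrArg Subtype.val x.2⟩
        invFun := fun x => ⟨⟨x.1, show k.φ x.1 ∈ em.R by rw [MonoidHom.mem_ker.mp x.2]; exact one_mem _⟩,
          Subtype.ext x.2⟩
        left_inv := fun _ => rfl
        right_inv := fun _ => rfl }
  rw [← h, hk]
  norm_num

theorem L_two : IsPGroup 2 k.L := IsPGroup.of_card (n := 15) k.card_L

theorem E_le_L {x : G} (hE : x ∈ E) (hC : x ∈ k.CA) : x ∈ k.L :=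
  k.mem_L.mpr ⟨hC, by rw [(k.φker ⟨x, hC⟩).mpr hE]; exact one_mem _⟩

theorem A_le_L : o.A ≤ k.L := fun a ha =>
  k.E_le_L (o.AE ha) (mem_centralizer_iff.mpr fun b hb => o.commA b hb a ha)

theorem conj_L {x y : G} (hx : x ∈ k.CA) (hy : y ∈ k.L) : x * y * x⁻¹ ∈ k.L := by
  obtain ⟨hyC, hy'⟩ := k.mem_L.mp hy
  refine k.mem_L.mpr ⟨mul_mem (mul_mem hx hyC) (inv_mem hx), ?_⟩
  have hxU : k.φ ⟨x, hx⟩ ∈ k.U := k.range ▸ ⟨_, rfl⟩
  rw [show (⟨x * y * x⁻¹, _⟩ : k.CA) = ⟨x, hx⟩ * ⟨y, hyC⟩ * ⟨x, hx⟩⁻¹ from rfl, map_mul, map_mul, map_inv]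
  exact (mem_normalizer_iff.mp (k.UR hxU) _).mp hy'

/-- Every two-subgroup of U normalized by U lies in R. -/
theorem R_max {K : Subgroup MTwoTwo} (hK : K ≤ k.U) (hKn : k.U ≤ normalizer (K : Set MTwoTwo)) (h2 : IsPGroup 2 K) :
    K ≤ em.R := by
  classical
  haveI : Fact (Nat.Prime 5) := ⟨by norm_num⟩
  set K' := K ⊔ em.R with hK'
  have hp : IsPGroup 2 K' := IsPGroup.to_sup_of_normal_right' h2 (IsPGroup.of_card (n := 4) em.cardR) (hK.trans k.UR)
  haveI : Fact (Nat.Prime 2) := ⟨Nat.prime_two⟩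
  obtain ⟨j, hj⟩ := IsPGroup.iff_card.mp hp
  have hge : 2 ^ 4 ≤ 2 ^ j := by
    rw [← hj, show (2 : ℕ) ^ 4 = Nat.card em.R by rw [em.cardR]; norm_num]
    exact card_le_of_le le_sup_right
  have hdvd : 2 ^ j ∣ 1920 := by
    rw [← hj, ← k.cardU]
    exact card_dvd_of_le (sup_le hK k.RU)
  have hj4 : 4 ≤ j := (Nat.pow_le_pow_iff_right (by norm_num)).mp hge
  have hj7 : j ≤ 7 := by
    by_contra hc
    have h : 2 ^ 8 ∣ 1920 := (pow_dvd_pow 2 (by omega : 8 ≤ j)).trans hdvd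
    norm_num at h
  have hqn : ∀ x ∈ K', m.q * x * m.q⁻¹ ∈ K' := by
    have hle : K' ≤ K'.comap (MulAut.conj m.q).toMonoidHom := sup_le
      (fun x hx => mem_sup_left (T := em.R) ((mem_normalizer_iff.mp (hKn k.qU) x).mp hx))
      (fun x hx => mem_sup_right (S := K) ((mem_normalizer_iff.mp em.qR x).mp hx))
    exact fun x hx => hle hx
  have hqp : ∀ (n : ℕ) (x : MTwoTwo), x ∈ K' → m.q ^ n * x * (m.q ^ n)⁻¹ ∈ K' := by
    intro n
    induction n with
    | zero => intro x hx; simpa using hx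
    | succ n ih =>
      intro x hx
      rw [show m.q ^ (n + 1) * x * (m.q ^ (n + 1))⁻¹ = m.q * (m.q ^ n * x * (m.q ^ n)⁻¹) * m.q⁻¹ by
        rw [pow_succ']; group]
      exact hqn _ (ih x hx)
  letI : MulAction (zpowers m.q) K' :=
    { smul := fun g x => ⟨g * x * (g : MTwoTwo)⁻¹, by
        obtain ⟨n, hn⟩ := (isOfFinOrder_of_finite m.q).mem_powers_iff_mem_zpowers.mpr g.2
        rw [← show m.q ^ n = (g : MTwoTwo) from hn]
        exact hqp n x x.2⟩
      one_smul := fun x => Subtype.ext (by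
        show (1 : MTwoTwo) * x * (1 : MTwoTwo)⁻¹ = x
        group)
      mul_smul := fun g h x => Subtype.ext (by
        show ((g : MTwoTwo) * h) * x * ((g : MTwoTwo) * h)⁻¹ = g * (h * x * (h : MTwoTwo)⁻¹) * (g : MTwoTwo)⁻¹
        group) }
  have hmod := (IsPGroup.of_card (n := 1) (show Nat.card (zpowers m.q) = 5 ^ 1 by
    rw [Nat.card_zpowers, m.q5, pow_one])).card_modEq_card_fixedPoints (α := K')
  have hfix : MulAction.fixedPoints (zpowers m.q) K' = {1} := by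
    ext x
    rw [MulAction.mem_fixedPoints, Set.mem_singleton_iff]
    refine ⟨fun h => ?_, fun h g => by
      subst h
      exact Subtype.ext (by
        show (g : MTwoTwo) * 1 * (g : MTwoTwo)⁻¹ = 1
        group)⟩
    have hc : (x : MTwoTwo) * m.q = m.q * x :=
      (mul_inv_eq_iff_eq_mul.mp (congrArg Subtype.val (h ⟨m.q, mem_zpowers _⟩))).symm
    obtain ⟨i, hi⟩ := m.selfC _ hc
    have h1 : (m.q ^ i) ^ 5 = 1 := by rw [← pow_mul, mul_comm, pow_mul, ← m.q5, pow_orderOf_eq_one, one_pow]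
    have h2' : (x : MTwoTwo) ^ 2 ^ j = 1 := by
      rw [← hj]; exact congrArg Subtype.val (pow_card_eq_one' (x := x))
    rw [← hi] at h1
    have := pow_gcd_eq_one.mpr ⟨h1, h2'⟩
    rw [show Nat.gcd 5 (2 ^ j) = 1 from Nat.Coprime.pow_right j (by norm_num), pow_one] at this
    exact Subtype.ext this
  rw [hfix, Nat.card_coe_set_eq, Set.ncard_singleton, hj] at hmod
  have hj' : j = 4 := by
    unfold Nat.ModEq at hmod
    interval_cases j <;> first | rfl | (exfalso; norm_num at hmod)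
  have heq : em.R = K' := eq_of_le_of_card_ge le_sup_right (by rw [hj, hj', em.cardR]; norm_num)
  exact heq ▸ le_sup_left

theorem L_max {W : Subgroup G} (hW : W ≤ k.CA) (hWn : ∀ x ∈ k.CA, ∀ w ∈ W, x * w * x⁻¹ ∈ W) (h2 : IsPGroup 2 W) :
    W ≤ k.L := by
  intro w hw
  refine k.mem_L.mpr ⟨hW hw, ?_⟩
  refine k.R_max (K := (W.subgroupOf k.CA).map k.φ) ?_ ?_ ?_ ⟨⟨w, hW hw⟩, mem_subgroupOf.mpr hw, rfl⟩
  · rintro _ ⟨y, -, rfl⟩
    exact k.range ▸ ⟨y, rfl⟩
  · intro u hu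
    obtain ⟨x, rfl⟩ := k.range.symm ▸ hu
    refine mem_norm_of ?_
    rintro _ ⟨y, hy, rfl⟩
    exact ⟨x * y * x⁻¹, mem_subgroupOf.mpr (hWn x x.2 y (mem_subgroupOf.mp hy)), by rw [map_mul, map_mul, map_inv]⟩
  · exact (h2.of_equiv (subgroupOfEquivOfLe hW).symm).map k.φ

/-- Whatever normalizes A normalizes L. -/
theorem norm_L {n : G} (hn : ∀ a ∈ o.A, n * a * n⁻¹ ∈ o.A) {x : G} (hx : x ∈ k.L) : n * x * n⁻¹ ∈ k.L := by
  have hn' : ∀ a ∈ o.A, n⁻¹ * a * n ∈ o.A := fun a ha =>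
    (mem_normalizer_iff''.mp (mem_norm_of hn) a).mp ha
  have hC : ∀ y ∈ k.CA, n * y * n⁻¹ ∈ k.CA := fun y hy => mem_centralizer_iff.mpr fun a ha => by
    have := mem_centralizer_iff.mp hy _ (hn' a ha)
    calc a * (n * y * n⁻¹) = n * ((n⁻¹ * a * n) * y) * n⁻¹ := by group
      _ = n * (y * (n⁻¹ * a * n)) * n⁻¹ := by rw [this]
      _ = n * y * n⁻¹ * a := by group
  have hC' : ∀ y ∈ k.CA, n⁻¹ * y * n ∈ k.CA := fun y hy => mem_centralizer_iff.mpr fun a ha => by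
    have := mem_centralizer_iff.mp hy _ (hn a ha)
    calc a * (n⁻¹ * y * n) = n⁻¹ * ((n * a * n⁻¹) * y) * n := by group
      _ = n⁻¹ * (y * (n * a * n⁻¹)) * n := by rw [this]
      _ = n⁻¹ * y * n * a := by group
  refine k.L_max (W := k.L.map (MulAut.conj n).toMonoidHom) ?_ ?_ (k.L_two.map _) ⟨x, hx, rfl⟩
  · rintro _ ⟨y, hy, rfl⟩
    exact hC y (k.L_le hy)
  · rintro g hg _ ⟨y, hy, rfl⟩
    refine ⟨(n⁻¹ * g * n) * y * (n⁻¹ * g * n)⁻¹, k.conj_L (hC' g hg) hy, ?_⟩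
    simp only [MulEquiv.coe_toMonoidHom, MulAut.conj_apply]
    group

theorem D_inf_CA {x : G} (hx : x ∈ d.D) (hC : x ∈ k.CA) : x ∈ o.A := by
  by_contra hxA
  have hxc : ∀ a ∈ o.A, a * x = x * a := fun a ha => mem_centralizer_iff.mp hC a ha
  have hDE : d.D ≤ E := fun a ha => (d.mem_D.mp ha).1
  set B := d.D ⊓ centralizer (o.A : Set G) with hB
  have hAB : o.A ≤ B := le_inf o.AD fun a ha => mem_centralizer_iff.mpr fun b hb => o.commA b hb a ha
  obtain ⟨p, hp, -, hgen⟩ := c.exists_gen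
  obtain ⟨e, he, heZ⟩ := o.sec.exists_e
  have hBP : ∀ q ∈ P, ∀ a ∈ B, q * a * q⁻¹ ∈ B := fun q hq a ha => by
    have hqD : q * a * q⁻¹ ∈ d.D := d.mem_D.mpr ⟨c.conj_E (c.P_le hq) (hDE ha.1),
      (((show Commute q d.q from d.q_comm_P hq).mul_left ((d.mem_D.mp ha.1).2).symm).mul_left
        (show Commute q d.q from d.q_comm_P hq).inv_left).eq.symm⟩
    refine ⟨hqD, mem_centralizer_iff.mpr fun b hb => ?_⟩
    have hb' : q⁻¹ * b * q ∈ o.A := by
      have := o.sec.inv q⁻¹ (inv_mem hq) b hb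
      rwa [inv_inv] at this
    calc b * (q * a * q⁻¹) = q * ((q⁻¹ * b * q) * a) * q⁻¹ := by group
      _ = q * (a * (q⁻¹ * b * q)) * q⁻¹ := by rw [mem_centralizer_iff.mp ha.2 _ hb']
      _ = q * a * q⁻¹ * b := by group
  obtain ⟨i, -, hi⟩ := c.card_cases ((inf_le_left : B ≤ d.D).trans hDE) ((zpowers_le.mpr o.zA).trans hAB) hBP
  have hlt : 8 < Nat.card B := by
    rw [← o.cardA]
    by_contra hc
    exact hxA ((eq_of_le_of_card_ge hAB (Nat.le_of_not_lt hc)).symm ▸ (⟨hx, hC⟩ : x ∈ B))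
  have hle : Nat.card B ≤ 32 := d.D_eq.1 ▸ card_le_of_le inf_le_left
  have hBD : B = d.D := by
    refine eq_of_le_of_card_ge inf_le_left ?_
    rw [d.D_eq.1, hi]
    rw [hi] at hlt
    have : 3 < 2 * i + 1 := (Nat.pow_lt_pow_iff_right (a := 2) (by norm_num)).mp hlt
    exact le_trans (by norm_num) (Nat.pow_le_pow_right (by norm_num) (show 5 ≤ 2 * i + 1 by omega))
  exact heZ (d.central_D (o.AD he) fun f hf => (mem_centralizer_iff.mp (hBD.symm ▸ hf : f ∈ B).2 e he).symm)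

theorem q_fix {x : G} (hx : x ∈ k.L) (hq : x * d.q = d.q * x) : x ∈ o.A := by
  obtain ⟨hC, hR⟩ := k.mem_L.mp hx
  have hc : k.φ ⟨x, hC⟩ * m.q = m.q * k.φ ⟨x, hC⟩ := by
    rw [← k.φq, ← map_mul, ← map_mul]
    exact congrArg k.φ (Subtype.ext hq)
  obtain ⟨i, hi⟩ := m.selfC _ hc
  have h1 : (m.q ^ i) ^ 5 = 1 := by rw [← pow_mul, mul_comm, pow_mul, ← m.q5, pow_orderOf_eq_one, one_pow]
  rw [← hi] at h1
  have h2 : k.φ ⟨x, hC⟩ ^ 16 = 1 := by
    rw [← em.cardR]; exact congrArg Subtype.val (pow_card_eq_one' (x := (⟨_, hR⟩ : em.R)))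
  have h3 := pow_gcd_eq_one.mpr ⟨h1, h2⟩
  rw [show Nat.gcd 5 16 = 1 from rfl, pow_one] at h3
  have hE := (k.φker ⟨x, hC⟩).mp h3
  exact k.D_inf_CA (d.mem_D.mpr ⟨hE, hq.symm⟩) hC

theorem not_seven : Nat.Coprime (Nat.card k.CA) 7 := by rw [k.card_CA]; norm_num

end EightC

end CfsgLib.JankoFour
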