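/-
An element of order seven acts trivially on the centralizer of A modulo L and centralizes a copy of Sym(5) in it.
-/
import Cfsg.Agent.Lib.JankoFour.EightL

set_option autoImplicit false

namespace CfsgLib.JankoFour

open Cfsg Subgroup

universe u

variable {G : Type u} [Group G] [Finite G] {z : G} {P E : Subgroup G}

theorem perm_five_card : Nat.card (Equiv.Perm (Fin 5)) = 120 := by
  rw [Nat.card_perm, Nat.card_fin]; rfl

/-- An automorphism of order dividing seven of a group of order 120 with two subgroups of order five is trivial. -/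
theorem auto_seven_trivial {Y : Type u} [Group Y] [Finite Y] (hY : Nat.card Y = 120) (α : MulAut Y) (hα : α ^ 7 = 1)
    {a b : Y} (ha : orderOf a = 5) (hb : orderOf b = 5) (hab : b ∉ zpowers a) (y : Y) : α y = y := by
  classical
  haveI : Fact (Nat.Prime 5) := ⟨by norm_num⟩
  haveI : Fintype Y := Fintype.ofFinite Y
  haveI : Fintype (Subgroup Y) := Fintype.ofFinite _
  -- at most six subgroups of order five
  set T : Finset (Subgroup Y) := Finset.univ.filter fun H => Nat.card H = 5 with hT
  have hfac : (Nat.card Y).factorization 5 = 1 := by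
    rw [hY, show 120 = 5 * 24 by norm_num, Nat.factorization_mul (by norm_num) (by norm_num), Finsupp.add_apply,
      Nat.Prime.factorization_self (by norm_num), Nat.factorization_eq_zero_of_not_dvd (by norm_num)]
  have hTle : T.card ≤ 6 := by
    have h1 : T.card ≤ Nat.card (Sylow 5 Y) := by
      rw [← Nat.card_eq_finsetCard]
      refine Nat.card_le_card_of_injective (fun H => Sylow.ofCard H.1 (by
        rw [hfac, (Finset.mem_filter.mp H.2).2, pow_one])) fun H K h => ?_
      exact Subtype.ext (congrArg (fun S : Sylow 5 Y => (S : Subgroup Y)) h)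
    obtain ⟨S⟩ : Nonempty (Sylow 5 Y) := inferInstance
    have h2 := S.card_dvd_index
    have h3 := card_sylow_modEq_one 5 Y
    have h4 := Subgroup.card_mul_index (S : Subgroup Y)
    rw [S.card_eq_multiplicity, hfac, hY, pow_one] at h4
    rw [show (S : Subgroup Y).index = 24 by omega] at h2
    have h5 : Nat.card (Sylow 5 Y) ≤ 24 := Nat.le_of_dvd (by norm_num) h2
    unfold Nat.ModEq at h3
    generalize hn : Nat.card (Sylow 5 Y) = n at h1 h2 h3 h5
    interval_cases n <;> omega
  have hzp : ∀ {u : Y}, orderOf u = 5 → zpowers u ∈ T := fun {u} hu =>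
    Finset.mem_filter.mpr ⟨Finset.mem_univ _, by rw [Nat.card_zpowers, hu]⟩
  -- each of them is invariant, hence each element of order five is fixed
  let σ : Equiv.Perm (Subgroup Y) :=
    { toFun := fun H => H.map α.toMonoidHom
      invFun := fun H => H.map α.symm.toMonoidHom
      left_inv := fun H => by
        show (H.map α.toMonoidHom).map α.symm.toMonoidHom = H
        rw [Subgroup.map_map]
        convert Subgroup.map_id H
        ext x; simp
      right_inv := fun H => by
        show (H.map α.symm.toMonoidHom).map α.toMonoidHom = H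
        rw [Subgroup.map_map]
        convert Subgroup.map_id H
        ext x; simp }
  have hσn : ∀ (n : ℕ) (H : Subgroup Y), (σ ^ n) H = H.map (α ^ n).toMonoidHom := by
    intro n
    induction n with
    | zero => intro H; exact (Subgroup.map_id H).symm
    | succ n ih =>
      intro H
      rw [pow_succ', Equiv.Perm.mul_apply, ih, pow_succ']
      show (H.map _).map α.toMonoidHom = _
      rw [Subgroup.map_map]
      rfl
  have hσ7 : σ ^ 7 = 1 := Equiv.ext fun H => by
    rw [hσn, hα]; exact Subgroup.map_id H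
  have hTs : ∀ H ∈ T, σ H ∈ T := fun H hH => Finset.mem_filter.mpr ⟨Finset.mem_univ _, by
    show Nat.card ↥(H.map α.toMonoidHom) = 5
    rw [card_map_of_injective (f := α.toMonoidHom) α.injective, (Finset.mem_filter.mp hH).2]⟩
  have hTfix : ∀ H ∈ T, σ H = H := by
    intro H hH
    by_contra hne
    have h := fix_count σ T hTs (by norm_num : Nat.Prime 7) hσ7
    have hlt : (T.filter fun x => σ x = x).card < T.card :=
      Finset.card_lt_card ⟨Finset.filter_subset _ _, fun hsub => hne (Finset.mem_filter.mp (hsub hH)).2⟩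
    unfold Nat.ModEq at h
    omega
  have hfive : ∀ u : Y, orderOf u = 5 → α u = u := by
    intro u hu
    have hm : α u ∈ zpowers u := by
      rw [← hTfix _ (hzp hu)]
      exact ⟨u, mem_zpowers u, rfl⟩
    have hu5 : u ^ 5 = 1 := hu ▸ pow_orderOf_eq_one u
    obtain ⟨j, hj, hj'⟩ : ∃ j < 5, α u = u ^ j := pow_five_range' hu5 hm
    have hn : ∀ n : ℕ, (α ^ n) u = u ^ (j ^ n) := by
      intro n
      induction n with
      | zero => simp
      | succ n ih => rw [pow_succ', MulAut.mul_apply, ih, map_pow, hj', ← pow_mul, pow_succ', mul_comm]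
    have h7 := hn 7
    rw [hα, MulAut.one_apply] at h7
    have h1 : j ^ 7 % 5 = 1 := by
      have := pow_eq_pow_iff_modEq.mp ((pow_one u).trans h7)
      rw [hu] at this
      exact this.symm
    rw [hj']
    interval_cases j <;> first | (exfalso; norm_num at h1; done) | exact pow_one u
  -- the fixed subgroup
  let F : Subgroup Y :=
    { carrier := {x | α x = x}
      one_mem' := map_one α
      mul_mem' := fun {p q} hp hq => by
        show α (p * q) = p * q
        rw [map_mul, show α p = p from hp, show α q = q from hq]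
      inv_mem' := fun {p} hp => by
        show α p⁻¹ = p⁻¹
        rw [map_inv, show α p = p from hp] }
  letI : MulAction (zpowers α) Y := MulAction.compHom Y (zpowers α).subtype
  have hmod : Nat.card F % 7 = 1 := by
    haveI : Fact (Nat.Prime 7) := ⟨by norm_num⟩
    have hK : IsPGroup 7 (zpowers α) := by
      rintro ⟨x, hx⟩
      obtain ⟨i, rfl⟩ := mem_zpowers_iff.mp hx
      exact ⟨1, Subtype.ext (by
        rw [pow_one, SubmonoidClass.coe_pow]
        show (α ^ i) ^ 7 = 1
        rw [← zpow_natCast, ← zpow_mul, mul_comm, zpow_mul, zpow_natCast, hα, one_zpow])⟩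
    have h := hK.card_modEq_card_fixedPoints (α := Y)
    have e : MulAction.fixedPoints (zpowers α) Y = (F : Set Y) := by
      ext v
      rw [MulAction.mem_fixedPoints]
      constructor
      · intro h; exact h ⟨α, mem_zpowers α⟩
      · rintro (hv : α v = v) ⟨x, hx⟩
        obtain ⟨i, rfl⟩ := mem_zpowers_iff.mp hx
        show (α ^ i) • v = v
        exact MulAction.mem_stabilizer_iff.mp ((MulAction.stabilizer (MulAut Y) v).zpow_mem
          (MulAction.mem_stabilizer_iff.mpr hv) i)
    rw [e, hY] at h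
    unfold Nat.ModEq at h
    exact h.symm
  have haF : a ∈ F := hfive a ha
  have hbF : b ∈ F := hfive b hb
  have h5 : 5 ∣ Nat.card F := ha ▸ Subgroup.orderOf_dvd_natCard F haF
  have hdvd : Nat.card F ∣ 120 := hY ▸ card_subgroup_dvd_card F
  have hne5 : Nat.card F ≠ 5 ∧ Nat.card F ≠ 15 := by
    have key : ∀ n, Nat.card F = n → n = 5 ∨ n = 15 → False := by
      intro n hn hn'
      have hsyl : Nat.card (Sylow 5 F) = 1 := by
        obtain ⟨S⟩ : Nonempty (Sylow 5 F) := inferInstance
        have h2 := S.card_dvd_index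
        have h3 := card_sylow_modEq_one 5 F
        have h4 := Subgroup.card_mul_index (S : Subgroup F)
        have hf : (Nat.card F).factorization 5 = 1 := by
          rw [hn]
          rcases hn' with rfl | rfl
          · exact Nat.Prime.factorization_self (by norm_num)
          · rw [show 15 = 5 * 3 by norm_num, Nat.factorization_mul (by norm_num) (by norm_num), Finsupp.add_apply,
              Nat.Prime.factorization_self (by norm_num), Nat.factorization_eq_zero_of_not_dvd (by norm_num)]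
        rw [S.card_eq_multiplicity, hf, hn, pow_one] at h4
        have h5' : Nat.card (Sylow 5 F) ≤ 3 := by
          rcases hn' with rfl | rfl
          · exact le_trans (Nat.le_of_dvd (by omega) h2) (by omega)
          · exact le_trans (Nat.le_of_dvd (by omega) h2) (by omega)
        have hpos : 0 < Nat.card (Sylow 5 F) := Nat.card_pos
        unfold Nat.ModEq at h3
        omega
      haveI : Subsingleton (Sylow 5 F) := (Nat.card_eq_one_iff_unique.mp hsyl).1
      have hf : (Nat.card F).factorization 5 = 1 := by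
        rw [hn]
        rcases hn' with rfl | rfl
        · exact Nat.Prime.factorization_self (by norm_num)
        · rw [show 15 = 5 * 3 by norm_num, Nat.factorization_mul (by norm_num) (by norm_num), Finsupp.add_apply,
            Nat.Prime.factorization_self (by norm_num), Nat.factorization_eq_zero_of_not_dvd (by norm_num)]
      let Sa : Sylow 5 F := Sylow.ofCard (zpowers ⟨a, haF⟩) (by
        rw [hf, Nat.card_zpowers, Subgroup.orderOf_mk, ha, pow_one])
      let Sb : Sylow 5 F := Sylow.ofCard (zpowers ⟨b, hbF⟩) (by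
        rw [hf, Nat.card_zpowers, Subgroup.orderOf_mk, hb, pow_one])
      have hS : zpowers (⟨b, hbF⟩ : F) = zpowers ⟨a, haF⟩ :=
        congrArg (fun S : Sylow 5 F => (S : Subgroup F)) (Subsingleton.elim Sb Sa)
      obtain ⟨i, hi⟩ := mem_zpowers_iff.mp (hS ▸ mem_zpowers (⟨b, hbF⟩ : F) : (⟨b, hbF⟩ : F) ∈ zpowers ⟨a, haF⟩)
      exact hab (mem_zpowers_iff.mpr ⟨i, congrArg Subtype.val hi⟩)
    exact ⟨fun h => key 5 h (Or.inl rfl), fun h => key 15 h (Or.inr rfl)⟩
  have hall : ∀ n ∈ Nat.divisors 120, n % 7 = 1 → n % 5 = 0 → n = 15 ∨ n = 120 := by decide +kernel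
  have hF : F = ⊤ := by
    refine eq_top_of_card_eq _ ?_
    rw [hY]
    rcases hall _ (Nat.mem_divisors.mpr ⟨hdvd, by norm_num⟩) hmod (Nat.mod_eq_zero_of_dvd h5) with h | h
    · exact absurd h hne5.2
    · exact h
  exact (hF ▸ mem_top y : y ∈ F)
where
  pow_five_range' {Y : Type u} [Group Y] [Finite Y] {x : Y} (hx : x ^ 5 = 1) {y : Y} (hy : y ∈ zpowers x) :
      ∃ j < 5, y = x ^ j := pow_five_range hx hy

namespace EightC

variable {c : Ctx z P E} {m : FiveModel} {d : FiveData5 c m} {o : Eight d} {em : EightModel m} (k : EightC o em)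

/-- L inside the centralizer of A. -/
abbrev Ls : Subgroup k.CA := em.R.comap k.φ

theorem Ls_normal : k.Ls.Normal := ⟨fun y hy x => by
  have hxU : k.φ x ∈ k.U := k.range ▸ ⟨_, rfl⟩
  show k.φ (x * y * x⁻¹) ∈ em.R
  rw [map_mul, map_mul, map_inv]
  exact (mem_normalizer_iff.mp (k.UR hxU) _).mp hy⟩

theorem mem_Ls {x : k.CA} : x ∈ k.Ls ↔ (x : G) ∈ k.L :=
  ⟨fun h => k.mem_L.mpr ⟨x.2, h⟩, fun h => (k.mem_L.mp h).2⟩

theorem card_Ls : Nat.card k.Ls = 2 ^ 15 := by
  rw [← k.card_L, L, card_map_of_injective k.CA.subtype_injective]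

theorem s_norm {x : G} (hx : x ∈ k.CA) : o.s * x * o.s⁻¹ ∈ k.CA := mem_centralizer_iff.mpr fun a ha => by
  have ha' : o.s⁻¹ * a * o.s ∈ o.A := by
    have := o.norm o.s⁻¹ (inv_mem (o.Jcq o.sJ)) a ha
    rwa [inv_inv] at this
  calc a * (o.s * x * o.s⁻¹) = o.s * ((o.s⁻¹ * a * o.s) * x) * o.s⁻¹ := by group
    _ = o.s * (x * (o.s⁻¹ * a * o.s)) * o.s⁻¹ := by rw [mem_centralizer_iff.mp hx _ ha']
    _ = o.s * x * o.s⁻¹ * a := by group

theorem s_pow_norm (n : ℕ) : ∀ x ∈ k.CA, o.s ^ n * x * (o.s ^ n)⁻¹ ∈ k.CA := by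
  induction n with
  | zero => intro x hx; simpa using hx
  | succ n ih =>
    intro x hx
    rw [show o.s ^ (n + 1) * x * (o.s ^ (n + 1))⁻¹ = o.s * (o.s ^ n * x * (o.s ^ n)⁻¹) * o.s⁻¹ by
      rw [pow_succ']; group]
    exact k.s_norm (ih x hx)

/-- The element of order seven acts trivially on the quotient. -/
theorem s_trivial {x : G} (hx : x ∈ k.CA) : x⁻¹ * (o.s * x * o.s⁻¹) ∈ k.L := by
  classical
  haveI := k.Ls_normal
  have s7 : o.s ^ 7 = 1 := o.order_s ▸ pow_orderOf_eq_one o.s
  let cs : MulAut k.CA :=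
    { toFun := fun y => ⟨o.s * y * o.s⁻¹, k.s_norm y.2⟩
      invFun := fun y => ⟨o.s ^ 6 * y * (o.s ^ 6)⁻¹, k.s_pow_norm 6 y y.2⟩
      left_inv := fun y => Subtype.ext (by
        show o.s ^ 6 * (o.s * y * o.s⁻¹) * (o.s ^ 6)⁻¹ = y
        rw [show o.s ^ 6 * (o.s * y * o.s⁻¹) * (o.s ^ 6)⁻¹ = (o.s ^ 6 * o.s) * y * (o.s ^ 6 * o.s)⁻¹ by group,
          ← pow_succ, s7]
        group)
      right_inv := fun y => Subtype.ext (by
        show o.s * (o.s ^ 6 * y * (o.s ^ 6)⁻¹) * o.s⁻¹ = y
        rw [show o.s * (o.s ^ 6 * y * (o.s ^ 6)⁻¹) * o.s⁻¹ = (o.s * o.s ^ 6) * y * (o.s * o.s ^ 6)⁻¹ by group,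
          ← pow_succ', s7]
        group)
      map_mul' := fun a b => Subtype.ext (by
        show o.s * ((a : G) * b) * o.s⁻¹ = o.s * a * o.s⁻¹ * (o.s * b * o.s⁻¹)
        group) }
  have hmap : k.Ls.map cs.toMonoidHom = k.Ls := by
    refine eq_of_le_of_card_ge ?_ (by rw [card_map_of_injective (f := cs.toMonoidHom) cs.injective])
    rintro _ ⟨y, hy, rfl⟩
    exact k.mem_Ls.mpr (k.norm_L (fun a ha => o.norm _ (o.Jcq o.sJ) a ha) (k.mem_Ls.mp hy))
  let α : MulAut (k.CA ⧸ k.Ls) := QuotientGroup.congr k.Ls k.Ls cs hmap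
  have hα1 : ∀ y : k.CA, α (QuotientGroup.mk y) = QuotientGroup.mk (cs y) := fun y => rfl
  have hαn : ∀ (n : ℕ) (y : k.CA), (α ^ n) (QuotientGroup.mk y) = QuotientGroup.mk ((cs ^ n) y) := by
    intro n
    induction n with
    | zero => intro y; rfl
    | succ n ih => intro y; rw [pow_succ', MulAut.mul_apply, ih, hα1, pow_succ', MulAut.mul_apply]
  have hcn : ∀ (n : ℕ) (y : k.CA), (((cs ^ n) y : k.CA) : G) = o.s ^ n * y * (o.s ^ n)⁻¹ := by
    intro n
    induction n with
    | zero => intro y; simp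
    | succ n ih =>
      intro y
      rw [pow_succ', MulAut.mul_apply]
      show o.s * ((cs ^ n) y : k.CA) * o.s⁻¹ = _
      rw [ih, pow_succ']
      group
  have hα7 : α ^ 7 = 1 := MulEquiv.ext fun y => by
    induction y using QuotientGroup.induction_on with | H y => ?_
    rw [hαn, MulAut.one_apply]
    exact congrArg _ (Subtype.ext (by rw [hcn, s7]; simp))
  have hYcard : Nat.card (k.CA ⧸ k.Ls) = 120 := by
    have := Subgroup.card_eq_card_quotient_mul_card_subgroup k.Ls
    rw [k.card_CA, k.card_Ls] at this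
    omega
  haveI : Fact (Nat.Prime 5) := ⟨by norm_num⟩
  set q' : k.CA := ⟨d.q, k.qC⟩ with hq'
  have hq5 : q' ^ 5 = 1 := Subtype.ext d.q5
  have hqL : q' ∉ k.Ls := fun h => by
    have h16 : m.q ^ 16 = 1 := by
      rw [← em.cardR, ← k.φq]
      exact congrArg Subtype.val (pow_card_eq_one' (x := (⟨_, h⟩ : em.R)))
    have := orderOf_dvd_of_pow_eq_one h16
    rw [m.q5] at this
    norm_num at this
  have hoa : ∀ y : k.CA, y * q' * y⁻¹ ∉ k.Ls := fun y h => hqL (by
    have := k.Ls_normal.conj_mem _ h y⁻¹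
    rwa [show y⁻¹ * (y * q' * y⁻¹) * y⁻¹⁻¹ = q' by group] at this)
  have hord : ∀ y : k.CA, orderOf (QuotientGroup.mk (y * q' * y⁻¹) : k.CA ⧸ k.Ls) = 5 := fun y =>
    orderOf_eq_prime (by
      rw [← QuotientGroup.mk_pow, conj_pow, hq5, mul_one, mul_inv_cancel]; rfl)
      (fun h => hoa y ((QuotientGroup.eq_one_iff _).mp h))
  -- some conjugate of q lies outside the group generated by q and L
  obtain ⟨y, hy⟩ : ∃ y : k.CA, (QuotientGroup.mk (y * q' * y⁻¹) : k.CA ⧸ k.Ls) ∉ zpowers (QuotientGroup.mk q') := by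
    by_contra hall
    push Not at hall
    -- all conjugates of q in U lie in five cosets of R
    have himg : ∀ u : k.U, ∃ i : Fin 5, ∃ r : em.R, (u : MTwoTwo) * m.q * (u : MTwoTwo)⁻¹ = m.q ^ (i : ℕ) * r := by
      rintro ⟨u, hu⟩
      obtain ⟨y, rfl⟩ : u ∈ k.φ.range := k.range.symm ▸ hu
      obtain ⟨i, hi, hi'⟩ := pow_five_range (show (QuotientGroup.mk q' : k.CA ⧸ k.Ls) ^ 5 = 1 by
        rw [← QuotientGroup.mk_pow, hq5]; rfl) (hall y)
      rw [← QuotientGroup.mk_pow, eq_comm, QuotientGroup.eq] at hi'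
      refine ⟨⟨i, hi⟩, ⟨_, hi'⟩, ?_⟩
      show k.φ y * m.q * (k.φ y)⁻¹ = m.q ^ i * k.φ ((q' ^ i)⁻¹ * (y * q' * y⁻¹))
      rw [← k.φq, ← map_pow, ← map_inv, ← map_mul, ← map_mul, ← map_mul, mul_inv_cancel_left]
    have hfib : ∀ u v : k.U, (himg u).choose = (himg v).choose →
        (himg u).choose_spec.choose = (himg v).choose_spec.choose → ∃ i : ℕ, (v : MTwoTwo)⁻¹ * u = m.q ^ i := by
      intro u v h1 h2
      have hu := (himg u).choose_spec.choose_spec
      have hv := (himg v).choose_spec.choose_spec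
      rw [h2, h1, ← hv] at hu
      obtain ⟨i, hi⟩ := m.selfC ((v : MTwoTwo)⁻¹ * u) (by
        calc (v : MTwoTwo)⁻¹ * u * m.q = (v : MTwoTwo)⁻¹ * (u * m.q * (u : MTwoTwo)⁻¹) * u := by group
          _ = (v : MTwoTwo)⁻¹ * (v * m.q * (v : MTwoTwo)⁻¹) * u := by rw [hu]
          _ = m.q * ((v : MTwoTwo)⁻¹ * u) := by group)
      exact ⟨i, hi⟩
    let key : k.U → Fin 5 × em.R := fun u => ((himg u).choose, (himg u).choose_spec.choose)
    have hbound : Nat.card k.U ≤ Nat.card (Fin 5 × em.R) * 5 := by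
      let pick : ∀ x : Set.range key, k.U := fun x => x.2.choose
      refine le_trans (Nat.card_le_card_of_surjective
        (fun x : Set.range key × Fin 5 => (⟨(pick x.1 : MTwoTwo) * m.q ^ (x.2 : ℕ),
          mul_mem (pick x.1).2 (pow_mem k.qU _)⟩ : k.U)) fun u => ?_) ?_
      · have hp : key (pick ⟨key u, u, rfl⟩) = key u := (show key u ∈ Set.range key from ⟨u, rfl⟩).choose_spec
        obtain ⟨h1, h2⟩ := Prod.mk.inj hp
        obtain ⟨i, hi⟩ := hfib u (pick ⟨key u, u, rfl⟩) h1.symm h2.symm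
        have hm5 : m.q ^ 5 = 1 := m.q5 ▸ pow_orderOf_eq_one m.q
        refine ⟨(⟨key u, u, rfl⟩, ⟨i % 5, Nat.mod_lt _ (by norm_num)⟩), Subtype.ext ?_⟩
        show (pick _ : MTwoTwo) * m.q ^ (i % 5) = u
        rw [← pow_eq_pow_mod i hm5, ← hi, mul_inv_cancel_left]
      · rw [Nat.card_prod, Nat.card_fin]
        exact Nat.mul_le_mul_right 5 (Nat.card_le_card_of_injective (Subtype.val : Set.range key → Fin 5 × em.R) Subtype.val_injective)
    rw [k.cardU, Nat.card_prod, Nat.card_fin, em.cardR] at hbound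
    norm_num at hbound
  have hmain := auto_seven_trivial hYcard α hα7 (a := QuotientGroup.mk q') (b := QuotientGroup.mk (y * q' * y⁻¹))
    (by have := hord 1; rwa [one_mul, inv_one, mul_one] at this) (hord y) hy (QuotientGroup.mk ⟨x, hx⟩)
  rw [hα1, eq_comm, QuotientGroup.eq] at hmain
  exact k.mem_Ls.mp hmain

/-- Every coset of L in the centralizer of A has an element fixed by s. -/
theorem exists_fixed_coset {x : G} (hx : x ∈ k.CA) :
    ∃ y ∈ k.CA, y * o.s = o.s * y ∧ x⁻¹ * y ∈ k.L := by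
  classical
  haveI : Fact (Nat.Prime 7) := ⟨by norm_num⟩
  haveI : Fintype G := Fintype.ofFinite G
  set S : Finset G := Finset.univ.filter fun y => x⁻¹ * y ∈ k.L with hS
  have hcard : S.card = 2 ^ 15 := by
    rw [← k.card_L, ← Nat.card_eq_finsetCard]
    exact Nat.card_congr
      { toFun := fun y => ⟨x⁻¹ * y.1, (Finset.mem_filter.mp y.2).2⟩
        invFun := fun l => ⟨x * l.1, Finset.mem_filter.mpr ⟨Finset.mem_univ _, by rw [inv_mul_cancel_left]; exact l.2⟩⟩
        left_inv := fun y => Subtype.ext (mul_inv_cancel_left x y.1)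
        right_inv := fun l => Subtype.ext (inv_mul_cancel_left x l.1) }
  let σ : Equiv.Perm G := (MulAut.conj o.s).toEquiv
  have hσn : ∀ (n : ℕ) (y : G), (σ ^ n) y = o.s ^ n * y * (o.s ^ n)⁻¹ := by
    intro n
    induction n with
    | zero => intro y; simp
    | succ n ih =>
      intro y
      rw [pow_succ', Equiv.Perm.mul_apply, ih]
      show o.s * (o.s ^ n * y * (o.s ^ n)⁻¹) * o.s⁻¹ = _
      rw [pow_succ']; group
  have hσ7 : σ ^ 7 = 1 := Equiv.ext fun y => by
    rw [hσn, ← o.order_s, pow_orderOf_eq_one]; simp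
  have hSσ : ∀ y ∈ S, σ y ∈ S := fun y hy => by
    refine Finset.mem_filter.mpr ⟨Finset.mem_univ _, ?_⟩
    show x⁻¹ * (o.s * y * o.s⁻¹) ∈ k.L
    rw [show x⁻¹ * (o.s * y * o.s⁻¹) = (x⁻¹ * (o.s * x * o.s⁻¹)) * (o.s * (x⁻¹ * y) * o.s⁻¹) by group]
    exact mul_mem (k.s_trivial hx)
      (k.norm_L (fun a ha => o.norm _ (o.Jcq o.sJ) a ha) (Finset.mem_filter.mp hy).2)
  have h := fix_count σ S hSσ (by norm_num : Nat.Prime 7) hσ7
  rw [hcard] at h
  obtain ⟨y, hy⟩ : (S.filter fun y => σ y = y).Nonempty := Finset.card_pos.mp (by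
    by_contra hc
    rw [Nat.eq_zero_of_not_pos hc] at h
    exact absurd h (by decide))
  obtain ⟨hyS, hyfix⟩ := Finset.mem_filter.mp hy
  have hyL := (Finset.mem_filter.mp hyS).2
  refine ⟨y, ?_, (mul_inv_eq_iff_eq_mul.mp (show o.s * y * o.s⁻¹ = y from hyfix)).symm, hyL⟩
  rw [show y = x * (x⁻¹ * y) by group]
  exact mul_mem hx (k.L_le hyL)

end EightC

end CfsgLib.JankoFour
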