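/-
The fixed points of s in the centralizer of A: a copy of Sym(5) complementing L.
-/
import Cfsg.Agent.Lib.JankoFour.EightY

set_option autoImplicit false

namespace CfsgLib.JankoFour

open Cfsg Subgroup

universe u

variable {G : Type u} [Group G] [Finite G] {z : G} {P E : Subgroup G}

/-- The fixed points of s in the centralizer of A. -/
structure EightI {c : Ctx z P E} {m : FiveModel} {d : FiveData5 c m} {o : Eight d} {em : EightModel m}
    (k : EightC o em) : Type u where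
  I : Subgroup G
  iso : ↥I ≃* Equiv.Perm (Fin 5)
  mem_I : ∀ {x : G}, x ∈ I ↔ x ∈ k.CA ∧ x * o.s = o.s * x
  disj : ∀ x ∈ k.L, x ∈ I → x = 1
  cover : ∀ x ∈ k.CA, ∃ i ∈ I, i⁻¹ * x ∈ k.L
  cent : centralizer ((zpowers o.s : Subgroup G) : Set G) ≤ zpowers o.s ⊔ I
  cardN : Nat.card ↥(normalizer (zpowers o.s : Set G)) = 2520
  not49 : ¬ 49 ∣ Nat.card G

namespace EightC

variable {c : Ctx z P E} {m : FiveModel} {d : FiveData5 c m} {o : Eight d} {em : EightModel m} (k : EightC o em)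

theorem exists_eightI [IsSimpleGroup G] (hG : ¬ IsMulCommutative G)
    (hinv : ∃ n ∈ centralizer ({z} : Set G), ∀ q ∈ P, n * q * n⁻¹ = q⁻¹) : Nonempty (EightI k) := by
  classical
  obtain ⟨t⟩ := exists_pack d hG hinv
  have hloc := t.seven_local_at d hG hinv
  have h49 := hloc.1
  haveI : Fact (Nat.Prime 7) := ⟨by norm_num⟩
  have hfac : (Nat.card G).factorization 7 = 1 := by
    have h7 : 7 ∣ Nat.card G := o.order_s ▸ orderOf_dvd_natCard o.s
    have h1 : 1 ≤ (Nat.card G).factorization 7 :=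
      (Nat.Prime.dvd_iff_one_le_factorization (by norm_num) Nat.card_pos.ne').mp h7
    have h2 : ¬ 2 ≤ (Nat.card G).factorization 7 := fun h =>
      h49 ((Nat.Prime.pow_dvd_iff_le_factorization (by norm_num) Nat.card_pos.ne').mpr h)
    omega
  let S₁ : Sylow 7 G := Sylow.ofCard (zpowers t.r) (by rw [hfac, t.card_R, pow_one])
  let S₂ : Sylow 7 G := Sylow.ofCard (zpowers o.s) (by rw [hfac, Nat.card_zpowers, o.order_s, pow_one])
  obtain ⟨g, hg⟩ := MulAction.exists_smul_eq G S₁ S₂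
  have hmap : (zpowers t.r).map (MulAut.conj g).toMonoidHom = zpowers o.s := by
    have h1 : ((g • S₁ : Sylow 7 G) : Subgroup G) = zpowers o.s := by rw [hg]; rfl
    rw [Sylow.coe_subgroup_smul, Subgroup.pointwise_smul_def] at h1
    exact h1
  obtain ⟨-, ⟨I0, hI0, ⟨e0⟩⟩, -, hN⟩ := hmap ▸ hloc.map (MulAut.conj g)
  obtain ⟨hsle, hI0le, hcomm, hdisj, hsup⟩ := hI0
  have hI0card : Nat.card I0 = 120 := by rw [Nat.card_congr e0.toEquiv, perm_five_card]
  have s7 : o.s ^ 7 = 1 := o.order_s ▸ pow_orderOf_eq_one o.s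
  -- the fixed points in the centralizer of A
  let F : Subgroup G := k.CA ⊓ centralizer ({o.s} : Set G)
  have hFI : F ≤ I0 := by
    intro x hx
    have hxc : x ∈ centralizer ((zpowers o.s : Subgroup G) : Set G) := by
      rw [zpowers_eq_closure, centralizer_closure]; exact hx.2
    have hle : I0 ≤ normalizer (zpowers o.s : Set G) := hI0le.trans (centralizer_le_normalizer _)
    rw [← hsup, ← SetLike.mem_coe, Subgroup.coe_mul_of_right_le_normalizer_left _ _ hle] at hxc
    obtain ⟨a, ha, i, hi, rfl⟩ := hxc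
    have hcp := k.not_seven
    have h1 : (a * i) ^ Nat.card k.CA = 1 :=
      congrArg Subtype.val (pow_card_eq_one' (x := (⟨a * i, hx.1⟩ : k.CA)))
    rw [(show Commute a i from hcomm a ha i hi).mul_pow] at h1
    have h2 : a ^ Nat.card k.CA ∈ zpowers o.s ⊓ I0 :=
      ⟨pow_mem ha _, by rw [eq_inv_of_mul_eq_one_left h1]; exact I0.inv_mem (pow_mem hi _)⟩
    rw [hdisj, mem_bot] at h2
    have h3 : a ^ 7 = 1 := by
      obtain ⟨j, rfl⟩ := mem_zpowers_iff.mp ha
      rw [← zpow_natCast, ← zpow_mul, mul_comm, zpow_mul, zpow_natCast, s7, one_zpow]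
    have h4 := pow_gcd_eq_one.mpr ⟨h2, h3⟩
    rw [hcp.gcd_eq_one, pow_one] at h4
    show a * i ∈ I0
    rw [h4, one_mul]; exact hi
  haveI := k.Ls_normal
  have hsurj : ∀ x ∈ k.CA, ∃ y ∈ F, y⁻¹ * x ∈ k.L := by
    intro x hx
    obtain ⟨y, hy, hys, hyx⟩ := k.exists_fixed_coset hx
    refine ⟨y, ⟨hy, mem_centralizer_singleton_iff.mpr hys⟩, ?_⟩
    have := inv_mem hyx
    rwa [mul_inv_rev, inv_inv] at this
  let ψ : F → k.CA ⧸ k.Ls := fun y => QuotientGroup.mk ⟨y, y.2.1⟩
  have hψ : Function.Surjective ψ := by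
    intro x
    induction x using QuotientGroup.induction_on with | H x => ?_
    obtain ⟨y, hy, hyx⟩ := hsurj x x.2
    exact ⟨⟨y, hy⟩, QuotientGroup.eq.mpr (k.mem_Ls.mpr hyx)⟩
  have hYcard : Nat.card (k.CA ⧸ k.Ls) = 120 := by
    have := Subgroup.card_eq_card_quotient_mul_card_subgroup k.Ls
    rw [k.card_CA, k.card_Ls] at this
    omega
  have hFcard : Nat.card F = 120 := le_antisymm (hI0card ▸ card_le_of_le hFI)
    (hYcard ▸ Nat.card_le_card_of_surjective ψ hψ)
  have hFeq : F = I0 := eq_of_le_of_card_ge hFI (by rw [hFcard, hI0card])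
  have hψinj : Function.Injective ψ :=
    ((Nat.bijective_iff_surjective_and_card ψ).mpr ⟨hψ, by rw [hFcard, hYcard]⟩).1
  refine ⟨⟨F, (MulEquiv.subgroupCongr hFeq).trans e0, ?_, ?_, hsurj, ?_, ?_, h49⟩⟩
  · intro x
    exact ⟨fun h => ⟨h.1, mem_centralizer_singleton_iff.mp h.2⟩,
      fun h => ⟨h.1, mem_centralizer_singleton_iff.mpr h.2⟩⟩
  · intro x hx hxF
    have h1 : ψ ⟨x, hxF⟩ = ψ 1 := by
      refine QuotientGroup.eq.mpr (k.mem_Ls.mpr ?_)
      show x⁻¹ * 1 ∈ k.L
      rw [mul_one]; exact inv_mem hx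
    exact congrArg Subtype.val (hψinj h1)
  · rw [hFeq, hsup]
  · rw [hN]; norm_num

end EightC

end CfsgLib.JankoFour
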