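/-
The group L is special of order 2^15 with centre A.
-/
import Cfsg.Agent.Lib.JankoFour.EightI
import Cfsg.Agent.Lib.Elementary
import Cfsg.Agent.Lib.YoshidaTransfer

set_option autoImplicit false

namespace CfsgLib.JankoFour

open Cfsg Subgroup
open scoped commutatorElement

universe u

variable {G : Type u} [Group G] [Finite G] {z : G} {P E : Subgroup G}

/-- The fixed points of an element of prime order on an invariant subgroup. -/
theorem fixed_modEq {p : ℕ} [Fact p.Prime] {x : G} (hx : orderOf x = p) {W : Subgroup G}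
    (hW : ∀ w ∈ W, x * w * x⁻¹ ∈ W) : Nat.card W ≡ Nat.card ↥(W ⊓ centralizer ({x} : Set G)) [MOD p] := by
  classical
  haveI : Fintype G := Fintype.ofFinite G
  let σ : Equiv.Perm G := (MulAut.conj x).toEquiv
  have hσn : ∀ (n : ℕ) (y : G), (σ ^ n) y = x ^ n * y * (x ^ n)⁻¹ := by
    intro n
    induction n with
    | zero => intro y; simp
    | succ n ih =>
      intro y
      rw [pow_succ', Equiv.Perm.mul_apply, ih]
      show x * (x ^ n * y * (x ^ n)⁻¹) * x⁻¹ = _
      rw [pow_succ']; group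
  have hσp : σ ^ p = 1 := Equiv.ext fun y => by rw [hσn, ← hx, pow_orderOf_eq_one]; simp
  set S : Finset G := Finset.univ.filter fun y => y ∈ W with hS
  have h := fix_count σ S (fun y hy => Finset.mem_filter.mpr ⟨Finset.mem_univ _, hW y (Finset.mem_filter.mp hy).2⟩)
    (Fact.out : p.Prime) hσp
  have e1 : Nat.card W = S.card := by
    rw [← Nat.card_eq_finsetCard]; exact Nat.card_congr (Equiv.subtypeEquivRight fun y => by simp [hS])
  have e2 : Nat.card ↥(W ⊓ centralizer ({x} : Set G)) = (S.filter fun y => σ y = y).card := by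
    rw [← Nat.card_eq_finsetCard]
    exact Nat.card_congr (Equiv.subtypeEquivRight fun y => by
      simp only [hS, mem_inf, mem_centralizer_singleton_iff, Finset.mem_filter, Finset.mem_univ, true_and]
      refine and_congr_right fun _ => ?_
      show y * x = x * y ↔ x * y * x⁻¹ = y
      rw [mul_inv_eq_iff_eq_mul, eq_comm])
  rwa [e1, e2]

/-- The part of the centralizer of A in E. -/
noncomputable def EightC.M1 {c : Ctx z P E} {m : FiveModel} {d : FiveData5 c m} {o : Eight d} {em : EightModel m}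
    (k : EightC o em) : Subgroup G := E ⊓ k.CA

namespace EightI

variable {c : Ctx z P E} {m : FiveModel} {d : FiveData5 c m} {o : Eight d} {em : EightModel m} {k : EightC o em}
  (i : EightI k)
include i

theorem M1_le_L : k.M1 ≤ k.L := fun _ hx => k.E_le_L hx.1 hx.2

theorem A_le_M1 : o.A ≤ k.M1 := fun a ha => ⟨o.AE ha, mem_centralizer_iff.mpr fun b hb => o.commA b hb a ha⟩

theorem conj_A {j : G} (hj : j ∈ o.J) {a : G} (ha : a ∈ o.A) : j * a * j⁻¹ ∈ o.A := o.norm j (o.Jcq hj) a ha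

theorem conj_L {j : G} (hj : j ∈ o.J) {x : G} (hx : x ∈ k.L) : j * x * j⁻¹ ∈ k.L :=
  k.norm_L (fun _ ha => i.conj_A hj ha) hx

theorem q_L {x : G} (hx : x ∈ k.L) : d.q * x * d.q⁻¹ ∈ k.L := k.conj_L k.qC hx

/-- A subgroup of L above A of order at most 2^7 invariant under s and q is A. -/
theorem small_eq {W : Subgroup G} (hWL : W ≤ k.L) (hAW : o.A ≤ W) (hle : Nat.card W ≤ 2 ^ 7)
    (hs : ∀ w ∈ W, o.s * w * o.s⁻¹ ∈ W) (hq : ∀ w ∈ W, d.q * w * d.q⁻¹ ∈ W) : W = o.A := by
  haveI : Fact (Nat.Prime 7) := ⟨by norm_num⟩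
  haveI : Fact (Nat.Prime 5) := ⟨by norm_num⟩
  obtain ⟨n, -, hn⟩ := (Nat.dvd_prime_pow Nat.prime_two).mp (k.card_L ▸ card_dvd_of_le hWL)
  have h7 := fixed_modEq o.order_s hs
  have hs1 : W ⊓ centralizer ({o.s} : Set G) = ⊥ := by
    rw [eq_bot_iff]
    rintro x ⟨hx, hx'⟩
    exact mem_bot.mpr (i.disj x (hWL hx) (i.mem_I.mpr ⟨k.L_le (hWL hx), mem_centralizer_singleton_iff.mp hx'⟩))
  rw [hs1, card_bot, hn] at h7
  have hord : orderOf d.q = 5 := by rw [← Nat.card_zpowers]; exact d.card_Q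
  have h5 := fixed_modEq hord hq
  have hq1 : W ⊓ centralizer ({d.q} : Set G) = o.A := by
    refine le_antisymm ?_ fun a ha => ⟨hAW ha, mem_centralizer_singleton_iff.mpr ((d.mem_D.mp (o.AD ha)).2).symm⟩
    rintro x ⟨hx, hx'⟩
    exact k.q_fix (hWL hx) (mem_centralizer_singleton_iff.mp hx')
  rw [hq1, o.cardA, hn] at h5
  rw [hn] at hle
  have hge : 2 ^ 3 ≤ 2 ^ n := by
    rw [← hn, show (2 : ℕ) ^ 3 = Nat.card o.A by rw [o.cardA]; norm_num]; exact card_le_of_le hAW
  have hn3 : 3 ≤ n := (Nat.pow_le_pow_iff_right (by norm_num)).mp hge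
  have hn7 : n ≤ 7 := (Nat.pow_le_pow_iff_right (by norm_num)).mp hle
  refine (eq_of_le_of_card_ge hAW ?_).symm
  rw [o.cardA, hn]
  unfold Nat.ModEq at h7 h5
  interval_cases n <;> first | (norm_num; done) | (exfalso; norm_num at h7; done) | (exfalso; norm_num at h5; done)

theorem comm_M1 {x y : G} (hx : x ∈ k.M1) (hy : y ∈ k.M1) : ⁅x, y⁆ ∈ zpowers z := c.comm_E hx.1 hy.1

theorem sq_M1 {x : G} (hx : x ∈ k.M1) : x * x ∈ zpowers z := c.sq_mem_Z hx.1

theorem conj_M1 {x w : G} (hx : x ∈ k.L) (hw : w ∈ k.M1) : x * w * x⁻¹ ∈ k.M1 := by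
  refine ⟨c.conj_E (k.CH (k.L_le hx)) hw.1, ?_⟩
  exact mul_mem (mul_mem (k.L_le hx) hw.2) (k.CA.inv_mem (k.L_le hx))

/-- Every element of L is a product of elements of two conjugates, and squares and commutators lie in the first. -/
theorem M1_facts {x y : G} (hx : x ∈ k.L) (hy : y ∈ k.L) : ⁅x, y⁆ ∈ k.M1 ∧ x * x ∈ k.M1 := by
  classical
  obtain ⟨p, hp, -, hgen⟩ := c.exists_gen
  obtain ⟨e, he, heZ⟩ := o.sec.exists_e
  obtain ⟨j, hj, hje⟩ := o.orbit e he (fun h => heZ (h ▸ one_mem _))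
  set M2 := k.M1.map (MulAut.conj j).toMonoidHom with hM2
  have hM2L : M2 ≤ k.L := by
    rintro _ ⟨w, hw, rfl⟩
    exact i.conj_L hj (i.M1_le_L hw)
  have hM2A : o.A ≤ M2 := fun a ha => ⟨j⁻¹ * a * j, i.A_le_M1 (by
      have := i.conj_A (inv_mem hj) ha
      rwa [inv_inv] at this), by
    simp only [MulEquiv.coe_toMonoidHom, MulAut.conj_apply]; group⟩
  have hzA := i.A_le_M1 o.zA
  have hcomm2 : ∀ u ∈ M2, ∀ v ∈ M2, ⁅u, v⁆ ∈ zpowers e := by
    rintro _ ⟨u, hu, rfl⟩ _ ⟨v, hv, rfl⟩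
    rw [← map_commutatorElement]
    obtain ⟨n, hn⟩ := mem_zpowers_iff.mp (i.comm_M1 hu hv)
    refine mem_zpowers_iff.mpr ⟨n, ?_⟩
    rw [← hn, map_zpow]
    simp only [MulEquiv.coe_toMonoidHom, MulAut.conj_apply, hje]
  have hinter : Nat.card ↥(k.M1 ⊓ M2) ≤ 2 ^ 7 := by
    refine c.abelian_le (inf_le_left.trans inf_le_left) ⟨hzA, hM2A o.zA⟩ fun a ha b hb => ?_
    refine commutatorElement_eq_one_iff_mul_comm.mp ?_
    rcases c.mem_Z.mp (i.comm_M1 ha.1 hb.1) with h | h
    · exact h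
    · exfalso
      obtain ⟨n, hn⟩ := mem_zpowers_iff.mp (hcomm2 a ha.2 b hb.2)
      rw [h] at hn
      rcases Int.even_or_odd' n with ⟨l, rfl | rfl⟩
      · rw [zpow_mul, zpow_two, o.sqA e he, one_zpow] at hn
        exact c.z_ne_one hn.symm
      · rw [zpow_add, zpow_mul, zpow_two, o.sqA e he, one_zpow, one_mul, zpow_one] at hn
        exact heZ (hn ▸ mem_zpowers z)
  -- L = M2 M1
  haveI hn1 : (k.M1.subgroupOf k.L).Normal := ⟨fun w hw g => mem_subgroupOf.mpr (i.conj_M1 g.2 (mem_subgroupOf.mp hw))⟩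
  let f : M2 →* k.L ⧸ k.M1.subgroupOf k.L := (QuotientGroup.mk' _).comp (Subgroup.inclusion hM2L)
  have hker : f.ker.map M2.subtype ≤ k.M1 ⊓ M2 := by
    rintro _ ⟨w, hw, rfl⟩
    exact ⟨mem_subgroupOf.mp ((QuotientGroup.eq_one_iff (Subgroup.inclusion hM2L w)).mp hw), w.2⟩
  have hq16 : Nat.card (k.L ⧸ k.M1.subgroupOf k.L) = 16 := by
    have := Subgroup.card_eq_card_quotient_mul_card_subgroup (k.M1.subgroupOf k.L)
    rw [k.card_L, Nat.card_congr (subgroupOfEquivOfLe i.M1_le_L).toEquiv,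
      show Nat.card k.M1 = 2 ^ 11 from k.cardE] at this
    omega
  have hsurj : Function.Surjective f := by
    rw [← MonoidHom.range_eq_top]
    refine eq_top_of_le_card _ ?_
    have h := Subgroup.card_mul_index f.ker
    rw [Subgroup.index_ker] at h
    have hk : Nat.card f.ker ≤ 2 ^ 7 := by
      rw [← card_map_of_injective (f := M2.subtype) M2.subtype_injective]
      exact (card_le_of_le hker).trans hinter
    have hM2c : Nat.card M2 = 2 ^ 11 := by
      rw [hM2, card_map_of_injective (MulAut.conj j).injective]; exact k.cardE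
    rw [hM2c] at h
    rw [hq16]
    nlinarith
  have he1 : ∀ w ∈ zpowers e, w ∈ k.M1 := fun w hw => i.A_le_M1 ((zpowers_le.mpr he) hw)
  have habel : ∀ u v : k.L ⧸ k.M1.subgroupOf k.L, u * v = v * u ∧ u * u = 1 := by
    intro u v
    obtain ⟨u, rfl⟩ := hsurj u
    obtain ⟨v, rfl⟩ := hsurj v
    refine ⟨commutatorElement_eq_one_iff_mul_comm.mp ?_, ?_⟩
    · rw [← map_commutatorElement]
      exact (QuotientGroup.eq_one_iff _).mpr (mem_subgroupOf.mpr (he1 _ (hcomm2 u u.2 v v.2)))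
    · rw [← map_mul]
      refine (QuotientGroup.eq_one_iff _).mpr (mem_subgroupOf.mpr ?_)
      obtain ⟨w, hw, hwu⟩ := u.2
      show (u : G) * u ∈ k.M1
      rw [← hwu, ← map_mul]
      obtain ⟨n, hn⟩ := mem_zpowers_iff.mp (i.sq_M1 hw)
      refine he1 _ (mem_zpowers_iff.mpr ⟨n, ?_⟩)
      rw [← hn, map_zpow]
      simp only [MulEquiv.coe_toMonoidHom, MulAut.conj_apply, hje]
  obtain ⟨h1, h2⟩ := habel (QuotientGroup.mk ⟨x, hx⟩) (QuotientGroup.mk ⟨y, hy⟩)
  constructor
  · rw [← commutatorElement_eq_one_iff_mul_comm] at h1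
    rw [← QuotientGroup.mk'_apply, ← QuotientGroup.mk'_apply, ← map_commutatorElement] at h1
    exact mem_subgroupOf.mp ((QuotientGroup.eq_one_iff _).mp h1)
  · rw [← QuotientGroup.mk_mul] at h2
    exact mem_subgroupOf.mp ((QuotientGroup.eq_one_iff _).mp h2)

/-- Squares and commutators of L lie in A. -/
theorem L_facts {x y : G} (hx : x ∈ k.L) (hy : y ∈ k.L) : ⁅x, y⁆ ∈ o.A ∧ x * x ∈ o.A := by
  classical
  obtain ⟨e, he, heZ⟩ := o.sec.exists_e
  obtain ⟨j0, hj0, hje⟩ := o.orbit e he (fun h => heZ (h ▸ one_mem _))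
  let X : Subgroup G :=
    { carrier := {w | w ∈ k.L ∧ ∀ j ∈ o.J, j * w * j⁻¹ ∈ k.M1}
      one_mem' := ⟨one_mem _, fun j _ => by rw [mul_one, mul_inv_cancel]; exact one_mem _⟩
      mul_mem' := fun {a b} ha hb => ⟨mul_mem ha.1 hb.1, fun j hj => by
        rw [show j * (a * b) * j⁻¹ = (j * a * j⁻¹) * (j * b * j⁻¹) by group]
        exact mul_mem (ha.2 j hj) (hb.2 j hj)⟩
      inv_mem' := fun {a} ha => ⟨inv_mem ha.1, fun j hj => by
        rw [show j * a⁻¹ * j⁻¹ = (j * a * j⁻¹)⁻¹ by group]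
        exact inv_mem (ha.2 j hj)⟩ }
  have hXA : X = o.A := by
    refine i.small_eq (fun w hw => hw.1) (fun a ha => ⟨k.A_le_L ha, fun j hj => i.A_le_M1 (i.conj_A hj ha)⟩) ?_
      (fun w hw => ⟨i.conj_L o.sJ hw.1, fun j hj => by
        rw [show j * (o.s * w * o.s⁻¹) * j⁻¹ = (j * o.s) * w * (j * o.s)⁻¹ by group]
        exact hw.2 _ (mul_mem hj o.sJ)⟩)
      (fun w hw => ⟨i.q_L hw.1, fun j hj => ?_⟩)
    · -- X lies in two conjugates
      refine c.abelian_le (B := X) (fun w hw => ?_) ?_ (fun a ha b hb => ?_)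
      · have := hw.2 1 (one_mem _)
        rw [one_mul, inv_one, mul_one] at this
        exact this.1
      · exact ⟨k.A_le_L o.zA, fun j hj => i.A_le_M1 (i.conj_A hj o.zA)⟩
      · have h1a := ha.2 1 (one_mem _)
        have h1b := hb.2 1 (one_mem _)
        rw [one_mul, inv_one, mul_one] at h1a h1b
        refine commutatorElement_eq_one_iff_mul_comm.mp ?_
        rcases c.mem_Z.mp (i.comm_M1 h1a h1b) with h | h
        · exact h
        · exfalso
          have h' := i.comm_M1 (ha.2 _ (inv_mem hj0)) (hb.2 _ (inv_mem hj0))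
          rw [show ⁅j0⁻¹ * a * j0⁻¹⁻¹, j0⁻¹ * b * j0⁻¹⁻¹⁆ = j0⁻¹ * ⁅a, b⁆ * j0⁻¹⁻¹ by
            simp only [commutatorElement_def]; group, h] at h'
          rcases c.mem_Z.mp h' with h'' | h''
          · exact c.z_ne_one (conj_eq_one_iff.mp h'')
          · refine heZ ?_
            have : j0 * z * j0⁻¹ = z := by
              calc j0 * z * j0⁻¹ = j0 * (j0⁻¹ * z * j0⁻¹⁻¹) * j0⁻¹ := by rw [h'']
                _ = z := by group
            rw [← hje, this]; exact mem_zpowers z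
    · have hjq : Commute j d.q := d.mem_cq.mp (o.Jcq hj)
      rw [show j * (d.q * w * d.q⁻¹) * j⁻¹ = (j * d.q) * w * (j * d.q)⁻¹ by group, hjq.eq,
        show d.q * j * w * (d.q * j)⁻¹ = d.q * (j * w * j⁻¹) * d.q⁻¹ by group]
      exact ⟨c.conj_E d.qH (hw.2 j hj).1, mul_mem (mul_mem k.qC (hw.2 j hj).2) (k.CA.inv_mem k.qC)⟩
  refine ⟨hXA ▸ ⟨?_, fun j hj => ?_⟩, hXA ▸ ⟨mul_mem hx hx, fun j hj => ?_⟩⟩
  · rw [commutatorElement_def]
    exact mul_mem (mul_mem (mul_mem hx hy) (inv_mem hx)) (inv_mem hy)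
  · have := (i.M1_facts (i.conj_L hj hx) (i.conj_L hj hy)).1
    rwa [show ⁅j * x * j⁻¹, j * y * j⁻¹⁆ = j * ⁅x, y⁆ * j⁻¹ by simp only [commutatorElement_def]; group] at this
  · have := (i.M1_facts (i.conj_L hj hx) (i.conj_L hj hy)).2
    rwa [show (j * x * j⁻¹) * (j * x * j⁻¹) = j * (x * x) * j⁻¹ by group] at this

theorem center_eq : k.L ⊓ centralizer (k.L : Set G) = o.A := by
  set W := k.L ⊓ centralizer (k.L : Set G) with hW
  have hAW : o.A ≤ W := fun a ha => ⟨k.A_le_L ha,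
    mem_centralizer_iff.mpr fun x hx => (mem_centralizer_iff.mp (k.L_le hx) a ha).symm⟩
  have hsmall : W ⊓ k.M1 = o.A := by
    refine le_antisymm ?_ (le_inf hAW i.A_le_M1)
    have hC : Nat.card ↥(E ⊓ centralizer (k.M1 : Set G)) = 8 := by
      have := c.cent_card (inf_le_left : k.M1 ≤ E) (i.A_le_M1 o.zA)
      rw [show Nat.card ↥(E ⊓ k.CA) = 2 ^ 11 from k.cardE] at this
      rw [EightC.M1]
      omega
    have heq : o.A = E ⊓ centralizer (k.M1 : Set G) := eq_of_le_of_card_ge (fun a ha =>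
      ⟨o.AE ha, mem_centralizer_iff.mpr fun w hw => (mem_centralizer_iff.mp hw.2 a ha).symm⟩)
      (by rw [hC, o.cardA])
    rintro w ⟨hw, hwM⟩
    rw [heq]
    exact ⟨hwM.1, mem_centralizer_iff.mpr fun v hv => mem_centralizer_iff.mp hw.2 v (i.M1_le_L hv)⟩
  refine i.small_eq inf_le_left hAW ?_ ?_ ?_
  · haveI hn1 : (k.M1.subgroupOf k.L).Normal :=
      ⟨fun w hw g => mem_subgroupOf.mpr (i.conj_M1 g.2 (mem_subgroupOf.mp hw))⟩
    let f : W →* k.L ⧸ k.M1.subgroupOf k.L :=
      (QuotientGroup.mk' _).comp (Subgroup.inclusion (inf_le_left : W ≤ k.L))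
    have hker : f.ker.map W.subtype ≤ o.A := by
      rintro _ ⟨w, hw, rfl⟩
      rw [← hsmall]
      exact ⟨w.2, mem_subgroupOf.mp ((QuotientGroup.eq_one_iff (Subgroup.inclusion (inf_le_left : W ≤ k.L) w)).mp hw)⟩
    have hq16 : Nat.card (k.L ⧸ k.M1.subgroupOf k.L) = 16 := by
      have := Subgroup.card_eq_card_quotient_mul_card_subgroup (k.M1.subgroupOf k.L)
      rw [k.card_L, Nat.card_congr (subgroupOfEquivOfLe i.M1_le_L).toEquiv,
        show Nat.card k.M1 = 2 ^ 11 from k.cardE] at this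
      omega
    have h := Subgroup.card_mul_index f.ker
    rw [Subgroup.index_ker] at h
    have h1 : Nat.card f.range ≤ 16 := hq16 ▸ Subgroup.card_le_card_group f.range
    have h2 : Nat.card f.ker ≤ 8 := by
      rw [← o.cardA, ← card_map_of_injective (f := W.subtype) W.subtype_injective]
      exact card_le_of_le hker
    rw [← h]
    calc Nat.card f.ker * Nat.card f.range ≤ 8 * 16 := Nat.mul_le_mul h2 h1
      _ = 2 ^ 7 := by norm_num
  · intro w hw
    refine ⟨i.conj_L o.sJ hw.1, mem_centralizer_iff.mpr fun x hx => ?_⟩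
    have hx' := i.conj_L (inv_mem o.sJ) hx
    rw [inv_inv] at hx'
    calc x * (o.s * w * o.s⁻¹) = o.s * ((o.s⁻¹ * x * o.s) * w) * o.s⁻¹ := by group
      _ = o.s * (w * (o.s⁻¹ * x * o.s)) * o.s⁻¹ := by rw [mem_centralizer_iff.mp hw.2 _ hx']
      _ = o.s * w * o.s⁻¹ * x := by group
  · intro w hw
    refine ⟨i.q_L hw.1, mem_centralizer_iff.mpr fun x hx => ?_⟩
    have hx' := k.conj_L (inv_mem k.qC) hx
    rw [inv_inv] at hx'
    calc x * (d.q * w * d.q⁻¹) = d.q * ((d.q⁻¹ * x * d.q) * w) * d.q⁻¹ := by group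
      _ = d.q * (w * (d.q⁻¹ * x * d.q)) * d.q⁻¹ := by rw [mem_centralizer_iff.mp hw.2 _ hx']
      _ = d.q * w * d.q⁻¹ * x := by group

theorem center_L_eq : center ↥k.L = o.A.subgroupOf k.L := by
  ext x
  rw [Subgroup.mem_center_iff, mem_subgroupOf]
  constructor
  · intro h
    rw [← i.center_eq]
    exact ⟨x.2, mem_centralizer_iff.mpr fun y hy => congrArg Subtype.val (h ⟨y, hy⟩)⟩
  · intro h y
    rw [← i.center_eq] at h
    exact Subtype.ext (mem_centralizer_iff.mp h.2 y y.2)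

theorem special : Cfsg.IsSpecial 2 ↥k.L ∧ Nat.card ↥(center ↥k.L) = 8 := by
  classical
  haveI : Fact (Nat.Prime 2) := ⟨Nat.prime_two⟩
  have hcomm : commutator ↥k.L = center ↥k.L := by
    rw [i.center_L_eq]
    refine le_antisymm ?_ ?_
    · rw [_root_.commutator_def, Subgroup.commutator_le]
      intro x _ y _
      exact mem_subgroupOf.mpr (i.L_facts x.2 y.2).1
    · obtain ⟨u, hu, v, hv, huv⟩ : ∃ u ∈ k.M1, ∃ v ∈ k.M1, u * v ≠ v * u := by
        by_contra hall
        push Not at hall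
        have := c.abelian_le (inf_le_left : k.M1 ≤ E) (i.A_le_M1 o.zA) hall
        rw [show Nat.card ↥(E ⊓ k.CA) = 2 ^ 11 from k.cardE] at this
        norm_num at this
      have hz : ⁅u, v⁆ = z := (c.mem_Z.mp (i.comm_M1 hu hv)).resolve_left fun h =>
        huv (commutatorElement_eq_one_iff_mul_comm.mp h)
      rintro ⟨a, haL⟩ ha
      have haA : a ∈ o.A := mem_subgroupOf.mp ha
      by_cases ha1 : a = 1
      · subst ha1; exact one_mem _
      obtain ⟨j, hj, rfl⟩ := o.orbit a haA ha1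
      have hmem : (⁅(⟨j * u * j⁻¹, i.conj_L hj (i.M1_le_L hu)⟩ : k.L), ⟨j * v * j⁻¹, i.conj_L hj (i.M1_le_L hv)⟩⁆) ∈
          commutator ↥k.L := by
        rw [_root_.commutator_def]; exact commutator_mem_commutator (mem_top _) (mem_top _)
      convert hmem
      show j * z * j⁻¹ = ⁅j * u * j⁻¹, j * v * j⁻¹⁆
      rw [← hz]
      simp only [commutatorElement_def]; group
  refine ⟨⟨k.L_two, le_antisymm ?_ ?_, hcomm⟩, ?_⟩
  · haveI hAn : (o.A.subgroupOf k.L).Normal := i.center_L_eq ▸ inferInstance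
    letI : CommGroup (k.L ⧸ o.A.subgroupOf k.L) :=
      { (inferInstance : Group (k.L ⧸ o.A.subgroupOf k.L)) with
        mul_comm := fun a b => by
          induction a using QuotientGroup.induction_on with | H a => ?_
          induction b using QuotientGroup.induction_on with | H b => ?_
          rw [← QuotientGroup.mk_mul, ← QuotientGroup.mk_mul, QuotientGroup.eq, mem_subgroupOf]
          have := (i.L_facts (inv_mem b.2) (inv_mem a.2)).1
          rw [commutatorElement_def, inv_inv, inv_inv] at this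
          simpa [mul_inv_rev, mul_assoc] using this }
    rw [i.center_L_eq]
    refine (YoshidaTransfer.frattini_le_ker (A := k.L ⧸ o.A.subgroupOf k.L) (p := 2) (fun a => ?_)
      (QuotientGroup.mk' _)).trans (le_of_eq (QuotientGroup.ker_mk' _))
    induction a using QuotientGroup.induction_on with | H a => ?_
    rw [← QuotientGroup.mk_pow, QuotientGroup.eq_one_iff, mem_subgroupOf, sq]
    exact (i.L_facts a.2 a.2).2
  · rw [← hcomm]; exact CfsgLib.commutator_le_frattini_pGroup k.L_two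
  · rw [i.center_L_eq, Nat.card_congr (subgroupOfEquivOfLe k.A_le_L).toEquiv, o.cardA]

end EightI

end CfsgLib.JankoFour
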