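/-
The normalizer of L is a product of the centralizer of A and J; its quotient by L is Sym(5) × L3(2), non-split.
-/
import Cfsg.Agent.Lib.JankoFour.EightSpecial

set_option autoImplicit false

namespace CfsgLib.JankoFour

open Cfsg Subgroup
open scoped commutatorElement

universe u

variable {G : Type u} [Group G] [Finite G] {z : G} {P E : Subgroup G}

/-- A group of order eight and exponent two has at most 168 automorphisms. -/
theorem card_aut_eight {X : Type u} [Group X] [Finite X] (h8 : Nat.card X = 8) (hsq : ∀ x : X, x * x = 1) :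
    Nat.card (MulAut X) ≤ 168 := by
  classical
  haveI : Fintype X := Fintype.ofFinite X
  haveI : Fintype (MulAut X) := Fintype.ofFinite _
  have h8' : Fintype.card X = 8 := by rw [← Nat.card_eq_fintype_card]; exact h8
  have hinv : ∀ x : X, x⁻¹ = x := fun x => inv_eq_of_mul_eq_one_left (hsq x)
  have hc : ∀ a b : X, a * b = b * a := fun a b => by
    calc a * b = (a * b)⁻¹ := (hinv _).symm
      _ = b⁻¹ * a⁻¹ := mul_inv_rev a b
      _ = b * a := by rw [hinv, hinv]
  set T : Finset (X × X × X) := (Finset.univ.erase (1 : X)).biUnion fun a => ((Finset.univ.erase (1 : X)).erase a).biUnion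
    fun b => (Finset.univ \ ({1, a, b, a * b} : Finset X)).image fun e => (a, b, e) with hT
  have hfour : ∀ a b : X, a ≠ 1 → b ≠ 1 → b ≠ a → ({1, a, b, a * b} : Finset X).card = 4 := by
    intro a b ha hb hba
    have e1 : (1 : X) ≠ a * b := fun h => hba (by rw [← hinv a]; exact (eq_inv_of_mul_eq_one_right h.symm))
    have e2 : a ≠ a * b := fun h => hb (by simpa using h)
    have e3 : b ≠ a * b := fun h => ha (by simpa using h)
    simp [ha.symm, hb.symm, hba.symm, e1, e2, e3]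
  have hTcard : T.card ≤ 7 * (6 * 4) := by
    refine (Finset.card_biUnion_le_card_mul _ _ (6 * 4) fun a ha => ?_).trans
      (Nat.mul_le_mul_right _ (by rw [Finset.card_erase_of_mem (Finset.mem_univ _), Finset.card_univ, h8']))
    have ha1 : a ≠ 1 := (Finset.mem_erase.mp ha).1
    refine (Finset.card_biUnion_le_card_mul _ _ 4 fun b hb => ?_).trans
      (Nat.mul_le_mul_right _ (by rw [Finset.card_erase_of_mem ha,
        Finset.card_erase_of_mem (Finset.mem_univ _), Finset.card_univ, h8']))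
    have hb' := Finset.mem_erase.mp hb
    refine Finset.card_image_le.trans ?_
    rw [Finset.card_sdiff_of_subset (Finset.subset_univ _), Finset.card_univ, h8',
      hfour a b ha1 (Finset.mem_erase.mp hb'.2).1 hb'.1]
  obtain ⟨a, ha⟩ := Finset.exists_mem_notMem_of_card_lt_card
    (show ({1} : Finset X).card < (Finset.univ : Finset X).card by simp [h8'])
  have ha1 : a ≠ 1 := by simpa using ha.2
  obtain ⟨b, hb⟩ := Finset.exists_mem_notMem_of_card_lt_card
    (show ({1, a} : Finset X).card < (Finset.univ : Finset X).card by rw [Finset.card_univ, h8', Finset.card_pair ha1.symm]; norm_num)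
  have hb' : b ≠ 1 ∧ b ≠ a := by simpa using hb.2
  obtain ⟨e, he⟩ := Finset.exists_mem_notMem_of_card_lt_card
    (show ({1, a, b, a * b} : Finset X).card < (Finset.univ : Finset X).card by
      rw [Finset.card_univ, h8', hfour a b ha1 hb'.1 hb'.2]; norm_num)
  have hmem : ∀ f : MulAut X, (f a, f b, f e) ∈ T := by
    intro f
    simp only [hT, Finset.mem_biUnion, Finset.mem_erase, Finset.mem_univ, and_true, Finset.mem_image, Finset.mem_sdiff]
    refine ⟨f a, fun h => ha1 (f.injective (h.trans (map_one f).symm)), f b,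
      ⟨fun h => hb'.2 (f.injective h), fun h => hb'.1 (f.injective (h.trans (map_one f).symm))⟩, f e, ⟨trivial, ?_⟩, rfl⟩
    simp only [Finset.mem_insert, Finset.mem_singleton]
    rintro (h | h | h | h)
    · exact he.2 (by simp [f.injective (h.trans (map_one f).symm)])
    · exact he.2 (by simp [f.injective h])
    · exact he.2 (by simp [f.injective h])
    · rw [← map_mul] at h; exact he.2 (by simp [f.injective h])
  have hgen : closure ({a, b, e} : Set X) = ⊤ := by
    refine eq_top_of_card_eq _ ?_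
    set K := closure ({a, b, e} : Set X)
    have hle : ({1, a, b, a * b, e} : Finset X).card ≤ Nat.card K := by
      rw [← Nat.card_eq_finsetCard]
      refine Nat.card_le_card_of_injective (fun x => (⟨x.1, ?_⟩ : K)) (fun x y h => Subtype.ext (congrArg (fun y : K => (y : X)) h))
      have hx := x.2
      simp only [Finset.mem_insert, Finset.mem_singleton] at hx
      have hA : a ∈ K := subset_closure (by simp)
      have hB : b ∈ K := subset_closure (by simp)
      rcases hx with h | h | h | h | h <;> rw [h]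
      exacts [one_mem _, hA, hB, mul_mem hA hB, subset_closure (by simp)]
    have h5 : ({1, a, b, a * b, e} : Finset X).card = 5 := by
      have : ({1, a, b, a * b, e} : Finset X) = insert e ({1, a, b, a * b} : Finset X) := by
        ext x; simp only [Finset.mem_insert, Finset.mem_singleton]; tauto
      rw [this, Finset.card_insert_of_notMem he.2, hfour a b ha1 hb'.1 hb'.2]
    rw [h5] at hle
    have hd : Nat.card K ∣ 8 := h8 ▸ card_subgroup_dvd_card K
    have hle8 := Nat.le_of_dvd (by norm_num) hd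
    rw [h8]
    interval_cases h : Nat.card K <;> first | rfl | (exfalso; norm_num at hd)
  let Φ : MulAut X → T := fun f => ⟨(f a, f b, f e), hmem f⟩
  have hΦ : Function.Injective Φ := by
    intro f g h
    have h' := congrArg Subtype.val h
    simp only [Φ, Prod.mk.injEq] at h'
    refine MulEquiv.toMonoidHom_injective (MonoidHom.eq_of_eqOn_dense hgen ?_)
    rintro x (rfl | rfl | rfl)
    exacts [h'.1, h'.2.1, h'.2.2]
  have := Nat.card_le_card_of_injective Φ hΦ
  rw [Nat.card_eq_finsetCard T] at this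
  omega

/-- The subgroup L inside its normalizer. -/
noncomputable abbrev EightC.Ln {c : Ctx z P E} {m : FiveModel} {d : FiveData5 c m} {o : Eight d} {em : EightModel m}
    (k : EightC o em) : Subgroup ↥(normalizer (k.L : Set G)) := k.L.subgroupOf (normalizer (k.L : Set G))

namespace EightI

variable {c : Ctx z P E} {m : FiveModel} {d : FiveData5 c m} {o : Eight d} {em : EightModel m} {k : EightC o em}
  (i : EightI k)
include i

theorem mem_normL {n : G} : n ∈ normalizer (k.L : Set G) ↔ ∀ a ∈ o.A, n * a * n⁻¹ ∈ o.A := by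
  constructor
  · intro hn a ha
    rw [← i.center_eq] at ha ⊢
    refine ⟨(mem_normalizer_iff.mp hn a).mp ha.1, mem_centralizer_iff.mpr fun x hx => ?_⟩
    have hx' := mem_centralizer_iff.mp ha.2 _ ((mem_normalizer_iff''.mp hn x).mp hx)
    calc x * (n * a * n⁻¹) = n * ((n⁻¹ * x * n) * a) * n⁻¹ := by group
      _ = n * (a * (n⁻¹ * x * n)) * n⁻¹ := by rw [hx']
      _ = n * a * n⁻¹ * x := by group
  · intro hn
    exact mem_norm_of fun x hx => k.norm_L hn hx

theorem J_normL {j : G} (hj : j ∈ o.J) : j ∈ normalizer (k.L : Set G) := i.mem_normL.mpr fun _ ha => i.conj_A hj ha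

theorem CA_normL {x : G} (hx : x ∈ k.CA) : x ∈ normalizer (k.L : Set G) := i.mem_normL.mpr fun a ha => by
  rw [← mem_centralizer_iff.mp hx a ha, mul_inv_cancel_right]; exact ha

theorem I_normL {x : G} (hx : x ∈ i.I) : x ∈ normalizer (k.L : Set G) := i.CA_normL (i.mem_I.mp hx).1

theorem decomp_N {n : G} (hn : n ∈ normalizer (k.L : Set G)) : ∃ j ∈ o.J, j⁻¹ * n ∈ k.CA := by
  classical
  have hA := i.mem_normL.mp hn
  let act : ∀ g : G, (∀ a ∈ o.A, g * a * g⁻¹ ∈ o.A) → MulAut o.A := fun g hg =>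
    MulEquiv.ofBijective
      ({ toFun := fun a => ⟨g * a * g⁻¹, hg a a.2⟩
         map_one' := Subtype.ext (by simp)
         map_mul' := fun a b => Subtype.ext (by
           show g * ((a : G) * b) * g⁻¹ = g * a * g⁻¹ * (g * b * g⁻¹)
           group) } : o.A →* o.A)
      (Finite.injective_iff_bijective.mp fun a b e => Subtype.ext (by simpa using congrArg Subtype.val e))
  let ρ : o.J →* MulAut o.A :=
    { toFun := fun j => act j fun _ ha => i.conj_A j.2 ha
      map_one' := MulEquiv.ext fun a => Subtype.ext (by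
        show ((1 : o.J) : G) * a * ((1 : o.J) : G)⁻¹ = a
        simp)
      map_mul' := fun g h => MulEquiv.ext fun a => Subtype.ext (by
        show ((g : G) * h) * a * ((g : G) * h)⁻¹ = g * (h * a * (h : G)⁻¹) * (g : G)⁻¹
        group) }
  have hker : ρ.ker.map o.J.subtype ≤ o.A := by
    rintro _ ⟨j, hj, rfl⟩
    refine o.selfJ j j.2 fun a ha => mul_inv_eq_iff_eq_mul.mp ?_
    have h0 := DFunLike.congr_fun (MonoidHom.mem_ker.mp hj) ⟨a, ha⟩
    exact congrArg Subtype.val h0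
  have hsurj : Function.Surjective ρ := by
    rw [← MonoidHom.range_eq_top]
    refine eq_top_of_le_card _ ?_
    have h168 : Nat.card (MulAut o.A) ≤ 168 :=
      card_aut_eight o.cardA fun x => Subtype.ext (o.sqA x x.2)
    have h := Subgroup.card_mul_index ρ.ker
    rw [Subgroup.index_ker, o.cardJ] at h
    have hk : Nat.card ρ.ker ≤ 8 := by
      rw [← o.cardA, ← card_map_of_injective (f := o.J.subtype) o.J.subtype_injective]
      exact card_le_of_le hker
    nlinarith
  obtain ⟨j, hj⟩ := hsurj (act n hA)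
  refine ⟨j, j.2, mem_centralizer_iff.mpr fun a ha => ?_⟩
  have h0 := DFunLike.congr_fun hj ⟨a, ha⟩
  have h : (j : G) * a * (j : G)⁻¹ = n * a * n⁻¹ := congrArg Subtype.val h0
  calc a * ((j : G)⁻¹ * n) = (j : G)⁻¹ * ((j : G) * a * (j : G)⁻¹) * n := by group
    _ = (j : G)⁻¹ * (n * a * n⁻¹) * n := by rw [h]
    _ = (j : G)⁻¹ * n * a := by group

/-- J acts trivially on the centralizer of A modulo L. -/
theorem J_trivial {j x : G} (hj : j ∈ o.J) (hx : x ∈ k.CA) : x⁻¹ * (j * x * j⁻¹) ∈ k.L := by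
  have hCA : ∀ g ∈ o.J, ∀ y ∈ k.CA, g * y * g⁻¹ ∈ k.CA := fun g hg y hy => mem_centralizer_iff.mpr fun a ha => by
    have ha' := i.conj_A (inv_mem hg) ha
    rw [inv_inv] at ha'
    calc a * (g * y * g⁻¹) = g * ((g⁻¹ * a * g) * y) * g⁻¹ := by group
      _ = g * (y * (g⁻¹ * a * g)) * g⁻¹ := by rw [mem_centralizer_iff.mp hy _ ha']
      _ = g * y * g⁻¹ * a := by group
  have hconjR : ∀ y ∈ k.CA, ∀ l ∈ k.L, y⁻¹ * l * y ∈ k.L := fun y hy l hl => by
    have := k.conj_L (k.CA.inv_mem hy) hl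
    rwa [inv_inv] at this
  let W : Subgroup G :=
    { carrier := {g | g ∈ o.J ∧ ∀ y ∈ k.CA, y⁻¹ * (g * y * g⁻¹) ∈ k.L}
      one_mem' := ⟨one_mem _, fun y _ => by simp⟩
      mul_mem' := fun {g h} hg hh => ⟨mul_mem hg.1 hh.1, fun y hy => by
        have h1 := hh.2 y hy
        have h2 := hg.2 _ (hCA h hh.1 y hy)
        have h3 := mul_mem h1 h2
        rwa [show y⁻¹ * (h * y * h⁻¹) * ((h * y * h⁻¹)⁻¹ * (g * (h * y * h⁻¹) * g⁻¹)) =
          y⁻¹ * (g * h * y * (g * h)⁻¹) by group] at h3⟩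
      inv_mem' := fun {g} hg => ⟨inv_mem hg.1, fun y hy => by
        have hy' := hCA g⁻¹ (inv_mem hg.1) y hy
        have h1 := hg.2 _ hy'
        have h2 := inv_mem h1
        rwa [show ((g⁻¹ * y * g⁻¹⁻¹)⁻¹ * (g * (g⁻¹ * y * g⁻¹⁻¹) * g⁻¹))⁻¹ = y⁻¹ * (g⁻¹ * y * g⁻¹⁻¹) by group] at h2⟩ }
  have hAW : o.A ≤ W := fun a ha => ⟨o.AJ ha, fun y hy => by
    rw [mem_centralizer_iff.mp hy a ha, mul_inv_cancel_right, inv_mul_cancel]; exact one_mem _⟩
  have hWn : ∀ g ∈ o.J, ∀ w ∈ W, g * w * g⁻¹ ∈ W := fun g hg w hw => ⟨mul_mem (mul_mem hg hw.1) (inv_mem hg),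
    fun y hy => by
      have hy' := hCA g⁻¹ (inv_mem hg) y hy
      have h1 := i.conj_L hg (hw.2 _ hy')
      rwa [show g * ((g⁻¹ * y * g⁻¹⁻¹)⁻¹ * (w * (g⁻¹ * y * g⁻¹⁻¹) * w⁻¹)) * g⁻¹ =
        y⁻¹ * (g * w * g⁻¹ * y * (g * w * g⁻¹)⁻¹) by group] at h1⟩
  have hsW : o.s ∈ W := ⟨o.sJ, fun y hy => k.s_trivial hy⟩
  rcases o.maxN W (fun w hw => hw.1) hAW hWn with h | h
  · exfalso
    have hsA : o.s ∈ o.A := h ▸ hsW
    have h2 := o.sfix o.s hsA (mul_inv_cancel_right o.s o.s)
    have := o.order_s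
    rw [h2, orderOf_one] at this
    norm_num at this
  · exact (h.symm ▸ hj : j ∈ W).2 x hx


theorem mk_eq {x y : normalizer (k.L : Set G)} (h : (x : G)⁻¹ * y ∈ k.L) :
    (QuotientGroup.mk x : _ ⧸ k.Ln) = QuotientGroup.mk y := QuotientGroup.eq.mpr (mem_subgroupOf.mpr h)

theorem exists_quot : ∃ θ : ↥(normalizer (k.L : Set G)) ⧸ k.Ln ≃*
    Equiv.Perm (Fin 5) × Matrix.SpecialLinearGroup (Fin 3) (ZMod 2),
    (∀ (j : G) (hj : j ∈ o.J), θ (QuotientGroup.mk ⟨j, i.J_normL hj⟩) = (1, o.φ ⟨j, hj⟩)) ∧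
    ∀ (x : G) (hx : x ∈ i.I), θ (QuotientGroup.mk ⟨x, i.I_normL hx⟩) = (i.iso ⟨x, hx⟩, 1) := by
  let fI : i.I →* ↥(normalizer (k.L : Set G)) ⧸ k.Ln :=
    (QuotientGroup.mk' k.Ln).comp (Subgroup.inclusion fun _ hx => i.I_normL hx)
  let fJ : o.J →* ↥(normalizer (k.L : Set G)) ⧸ k.Ln :=
    (QuotientGroup.mk' k.Ln).comp (Subgroup.inclusion fun _ hj => i.J_normL hj)
  have hcomm : ∀ (x : i.I) (j : o.J), Commute (fI x) (fJ j) := by
    intro x j
    refine (i.mk_eq (x := ⟨_, mul_mem (i.I_normL x.2) (i.J_normL j.2)⟩) (y := ⟨_, mul_mem (i.J_normL j.2) (i.I_normL x.2)⟩) ?_)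
    show ((x : G) * j)⁻¹ * ((j : G) * x) ∈ k.L
    have h := i.conj_L (inv_mem j.2) (i.J_trivial j.2 (i.mem_I.mp x.2).1)
    rwa [inv_inv, show (j : G)⁻¹ * ((x : G)⁻¹ * ((j : G) * x * (j : G)⁻¹)) * (j : G) =
      ((x : G) * j)⁻¹ * ((j : G) * x) by group] at h
  let g : i.I × o.J →* ↥(normalizer (k.L : Set G)) ⧸ k.Ln := fI.noncommCoprod fJ hcomm
  have hg : ∀ x, g x = fI x.1 * fJ x.2 := fun x => rfl
  let h : i.I × o.J →* Equiv.Perm (Fin 5) × Matrix.SpecialLinearGroup (Fin 3) (ZMod 2) :=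
    i.iso.toMonoidHom.prodMap o.φ
  have hgs : Function.Surjective g := by
    intro y
    induction y using QuotientGroup.induction_on with | H n => ?_
    obtain ⟨j, hj, hx⟩ := i.decomp_N n.2
    obtain ⟨x, hxI, hxl⟩ := i.cover _ hx
    refine ⟨(⟨x, hxI⟩, ⟨j, hj⟩), ?_⟩
    rw [hg, (hcomm ⟨x, hxI⟩ ⟨j, hj⟩).eq]
    refine i.mk_eq (x := ⟨j, i.J_normL hj⟩ * ⟨x, i.I_normL hxI⟩) ?_
    show (j * x)⁻¹ * (n : G) ∈ k.L
    rwa [mul_inv_rev, mul_assoc]
  have hhs : Function.Surjective h := by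
    rintro ⟨a, b⟩
    obtain ⟨y, hy⟩ := o.φsurj b
    exact ⟨(i.iso.symm a, y), Prod.ext (i.iso.apply_symm_apply a) hy⟩
  have hker : g.ker = h.ker := by
    ext ⟨⟨x, hx⟩, ⟨j, hj⟩⟩
    rw [MonoidHom.mem_ker, MonoidHom.mem_ker]
    have hh : h (⟨x, hx⟩, ⟨j, hj⟩) = 1 ↔ x = 1 ∧ j ∈ o.A := by
      show (i.iso ⟨x, hx⟩, o.φ ⟨j, hj⟩) = 1 ↔ _
      rw [Prod.mk_eq_one, EmbeddingLike.map_eq_one_iff, o.φker]
      exact and_congr_left' ⟨fun h => congrArg Subtype.val h, fun h => Subtype.ext h⟩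
    rw [hh, hg]
    constructor
    · intro hxj
      have hxj' : (QuotientGroup.mk ((⟨x, i.I_normL hx⟩ : normalizer (k.L : Set G)) * ⟨j, i.J_normL hj⟩) : _ ⧸ k.Ln) = 1 := hxj
      have h1 : x * j ∈ k.L := mem_subgroupOf.mp ((QuotientGroup.eq_one_iff _).mp hxj')
      have hxC := (i.mem_I.mp hx).1
      have hjC : j ∈ k.CA := by
        have := mul_mem (k.CA.inv_mem hxC) (k.L_le h1)
        rwa [inv_mul_cancel_left] at this
      have hjA := o.selfJ j hj fun a ha => (mem_centralizer_iff.mp hjC a ha).symm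
      refine ⟨i.disj x ?_ hx, hjA⟩
      have := mul_mem h1 (inv_mem (k.A_le_L hjA))
      rwa [mul_inv_cancel_right] at this
    · rintro ⟨rfl, hjA⟩
      show (QuotientGroup.mk ((⟨1, i.I_normL hx⟩ : normalizer (k.L : Set G)) * ⟨j, i.J_normL hj⟩) : _ ⧸ k.Ln) = 1
      refine (QuotientGroup.eq_one_iff _).mpr ?_
      exact mem_subgroupOf.mpr (show (1 : G) * j ∈ k.L by rw [one_mul]; exact k.A_le_L hjA)
  let eg := QuotientGroup.quotientKerEquivOfSurjective g hgs
  let eh := QuotientGroup.quotientKerEquivOfSurjective h hhs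
  refine ⟨eg.symm.trans ((QuotientGroup.quotientMulEquivOfEq hker).trans eh), fun j hj => ?_, fun x hx => ?_⟩
  · have e : eg.symm (QuotientGroup.mk ⟨j, i.J_normL hj⟩) = QuotientGroup.mk ((1 : i.I), (⟨j, hj⟩ : o.J)) := by
      rw [MulEquiv.symm_apply_eq]
      show _ = g (1, ⟨j, hj⟩)
      rw [hg, map_one, one_mul]
      rfl
    show eh (QuotientGroup.quotientMulEquivOfEq hker (eg.symm _)) = _
    rw [e]
    show (i.iso 1, o.φ ⟨j, hj⟩) = _
    rw [map_one]
  · have e : eg.symm (QuotientGroup.mk ⟨x, i.I_normL hx⟩) = QuotientGroup.mk ((⟨x, hx⟩ : i.I), (1 : o.J)) := by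
      rw [MulEquiv.symm_apply_eq]
      show _ = g (⟨x, hx⟩, 1)
      rw [hg, map_one, mul_one]
      rfl
    show eh (QuotientGroup.quotientMulEquivOfEq hker (eg.symm _)) = _
    rw [e]
    show (i.iso ⟨x, hx⟩, o.φ 1) = _
    rw [map_one]

/-- L has no complement in its normalizer. -/
theorem no_complement (K : Subgroup ↥(normalizer (k.L : Set G))) : ¬ k.Ln.IsComplement' K := by
  intro hK
  classical
  haveI : Fact (Nat.Prime 5) := ⟨by norm_num⟩
  let π := (QuotientGroup.mk' k.Ln).comp K.subtype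
  have hπ : Function.Bijective π := by
    refine ⟨(injective_iff_map_eq_one _).mpr fun x hx => Subtype.ext ?_, fun y => ?_⟩
    · exact disjoint_def.mp hK.disjoint ((QuotientGroup.eq_one_iff _).mp hx) x.2
    · obtain ⟨n, rfl⟩ := QuotientGroup.mk'_surjective k.Ln y
      obtain ⟨⟨⟨a, ha⟩, b⟩, hab, -⟩ := hK.existsUnique n
      refine ⟨b, ?_⟩
      rw [show n = a * b from hab.symm, map_mul, show QuotientGroup.mk' k.Ln a = 1 from (QuotientGroup.eq_one_iff a).mpr ha,
        one_mul]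
      rfl
  let eK : ↥(normalizer (k.L : Set G)) ⧸ k.Ln ≃* K := (MulEquiv.ofBijective π hπ).symm
  have heK : ∀ y, QuotientGroup.mk' k.Ln (eK y : normalizer (k.L : Set G)) = y := fun y =>
    (MulEquiv.ofBijective π hπ).apply_symm_apply y
  let fJ : o.J →* ↥(normalizer (k.L : Set G)) ⧸ k.Ln :=
    (QuotientGroup.mk' k.Ln).comp (Subgroup.inclusion fun _ hj => i.J_normL hj)
  let F : o.J →* G := (normalizer (k.L : Set G)).subtype.comp (K.subtype.comp (eK.toMonoidHom.comp fJ))
  set q' : G := (eK (QuotientGroup.mk ⟨d.q, i.CA_normL k.qC⟩)).1.1 with hq'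
  have hq'L : (d.q)⁻¹ * q' ∈ k.L := by
    have h := (heK (QuotientGroup.mk ⟨d.q, i.CA_normL k.qC⟩)).symm
    exact mem_subgroupOf.mp (QuotientGroup.eq.mp h)
  have hq'C : q' ∈ k.CA := by
    rw [show q' = d.q * (d.q⁻¹ * q') by group]; exact mul_mem k.qC (k.L_le hq'L)
  have hcom : ∀ x ∈ F.range, x * q' = q' * x := by
    rintro _ ⟨j, rfl⟩
    have h1 : fJ j * QuotientGroup.mk ⟨d.q, i.CA_normL k.qC⟩ = QuotientGroup.mk ⟨d.q, i.CA_normL k.qC⟩ * fJ j := by
      show QuotientGroup.mk _ * QuotientGroup.mk _ = QuotientGroup.mk _ * QuotientGroup.mk _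
      rw [← QuotientGroup.mk_mul, ← QuotientGroup.mk_mul]
      congr 1
      exact Subtype.ext (d.mem_cq.mp (o.Jcq j.2))
    have h2 := congrArg eK h1
    rw [map_mul, map_mul] at h2
    exact congrArg Subtype.val (congrArg Subtype.val h2)
  have hFker : ∀ j : o.J, F j ∈ k.L → (j : G) ∈ o.A ∧ F j = 1 := by
    intro j hj
    have h1 : QuotientGroup.mk' k.Ln (eK (fJ j) : normalizer (k.L : Set G)) = 1 :=
      (QuotientGroup.eq_one_iff _).mpr (mem_subgroupOf.mpr hj)
    rw [heK] at h1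
    have h1' : (QuotientGroup.mk (⟨j, i.J_normL j.2⟩ : normalizer (k.L : Set G)) : _ ⧸ k.Ln) = 1 := h1
    have h3 := (QuotientGroup.eq_one_iff _).mp h1'
    have hjL : (j : G) ∈ k.L := h3
    refine ⟨o.selfJ j j.2 fun a ha => (mem_centralizer_iff.mp (k.L_le hjL) a ha).symm, ?_⟩
    show (((eK (fJ j)) : K) : normalizer (k.L : Set G)).1 = 1
    rw [h1, map_one]; rfl
  have hcardF : Nat.card F.range = 168 := by
    have h := Subgroup.card_mul_index F.ker
    rw [Subgroup.index_ker, o.cardJ] at h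
    have hk : Nat.card F.ker = 8 := by
      rw [← o.cardA, ← card_map_of_injective (f := o.J.subtype) o.J.subtype_injective]
      congr 2
      ext x
      constructor
      · rintro ⟨j, hj, rfl⟩
        exact (hFker j (by rw [MonoidHom.mem_ker.mp hj]; exact one_mem _)).1
      · intro hx
        refine ⟨⟨x, o.AJ hx⟩, ?_, rfl⟩
        have h1 : fJ ⟨x, o.AJ hx⟩ = 1 := (QuotientGroup.eq_one_iff _).mpr (mem_subgroupOf.mpr (k.A_le_L hx))
        show (((eK (fJ ⟨x, o.AJ hx⟩)) : K) : normalizer (k.L : Set G)).1 = 1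
        rw [h1, map_one]; rfl
    rw [hk] at h
    omega
  -- move q' onto a power of q
  have hq'ne : q' ≠ 1 := fun h => by
    rw [h, mul_one] at hq'L
    have := k.q_fix (inv_mem_iff.mp hq'L) rfl
    have h2 := d.small (n := 2) (mem_zpowers d.q) (by rw [sq]; exact o.sqA _ this) (by norm_num)
    exact d.q1 h2
  have hq'5 : q' ^ 5 = 1 := by
    have h1 : (QuotientGroup.mk ⟨d.q, i.CA_normL k.qC⟩ : _ ⧸ k.Ln) ^ 5 = 1 := by
      rw [← QuotientGroup.mk_pow, show (⟨d.q, i.CA_normL k.qC⟩ : normalizer (k.L : Set G)) ^ 5 = 1 from Subtype.ext d.q5]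
      rfl
    have h2 := congrArg eK h1
    rw [map_pow, map_one] at h2
    exact congrArg Subtype.val (congrArg Subtype.val h2)
  have hfac : (Nat.card k.CA).factorization 5 = 1 := by
    rw [k.card_CA, show 2 ^ 11 * 1920 = 5 * 786432 by norm_num, Nat.factorization_mul (by norm_num) (by norm_num),
      Finsupp.add_apply, Nat.Prime.factorization_self (by norm_num), Nat.factorization_eq_zero_of_not_dvd (by norm_num)]
  let S₁ : Sylow 5 k.CA := Sylow.ofCard (zpowers (⟨q', hq'C⟩ : k.CA)) (by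
    rw [hfac, Nat.card_zpowers, Subgroup.orderOf_mk, orderOf_eq_prime hq'5 hq'ne, pow_one])
  let S₂ : Sylow 5 k.CA := Sylow.ofCard (zpowers (⟨d.q, k.qC⟩ : k.CA)) (by
    rw [hfac, Nat.card_zpowers, Subgroup.orderOf_mk, orderOf_eq_prime d.q5 d.q1, pow_one])
  obtain ⟨x, hx⟩ := MulAction.exists_smul_eq k.CA S₁ S₂
  have hxq : d.q ∈ zpowers ((x : G) * q' * (x : G)⁻¹) := by
    have h1 : (⟨d.q, k.qC⟩ : k.CA) ∈ ((x • S₁ : Sylow 5 k.CA) : Subgroup k.CA) := by
      rw [hx]; exact mem_zpowers _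
    rw [Sylow.coe_subgroup_smul, Subgroup.pointwise_smul_def] at h1
    obtain ⟨y, hy, e⟩ := h1
    obtain ⟨n, rfl⟩ := mem_zpowers_iff.mp hy
    refine mem_zpowers_iff.mpr ⟨n, ?_⟩
    rw [conj_zpow]
    have e' := congrArg Subtype.val e
    simpa using e'
  -- the transported group would split J
  set K2 := F.range.map (MulAut.conj (x : G)).toMonoidHom with hK2
  have hK2card : Nat.card K2 = 168 := by
    rw [hK2, card_map_of_injective (MulAut.conj (x : G)).injective, hcardF]
  refine o.nonsplit K2 ?_ ?_ hK2card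
  · rintro _ ⟨y, hy, rfl⟩
    refine o.J_part _ (d.mem_cq.mpr ?_) 168 (by norm_num) ?_
    · obtain ⟨n, hn⟩ := mem_zpowers_iff.mp hxq
      rw [← hn]
      refine (Commute.zpow_right ?_ n).eq
      show (x : G) * y * (x : G)⁻¹ * ((x : G) * q' * (x : G)⁻¹) = (x : G) * q' * (x : G)⁻¹ * ((x : G) * y * (x : G)⁻¹)
      rw [show (x : G) * y * (x : G)⁻¹ * ((x : G) * q' * (x : G)⁻¹) = (x : G) * (y * q') * (x : G)⁻¹ by group,
        hcom y hy]
      group
    · show ((MulAut.conj (x : G)) y) ^ 168 = 1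
      rw [← map_pow, ← hcardF, show y ^ Nat.card F.range = 1 from
        congrArg Subtype.val (pow_card_eq_one' (x := (⟨y, hy⟩ : F.range))), map_one]
  · rw [eq_bot_iff]
    rintro _ ⟨⟨y, ⟨j, rfl⟩, rfl⟩, hA⟩
    have h1 : F j ∈ k.L := by
      have := k.conj_L (k.CA.inv_mem x.2) (k.A_le_L hA)
      simp only [MulEquiv.coe_toMonoidHom, MulAut.conj_apply] at this
      rwa [show (x : G)⁻¹ * ((x : G) * F j * (x : G)⁻¹) * (x : G)⁻¹⁻¹ = F j by group] at this
    rw [(hFker j h1).2, map_one]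
    exact one_mem _

end EightI

end CfsgLib.JankoFour
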