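/-
An elementary abelian group of order eight in M22 has a complement in a group of order 1344 normalizing it.
-/
import Cfsg.Agent.Lib.JankoFour.M22Three
import Cfsg.Agent.Lib.Golay.Index253

set_option autoImplicit false

namespace CfsgLib.JankoFour

open Cfsg CfsgGolay

local notation "M" => MTwoTwo

/-- The moving of a point. -/
abbrev mv22 (g : M) (p : GolayPt) : GolayPt := (g : Equiv.Perm GolayPt) p

theorem mv22_mul (g h : M) (p : GolayPt) : mv22 (g * h) p = mv22 g (mv22 h p) := rfl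

theorem mv22_one (p : GolayPt) : mv22 1 p = p := rfl

theorem mv22_inv (g : M) (p : GolayPt) : mv22 g⁻¹ (mv22 g p) = p := by
  rw [← mv22_mul, inv_mul_cancel, mv22_one]

theorem mv22_inj (g : M) {p q : GolayPt} (h : mv22 g p = mv22 g q) : p = q :=
  (g : Equiv.Perm GolayPt).injective h

/-- The orbit of a point under a subgroup. -/
noncomputable def blk (A : Subgroup M) (p : GolayPt) : Finset GolayPt := by
  classical
  exact Finset.univ.filter fun x => ∃ a ∈ A, mv22 a p = x

theorem mem_blk {A : Subgroup M} {p x : GolayPt} : x ∈ blk A p ↔ ∃ a ∈ A, mv22 a p = x := by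
  classical
  simp [blk]

theorem self_mem_blk (A : Subgroup M) (p : GolayPt) : p ∈ blk A p := mem_blk.mpr ⟨1, A.one_mem, rfl⟩

theorem blk_disjoint {A : Subgroup M} {p q : GolayPt} (h : p ∉ blk A q) : Disjoint (blk A p) (blk A q) := by
  rw [Finset.disjoint_left]
  intro x hx hy
  obtain ⟨a, ha, rfl⟩ := mem_blk.mp hx
  obtain ⟨b, hb, e⟩ := mem_blk.mp hy
  refine h (mem_blk.mpr ⟨a⁻¹ * b, A.mul_mem (A.inv_mem ha) hb, ?_⟩)
  rw [mv22_mul, e, mv22_inv]

theorem eight_split {A J : Subgroup M} (hAJ : A ≤ J) (hN : J ≤ Subgroup.normalizer (A : Set M))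
    (hA : Nat.card A = 8) (h2 : ∀ a ∈ A, a ^ 2 = 1) (s : M) (hs : s ∈ J) (s7 : orderOf s = 7)
    (hfix : ∀ a ∈ A, s * a * s⁻¹ = a → a = 1) (hJ : Nat.card J = 1344) :
    ∃ K : Subgroup M, K ≤ J ∧ Nat.card K = 168 ∧ K ⊓ A = ⊥ := by
  classical
  haveI : Fact (Nat.Prime 7) := ⟨by norm_num⟩
  set F := fixF (s : Equiv.Perm GolayPt)
  have hFc : F.card = 3 := CfsgM23Sub.fix_seven s.2.1.1 (by rw [Subgroup.orderOf_coe, s7])
  have hne : (none : GolayPt) ≠ pt 0 := by decide
  have hsub : ({none, pt 0} : Finset GolayPt) ⊆ F := by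
    intro x hx
    simp only [Finset.mem_insert, Finset.mem_singleton] at hx
    rcases hx with rfl | rfl
    exacts [(fixed_pts s).1, (fixed_pts s).2]
  obtain ⟨a, ha, hap⟩ := Finset.exists_mem_notMem_of_card_lt_card
    (show ({none, pt 0} : Finset GolayPt).card < F.card by rw [Finset.card_pair hne, hFc]; norm_num)
  have hFeq : ∀ x ∈ F, x = none ∨ x = pt 0 ∨ x = a := by
    have he : insert a ({none, pt 0} : Finset GolayPt) = F := by
      refine Finset.eq_of_subset_of_card_le (Finset.insert_subset ha hsub) ?_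
      rw [hFc, Finset.card_insert_of_notMem hap, Finset.card_pair hne]
    intro x hx
    rw [← he] at hx
    simp only [Finset.mem_insert, Finset.mem_singleton] at hx
    tauto
  have hs7 : (s : Equiv.Perm GolayPt) ^ 7 = 1 := by
    rw [← Subgroup.coe_pow, ← s7, pow_orderOf_eq_one]; rfl
  have hconj : ∀ g ∈ J, ∀ i ∈ A, g * i * g⁻¹ ∈ A := fun g hg i hi =>
    (Subgroup.mem_normalizer_iff.mp (hN hg) i).mp hi
  -- the fixed points of A
  set T : Finset GolayPt := Finset.univ.filter fun p => ∀ i ∈ A, mv22 i p = p with hT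
  obtain ⟨i0, hi0, hi01⟩ : ∃ i ∈ A, i ≠ (1 : M) := (A.bot_or_exists_ne_one).resolve_left fun h => by
    rw [h, Subgroup.card_bot] at hA; norm_num at hA
  have haT : ∃ i ∈ A, mv22 i a ≠ a := by
    by_contra hall
    push Not at hall
    have hTle : T.card ≤ 8 := by
      rw [← invol_fix (show i0 * i0 = 1 by rw [← sq]; exact h2 i0 hi0) hi01]
      exact Finset.card_le_card fun p hp => mem_fixF.mpr ((Finset.mem_filter.mp hp).2 i0 hi0)
    have hTs : ∀ x ∈ T, (s : Equiv.Perm GolayPt) x ∈ T := by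
      intro x hx
      simp only [hT, Finset.mem_filter, Finset.mem_univ, true_and] at hx ⊢
      intro i hi
      have h1 : s⁻¹ * i * s ∈ A := by
        have := hconj s⁻¹ (J.inv_mem hs) i hi
        rwa [inv_inv] at this
      have := hx _ h1
      rw [mv22_mul, mv22_mul] at this
      show mv22 i (mv22 s x) = mv22 s x
      have h3 := congrArg (mv22 s) this
      rwa [← mv22_mul s s⁻¹, mul_inv_cancel, mv22_one] at h3
    have h7 := fix_count (s : Equiv.Perm GolayPt) T hTs (by norm_num) hs7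
    have hTF : (T.filter fun x => (s : Equiv.Perm GolayPt) x = x) = F := by
      ext x
      simp only [Finset.mem_filter, hT, Finset.mem_univ, true_and]
      refine ⟨fun h => mem_fixF.mpr h.2, fun h => ⟨fun i hi => ?_, mem_fixF.mp h⟩⟩
      rcases hFeq x h with rfl | rfl | rfl
      exacts [mem_fixF.mp (fixed_pts i).1, mem_fixF.mp (fixed_pts i).2, hall i hi]
    rw [hTF, hFc] at h7
    haveI : Fact (Nat.Prime 2) := ⟨Nat.prime_two⟩
    letI : MulAction A GolayPt :=
      { smul := fun i p => mv22 i p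
        one_smul := fun p => rfl
        mul_smul := fun i j p => rfl }
    have hm := (IsPGroup.of_card (n := 3) (show Nat.card A = 2 ^ 3 by rw [hA]; norm_num)).card_modEq_card_fixedPoints
      (α := GolayPt)
    have hfx : Nat.card (MulAction.fixedPoints A GolayPt) = T.card := by
      rw [show MulAction.fixedPoints A GolayPt = (T : Set GolayPt) from ?_, Nat.card_coe_set_eq, Set.ncard_coe_finset]
      ext p
      simp only [hT, MulAction.mem_fixedPoints, Finset.coe_filter, Finset.mem_univ, true_and, Set.mem_ofPred_eq]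
      exact ⟨fun h i hi => h ⟨i, hi⟩, fun h i => h i i.2⟩
    rw [hfx, show Nat.card GolayPt = 24 by rw [Nat.card_eq_fintype_card]; decide] at hm
    unfold Nat.ModEq at hm h7
    omega
  -- no element of A but the identity fixes a
  have hfree : ∀ i ∈ A, mv22 i a = a → i = 1 := by
    intro i hi hia
    by_contra hi1
    set W : Set M := {w | w ∈ A ∧ mv22 w a = a} with hW
    have hWs : ∀ w ∈ W, s * w * s⁻¹ ∈ W := fun w hw => ⟨hconj s hs w hw.1, by
      rw [mv22_mul, mv22_mul]
      have e1 : mv22 s⁻¹ a = a := by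
        have h := mv22_inv s a
        rwa [show mv22 s a = a from mem_fixF.mp ha] at h
      rw [e1, hw.2, show mv22 s a = a from mem_fixF.mp ha]⟩
    have hpow : ∀ k : ℕ, s ^ k * i * (s ^ k)⁻¹ ∈ W := by
      intro k
      induction k with
      | zero => rw [pow_zero, one_mul, inv_one, mul_one]; exact ⟨hi, hia⟩
      | succ k ih =>
        have := hWs _ ih
        rwa [show s * (s ^ k * i * (s ^ k)⁻¹) * s⁻¹ = s ^ (k + 1) * i * (s ^ (k + 1))⁻¹ by rw [pow_succ']; group]
          at this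
    obtain ⟨j, hjA, hja⟩ := haT
    have hinj : Function.Injective fun k : Fin 7 => s ^ (k : ℕ) * i * (s ^ (k : ℕ))⁻¹ := by
      intro k l e
      by_contra hkl
      have e' : s ^ (k : ℕ) * i * (s ^ (k : ℕ))⁻¹ = s ^ (l : ℕ) * i * (s ^ (l : ℕ))⁻¹ := e
      have hcomm : Commute ((s ^ (l : ℕ))⁻¹ * s ^ (k : ℕ)) i := by
        show (s ^ (l : ℕ))⁻¹ * s ^ (k : ℕ) * i = i * ((s ^ (l : ℕ))⁻¹ * s ^ (k : ℕ))
        calc (s ^ (l : ℕ))⁻¹ * s ^ (k : ℕ) * i
            = (s ^ (l : ℕ))⁻¹ * (s ^ (k : ℕ) * i * (s ^ (k : ℕ))⁻¹) * s ^ (k : ℕ) := by group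
          _ = (s ^ (l : ℕ))⁻¹ * (s ^ (l : ℕ) * i * (s ^ (l : ℕ))⁻¹) * s ^ (k : ℕ) := by rw [e']
          _ = i * ((s ^ (l : ℕ))⁻¹ * s ^ (k : ℕ)) := by group
      set t := (s ^ (l : ℕ))⁻¹ * s ^ (k : ℕ) with ht
      have ht1 : t ≠ 1 := by
        intro h
        refine hkl (Fin.ext (pow_injOn_Iio_orderOf ?_ ?_ (inv_mul_eq_one.mp h).symm)) <;>
          rw [s7, Set.mem_Iio]
        exacts [k.2, l.2]
      have htz : t ∈ Subgroup.zpowers s :=
        (Subgroup.zpowers s).mul_mem ((Subgroup.zpowers s).inv_mem (Subgroup.pow_mem _ (Subgroup.mem_zpowers s) _))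
          (Subgroup.pow_mem _ (Subgroup.mem_zpowers s) _)
      have hgen : Subgroup.zpowers t = Subgroup.zpowers s :=
        Subgroup.eq_of_le_of_card_ge (Subgroup.zpowers_le.mpr htz) (by
          rw [Nat.card_zpowers, Nat.card_zpowers, s7, orderOf_eq_prime (p := 7) (by
            obtain ⟨n, hn⟩ := Subgroup.mem_zpowers_iff.mp htz
            rw [← hn, ← zpow_natCast, ← zpow_mul, mul_comm, zpow_mul, zpow_natCast, ← s7, pow_orderOf_eq_one,
              one_zpow]) ht1])
      obtain ⟨n, hn⟩ := Subgroup.mem_zpowers_iff.mp (hgen.symm ▸ Subgroup.mem_zpowers s)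
      exact hi1 (hfix i hi (by rw [← hn, (hcomm.zpow_left n).eq, mul_inv_cancel_right]))
    let Φ : Option (Fin 7) → A := fun o => o.elim 1 fun k => ⟨_, (hpow k).1⟩
    have hΦ : Function.Injective Φ := by
      rintro (_ | k) (_ | l) e
      · rfl
      · refine absurd ?_ hi1
        have h : (1 : M) = s ^ (l : ℕ) * i * (s ^ (l : ℕ))⁻¹ := congrArg Subtype.val e
        exact conj_eq_one_iff.mp h.symm
      · refine absurd ?_ hi1
        have h : s ^ (k : ℕ) * i * (s ^ (k : ℕ))⁻¹ = (1 : M) := congrArg Subtype.val e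
        exact conj_eq_one_iff.mp h
      · rw [hinj (congrArg Subtype.val e)]
    have hsurj := ((Nat.bijective_iff_injective_and_card Φ).mpr ⟨hΦ, by
      rw [hA, Nat.card_eq_fintype_card, Fintype.card_option, Fintype.card_fin]⟩).2
    obtain ⟨o, ho⟩ := hsurj ⟨j, hjA⟩
    rcases o with _ | k
    · exact hja (by rw [← show (1 : M) = j from congrArg Subtype.val ho]; rfl)
    · exact hja (by rw [← show s ^ (k : ℕ) * i * (s ^ (k : ℕ))⁻¹ = j from congrArg Subtype.val ho]; exact (hpow k).2)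
  -- the orbit of a under J
  have hblk : ∀ g ∈ J, (blk A (mv22 g a)).card = 8 := by
    intro g hg
    rw [← hA, ← Nat.card_eq_finsetCard]
    refine (Nat.card_congr (Equiv.ofBijective (fun i : A => (⟨mv22 i (mv22 g a), mem_blk.mpr ⟨i, i.2, rfl⟩⟩ :
      ↥(blk A (mv22 g a)))) ⟨fun i k e => ?_, fun x => ?_⟩)).symm
    · have e' : mv22 (i : M) (mv22 g a) = mv22 (k : M) (mv22 g a) := congrArg Subtype.val e
      have h1 : g⁻¹ * ((k : M)⁻¹ * i) * g = 1 := by
        refine hfree _ ?_ ?_
        · have := hconj g⁻¹ (J.inv_mem hg) _ (A.mul_mem (A.inv_mem k.2) i.2)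
          rwa [inv_inv] at this
        · rw [mv22_mul, mv22_mul, mv22_mul, e', mv22_inv, mv22_inv]
      refine Subtype.ext (inv_mul_eq_one.mp ?_).symm
      calc (k : M)⁻¹ * i = g * (g⁻¹ * ((k : M)⁻¹ * i) * g) * g⁻¹ := by group
        _ = 1 := by rw [h1]; group
    · obtain ⟨i, hi, e⟩ := mem_blk.mp x.2
      exact ⟨⟨i, hi⟩, Subtype.ext e⟩
  have havoid : ∀ g : M, ∀ x ∈ ({none, pt 0} : Finset GolayPt), mv22 g a ≠ x := by
    intro g x hx e
    simp only [Finset.mem_insert, Finset.mem_singleton] at hx hap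
    rcases hx with rfl | rfl
    · exact hap (Or.inl (mv22_inj g (e.trans (mem_fixF.mp (fixed_pts g).1).symm)))
    · exact hap (Or.inr (mv22_inj g (e.trans (mem_fixF.mp (fixed_pts g).2).symm)))
  have hblkJ : ∀ g ∈ J, ∀ x ∈ blk A (mv22 g a), ∃ h ∈ J, mv22 h a = x := by
    intro g hg x hx
    obtain ⟨i, hi, rfl⟩ := mem_blk.mp hx
    exact ⟨i * g, J.mul_mem (hAJ hi) hg, rfl⟩
  have hone : ∀ g ∈ J, mv22 g a ∈ blk A a := by
    intro g hg
    by_contra hout
    set b := mv22 g a with hb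
    have hsg : s * g ∈ J := J.mul_mem hs hg
    have hs0 : ∀ x ∈ blk A a, mv22 s x ∈ blk A a := by
      intro x hx
      obtain ⟨i, hi, rfl⟩ := mem_blk.mp hx
      refine mem_blk.mpr ⟨s * i * s⁻¹, hconj s hs i hi, ?_⟩
      rw [mv22_mul, mv22_mul]
      have e1 : mv22 s⁻¹ a = a := by
        have h := mv22_inv s a
        rwa [show mv22 s a = a from mem_fixF.mp ha] at h
      rw [e1]
    have hsb : mv22 (s * g) a ∈ blk A b := by
      by_contra hsb
      have hsb0 : mv22 (s * g) a ∉ blk A a := by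
        intro hin
        have hmap : (blk A a).image (mv22 s) = blk A a := by
          refine Finset.eq_of_subset_of_card_le ?_ ?_
          · intro x hx
            obtain ⟨y, hy, rfl⟩ := Finset.mem_image.mp hx
            exact hs0 y hy
          · rw [Finset.card_image_of_injective _ (fun p q => mv22_inj s)]
        rw [← hmap] at hin
        obtain ⟨y, hy, e⟩ := Finset.mem_image.mp hin
        have hyb : y = b := mv22_inj s (e.trans (mv22_mul s g a))
        exact hout (hyb ▸ hy)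
      have d01 : Disjoint (blk A b) (blk A a) := blk_disjoint hout
      have d02 : Disjoint (blk A (mv22 (s * g) a)) (blk A a) := blk_disjoint hsb0
      have d12 : Disjoint (blk A (mv22 (s * g) a)) (blk A b) := blk_disjoint hsb
      have dall : Disjoint (blk A a ∪ blk A b ∪ blk A (mv22 (s * g) a)) {none, pt 0} := by
        rw [Finset.disjoint_left]
        intro x hx hx'
        obtain ⟨h, hh, e⟩ : ∃ h ∈ J, mv22 h a = x := by
          simp only [Finset.mem_union] at hx
          rcases hx with (hx | hx) | hx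
          · exact hblkJ 1 J.one_mem x hx
          · exact hblkJ g hg x hx
          · exact hblkJ _ hsg x hx
        exact havoid h x hx' e
      have hle := Finset.card_le_univ (blk A a ∪ blk A b ∪ blk A (mv22 (s * g) a) ∪ {none, pt 0})
      rw [Finset.card_union_of_disjoint dall, Finset.card_union_of_disjoint (Finset.disjoint_union_left.mpr
        ⟨d02.symm, d12.symm⟩), Finset.card_union_of_disjoint d01.symm, Finset.card_pair hne,
        hblk _ hg, hblk _ hsg, show (blk A a).card = 8 from hblk 1 J.one_mem,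
        show Fintype.card GolayPt = 24 by decide] at hle
      omega
    have hs1 : ∀ x ∈ blk A b, (s : Equiv.Perm GolayPt) x ∈ blk A b := by
      intro x hx
      obtain ⟨i, hi, rfl⟩ := mem_blk.mp hx
      obtain ⟨k, hk, e⟩ := mem_blk.mp hsb
      refine mem_blk.mpr ⟨s * i * s⁻¹ * k, A.mul_mem (hconj s hs i hi) hk, ?_⟩
      show mv22 (s * i * s⁻¹ * k) b = mv22 s (mv22 i b)
      rw [mv22_mul, e, hb, mv22_mul s g a, mv22_mul, mv22_inv, mv22_mul]
    have h7 := fix_count (s : Equiv.Perm GolayPt) (blk A b) hs1 (by norm_num) hs7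
    have hem : (blk A b).filter (fun x => (s : Equiv.Perm GolayPt) x = x) = ∅ := by
      rw [Finset.filter_eq_empty_iff]
      intro x hx hxs
      obtain ⟨h, hh, e⟩ := hblkJ g hg x hx
      rcases hFeq x (mem_fixF.mpr hxs) with h' | h' | h'
      · exact havoid h _ (by simp [h']) e
      · exact havoid h _ (by simp [h']) e
      · rw [h'] at hx
        exact Finset.disjoint_left.mp (blk_disjoint hout) hx (self_mem_blk A a)
    rw [hem, hblk g hg] at h7
    exact absurd h7 (by decide)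
  let K : Subgroup M :=
    { carrier := {g | g ∈ J ∧ mv22 g a = a}
      one_mem' := ⟨J.one_mem, rfl⟩
      mul_mem' := fun {g h} hg hh => ⟨J.mul_mem hg.1 hh.1, by rw [mv22_mul, hh.2, hg.2]⟩
      inv_mem' := fun {g} hg => ⟨J.inv_mem hg.1, by
        have h := mv22_inv g a
        rwa [hg.2] at h⟩ }
  have hKA : K ⊓ A = ⊥ := by
    rw [eq_bot_iff]
    rintro x ⟨⟨-, hx⟩, hxA⟩
    exact Subgroup.mem_bot.mpr (hfree x hxA hx)
  refine ⟨K, fun x hx => hx.1, ?_, hKA⟩
  let Ψ : A × K → J := fun x => ⟨x.1 * x.2, J.mul_mem (hAJ x.1.2) x.2.2.1⟩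
  have hΨ : Function.Bijective Ψ := by
    constructor
    · rintro ⟨⟨i, hi⟩, ⟨k, hk⟩⟩ ⟨⟨i', hi'⟩, ⟨k', hk'⟩⟩ e
      have e' : i * k = i' * k' := congrArg Subtype.val e
      have h1 : i'⁻¹ * i = k' * k⁻¹ := by
        rw [eq_mul_inv_iff_mul_eq, mul_assoc, e', inv_mul_cancel_left]
      have h3 : i'⁻¹ * i ∈ K ⊓ A := ⟨h1 ▸ K.mul_mem hk' (K.inv_mem hk), A.mul_mem (A.inv_mem hi') hi⟩
      rw [hKA, Subgroup.mem_bot] at h3
      obtain rfl : i = i' := (inv_mul_eq_one.mp h3).symm
      obtain rfl : k = k' := mul_left_cancel e'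
      rfl
    · rintro ⟨j, hj⟩
      obtain ⟨i, hi, e⟩ := mem_blk.mp (hone j hj)
      refine ⟨(⟨i, hi⟩, ⟨i⁻¹ * j, J.mul_mem (J.inv_mem (hAJ hi)) hj, ?_⟩), Subtype.ext (mul_inv_cancel_left _ _)⟩
      rw [mv22_mul, ← e, mv22_inv]
  have := Nat.card_congr (Equiv.ofBijective Ψ hΨ)
  rw [Nat.card_prod, hA, hJ] at this
  omega

end CfsgLib.JankoFour
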