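/-
The normalizer of L contains the normalizers of subgroups of order five and seven.
-/
import Cfsg.Agent.Lib.JankoFour.EightN

set_option autoImplicit false

namespace CfsgLib.JankoFour

open Cfsg Subgroup

universe u

variable {G : Type u} [Group G] [Finite G] {z : G} {P E : Subgroup G}

namespace EightI

variable {c : Ctx z P E} {m : FiveModel} {d : FiveData5 c m} {o : Eight d} {em : EightModel m} {k : EightC o em}
  (i : EightI k)
include i

theorem norm_five : normalizer (zpowers d.q : Set G) ≤ normalizer (k.L : Set G) := by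
  intro n hn
  have hν : d.ν ∈ normalizer (k.L : Set G) := i.mem_normL.mpr o.νnorm
  obtain ⟨j, hj, hj'⟩ := pow_five_range d.q5 ((mem_normalizer_iff.mp hn d.q).mp (mem_zpowers d.q))
  have hj0 : j ≠ 0 := fun h => by
    rw [h, pow_zero] at hj'
    exact d.q1 (conj_eq_one_iff.mp hj')
  obtain ⟨a, ha⟩ : ∃ a : Fin 4, 2 ^ (a : ℕ) % 5 = j := by
    interval_cases j
    exacts [absurd rfl hj0, ⟨0, rfl⟩, ⟨1, rfl⟩, ⟨3, rfl⟩, ⟨2, rfl⟩]
  have hνi : d.ν ^ (a : ℕ) * d.q * (d.ν ^ (a : ℕ))⁻¹ = d.q ^ j := by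
    rw [d.ν_pow_q, ← Nat.div_add_mod (2 ^ (a : ℕ)) 5, pow_add, pow_mul, d.q5, one_pow, one_mul, ha]
  have hm : (d.ν ^ (a : ℕ))⁻¹ * n ∈ d.cq := d.mem_cq.mpr (mul_inv_eq_iff_eq_mul.mp (by
    calc (d.ν ^ (a : ℕ))⁻¹ * n * d.q * ((d.ν ^ (a : ℕ))⁻¹ * n)⁻¹
        = (d.ν ^ (a : ℕ))⁻¹ * (n * d.q * n⁻¹) * d.ν ^ (a : ℕ) := by group
      _ = d.q := by rw [hj', ← hνi]; group))
  have h2 : (d.ν ^ (a : ℕ))⁻¹ * n ∈ normalizer (k.L : Set G) := i.mem_normL.mpr (o.norm _ hm)
  rw [show n = d.ν ^ (a : ℕ) * ((d.ν ^ (a : ℕ))⁻¹ * n) by group]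
  exact mul_mem (pow_mem hν _) h2

theorem norm_seven : normalizer (zpowers o.s : Set G) ≤ normalizer (k.L : Set G) := by
  classical
  haveI : Fact (Nat.Prime 7) := ⟨by norm_num⟩
  set Ns : Subgroup G := normalizer (zpowers o.s : Set G) with hNs
  set B : Subgroup G := Ns ⊓ normalizer (k.L : Set G) with hB
  have hsB : zpowers o.s ≤ B := le_inf Subgroup.le_normalizer (zpowers_le.mpr (i.J_normL o.sJ))
  have hIB : i.I ≤ B := fun x hx => ⟨centralizer_le_normalizer _ (mem_centralizer_iff.mpr fun y hy => by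
    obtain ⟨n, rfl⟩ := mem_zpowers_iff.mp hy
    exact ((show Commute o.s x from ((i.mem_I.mp hx).2).symm).zpow_left n).eq), i.I_normL hx⟩
  have h7 : 7 ∣ Nat.card B := by
    have := card_dvd_of_le hsB
    rwa [Nat.card_zpowers, o.order_s] at this
  have h120 : 120 ∣ Nat.card B := by
    have := card_dvd_of_le hIB
    rwa [Nat.card_congr i.iso.toEquiv, perm_five_card] at this
  have h840 : 840 ∣ Nat.card B := Nat.Coprime.mul_dvd_of_dvd_of_dvd (m := 7) (n := 120) (by norm_num) h7 h120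
  have hdvd : Nat.card B ∣ 2520 := i.cardN ▸ card_dvd_of_le inf_le_left
  obtain ⟨t, ht⟩ := h840
  have ht3 : t ∣ 3 := by
    rw [ht, show 2520 = 840 * 3 from rfl] at hdvd
    exact Nat.dvd_of_mul_dvd_mul_left (by norm_num) hdvd
  rcases (Nat.dvd_prime Nat.prime_three).mp ht3 with rfl | rfl
  swap
  · have h := eq_of_le_of_card_ge (inf_le_left : B ≤ Ns) (le_of_eq (i.cardN.trans (by rw [ht])))
    exact fun x hx => (h.ge hx).2
  exfalso
  rw [mul_one] at ht
  -- then B centralizes s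
  have hBeq : zpowers o.s ⊔ i.I = B := by
    refine eq_of_le_of_card_ge (sup_le hsB hIB) ?_
    rw [ht]
    refine Nat.le_of_dvd Nat.card_pos (Nat.Coprime.mul_dvd_of_dvd_of_dvd (m := 7) (n := 120) (by norm_num) ?_ ?_)
    · have := card_dvd_of_le (le_sup_left : zpowers o.s ≤ zpowers o.s ⊔ i.I)
      rwa [Nat.card_zpowers, o.order_s] at this
    · have := card_dvd_of_le (le_sup_right : i.I ≤ zpowers o.s ⊔ i.I)
      rwa [Nat.card_congr i.iso.toEquiv, perm_five_card] at this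
  have hmeet : ∀ j ∈ o.J, j ∈ zpowers o.s ⊔ i.I → j ∈ zpowers o.s := by
    intro j hj hjs
    have hle : i.I ≤ normalizer (zpowers o.s : Set G) := hIB.trans inf_le_left
    rw [← SetLike.mem_coe, Subgroup.coe_mul_of_right_le_normalizer_left _ _ hle] at hjs
    obtain ⟨a, ha, x, hx, rfl⟩ := hjs
    have hxJ : x ∈ o.J := by
      have := mul_mem (inv_mem ((zpowers_le.mpr o.sJ : zpowers o.s ≤ o.J) ha)) hj
      rwa [inv_mul_cancel_left] at this
    have hxA : x ∈ o.A := o.selfJ x hxJ fun b hb => (mem_centralizer_iff.mp (i.mem_I.mp hx).1 b hb).symm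
    show a * x ∈ zpowers o.s
    rw [i.disj x (k.A_le_L hxA) hx, mul_one]
    exact ha
  set sj : o.J := ⟨o.s, o.sJ⟩ with hsj
  have hsj7 : orderOf sj = 7 := by rw [hsj, Subgroup.orderOf_mk, o.order_s]
  have hfac : (Nat.card o.J).factorization 7 = 1 := by
    rw [o.cardJ, show 1344 = 7 * 192 by norm_num, Nat.factorization_mul (by norm_num) (by norm_num), Finsupp.add_apply,
      Nat.Prime.factorization_self (by norm_num), Nat.factorization_eq_zero_of_not_dvd (by norm_num)]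
  let S : Sylow 7 o.J := Sylow.ofCard (zpowers sj) (by rw [hfac, Nat.card_zpowers, hsj7, pow_one])
  set W : Subgroup o.J := normalizer ((S : Subgroup o.J) : Set o.J) with hW
  have hWB : ∀ w ∈ W, (w : G) ∈ zpowers o.s := by
    intro w hw
    refine hmeet w w.2 ?_
    rw [hBeq]
    refine ⟨?_, i.J_normL w.2⟩
    refine mem_norm_of fun y hy => ?_
    obtain ⟨n, rfl⟩ := mem_zpowers_iff.mp hy
    have h1 : w * sj ^ n * w⁻¹ ∈ zpowers sj := (mem_normalizer_iff.mp hw _).mp (zpow_mem (mem_zpowers sj) n)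
    obtain ⟨r, hr⟩ := mem_zpowers_iff.mp h1
    exact mem_zpowers_iff.mpr ⟨r, by simpa [hsj] using congrArg Subtype.val hr⟩
  have hW7 : Nat.card W ≤ 7 := by
    rw [← o.order_s, ← Nat.card_zpowers]
    exact Nat.card_le_card_of_injective (fun w : W => (⟨(w : o.J), hWB _ w.2⟩ : zpowers o.s))
      fun a b h => Subtype.ext (Subtype.ext (congrArg (fun q : zpowers o.s => (q : G)) h))
  have h1 := Subgroup.card_mul_index W
  have h4 : Nat.card (Sylow 7 o.J) = W.index := Sylow.card_eq_index_normalizer S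
  rw [← h4, o.cardJ] at h1
  have h3 := card_sylow_modEq_one 7 o.J
  have hWge : Nat.card W = 7 := by
    refine le_antisymm hW7 ?_
    rw [← hsj7, ← Nat.card_zpowers]
    exact card_le_of_le Subgroup.le_normalizer
  rw [hWge] at h1
  unfold Nat.ModEq at h3
  omega

end EightI

end CfsgLib.JankoFour
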