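/-
The normalizer of L contains a copy of L3(2).
-/
import Cfsg.Agent.Lib.JankoFour.EightN
import Cfsg.Agent.Lib.JankoFour.EightSplit

set_option autoImplicit false

namespace CfsgLib.JankoFour

open Cfsg Subgroup

universe u

variable {G : Type u} [Group G] [Finite G] {z : G} {P E : Subgroup G}

theorem sl_three_simple : IsSimpleGroup (Matrix.SpecialLinearGroup (Fin 3) (ZMod 2)) := by
  haveI := Cfsg.Agent.S0249.result (F := ZMod 2) 3 (le_refl 3)
  obtain ⟨g⟩ := psl_equiv_sl
  haveI : Nontrivial (Matrix.SpecialLinearGroup (Fin 3) (ZMod 2)) := Finite.one_lt_card_iff_nontrivial.mp (by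
    rw [card_sl_three]; norm_num)
  exact IsSimpleGroup.isSimpleGroup_of_surjective g.toMonoidHom g.surjective

namespace EightI

variable {c : Ctx z P E} {m : FiveModel} {d : FiveData5 c m} {o : Eight d} {em : EightModel m} {k : EightC o em}
  (i : EightI k)
include i

theorem exists_three_sub [IsSimpleGroup G] (hG : ¬ IsMulCommutative G)
    (hinv : ∃ n ∈ centralizer ({z} : Set G), ∀ q ∈ P, n * q * n⁻¹ = q⁻¹) :
    ∃ K₂ : Subgroup G, K₂ ≤ normalizer (k.L : Set G) ∧
      Nonempty (↥K₂ ≃* Matrix.SpecialLinearGroup (Fin 3) (ZMod 2)) := by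
  classical
  haveI : Fact (Nat.Prime 3) := ⟨Nat.prime_three⟩
  haveI : Fact (Nat.Prime 7) := ⟨by norm_num⟩
  haveI := sl_three_simple
  obtain ⟨θ, hθJ, -⟩ := i.exists_quot
  have hIcard : Nat.card i.I = 120 := by rw [Nat.card_congr i.iso.toEquiv, perm_five_card]
  obtain ⟨rI, hrI⟩ := exists_prime_orderOf_dvd_card' (G := i.I) 3 (by rw [hIcard]; norm_num)
  set r : G := (rI : G) with hr
  have hr3 : orderOf r = 3 := by rw [hr, Subgroup.orderOf_coe, hrI]
  have hrC : r ∈ k.CA := (i.mem_I.mp rI.2).1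
  have hrs : r * o.s = o.s * r := (i.mem_I.mp rI.2).2
  obtain ⟨p, hp, hp1, hgen⟩ := c.exists_gen
  have hp3 : orderOf p = 3 := orderOf_eq_prime (by rw [pow_succ, sq]; exact c.P_cube hp) hp1
  obtain ⟨g, hg⟩ := isConj_iff.mp (c.three_class hG hinv r p hr3 hp3)
  have hcen : ∀ {x : G}, x * r = r * x → g * x * g⁻¹ ∈ c.cen := by
    intro x hx
    have hP : g * x * g⁻¹ ∈ centralizer (P : Set G) := c.comm_gen hgen (by
      rw [← hg]
      calc g * x * g⁻¹ * (g * r * g⁻¹) = g * (x * r) * g⁻¹ := by group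
        _ = g * r * g⁻¹ * (g * x * g⁻¹) := by rw [hx]; group)
    exact ⟨(c.cent_P hG hinv).1 hP, hP⟩
  -- J L and its part centralizing r
  set JL : Subgroup G := o.J ⊔ k.L with hJL
  have hJLn : o.J ≤ normalizer (k.L : Set G) := fun _ hj => i.J_normL hj
  have hJLN : JL ≤ normalizer (k.L : Set G) := sup_le hJLn Subgroup.le_normalizer
  have memJL : ∀ {x}, x ∈ JL ↔ ∃ j ∈ o.J, j⁻¹ * x ∈ k.L := by
    intro x
    rw [hJL, ← SetLike.mem_coe, Subgroup.coe_mul_of_left_le_normalizer_right _ _ hJLn]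
    constructor
    · rintro ⟨j, hj, l, hl, rfl⟩
      exact ⟨j, hj, by rw [inv_mul_cancel_left]; exact hl⟩
    · rintro ⟨j, hj, hl⟩
      exact ⟨j, hj, _, hl, mul_inv_cancel_left j x⟩
  set JLr : Subgroup G := JL ⊓ centralizer ({r} : Set G) with hJLr
  let fN : JLr →* ↥(normalizer (k.L : Set G)) ⧸ k.Ln :=
    (QuotientGroup.mk' k.Ln).comp (Subgroup.inclusion (inf_le_left.trans hJLN))
  let f : JLr →* Matrix.SpecialLinearGroup (Fin 3) (ZMod 2) := (MonoidHom.snd _ _).comp (θ.toMonoidHom.comp fN)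
  have hval : ∀ (x : JLr) (j : G) (hj : j ∈ o.J), j⁻¹ * (x : G) ∈ k.L → θ (fN x) = (1, o.φ ⟨j, hj⟩) := by
    intro x j hj hl
    rw [← hθJ j hj]
    exact congrArg θ (i.mk_eq (x := ⟨j, i.J_normL hj⟩) (y := ⟨x, hJLN x.2.1⟩) hl).symm
  have hfker : ∀ x : JLr, f x = 1 ↔ (x : G) ∈ k.L := by
    intro x
    obtain ⟨j, hj, hl⟩ := memJL.mp x.2.1
    have e : f x = o.φ ⟨j, hj⟩ := congrArg Prod.snd (hval x j hj hl)
    rw [e, o.φker]
    constructor
    · intro hjA
      have := mul_mem (k.A_le_L hjA) hl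
      rwa [mul_inv_cancel_left] at this
    · intro hxL
      have hjL : j ∈ k.L := by
        have := mul_mem hxL (inv_mem hl)
        rwa [mul_inv_rev, inv_inv, mul_inv_cancel_left] at this
      exact o.selfJ j hj fun a ha => (mem_centralizer_iff.mp (k.L_le hjL) a ha).symm
  have hfsurj : Function.Surjective f := by
    intro b
    obtain ⟨⟨j, hj⟩, hjb⟩ := o.φsurj b
    haveI : Fintype G := Fintype.ofFinite G
    set S : Finset G := Finset.univ.filter fun y => j⁻¹ * y ∈ k.L with hS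
    have hcard : S.card = 2 ^ 15 := by
      rw [← k.card_L, ← Nat.card_eq_finsetCard]
      exact Nat.card_congr
        { toFun := fun y => ⟨j⁻¹ * y.1, (Finset.mem_filter.mp y.2).2⟩
          invFun := fun l => ⟨j * l.1, Finset.mem_filter.mpr ⟨Finset.mem_univ _, by rw [inv_mul_cancel_left]; exact l.2⟩⟩
          left_inv := fun y => Subtype.ext (mul_inv_cancel_left j y.1)
          right_inv := fun l => Subtype.ext (inv_mul_cancel_left j l.1) }
    let σ : Equiv.Perm G := (MulAut.conj r).toEquiv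
    have hσn : ∀ (n : ℕ) (y : G), (σ ^ n) y = r ^ n * y * (r ^ n)⁻¹ := by
      intro n
      induction n with
      | zero => intro y; simp
      | succ n ih =>
        intro y
        rw [pow_succ', Equiv.Perm.mul_apply, ih]
        show r * (r ^ n * y * (r ^ n)⁻¹) * r⁻¹ = _
        rw [pow_succ']; group
    have hσ3 : σ ^ 3 = 1 := Equiv.ext fun y => by rw [hσn, ← hr3, pow_orderOf_eq_one]; simp
    have hSσ : ∀ y ∈ S, σ y ∈ S := fun y hy => by
      refine Finset.mem_filter.mpr ⟨Finset.mem_univ _, ?_⟩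
      show j⁻¹ * (r * y * r⁻¹) ∈ k.L
      have h1 := k.conj_L hrC (i.J_trivial (inv_mem hj) hrC)
      have h2 := k.conj_L hrC (Finset.mem_filter.mp hy).2
      have h3 := mul_mem h1 h2
      rwa [show r * (r⁻¹ * (j⁻¹ * r * j⁻¹⁻¹)) * r⁻¹ * (r * (j⁻¹ * y) * r⁻¹) = j⁻¹ * (r * y * r⁻¹) by group] at h3
    have h := fix_count σ S hSσ Nat.prime_three hσ3
    rw [hcard] at h
    obtain ⟨y, hy⟩ : (S.filter fun y => σ y = y).Nonempty := Finset.card_pos.mp (by
      by_contra hc
      rw [Nat.eq_zero_of_not_pos hc] at h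
      exact absurd h (by decide))
    obtain ⟨hyS, hyfix⟩ := Finset.mem_filter.mp hy
    have hyL := (Finset.mem_filter.mp hyS).2
    have hyr : y * r = r * y := (mul_inv_eq_iff_eq_mul.mp (show r * y * r⁻¹ = y from hyfix)).symm
    refine ⟨⟨y, memJL.mpr ⟨j, hj, hyL⟩, mem_centralizer_singleton_iff.mpr hyr⟩, ?_⟩
    exact (congrArg Prod.snd (hval ⟨y, _⟩ j hj hyL)).trans hjb
  -- the kernel is A
  set T : Subgroup G := k.L ⊓ centralizer ({r} : Set G) with hT
  have hkerT : f.ker.map JLr.subtype = T := by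
    ext x
    constructor
    · rintro ⟨y, hy, rfl⟩
      exact ⟨(hfker y).mp hy, y.2.2⟩
    · rintro ⟨hx, hx'⟩
      exact ⟨⟨x, mem_sup_right hx, hx'⟩, (hfker _).mpr hx, rfl⟩
  have hAT : o.A ≤ T := fun a ha =>
    ⟨k.A_le_L ha, mem_centralizer_singleton_iff.mpr (mem_centralizer_iff.mp hrC a ha)⟩
  obtain ⟨n, -, hn⟩ := (Nat.dvd_prime_pow Nat.prime_two).mp (k.card_L ▸ card_dvd_of_le (inf_le_left : T ≤ k.L))
  have hJcard : Nat.card JLr = 2 ^ n * 168 := by
    have h := Subgroup.card_mul_index f.ker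
    rw [Subgroup.index_ker, MonoidHom.range_eq_top.mpr hfsurj, card_top, card_sl_three,
      ← card_map_of_injective (f := JLr.subtype) JLr.subtype_injective, hkerT, hn] at h
    exact h.symm
  let ι : JLr →* c.cen := ((MulAut.conj g).toMonoidHom.comp JLr.subtype).codRestrict c.cen fun x =>
    hcen (mem_centralizer_singleton_iff.mp x.2.2)
  have hι : Function.Injective ι := fun x y h => Subtype.ext ((MulAut.conj g).injective (congrArg Subtype.val h))
  have hdvd := Subgroup.card_dvd_of_injective ι hι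
  rw [hJcard, c.card_cen] at hdvd
  have hsT : ∀ x ∈ T, o.s * x * o.s⁻¹ ∈ T := by
    rintro x ⟨hx, hx'⟩
    refine ⟨k.norm_L (fun _ ha => o.norm _ (o.Jcq o.sJ) _ ha) hx, mem_centralizer_singleton_iff.mpr ?_⟩
    exact (((show Commute o.s r from hrs.symm).mul_left (show Commute x r from mem_centralizer_singleton_iff.mp hx')).mul_left
      (show Commute o.s r from hrs.symm).inv_left).eq
  have h7 := fixed_modEq o.order_s hsT
  have hfixT : T ⊓ centralizer ({o.s} : Set G) = ⊥ := by
    rw [eq_bot_iff]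
    rintro x ⟨⟨hx, -⟩, hx'⟩
    exact mem_bot.mpr (i.disj x hx (i.mem_I.mpr ⟨k.L_le hx, mem_centralizer_singleton_iff.mp hx'⟩))
  rw [hfixT, card_bot, hn] at h7
  have hn3 : n = 3 := by
    have hge : 3 ≤ n := (Nat.pow_le_pow_iff_right (by norm_num : 1 < 2)).mp (by
      rw [← hn, show (2 : ℕ) ^ 3 = Nat.card o.A by rw [o.cardA]; norm_num]; exact card_le_of_le hAT)
    have hle : n ≤ 5 := by
      by_contra hc
      have h : 2 ^ 6 * 168 ∣ 6 * 443520 := (Nat.mul_dvd_mul_right (pow_dvd_pow 2 (by omega)) _).trans hdvd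
      norm_num at h
    unfold Nat.ModEq at h7
    interval_cases n <;> first | rfl | (exfalso; norm_num at h7)
  subst hn3
  have hTA : T = o.A := (eq_of_le_of_card_ge hAT (by rw [hn, o.cardA]; norm_num)).symm
  have hkA : ∀ x : JLr, f x = 1 ↔ (x : G) ∈ o.A := fun x => by
    rw [hfker, ← hTA]
    exact ⟨fun h => ⟨h, x.2.2⟩, fun h => h.1⟩
  let sr : JLr := ⟨o.s, mem_sup_left o.sJ, mem_centralizer_singleton_iff.mpr hrs.symm⟩
  -- the map to M22 is injective
  let V : JLr →* MTwoTwo := c.valHom.comp ι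
  have hkcard : Nat.card V.ker ∣ 6 := by
    rw [← c.card_valKer]
    exact Subgroup.card_dvd_of_injective
      ((ι.comp V.ker.subtype).codRestrict c.valHom.ker fun x => MonoidHom.mem_ker.mpr x.2)
      (fun x y h => Subtype.ext (hι (congrArg Subtype.val h)))
  have hkle : V.ker ≤ f.ker := by
    rcases (Subgroup.Normal.map inferInstance f hfsurj : (V.ker.map f).Normal).eq_bot_or_eq_top with h | h
    · exact (Subgroup.map_eq_bot_iff _).mp h
    · exfalso
      have h1 : Nat.card ↥(V.ker.map f) ∣ 6 := (card_map_dvd V.ker f).trans hkcard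
      rw [h, card_top, card_sl_three] at h1
      norm_num at h1
  have hk8 : Nat.card f.ker = 8 := by
    rw [← card_map_of_injective (f := JLr.subtype) JLr.subtype_injective, hkerT, hTA, o.cardA]
  have hVinj : Function.Injective V := by
    rw [← MonoidHom.ker_eq_bot_iff, eq_bot_iff]
    intro x hx
    have hxA : (x : G) ∈ o.A := (hkA x).mp (hkle hx)
    have hk2 : Nat.card V.ker ≤ 2 := Nat.le_of_dvd (by norm_num) (by
      have h := Nat.dvd_gcd hkcard (hk8 ▸ card_dvd_of_le hkle)
      norm_num at h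
      exact h)
    by_contra hx1
    have hy : sr * x * sr⁻¹ ∈ V.ker := (MonoidHom.normal_ker V).conj_mem x hx sr
    have hy1 : sr * x * sr⁻¹ ≠ 1 := fun e => hx1 (mem_bot.mpr (conj_eq_one_iff.mp e))
    by_cases e : sr * x * sr⁻¹ = x
    · exact hx1 (mem_bot.mpr (Subtype.ext (o.sfix _ hxA (congrArg Subtype.val e))))
    · have h3 : Nat.card ({1, x, sr * x * sr⁻¹} : Finset JLr) ≤ Nat.card V.ker :=
        Nat.card_le_card_of_injective (fun y => (⟨y.1, by
          have hy' := y.2
          simp only [Finset.mem_insert, Finset.mem_singleton] at hy'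
          rcases hy' with h | h | h <;> rw [h]
          exacts [one_mem _, hx, hy]⟩ : V.ker)) (fun a b h => Subtype.ext (congrArg (fun q : V.ker => (q : JLr)) h))
      rw [Nat.card_eq_finsetCard, Finset.card_eq_three.mpr ⟨1, x, _, fun h => hx1 (mem_bot.mpr h.symm),
        hy1.symm, Ne.symm e, rfl⟩] at h3
      omega
  -- split in M22
  obtain ⟨K, hKJ, hKcard, hKA⟩ := eight_split (A := f.ker.map V) (J := V.range) (map_le_range V _)
    (by
      rintro _ ⟨y, rfl⟩
      refine mem_norm_of ?_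
      rintro _ ⟨x, hx, rfl⟩
      exact ⟨y * x * y⁻¹, (MonoidHom.normal_ker f).conj_mem x hx y, by rw [map_mul, map_mul, map_inv]⟩)
    (by rw [card_map_of_injective hVinj, hk8])
    (by
      rintro _ ⟨x, hx, rfl⟩
      rw [← map_pow, show x ^ 2 = 1 from Subtype.ext (by
        rw [Subgroup.coe_pow, sq]; exact o.sqA _ ((hkA x).mp hx)), map_one])
    (V sr) ⟨sr, rfl⟩
    (by rw [orderOf_injective V hVinj, ← Subgroup.orderOf_coe]; exact o.order_s)
    (by
      rintro _ ⟨x, hx, rfl⟩ e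
      rw [← map_inv, ← map_mul, ← map_mul] at e
      rw [show x = 1 from Subtype.ext (o.sfix _ ((hkA x).mp hx) (congrArg Subtype.val (hVinj e))), map_one])
    (by
      rw [← Nat.card_congr (MonoidHom.ofInjective hVinj).toEquiv, hJcard]
      norm_num)
  let K0 : Subgroup JLr := K.comap V
  have hK0 : Nat.card K0 = 168 := by
    rw [← hKcard, ← card_map_of_injective (f := V) hVinj, Subgroup.map_comap_eq_self hKJ]
  let e : K0 →* Matrix.SpecialLinearGroup (Fin 3) (ZMod 2) := f.comp K0.subtype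
  have he : Function.Injective e := (injective_iff_map_eq_one _).mpr fun x hx => by
    have h1 : V x.1 ∈ K ⊓ f.ker.map V := ⟨x.2, ⟨x.1, hx, rfl⟩⟩
    rw [hKA, mem_bot] at h1
    exact Subtype.ext (hVinj (h1.trans (map_one V).symm))
  have heb : Function.Bijective e :=
    (Nat.bijective_iff_injective_and_card e).mpr ⟨he, by rw [hK0, card_sl_three]⟩
  exact ⟨K0.map JLr.subtype, (map_subtype_le _).trans (inf_le_left.trans hJLN),
    ⟨(K0.equivMapOfInjective JLr.subtype JLr.subtype_injective).symm.trans (MulEquiv.ofBijective e heb)⟩⟩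

end EightI

end CfsgLib.JankoFour
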