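/-
An extraspecial group of order 2^13 with a threefold cover of M22 acting: the element of order three acts without
fixed points on the central quotient.
-/
import Cfsg.Agent.Lib.JankoFour.M22Three
import Cfsg.Agent.Lib.ExtraspecialTwo

set_option autoImplicit false

namespace CfsgLib.JankoFour.Shape

open Cfsg Subgroup
open scoped commutatorElement

/-- The fixed points of an automorphism. -/
def fixG {V : Type*} [Group V] (φ : MulAut V) : Subgroup V := φ.toMonoidHom.eqLocus (MonoidHom.id V)

theorem mem_fixG {V : Type*} [Group V] {φ : MulAut V} {v : V} : v ∈ fixG φ ↔ φ v = v := Iff.rfl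

theorem pow_apply_of_fix {V : Type*} [Group V] {φ : MulAut V} {v : V} (h : φ v = v) : ∀ n : ℕ, (φ ^ n) v = v
  | 0 => rfl
  | n + 1 => by rw [pow_succ, MulAut.mul_apply, h, pow_apply_of_fix h n]

theorem toPerm_pow {V : Type*} [Group V] (φ : MulAut V) (n : ℕ) :
    (φ.toEquiv : Equiv.Perm V) ^ n = (φ ^ n).toEquiv := by
  induction n with
  | zero => rfl
  | succ k ih => rw [pow_succ, pow_succ, ih]; rfl

theorem inv_filter_modEq {V : Type*} [Group V] [Fintype V] [DecidableEq V] (φ : MulAut V) {p : ℕ} (hp : p.Prime)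
    (hφ : φ ^ p = 1) (S : Finset V) (hS : ∀ x ∈ S, φ x ∈ S) :
    S.card ≡ (S.filter fun x => φ x = x).card [MOD p] :=
  fix_count φ.toEquiv S hS hp (by rw [toPerm_pow, hφ]; rfl)

theorem card_fix_modEq {V : Type*} [Group V] [Finite V] (φ : MulAut V) {p : ℕ} (hp : p.Prime) (hφ : φ ^ p = 1) :
    Nat.card V ≡ Nat.card (fixG φ) [MOD p] := by
  classical
  haveI := Fintype.ofFinite V
  have h := inv_filter_modEq φ hp hφ Finset.univ (fun _ _ => Finset.mem_univ _)
  rw [Finset.card_univ, ← Nat.card_eq_fintype_card] at h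
  have e : Nat.card (fixG φ) = (Finset.univ.filter fun x => φ x = x).card := by
    rw [← Nat.card_eq_finsetCard]
    exact Nat.card_congr (Equiv.subtypeEquivRight fun x => by simp [mem_fixG])
  rwa [e]

/-- There is no non-degenerate form on a group of order 64 invariant under a fixed-point-free element of order 21. -/
theorem no_small_form {V : Type*} [CommGroup V] [Finite V] (hV : Nat.card V = 64) (χ : V → V → ℤ)
    (χmul : ∀ a b d, χ (a * b) d = χ a d * χ b d) (χsymm : ∀ a b, χ a b = χ b a)
    (χpm : ∀ a b, χ a b = 1 ∨ χ a b = -1) (χnd : ∀ a, (∀ b, χ a b = 1) → a = 1)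
    (y c : MulAut V) (y7 : y ^ 7 = 1) (c3 : c ^ 3 = 1) (hyc : y * c = c * y) (yf : ∀ v, y v = v → v = 1)
    (cf : ∀ v, c v = v → v = 1) (yχ : ∀ a b, χ (y a) (y b) = χ a b) (cχ : ∀ a b, χ (c a) (c b) = χ a b) :
    False := by
  classical
  haveI := Fintype.ofFinite V
  have χsq : ∀ a b, χ a b * χ a b = 1 := fun a b => by rcases χpm a b with e | e <;> rw [e] <;> norm_num
  have χone : ∀ a, χ a 1 = 1 := fun a => by
    rw [χsymm]
    have h := χmul 1 1 a
    rw [one_mul] at h
    exact h.trans (χsq _ _)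
  have χinv : ∀ a b, χ a b⁻¹ = χ a b := fun a b => by
    have h := χmul b b⁻¹ a
    rw [mul_inv_cancel, χsymm 1 a, χone] at h
    rw [χsymm a, χsymm a b]
    rcases χpm b a with e | e <;> rw [e] at h ⊢ <;> linarith
  have χmulr : ∀ a b d, χ a (b * d) = χ a b * χ a d := fun a b d => by
    rw [χsymm, χmul, χsymm b, χsymm d]
  have c3' : ∀ v, c (c (c v)) = v := fun v => DFunLike.congr_fun (show c * c * c = 1 by rw [← pow_two, ← pow_succ]; exact c3) v
  have hsum3 : ∀ w, c w * c (c w) = w⁻¹ := fun w => by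
    refine eq_inv_of_mul_eq_one_left (cf _ ?_)
    rw [map_mul, map_mul, c3']
    ac_rfl
  set h : V → ℤ := fun v => χ v (c v) with hh
  have hmul : ∀ v w, h (v * w) = h v * h w * χ v w := fun v w => by
    have h1 : χ w (c v) = χ v (c (c w)) := by
      rw [χsymm, ← cχ (c v), ← cχ (c (c v)), c3']
    have h2 : χ v (c w) * χ v (c (c w)) = χ v w := by rw [← χmulr, hsum3, χinv]
    show χ (v * w) (c (v * w)) = χ v (c v) * χ w (c w) * χ v w
    rw [map_mul, χmul, χmulr, χmulr, h1, ← h2]
    ring
  have hsq : ∀ v, h v * h v = 1 := fun v => χsq _ _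
  have hchar : ∀ a, ∑ v, χ v a = if a = 1 then (64 : ℤ) else 0 := by
    intro a
    split_ifs with ha
    · subst ha
      rw [Finset.sum_congr rfl fun v _ => χone v, Finset.sum_const, Finset.card_univ, ← Nat.card_eq_fintype_card, hV]
      norm_num
    · obtain ⟨b, hb⟩ : ∃ b, χ b a = -1 := by
        by_contra hall
        push Not at hall
        exact ha (χnd a fun b => by rw [χsymm]; exact (χpm b a).resolve_right (hall b))
      have h2 := Equiv.sum_comp (Equiv.mulLeft b) (fun v => χ v a)
      simp only [Equiv.coe_mulLeft, χmul, hb, neg_one_mul, Finset.sum_neg_distrib] at h2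
      linarith
  have h1 : h 1 = 1 := by show χ 1 (c 1) = 1; rw [map_one, χone]
  have hS : (∑ v, h v) * (∑ v, h v) = 64 := by
    rw [Finset.sum_mul_sum]
    calc ∑ v, ∑ w, h v * h w = ∑ v, ∑ a, h v * h (v * a) :=
          Finset.sum_congr rfl fun v _ => (Equiv.sum_comp (Equiv.mulLeft v) (fun w => h v * h w)).symm
      _ = ∑ v, ∑ a, h a * χ v a := Finset.sum_congr rfl fun v _ => Finset.sum_congr rfl fun a _ => by
          rw [hmul, ← mul_assoc, ← mul_assoc, hsq, one_mul]
      _ = ∑ a, h a * ∑ v, χ v a := by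
          rw [Finset.sum_comm]; exact Finset.sum_congr rfl fun a _ => (Finset.mul_sum _ _ _).symm
      _ = 64 := by
          simp only [hchar, mul_ite, mul_zero, Finset.sum_ite_eq', Finset.mem_univ, if_true, h1, one_mul]
  set Z := Finset.univ.filter fun v => h v = 1 with hZ
  have hsum : ∑ v, h v = 2 * (Z.card : ℤ) - 64 := by
    have hh2 : ∀ v, h v = 2 * (if h v = 1 then (1 : ℤ) else 0) - 1 := fun v => by
      rcases χpm v (c v) with e | e <;> simp [show h v = χ v (c v) from rfl, e]
    rw [Finset.sum_congr rfl fun v _ => hh2 v, Finset.sum_sub_distrib, ← Finset.mul_sum, Finset.sum_boole,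
      Finset.sum_const, Finset.card_univ, ← Nat.card_eq_fintype_card, hV]
    norm_num
    rfl
  have key : ∀ (φ : MulAut V) (p : ℕ), p.Prime → φ ^ p = 1 → (∀ v, φ v = v → v = 1) → (∀ v, h (φ v) = h v) →
      Z.card ≡ 1 [MOD p] := by
    intro φ p hp hφ hf hinv
    have h2 := inv_filter_modEq φ hp hφ Z (fun x hx => Finset.mem_filter.mpr
      ⟨Finset.mem_univ _, (hinv x).trans (Finset.mem_filter.mp hx).2⟩)
    have e : (Z.filter fun x => φ x = x) = {1} := by
      ext x
      rw [Finset.mem_filter, Finset.mem_singleton, hZ, Finset.mem_filter]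
      exact ⟨fun hx => hf x hx.2, fun hx => by subst hx; exact ⟨⟨Finset.mem_univ _, h1⟩, map_one φ⟩⟩
    rwa [e, Finset.card_singleton] at h2
  have m7 := key y 7 (by norm_num) y7 yf fun v => by
    show χ (y v) (c (y v)) = χ v (c v)
    rw [show c (y v) = y (c v) from (DFunLike.congr_fun hyc v).symm, yχ]
  have m3 := key c 3 (by norm_num) c3 cf fun v => cχ v (c v)
  rw [hsum] at hS
  have hb : Z.card = 28 ∨ Z.card = 36 := by
    have : (2 * (Z.card : ℤ) - 56) * (2 * (Z.card : ℤ) - 72) = 0 := by linear_combination hS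
    rcases mul_eq_zero.mp this with e | e
    · left; omega
    · right; omega
  unfold Nat.ModEq at m7 m3
  rcases hb with e | e <;> rw [e] at m7 m3 <;> omega

universe u

variable {H : Type u} [Group H] [Finite H] {Q N M : Subgroup H} [Q.Normal] [N.Normal] [M.Normal]

/-- The central quotient of the extraspecial group. -/
abbrev Bar (Q : Subgroup H) : Type u := ↥Q ⧸ center ↥Q

omit [Finite H] in
theorem center_map (φ : MulAut ↥Q) : (center ↥Q).map φ.toMonoidHom = center ↥Q := by
  ext x
  constructor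
  · rintro ⟨a, ha, rfl⟩
    refine mem_center_iff.mpr fun g => ?_
    obtain ⟨b, rfl⟩ := φ.surjective g
    show φ b * φ a = φ a * φ b
    rw [← map_mul, ← map_mul, mem_center_iff.mp ha b]
  · intro hx
    refine ⟨φ.symm x, mem_center_iff.mpr fun g => φ.injective ?_, φ.apply_symm_apply x⟩
    rw [map_mul, map_mul, φ.apply_symm_apply, mem_center_iff.mp hx]

/-- The action on the central quotient. -/
def barAct : H →* MulAut (Bar Q) where
  toFun g := QuotientGroup.congr (center ↥Q) (center ↥Q) (MulAut.conjNormal g) (center_map _)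
  map_one' := MulEquiv.ext fun v => by
    obtain ⟨q, rfl⟩ := QuotientGroup.mk_surjective v
    show (QuotientGroup.mk (MulAut.conjNormal (1 : H) q) : Bar Q) = QuotientGroup.mk q
    rw [map_one]; rfl
  map_mul' g g' := MulEquiv.ext fun v => by
    obtain ⟨q, rfl⟩ := QuotientGroup.mk_surjective v
    show (QuotientGroup.mk (MulAut.conjNormal (g * g') q) : Bar Q) =
      QuotientGroup.mk (MulAut.conjNormal g (MulAut.conjNormal g' q))
    rw [map_mul]; rfl

omit [Finite H] in
theorem barAct_mk (g : H) (q : ↥Q) :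
    barAct g (QuotientGroup.mk q : Bar Q) = QuotientGroup.mk (MulAut.conjNormal g q) := rfl

/-- An element of order three of N acts without fixed points. -/
theorem fpf_of_shape (hQN : Q ≤ N) (hNM : N ≤ M) (hQ : IsExtraspecial 2 Q) (hcard : Nat.card Q = 2 ^ 13)
    (hN : Nat.card N = 3 * Nat.card Q) (hcent : ⁅M, N⁆ ≤ Q) (hperf : M ≤ ⁅M, M⁆ ⊔ Q)
    (h2c : centralizer (Q : Set H) ≤ Q) (π : ↥M →* MTwoTwo) (hπ : Function.Surjective π)
    (hπk : ∀ m : ↥M, π m = 1 ↔ (m : H) ∈ N) {p : H} (hp : p ∈ N) (p3 : p ^ 3 = 1) (p1 : p ≠ 1) :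
    ∀ q : ↥Q, p * q = q * p → q ∈ center ↥Q := by
  classical
  haveI := CfsgGolay.isSimple_sporM22
  obtain ⟨z, hE⟩ := CfsgLib.ExtraTwo.ofExtraspecial hQ
  have hconj_cent : ∀ q ∈ Q, ∀ v : Bar Q, ∀ hq : q ∈ Q, barAct (⟨q, hq⟩ : ↥Q).1 v = v := by
    intro q _ v hq
    obtain ⟨r, rfl⟩ := QuotientGroup.mk_surjective v
    rw [barAct_mk, QuotientGroup.eq]
    have h := hE.comm_cases ⟨q, hq⟩ r
    have e : MulAut.conjNormal q r = ⁅(⟨q, hq⟩ : ↥Q), r⁆ * r := Subtype.ext (by
      simp [commutatorElement_def, mul_assoc])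
    rw [e]
    have hc : ⁅(⟨q, hq⟩ : ↥Q), r⁆ ∈ center ↥Q := (hE.center_iff _).mpr h
    have hc' := inv_mem hc
    rw [show (⁅(⟨q, hq⟩ : ↥Q), r⁆ * r)⁻¹ * r = r⁻¹ * ⁅(⟨q, hq⟩ : ↥Q), r⁆⁻¹ * r by group]
    rw [mul_assoc, ← mem_center_iff.mp hc' r, ← mul_assoc, inv_mul_cancel, one_mul]
    exact hc'
  have hQtriv : ∀ q ∈ Q, (barAct (Q := Q) q : MulAut (Bar Q)) = 1 := fun q hq =>
    MulEquiv.ext fun v => hconj_cent q hq v hq
  have hV2 : ∀ v : Bar Q, v * v = 1 := fun v => by
    obtain ⟨r, rfl⟩ := QuotientGroup.mk_surjective v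
    exact (QuotientGroup.eq_one_iff (r * r)).mpr (hE.sq_central r)
  letI : CommGroup (Bar Q) := { (inferInstance : Group (Bar Q)) with
    mul_comm := fun a b => by
      have h := inv_eq_of_mul_eq_one_right (hV2 (a * b))
      rw [mul_inv_rev, inv_eq_of_mul_eq_one_right (hV2 a), inv_eq_of_mul_eq_one_right (hV2 b)] at h
      exact h.symm }
  have hVc : Nat.card (Bar Q) = 2 ^ 12 := by
    have h := card_eq_card_quotient_mul_card_subgroup (center ↥Q)
    rw [hcard, hE.card_center] at h
    change 2 ^ 13 = Nat.card (Bar Q) * 2 at h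
    omega
  have hsub : ∀ S : Subgroup (Bar Q), ∃ k ≤ 12, Nat.card S = 2 ^ k := fun S =>
    (Nat.dvd_prime_pow Nat.prime_two).mp (hVc ▸ card_subgroup_dvd_card S)
  -- trivial action
  have htriv : ∀ (g : H) (k : ℕ), Odd k → g ^ k = 1 → barAct (Q := Q) g = 1 → g ∈ Q := by
    intro g k hk hgk hg
    refine h2c (mem_centralizer_iff.mpr fun r hr => ?_)
    set φ := MulAut.conjNormal (H := Q) g
    set d := φ ⟨r, hr⟩ * (⟨r, hr⟩ : ↥Q)⁻¹ with hd
    have hdc : d ∈ center ↥Q := by
      have h : (QuotientGroup.mk (φ ⟨r, hr⟩) : Bar Q) = QuotientGroup.mk ⟨r, hr⟩ :=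
        (barAct_mk g ⟨r, hr⟩).symm.trans (DFunLike.congr_fun hg (QuotientGroup.mk ⟨r, hr⟩ : Bar Q))
      rw [← QuotientGroup.eq_one_iff, hd]
      show (QuotientGroup.mk (φ ⟨r, hr⟩) : Bar Q) * (QuotientGroup.mk ⟨r, hr⟩)⁻¹ = 1
      rw [h, mul_inv_cancel]
    have hfix : φ d = d := by
      rcases (hE.center_iff d).mp hdc with e | e
      · rw [e, map_one]
      · have hz : φ z ∈ center ↥Q := by rw [← center_map φ]; exact ⟨z, (hE.center_iff z).mpr (Or.inr rfl), rfl⟩
        rcases (hE.center_iff _).mp hz with e' | e'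
        · exact absurd (φ.injective (e'.trans (map_one φ).symm)) hE.ne
        · rw [e, e']
    have hpow : ∀ n : ℕ, (φ ^ n) ⟨r, hr⟩ = d ^ n * ⟨r, hr⟩ := by
      intro n
      induction n with
      | zero => simp
      | succ n ih =>
        rw [pow_succ', MulAut.mul_apply, ih, map_mul, map_pow, hfix, pow_succ, mul_assoc, hd, inv_mul_cancel_right]
    have h := hpow k
    rw [← map_pow, hgk, map_one, MulAut.one_apply] at h
    have hdk : d ^ k = 1 := mul_eq_right.mp h.symm
    have hd2 : d * d = 1 := by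
      rcases (hE.center_iff d).mp hdc with e | e <;> rw [e]
      exacts [one_mul 1, hE.zz]
    obtain ⟨j, rfl⟩ := hk
    rw [pow_succ, pow_mul, pow_two, hd2, one_pow, one_mul] at hdk
    have e := mul_inv_eq_one.mp hdk
    have e' : g * r * g⁻¹ = r := congrArg Subtype.val e
    exact (mul_inv_eq_iff_eq_mul.mp e').symm
  set c := barAct (Q := Q) p with hc
  have c3 : c ^ 3 = 1 := by rw [hc, ← map_pow, p3, map_one]
  have hcne : c ≠ 1 := fun h => by
    have hpQ := htriv p 3 (by decide) p3 h
    haveI : Fact (Nat.Prime 3) := ⟨Nat.prime_three⟩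
    have h3 : orderOf (⟨p, hpQ⟩ : ↥Q) ∣ 2 ^ 13 := hcard ▸ orderOf_dvd_natCard _
    rw [Subgroup.orderOf_mk, orderOf_eq_prime p3 p1] at h3
    norm_num at h3
  have hcomm : ∀ g ∈ M, Commute (barAct (Q := Q) g) c := fun g hg => by
    have h : ⁅g, p⁆ ∈ Q := hcent (commutator_mem_commutator hg hp)
    have := hQtriv _ h
    rw [map_commutatorElement, commutatorElement_eq_one_iff_mul_comm] at this
    exact this
  set C := fixG c with hC
  have hCinv : ∀ g ∈ M, ∀ v ∈ C, barAct (Q := Q) g v ∈ C := fun g hg v hv => by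
    rw [hC, mem_fixG] at hv ⊢
    exact ((DFunLike.congr_fun (hcomm g hg).eq v).symm).trans (congrArg _ hv)
  obtain ⟨m, hm12, hm⟩ := hsub C
  have hm3 := card_fix_modEq c (by norm_num) c3
  rw [← hC, hVc, hm] at hm3
  have hm_ne : m ≠ 12 := fun h => hcne (MulEquiv.ext fun v => by
    have htop : C = ⊤ := eq_top_of_card_eq _ (by rw [hm, h, hVc])
    exact mem_fixG.mp (hC ▸ htop.symm ▸ mem_top v))
  have getOrd : ∀ l : ℕ, l.Prime → l ∣ 443520 → 5 ≤ l → ∃ g ∈ M, g ^ l = 1 ∧ g ∉ N := by
    intro l hl hdvd hl5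
    haveI := Fact.mk hl
    have hdM : l ∣ Nat.card M :=
      hdvd.trans ((show Nat.card MTwoTwo = 443520 from CfsgGolay.card_sporM22) ▸ card_dvd_of_surjective π hπ)
    obtain ⟨g, hg⟩ := exists_prime_orderOf_dvd_card' l hdM
    have hgl : (g : H) ^ l = 1 := by rw [← hg, ← Subgroup.orderOf_coe, pow_orderOf_eq_one]
    refine ⟨g, g.2, hgl, fun hgN => ?_⟩
    have h : orderOf (⟨(g : H), hgN⟩ : ↥N) ∣ 3 * 2 ^ 13 := hcard ▸ hN ▸ orderOf_dvd_natCard _
    rw [Subgroup.orderOf_mk, Subgroup.orderOf_coe, hg] at h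
    rcases hl.dvd_mul.mp h with h | h
    · have := Nat.le_of_dvd (by norm_num) h; omega
    · have := Nat.le_of_dvd (by norm_num) (hl.dvd_of_dvd_pow h); omega
  have hnt : ∀ (g : H) (l : ℕ), Odd l → g ^ l = 1 → g ∉ N → ∃ v : Bar Q, barAct g v ≠ v := by
    intro g l hl hgl hgN
    by_contra hall
    push Not at hall
    exact hgN (hQN (htriv g l hl hgl (MulEquiv.ext hall)))
  obtain ⟨x, hxM, hx11, hxN⟩ := getOrd 11 (by norm_num) (by norm_num) (by norm_num)
  set X := fixG (barAct (Q := Q) x) with hX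
  have hX4 : Nat.card X = 4 := by
    obtain ⟨k, hk12, hk⟩ := hsub X
    have h := card_fix_modEq (barAct (Q := Q) x) (p := 11) (by norm_num) (by rw [← map_pow, hx11, map_one])
    rw [← hX, hVc, hk] at h
    obtain ⟨v, hv⟩ := hnt x 11 (by decide) hx11 hxN
    have hne : k ≠ 12 := fun e => hv (by
      have htop : X = ⊤ := eq_top_of_card_eq _ (by rw [hk, e, hVc])
      exact mem_fixG.mp (hX ▸ htop.symm ▸ mem_top v))
    unfold Nat.ModEq at h
    interval_cases k <;> first | omega | rfl
  -- the elements fixing C, and those acting trivially modulo C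
  by_cases hxC : C ≤ X
  · have hm2 : m ≤ 2 := by
      have := card_le_of_le hxC
      rw [hm, hX4] at this
      exact (Nat.pow_le_pow_iff_right (a := 2) (by norm_num)).mp (show 2 ^ m ≤ 2 ^ 2 from this)
    have hm0 : m = 0 := by
      by_contra hm0
      have hm2' : m = 2 := by
        unfold Nat.ModEq at hm3
        interval_cases m <;> omega
      -- every element of M fixes C
      let K : Subgroup ↥M :=
        { carrier := {g | ∀ v ∈ C, barAct (Q := Q) (g : H) v = v}
          one_mem' := fun v _ => by simp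
          mul_mem' := fun {a b} ha hb v hv => by
            rw [Subgroup.coe_mul, map_mul, MulAut.mul_apply, hb v hv, ha v hv]
          inv_mem' := fun {a} ha v hv => by
            conv_lhs => rw [← ha v hv]
            rw [← MulAut.mul_apply, ← map_mul, Subgroup.coe_inv, inv_mul_cancel, map_one, MulAut.one_apply] }
      have hKn : K.Normal := ⟨fun k hk g v hv => by
        have hv' := hCinv (g : H)⁻¹ (inv_mem g.2) v hv
        rw [Subgroup.coe_mul, Subgroup.coe_mul, Subgroup.coe_inv, map_mul, map_mul, MulAut.mul_apply,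
          MulAut.mul_apply, hk _ hv', ← MulAut.mul_apply, ← map_mul, mul_inv_cancel, map_one, MulAut.one_apply]⟩
      have hall : ∀ g : ↥M, g ∈ K := by
        haveI := hKn
        haveI : (K.map π).Normal := Normal.map hKn π hπ
        rcases (inferInstance : (K.map π).Normal).eq_bot_or_eq_top with h | h
        · exfalso
          refine hxN ((hπk ⟨x, hxM⟩).mp (mem_bot.mp (h ▸ mem_map_of_mem π ?_)))
          exact fun v hv => mem_fixG.mp (hxC hv)
        · intro g
          obtain ⟨k, hk, e⟩ := (h ▸ mem_top (π g) : π g ∈ K.map π)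
          have hn : (g : H) * (k : H)⁻¹ ∈ N := (hπk (g * k⁻¹)).mp (by rw [map_mul, map_inv, e, mul_inv_cancel])
          -- N fixes C
          have hNK : g * k⁻¹ ∈ K := by
            intro v hv
            obtain ⟨q, hq, i, hi⟩ : ∃ q ∈ Q, ∃ i : ℕ, (g : H) * (k : H)⁻¹ = q * p ^ i := by
              have hcop : (Q ⊔ zpowers p) = N := by
                refine eq_of_le_of_card_ge (sup_le hQN (zpowers_le.mpr hp)) ?_
                haveI : Fact (Nat.Prime 3) := ⟨Nat.prime_three⟩
                refine Nat.le_of_dvd Nat.card_pos ?_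
                rw [hN]
                refine Nat.Coprime.mul_dvd_of_dvd_of_dvd (by rw [hcard]; norm_num) ?_ (card_dvd_of_le le_sup_left)
                have h3 := card_dvd_of_le (le_sup_right : zpowers p ≤ Q ⊔ zpowers p)
                rwa [Nat.card_zpowers, orderOf_eq_prime p3 p1] at h3
              have hmem : (g : H) * (k : H)⁻¹ ∈ ((Q ⊔ zpowers p : Subgroup H) : Set H) := hcop.symm ▸ hn
              rw [normal_mul] at hmem
              obtain ⟨q, hq, w, hw, e⟩ := hmem
              obtain ⟨i, rfl⟩ := mem_powers_iff_mem_zpowers.mpr hw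
              exact ⟨q, hq, i, e.symm⟩
            show barAct (Q := Q) ((g * k⁻¹ : ↥M) : H) v = v
            rw [Subgroup.coe_mul, Subgroup.coe_inv, hi, map_mul, hQtriv q hq, one_mul, map_pow]
            exact pow_apply_of_fix (mem_fixG.mp hv) i
          have := K.mul_mem hNK hk
          rwa [inv_mul_cancel_right] at this
      obtain ⟨y, hyM, hy7, hyN⟩ := getOrd 7 (by norm_num) (by norm_num) (by norm_num)
      set Y := barAct (Q := Q) y with hY
      set F := fixG Y with hF
      have hY7 : Y ^ 7 = 1 := by rw [hY, ← map_pow, hy7, map_one]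
      have hYc : Commute Y c := hcomm y hyM
      have hFc : Nat.card F = 64 := by
        obtain ⟨k, hk12, hk⟩ := hsub F
        have h := card_fix_modEq Y (p := 7) (by norm_num) hY7
        have hCF : C ≤ F := fun v hv => hall ⟨y, hyM⟩ v hv
        have hk2 : 2 ≤ k := by
          have := card_le_of_le hCF
          rw [hm, hm2', hk] at this
          exact (Nat.pow_le_pow_iff_right (a := 2) (by norm_num)).mp this
        let cF : MulAut ↥F := MulAut.congr (MulEquiv.refl ↥F) (
          { toFun := fun v => ⟨c v, mem_fixG.mpr (by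
              rw [show Y (c v) = c (Y v) from DFunLike.congr_fun hYc.eq _, mem_fixG.mp v.2])⟩
            invFun := fun v => ⟨c.symm v, mem_fixG.mpr (c.injective (by
              rw [show c (Y (c.symm v)) = Y (c (c.symm v)) from (DFunLike.congr_fun hYc.eq _).symm,
                c.apply_symm_apply, mem_fixG.mp v.2]))⟩
            left_inv := fun v => Subtype.ext (c.symm_apply_apply _)
            right_inv := fun v => Subtype.ext (c.apply_symm_apply _)
            map_mul' := fun a b => Subtype.ext (map_mul c _ _) } : MulAut ↥F)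
        have hcF : ∀ v : ↥F, (cF v : Bar Q) = c v := fun v => rfl
        have hcF3 : cF ^ 3 = 1 := MulEquiv.ext fun v => Subtype.ext (by
          show (cF (cF (cF v)) : Bar Q) = v
          rw [hcF, hcF, hcF]
          exact DFunLike.congr_fun (show c * c * c = 1 by rw [← pow_two, ← pow_succ]; exact c3) (v : Bar Q))
        have h3 := card_fix_modEq cF (p := 3) (by norm_num) hcF3
        have e : Nat.card (fixG cF) = Nat.card C := by
          refine Nat.card_congr ⟨fun v => ⟨(v.1 : Bar Q), mem_fixG.mpr (congrArg Subtype.val (mem_fixG.mp v.2))⟩,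
            fun v => ⟨⟨v.1, hCF v.2⟩, Subtype.ext (mem_fixG.mp v.2)⟩, fun v => rfl, fun v => rfl⟩
        rw [e, hm, hm2', hk] at h3
        obtain ⟨v, hv⟩ := hnt y 7 (by decide) hy7 hyN
        have hne : k ≠ 12 := fun e => hv (by
          have htop : F = ⊤ := eq_top_of_card_eq _ (by rw [hk, e, hVc])
          exact mem_fixG.mp (hF ▸ htop.symm ▸ mem_top v))
        rw [← hF, hVc, hk] at h
        unfold Nat.ModEq at h h3
        interval_cases k <;> first | omega | (rw [hk]; rfl)
      -- the commutator part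
      let f : Bar Q →* Bar Q :=
        { toFun := fun v => Y v * v⁻¹
          map_one' := by simp
          map_mul' := fun a b => by rw [map_mul, mul_inv_rev]; ac_rfl }
      set W := f.range with hW
      have hfker : f.ker = F := by
        ext v
        show Y v * v⁻¹ = 1 ↔ Y v = v
        exact mul_inv_eq_one
      have hWc : Nat.card W = 64 := by
        have h := card_mul_index f.ker
        rw [Subgroup.index_ker, hfker, hFc, hVc] at h
        show Nat.card f.range = 64
        omega
      -- the commutator form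
      set χ : Bar Q → Bar Q → ℤ := fun a b => hE.chi a.out b.out with hχ
      have hcen1 : ∀ (r : ↥Q) {d : ↥Q}, d ∈ center ↥Q → hE.chi d r = 1 := fun r d hd => by
        unfold CfsgLib.ExtraTwo.Ext2.chi
        rw [if_pos (mem_center_iff.mp hd r).symm]
      have hχmk : ∀ a b : ↥Q, χ (QuotientGroup.mk a) (QuotientGroup.mk b) = hE.chi a b := by
        intro a b
        obtain ⟨d, hd⟩ := QuotientGroup.mk_out_eq_mul (center ↥Q) a
        obtain ⟨d', hd'⟩ := QuotientGroup.mk_out_eq_mul (center ↥Q) b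
        show hE.chi (Quotient.out _) (Quotient.out _) = _
        rw [hd, hd', hE.chi_mul, hcen1 _ d.2, mul_one, hE.chi_symm, hE.chi_mul, hcen1 _ d'.2, mul_one, hE.chi_symm]
      have χmul : ∀ a b d, χ (a * b) d = χ a d * χ b d := fun a b d => by
        obtain ⟨a, rfl⟩ := QuotientGroup.mk_surjective a
        obtain ⟨b, rfl⟩ := QuotientGroup.mk_surjective b
        obtain ⟨d, rfl⟩ := QuotientGroup.mk_surjective d
        rw [← QuotientGroup.mk_mul, hχmk, hχmk, hχmk, hE.chi_mul]
      have χsymm : ∀ a b, χ a b = χ b a := fun a b => hE.chi_symm _ _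
      have χpm : ∀ a b, χ a b = 1 ∨ χ a b = -1 := fun a b => by
        show hE.chi _ _ = 1 ∨ hE.chi _ _ = -1
        unfold CfsgLib.ExtraTwo.Ext2.chi
        split_ifs <;> simp
      have χnd : ∀ a, (∀ b, χ a b = 1) → a = 1 := by
        intro a ha
        obtain ⟨a, rfl⟩ := QuotientGroup.mk_surjective a
        refine (QuotientGroup.eq_one_iff a).mpr (mem_center_iff.mpr fun r => ?_)
        have h := hχmk a r ▸ ha (QuotientGroup.mk r)
        unfold CfsgLib.ExtraTwo.Ext2.chi at h
        split_ifs at h with e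
        exact e.symm
      have χinvar : ∀ (g : H) a b, χ (barAct g a) (barAct g b) = χ a b := by
        intro g a b
        obtain ⟨a, rfl⟩ := QuotientGroup.mk_surjective a
        obtain ⟨b, rfl⟩ := QuotientGroup.mk_surjective b
        rw [barAct_mk, barAct_mk, hχmk, hχmk]
        unfold CfsgLib.ExtraTwo.Ext2.chi
        have : MulAut.conjNormal g a * MulAut.conjNormal g b = MulAut.conjNormal g b * MulAut.conjNormal g a ↔
            a * b = b * a := by
          rw [← map_mul, ← map_mul, EmbeddingLike.apply_eq_iff_eq]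
        by_cases h : a * b = b * a <;> simp [h, this]
      have χsq : ∀ a b, χ a b * χ a b = 1 := fun a b => by rcases χpm a b with e | e <;> rw [e] <;> norm_num
      have hperp : ∀ a ∈ F, ∀ w ∈ W, χ a w = 1 := by
        rintro a ha _ ⟨v, rfl⟩
        show χ a (Y v * v⁻¹) = 1
        have h1 : χ a (Y v) = χ a v := by
          conv_lhs => rw [← mem_fixG.mp ha]
          exact χinvar y a v
        have h2 : v⁻¹ = v := inv_eq_of_mul_eq_one_right (hV2 v)
        rw [h2, χsymm, χmul, χsymm, h1, χsymm v, χsq]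
      have hYw : ∀ w ∈ W, Y w ∈ W := by
        rintro _ ⟨v, rfl⟩
        exact ⟨Y v, by show Y (Y v) * (Y v)⁻¹ = Y (Y v * v⁻¹); rw [map_mul, map_inv]⟩
      have hcw : ∀ w ∈ W, c w ∈ W := by
        rintro _ ⟨v, rfl⟩
        refine ⟨c v, ?_⟩
        show Y (c v) * (c v)⁻¹ = c (Y v * v⁻¹)
        rw [map_mul, map_inv, show Y (c v) = c (Y v) from DFunLike.congr_fun hYc.eq _]
      have hFW : ∀ w ∈ W, Y w = w → w = 1 := by
        rintro _ ⟨v, rfl⟩ hw
        have hpw : ∀ n : ℕ, (Y ^ n) v = (f v) ^ n * v := by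
          intro n
          induction n with
          | zero => simp
          | succ n ih =>
            rw [pow_succ', MulAut.mul_apply, ih, map_mul, map_pow, hw, pow_succ, mul_assoc]
            show (f v) ^ n * Y v = (f v) ^ n * (Y v * v⁻¹ * v)
            rw [inv_mul_cancel_right]
        have h := hpw 7
        rw [hY7, MulAut.one_apply] at h
        have h7 : (f v) ^ 7 = 1 := mul_eq_right.mp h.symm
        have h2 := hV2 (f v)
        rw [pow_succ, show 6 = 2 * 3 from rfl, pow_mul, pow_two, h2, one_pow, one_mul] at h7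
        exact h7
      have hsup : F ⊔ W = ⊤ := by
        refine eq_top_of_card_eq _ ?_
        have hdis : Disjoint F W := disjoint_iff_inf_le.mpr fun w hw => mem_bot.mpr (hFW w hw.2 (mem_fixG.mp hw.1))
        have h2 : Nat.card (F ⊔ W : Subgroup (Bar Q)) = 64 * 64 := by
          suffices h : Nat.card (F ⊔ W : Subgroup (Bar Q)) = Nat.card F * Nat.card W by rw [h, hFc, hWc]
          rw [← Nat.card_prod]
          refine (Nat.card_eq_of_bijective (fun q : F × W =>
            (⟨q.1 * q.2, mul_mem_sup q.1.2 q.2.2⟩ : ↥(F ⊔ W))) ⟨?_, ?_⟩).symm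
          · exact fun a b e => mul_injective_of_disjoint hdis (congrArg Subtype.val e)
          · rintro ⟨v, hv⟩
            obtain ⟨a, ha, b, hb, rfl⟩ := mem_sup_of_normal_right.mp hv
            exact ⟨(⟨a, ha⟩, ⟨b, hb⟩), rfl⟩
        rw [h2, hVc]; norm_num
      let res : ∀ φ : MulAut (Bar Q), (∀ w ∈ W, φ w ∈ W) → MulAut ↥W := fun φ hφ =>
        MulEquiv.ofBijective (MonoidHom.mk' (fun w : ↥W => (⟨φ w, hφ w w.2⟩ : ↥W))
          fun a b => Subtype.ext (map_mul φ _ _))
          (Finite.injective_iff_bijective.mp fun a b e => Subtype.ext (φ.injective (congrArg Subtype.val e)))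
      have hres : ∀ φ hφ (w : ↥W), (res φ hφ w : Bar Q) = φ w := fun φ hφ w => rfl
      have hrespow : ∀ φ hφ (n : ℕ) (w : ↥W), (((res φ hφ) ^ n) w : Bar Q) = (φ ^ n) w := by
        intro φ hφ n
        induction n with
        | zero => intro w; rfl
        | succ n ih => intro w; rw [pow_succ, pow_succ, MulAut.mul_apply, MulAut.mul_apply, ih]; rfl
      have hCF : C ≤ F := fun v hv => hall ⟨y, hyM⟩ v hv
      exact no_small_form hWc (fun a b => χ a b) (fun a b d => χmul _ _ _) (fun a b => χsymm _ _)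
        (fun a b => χpm _ _) (fun a ha => Subtype.ext (χnd a fun b => by
          obtain ⟨u, hu, w, hw, rfl⟩ := mem_sup_of_normal_right.mp (hsup ▸ mem_top b : b ∈ F ⊔ W)
          rw [χsymm, χmul, hperp u hu a a.2, one_mul, χsymm]
          exact ha ⟨w, hw⟩))
        (res Y hYw) (res c hcw)
        (MulEquiv.ext fun w => Subtype.ext (by rw [hrespow, hY7]; rfl))
        (MulEquiv.ext fun w => Subtype.ext (by rw [hrespow, c3]; rfl))
        (MulEquiv.ext fun w => Subtype.ext (DFunLike.congr_fun hYc.eq (w : Bar Q)))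
        (fun w hw => Subtype.ext (hFW w w.2 (congrArg Subtype.val hw)))
        (fun w hw => Subtype.ext (hFW w w.2 (mem_fixG.mp (hCF (mem_fixG.mpr (congrArg Subtype.val hw))))))
        (fun a b => χinvar y _ _) (fun a b => χinvar p _ _)
    intro q hq
    have hmem : (QuotientGroup.mk q : Bar Q) ∈ C := by
      rw [hC, mem_fixG, hc, barAct_mk]
      congr 1
      exact Subtype.ext (by rw [MulAut.conjNormal_apply, hq, mul_inv_cancel_right])
    have hbot : C = ⊥ := card_eq_one.mp (by rw [hm, hm0]; rfl)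
    rw [hbot, mem_bot] at hmem
    exact (QuotientGroup.eq_one_iff q).mp hmem
  · exfalso
    obtain ⟨v0, hv0C, hv0X⟩ := SetLike.not_le_iff_exists.mp hxC
    have hm10 : m = 10 := by
      let xC : MulAut ↥C := MulEquiv.ofBijective
        (MonoidHom.mk' (fun w : ↥C => (⟨barAct (Q := Q) x w, hCinv x hxM w w.2⟩ : ↥C))
          fun a b => Subtype.ext (map_mul (barAct (Q := Q) x) _ _))
        (Finite.injective_iff_bijective.mp fun a b e => Subtype.ext ((barAct (Q := Q) x).injective
          (congrArg Subtype.val e)))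
      have hpw : ∀ (n : ℕ) (w : ↥C), ((xC ^ n) w : Bar Q) = ((barAct (Q := Q) x) ^ n) w := by
        intro n
        induction n with
        | zero => intro w; rfl
        | succ n ih => intro w; rw [pow_succ, pow_succ, MulAut.mul_apply, MulAut.mul_apply, ih]; rfl
      have h := card_fix_modEq xC (p := 11) (by norm_num)
        (MulEquiv.ext fun w => Subtype.ext (by rw [hpw, ← map_pow, hx11, map_one]; rfl))
      obtain ⟨j, -, hj⟩ := (Nat.dvd_prime_pow Nat.prime_two).mp (hm ▸ card_subgroup_dvd_card (fixG xC))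
      have hlt : Nat.card (fixG xC) < 2 ^ m := by
        rw [← hm]
        refine lt_of_le_of_ne (card_le_card_group _) fun e => hv0X ?_
        have htop : fixG xC = ⊤ := eq_top_of_card_eq _ e
        have h2 : (⟨v0, hv0C⟩ : ↥C) ∈ fixG xC := by rw [htop]; exact mem_top _
        have h3 : xC ⟨v0, hv0C⟩ = ⟨v0, hv0C⟩ := h2
        exact (congrArg Subtype.val h3 : barAct (Q := Q) x v0 = v0)
      rw [hm, hj] at h
      rw [hj, Nat.pow_lt_pow_iff_right (by norm_num)] at hlt
      unfold Nat.ModEq at h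
      interval_cases m <;> interval_cases j <;> first | omega | rfl | simp_all [Nat.ModEq]
    -- everything in M acts as a power of c modulo C
    have hindex : C.index = 4 := by
      have h := card_mul_index C
      rw [hm, hm10, hVc] at h
      omega
    have hnotin : ∀ v, v ∉ C → c v * v⁻¹ ∉ C := by
      intro v hv hd
      refine hv (mem_fixG.mpr ?_)
      have hd' := mem_fixG.mp hd
      set d := c v * v⁻¹
      have hpw : ∀ n : ℕ, (c ^ n) v = d ^ n * v := by
        intro n
        induction n with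
        | zero => simp
        | succ n ih => rw [pow_succ', MulAut.mul_apply, ih, map_mul, map_pow, hd', pow_succ, mul_assoc,
            inv_mul_cancel_right]
      have h := hpw 3
      rw [c3, MulAut.one_apply] at h
      have h3 : d ^ 3 = 1 := mul_eq_right.mp h.symm
      rw [pow_succ, pow_two, hV2 d, one_mul] at h3
      exact mul_inv_eq_one.mp h3
    obtain ⟨v, hv⟩ : ∃ v, v ∉ C := by
      by_contra hall
      push Not at hall
      have := (index_eq_one (H := C)).mpr ((eq_top_iff' C).mpr hall)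
      omega
    have hcv := hnotin v hv
    have hcv' : c v ∉ C := fun h => hv (by
      have h2 := hCinv _ (inv_mem (hNM hp)) _ h
      rwa [map_inv, ← hc, MulAut.inv_apply_self] at h2)
    -- the four cosets
    have hcos : ∀ u, u ∈ C ∨ u * v⁻¹ ∈ C ∨ u * (c v)⁻¹ ∈ C ∨ u * (c (c v))⁻¹ ∈ C := by
      intro u
      by_contra hall
      push Not at hall
      obtain ⟨h0, h1, h2, h3⟩ := hall
      have h4 : ∀ w, w ∉ C → c (c w) * w⁻¹ ∉ C := fun w hw hmem => by
        have := hnotin w hw
        refine this ?_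
        have h5 := hCinv p (hNM hp) _ hmem
        rw [← hc, map_mul, map_inv, show c (c (c w)) = w from
          DFunLike.congr_fun (show c * c * c = 1 by rw [← pow_two, ← pow_succ]; exact c3) w] at h5
        have := inv_mem h5
        rwa [mul_inv_rev, inv_inv] at this
      have hccv : c (c v) ∉ C := fun h => hcv' (by
        have h2 := hCinv _ (inv_mem (hNM hp)) _ h
        rwa [map_inv, ← hc, MulAut.inv_apply_self] at h2)
      let f : Fin 5 → Bar Q ⧸ C :=
        ![QuotientGroup.mk 1, QuotientGroup.mk v, QuotientGroup.mk (c v), QuotientGroup.mk (c (c v)), QuotientGroup.mk u]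
      have hne : ∀ a b : Bar Q, (QuotientGroup.mk a : Bar Q ⧸ C) = QuotientGroup.mk b ↔ b * a⁻¹ ∈ C := fun a b => by
        rw [QuotientGroup.eq, mul_comm]
      have e01 : QuotientGroup.mk 1 ≠ (QuotientGroup.mk v : Bar Q ⧸ C) := by rw [Ne, hne, inv_one, mul_one]; exact hv
      have e02 : QuotientGroup.mk 1 ≠ (QuotientGroup.mk (c v) : Bar Q ⧸ C) := by
        rw [Ne, hne, inv_one, mul_one]; exact hcv'
      have e03 : QuotientGroup.mk 1 ≠ (QuotientGroup.mk (c (c v)) : Bar Q ⧸ C) := by
        rw [Ne, hne, inv_one, mul_one]; exact hccv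
      have e04 : QuotientGroup.mk 1 ≠ (QuotientGroup.mk u : Bar Q ⧸ C) := by rw [Ne, hne, inv_one, mul_one]; exact h0
      have e12 : (QuotientGroup.mk v : Bar Q ⧸ C) ≠ QuotientGroup.mk (c v) := by rw [Ne, hne]; exact hcv
      have e13 : (QuotientGroup.mk v : Bar Q ⧸ C) ≠ QuotientGroup.mk (c (c v)) := by rw [Ne, hne]; exact h4 v hv
      have e23 : (QuotientGroup.mk (c v) : Bar Q ⧸ C) ≠ QuotientGroup.mk (c (c v)) := by
        rw [Ne, hne]; exact hnotin _ hcv'
      have e14 : (QuotientGroup.mk v : Bar Q ⧸ C) ≠ QuotientGroup.mk u := by rw [Ne, hne]; exact h1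
      have e24 : (QuotientGroup.mk (c v) : Bar Q ⧸ C) ≠ QuotientGroup.mk u := by rw [Ne, hne]; exact h2
      have e34 : (QuotientGroup.mk (c (c v)) : Bar Q ⧸ C) ≠ QuotientGroup.mk u := by rw [Ne, hne]; exact h3
      have hf : Function.Injective f := by
        intro i j e
        fin_cases i <;> fin_cases j <;> first
          | rfl
          | exact absurd e e01 | exact absurd e.symm e01 | exact absurd e e02 | exact absurd e.symm e02
          | exact absurd e e03 | exact absurd e.symm e03 | exact absurd e e04 | exact absurd e.symm e04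
          | exact absurd e e12 | exact absurd e.symm e12 | exact absurd e e13 | exact absurd e.symm e13
          | exact absurd e e23 | exact absurd e.symm e23 | exact absurd e e14 | exact absurd e.symm e14
          | exact absurd e e24 | exact absurd e.symm e24 | exact absurd e e34 | exact absurd e.symm e34
      have h5 := Nat.card_le_card_of_injective f hf
      rw [Nat.card_fin, ← Subgroup.index, hindex] at h5
      omega
    -- a subgroup containing the commutators
    let K : Subgroup H :=
      { carrier := {g | g ∈ M ∧ ∀ u, barAct (Q := Q) g u * u⁻¹ ∈ C}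
        one_mem' := ⟨one_mem _, fun u => by rw [map_one, MulAut.one_apply, mul_inv_cancel]; exact one_mem _⟩
        mul_mem' := fun {a b} ha hb => ⟨mul_mem ha.1 hb.1, fun u => by
          rw [map_mul, MulAut.mul_apply]
          have h1 := ha.2 (barAct (Q := Q) b u)
          have h2 := mul_mem h1 (hb.2 u)
          rwa [mul_assoc, inv_mul_cancel_left] at h2⟩
        inv_mem' := fun {a} ha => ⟨inv_mem ha.1, fun u => by
          have h1 := inv_mem (ha.2 (barAct (Q := Q) a⁻¹ u))
          rwa [← MulAut.mul_apply, ← map_mul, mul_inv_cancel, map_one, MulAut.one_apply, mul_inv_rev, inv_inv] at h1⟩ }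
    have hgen : ∀ g ∈ M, ∃ i : ℕ, (c ^ i) v * (barAct (Q := Q) g v)⁻¹ ∈ C := by
      intro g hg
      have hgv : barAct (Q := Q) g v ∉ C := fun h => hv (by
        have h2 := hCinv g⁻¹ (inv_mem hg) _ h
        rwa [map_inv, MulAut.inv_apply_self] at h2)
      rcases hcos (barAct (Q := Q) g v) with h | h | h | h
      · exact absurd h hgv
      · exact ⟨0, by have := inv_mem h; rwa [mul_inv_rev, inv_inv] at this⟩
      · exact ⟨1, by have := inv_mem h; rwa [mul_inv_rev, inv_inv] at this⟩
      · exact ⟨2, by have := inv_mem h; rwa [mul_inv_rev, inv_inv] at this⟩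
    have hmod : ∀ (φ : MulAut (Bar Q)), (∀ w ∈ C, φ w ∈ C) → φ * c = c * φ → φ v * v⁻¹ ∈ C →
        ∀ u, φ u * u⁻¹ ∈ C := by
      intro φ hφ hφc hφv u
      have hcC : ∀ {w}, w ∈ C → c w ∈ C := fun {w} hw => (hc ▸ hCinv p (hNM hp) w hw : c w ∈ C)
      have h1 : φ (c v) * (c v)⁻¹ ∈ C := by
        rw [show φ (c v) = c (φ v) from DFunLike.congr_fun hφc v, ← map_inv, ← map_mul]; exact hcC hφv
      have h2 : φ (c (c v)) * (c (c v))⁻¹ ∈ C := by
        rw [show φ (c (c v)) = c (φ (c v)) from DFunLike.congr_fun hφc (c v), ← map_inv, ← map_mul]; exact hcC h1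
      have step : ∀ w, φ w * w⁻¹ ∈ C → u * w⁻¹ ∈ C → φ u * u⁻¹ ∈ C := fun w hw huw => by
        rw [show φ u * u⁻¹ = φ u * (φ w)⁻¹ * (φ w * w⁻¹) * (w * u⁻¹) by group]
        have h4 := mul_mem (mul_mem (hφ _ huw) hw) (inv_mem huw)
        rwa [map_mul, map_inv, mul_inv_rev, inv_inv] at h4
      rcases hcos u with h | h | h | h
      · exact mul_mem (hφ u h) (inv_mem h)
      · exact step v hφv h
      · exact step (c v) h1 h
      · exact step (c (c v)) h2 h
    have hcC : ∀ (i : ℕ) w, w ∈ C → (c ^ i) w ∈ C := fun i w hw => by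
      rw [hc, ← map_pow]; exact hCinv _ (pow_mem (hNM hp) i) w hw
    have hpowK : ∀ g ∈ M, ∃ i : ℕ, (p ^ i)⁻¹ * g ∈ K := by
      intro g hg
      obtain ⟨i, hi⟩ := hgen g hg
      have hgM : (p ^ i)⁻¹ * g ∈ M := mul_mem (inv_mem (pow_mem (hNM hp) i)) hg
      refine ⟨i, hgM, hmod _ (hCinv _ hgM) (hcomm _ hgM).eq ?_⟩
      have h2 := hCinv _ (inv_mem (pow_mem (hNM hp) i)) _ (inv_mem hi)
      rw [mul_inv_rev, inv_inv, map_mul, map_inv (barAct (Q := Q) (p ^ i)⁻¹)] at h2
      have e : barAct (Q := Q) (p ^ i)⁻¹ ((c ^ i) v) = v := by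
        rw [hc, ← map_pow, ← MulAut.mul_apply, ← map_mul, inv_mul_cancel, map_one, MulAut.one_apply]
      rw [e, ← MulAut.mul_apply, ← map_mul] at h2
      exact h2
    have hMK : M ≤ K := by
      refine hperf.trans (sup_le ?_ fun q hq => ⟨(hQN.trans hNM) hq, fun u => by
        rw [hQtriv q hq, MulAut.one_apply, mul_inv_cancel]; exact one_mem _⟩)
      rw [commutator_le]
      intro a ha b hb
      obtain ⟨i, hi⟩ := hpowK a ha
      obtain ⟨j, hj⟩ := hpowK b hb
      have hpM : ∀ k : ℕ, p ^ k ∈ M := fun k => pow_mem (hNM hp) k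
      set a' := (p ^ i)⁻¹ * a with ha'
      set b' := (p ^ j)⁻¹ * b with hb'
      have hA : barAct (Q := Q) ⁅a, b⁆ = barAct (Q := Q) ⁅a', b'⁆ := by
        have ea : a = p ^ i * a' := by rw [ha', mul_inv_cancel_left]
        have eb : b = p ^ j * b' := by rw [hb', mul_inv_cancel_left]
        clear_value a' b'
        have c1 : ∀ g ∈ M, ∀ k : ℕ, Commute (c ^ k) (barAct (Q := Q) g) := fun g hg k =>
          ((hcomm g hg).symm.pow_left k)
        rw [ea, eb, map_commutatorElement, map_commutatorElement, map_mul, map_mul, map_pow, map_pow, ← hc]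
        have k1 := c1 _ hi.1 i
        have k2 := c1 _ hj.1 j
        have k3 := c1 _ hi.1 j
        have k4 := c1 _ hj.1 i
        simp only [commutatorElement_def, mul_inv_rev]
        set A := barAct (Q := Q) a'
        set B := barAct (Q := Q) b'
        have k5 : Commute (c ^ i) (c ^ j) := Commute.pow_pow_self c i j
        calc c ^ i * A * (c ^ j * B) * (A⁻¹ * (c ^ i)⁻¹) * (B⁻¹ * (c ^ j)⁻¹)
            = c ^ i * c ^ j * (A * B * A⁻¹) * ((c ^ i)⁻¹ * B⁻¹) * (c ^ j)⁻¹ := by
              simp only [mul_assoc]; rw [← mul_assoc A (c ^ j), ← k3.eq]; simp only [mul_assoc]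
          _ = c ^ i * c ^ j * (A * B * A⁻¹ * B⁻¹) * (c ^ i)⁻¹ * (c ^ j)⁻¹ := by
              rw [show (c ^ i)⁻¹ * B⁻¹ = B⁻¹ * (c ^ i)⁻¹ from (k4.inv_inv).eq]; simp only [mul_assoc]
          _ = c ^ i * c ^ j * ((c ^ i)⁻¹ * (c ^ j)⁻¹) * (A * B * A⁻¹ * B⁻¹) := by
              have hk : Commute ((c ^ i)⁻¹ * (c ^ j)⁻¹) (A * B * A⁻¹ * B⁻¹) := by
                refine ((k1.inv_left.mul_right k4.inv_left).mul_right k1.inv_inv).mul_right k4.inv_inv |>.mul_left
                  (((k3.inv_left.mul_right k2.inv_left).mul_right k3.inv_inv).mul_right k2.inv_inv)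
              rw [mul_assoc _ _ ((c ^ j)⁻¹), mul_assoc (c ^ i * c ^ j) _ ((c ^ i)⁻¹ * (c ^ j)⁻¹),
                ← hk.eq, ← mul_assoc]
          _ = A * B * A⁻¹ * B⁻¹ := by rw [k5.eq]; group
      refine ⟨by rw [commutatorElement_def]; exact mul_mem (mul_mem (mul_mem ha hb) (inv_mem ha)) (inv_mem hb),
        fun u => ?_⟩
      rw [hA]
      have hcm : ⁅a', b'⁆ ∈ K := by
        rw [commutatorElement_def]; exact mul_mem (mul_mem (mul_mem hi hj) (inv_mem hi)) (inv_mem hj)
      exact hcm.2 u
    exact hcv ((hMK (hNM hp)).2 v)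

end CfsgLib.JankoFour.Shape
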