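/-
Outer automorphisms of M22 invert the commutator pairing on a Sylow 3-subgroup: a witness, and its consequence
for a perfect central extension by a group of order three.
-/
import Cfsg.Agent.Lib.JankoFour.PairStab
import Cfsg.Agent.Lib.JankoFour.M22Three

set_option autoImplicit false

namespace CfsgLib.JankoFour.Shape

open Cfsg CfsgGolay M22Data
open scoped Pointwise commutatorElement

attribute [local irreducible] codeL octadL dodecadL slpCodes

/-- The code of an element of the pair stabiliser normalising the Sylow 3-subgroup. -/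
def detG : ℕ := 6053074099532032372312647051690647

theorem detG_checked : (permOK detG && gensKept detG && Nat.beq (papp detG 0) 23 && Nat.beq (papp detG 23) 0 &&
    Nat.beq (pcomp detG threeU) (pcomp threeV detG) &&
    Nat.beq (pcomp detG threeV) (pcomp (pcomp threeU threeV) detG)) = true := by decide +kernel

/-- Two commuting elements of order three and an automorphism of determinant minus one on them. -/
theorem exists_det_neg : ∃ (u v : MTwoTwo) (σ : MulAut ↥Spor.M22), u ^ 3 = 1 ∧ v ^ 3 = 1 ∧ u * v = v * u ∧ u ≠ 1 ∧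
    v ≠ 1 ∧ v ≠ u ∧ v ≠ u * u ∧ σ u = v ∧ σ v = u * v := by
  classical
  obtain ⟨u, hu⟩ := exists_el (show memB threeU = true by
    have := mem_checked; simp only [Bool.and_eq_true] at this; exact this.1.1.1.1.2)
  obtain ⟨v, hv⟩ := exists_el (show memB threeV = true by
    have := mem_checked; simp only [Bool.and_eq_true] at this; exact this.1.1.1.2)
  have hx := hex_checked
  simp only [Bool.and_eq_true, Bool.not_eq_true', List.all_eq_true] at hx
  obtain ⟨⟨⟨⟨⟨⟨⟨⟨-, -⟩, huv⟩, hu3⟩, hun⟩, hv3⟩, hvn⟩, -⟩, -⟩ := hx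
  have hd := detG_checked
  simp only [Bool.and_eq_true] at hd
  obtain ⟨⟨⟨⟨⟨hok, hk⟩, h0⟩, h23⟩, hgu⟩, hgv⟩ := hd
  obtain ⟨g, hg⟩ := exists_repr_of_permOK hok
  have hpn : idx (none : GolayPt) = 23 := rfl
  have hp0 : idx (pt 0) = 0 := idx_pt (by norm_num)
  have g0 : g none = pt 0 := idx_injective (by
    rw [hg none, hpn, hp0, Nat.eq_of_beq_eq_true h23])
  have g1 : g (pt 0) = none := idx_injective (by
    rw [hg (pt 0), hpn, hp0, Nat.eq_of_beq_eq_true h0])
  have hmem : g ∈ stabM pair22 := by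
    refine mem_stabM.mpr ⟨mem_M24_of_gensKept hg hk, ?_⟩
    rw [pair22, smul_set_pts, Finset.image_insert, Finset.image_singleton, g0, g1]
    exact Finset.pair_comm _ _
  refine ⟨u, v, pairHom ⟨g, hmem⟩, el_eq (repr_pow hu 3) (by rw [Nat.eq_of_beq_eq_true hu3]; exact repr_one),
    el_eq (repr_pow hv 3) (by rw [Nat.eq_of_beq_eq_true hv3]; exact repr_one),
    el_eq (repr_mul hu hv) (by rw [Nat.eq_of_beq_eq_true huv]; exact repr_mul hv hu), ?_, ?_, ?_, ?_, ?_, ?_⟩
  · intro e
    exact ne_of_code (repr_mul hu repr_one) (repr_mul repr_one repr_one) hun (by rw [e])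
  · intro e
    exact ne_of_code (repr_mul repr_one repr_one) (repr_mul hv repr_one) (hvn pid (by simp)) (by rw [e])
  · intro e
    exact ne_of_code (repr_mul hu repr_one) (repr_mul hv repr_one) (hvn threeU (by simp)) (by rw [e])
  · intro e
    exact ne_of_code (repr_mul (repr_mul hu hu) repr_one) (repr_mul hv repr_one)
      (hvn (pcomp threeU threeU) (by simp)) (by rw [e])
  · refine Subtype.ext ?_
    show g * (u : Equiv.Perm GolayPt) * g⁻¹ = v
    refine mul_inv_eq_iff_eq_mul.mpr ((hg.comp hu).unique ?_)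
    rw [Nat.eq_of_beq_eq_true hgu]
    exact hv.comp hg
  · refine Subtype.ext ?_
    show g * (v : Equiv.Perm GolayPt) * g⁻¹ = ((u * v : MTwoTwo) : Equiv.Perm GolayPt)
    refine mul_inv_eq_iff_eq_mul.mpr ((hg.comp hv).unique ?_)
    rw [Nat.eq_of_beq_eq_true hgv]
    exact (repr_mul hu hv).comp hg

/-- In a perfect central extension of M22 by a group of order three, lifts of a commuting pair generating a
Sylow 3-subgroup do not commute. -/
theorem lifts_not_comm {K : Type*} [Group K] [Finite K] (hperf : commutator K = ⊤) (π : K →* MTwoTwo)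
    (hπ : Function.Surjective π) (hcent : π.ker ≤ Subgroup.center K) (hker : Nat.card π.ker = 3)
    {u v : MTwoTwo} (hu : u ^ 3 = 1) (hv : v ^ 3 = 1) (huv : u * v = v * u) (hu1 : u ≠ 1) (hv1 : v ≠ 1)
    (hvu : v ≠ u) (hvu2 : v ≠ u * u) {a b : K} (ha : π a = u) (hb : π b = v) : a * b ≠ b * a := by
  classical
  intro hab
  obtain ⟨e, he, he1⟩ : ∃ e ∈ π.ker, e ≠ 1 := by
    by_contra hall
    push Not at hall
    rw [(Subgroup.eq_bot_iff_forall _).mpr hall, Subgroup.card_bot] at hker
    norm_num at hker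
  set S : Set K := {a, b} ∪ (π.ker : Set K) with hS
  have hcomm : ∀ x ∈ S, ∀ y ∈ S, x * y = y * x := by
    intro x hx y hy
    rcases hx with (rfl | hx) | hx
    · rcases hy with (rfl | hy) | hy
      · rfl
      · rw [Set.mem_singleton_iff.mp hy]; exact hab
      · exact (Subgroup.mem_center_iff.mp (hcent hy) x)
    · rw [Set.mem_singleton_iff] at hx
      subst hx
      rcases hy with (rfl | hy) | hy
      · exact hab.symm
      · rw [Set.mem_singleton_iff.mp hy]
      · exact (Subgroup.mem_center_iff.mp (hcent hy) x)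
    · exact (Subgroup.mem_center_iff.mp (hcent hx) y).symm
  set B := Subgroup.closure S with hB
  haveI : IsMulCommutative B := Subgroup.isMulCommutative_closure hcomm
  have hkerB : π.ker ≤ B := fun x hx => Subgroup.subset_closure (Or.inr hx)
  -- the image is the subgroup of order nine
  set R := pairGrp u v hu hv huv with hR
  have hRc : Nat.card R = 9 := by
    let F : Fin 3 × Fin 3 → R := fun x => ⟨u ^ (x.1 : ℕ) * v ^ (x.2 : ℕ), x.1, x.1.2, x.2, x.2.2, rfl⟩
    have hzu : Subgroup.zpowers u ⊓ Subgroup.zpowers v = ⊥ := by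
      rw [eq_bot_iff]
      rintro x ⟨hx1, hx2⟩
      obtain ⟨i, hi⟩ := mem_powers_iff_mem_zpowers.mpr hx1
      obtain ⟨j, hj⟩ := mem_powers_iff_mem_zpowers.mpr hx2
      simp only at hi hj
      rw [Subgroup.mem_bot, ← hj, pow_eq_pow_mod j hv]
      have hjl : j % 3 < 3 := Nat.mod_lt _ (by norm_num)
      have hil : i % 3 < 3 := Nat.mod_lt _ (by norm_num)
      have hE : u ^ (i % 3) = v ^ (j % 3) := by rw [← pow_eq_pow_mod i hu, ← pow_eq_pow_mod j hv, hi, hj]
      have hv2 : v = (v * v) * (v * v) := by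
        rw [show (v * v) * (v * v) = v ^ 3 * v by rw [pow_succ, pow_two]; group, hv, one_mul]
      have hu2 : (u * u) * (u * u) = u := by
        rw [show (u * u) * (u * u) = u ^ 3 * u by rw [pow_succ, pow_two]; group, hu, one_mul]
      interval_cases hj3 : j % 3
      · rfl
      · exfalso
        rw [pow_one] at hE
        interval_cases hi3 : i % 3
        · exact hv1 (by rw [← hE, pow_zero])
        · exact hvu (by rw [← hE, pow_one])
        · exact hvu2 (by rw [← hE, pow_two])
      · exfalso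
        rw [pow_two] at hE
        interval_cases hi3 : i % 3
        · exact hv1 (by rw [hv2, ← hE, pow_zero, one_mul])
        · exact hvu2 (by rw [hv2, ← hE, pow_one])
        · exact hvu (by rw [hv2, ← hE, pow_two, hu2])
    have hF : Function.Bijective F := by
      refine ⟨?_, fun ⟨x, i, hi, j, hj, e⟩ => ⟨(⟨i, hi⟩, ⟨j, hj⟩), Subtype.ext e.symm⟩⟩
      rintro ⟨i, j⟩ ⟨i', j'⟩ h
      have h' : u ^ (i : ℕ) * v ^ (j : ℕ) = u ^ (i' : ℕ) * v ^ (j' : ℕ) := congrArg Subtype.val h
      have h2 : (u ^ (i' : ℕ))⁻¹ * u ^ (i : ℕ) = v ^ (j' : ℕ) * (v ^ (j : ℕ))⁻¹ := by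
        rw [eq_mul_inv_iff_mul_eq, mul_assoc, h', inv_mul_cancel_left]
      have h3 : (u ^ (i' : ℕ))⁻¹ * u ^ (i : ℕ) ∈ Subgroup.zpowers u ⊓ Subgroup.zpowers v :=
        Subgroup.mem_inf.mpr
          ⟨mul_mem (inv_mem (pow_mem (Subgroup.mem_zpowers u) _)) (pow_mem (Subgroup.mem_zpowers u) _),
            h2 ▸ mul_mem (pow_mem (Subgroup.mem_zpowers v) _) (inv_mem (pow_mem (Subgroup.mem_zpowers v) _))⟩
      rw [hzu, Subgroup.mem_bot, inv_mul_eq_one] at h3
      rw [← h3, mul_right_inj] at h'
      have ou : orderOf u = 3 := orderOf_eq_prime (hp := ⟨Nat.prime_three⟩) hu hu1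
      have ov : orderOf v = 3 := orderOf_eq_prime (hp := ⟨Nat.prime_three⟩) hv hv1
      refine Prod.ext (Fin.ext ?_) (Fin.ext ?_)
      · exact pow_injOn_Iio_orderOf (by rw [ou]; exact i.2) (by rw [ou]; exact i'.2) h3.symm
      · exact pow_injOn_Iio_orderOf (by rw [ov]; exact j.2) (by rw [ov]; exact j'.2) h'
    rw [← Nat.card_congr (Equiv.ofBijective F hF)]; simp
  have himage : B.map π = R := by
    refine le_antisymm (Subgroup.map_le_iff_le_comap.mpr ((Subgroup.closure_le _).mpr ?_)) ?_
    · rintro x ((rfl | hx) | hx)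
      · exact ⟨1, by norm_num, 0, by norm_num, by simp [ha]⟩
      · rw [Set.mem_singleton_iff.mp hx]; exact ⟨0, by norm_num, 1, by norm_num, by simp [hb]⟩
      · show π x ∈ R
        rw [(hx : π x = 1)]; exact one_mem _
    · rintro _ ⟨i, -, j, -, rfl⟩
      have haB : a ∈ B := Subgroup.subset_closure (show a ∈ S from Or.inl (Or.inl rfl))
      have hbB : b ∈ B := Subgroup.subset_closure (show b ∈ S from Or.inl (Or.inr rfl))
      exact ⟨a ^ i * b ^ j, mul_mem (pow_mem haB _) (pow_mem hbB _), by rw [map_mul, map_pow, map_pow, ha, hb]⟩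
  have hindex : B.index = 49280 := by
    have h1 := Subgroup.index_map B π
    rw [himage, MonoidHom.range_eq_top.mpr hπ, Subgroup.index_top, mul_one, sup_eq_left.mpr hkerB] at h1
    have h2 := R.card_mul_index
    rw [hRc, show Nat.card MTwoTwo = 443520 from card_sporM22, h1] at h2
    omega
  haveI : B.FiniteIndex := ⟨by rw [hindex]; norm_num⟩
  letI : CommGroup B := { (inferInstance : Group B) with mul_comm := IsMulCommutative.is_comm.comm }
  have he3 : e ^ 3 = 1 := by
    have h : (⟨e, he⟩ : π.ker) ^ 3 = 1 := hker ▸ pow_card_eq_one'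
    exact congrArg Subtype.val h
  have hkey : ∀ (k : ℕ) (g₀ : K), g₀⁻¹ * e ^ k * g₀ ∈ B → g₀⁻¹ * e ^ k * g₀ = e ^ k := fun k g₀ _ => by
    rw [mul_assoc, ← Subgroup.mem_center_iff.mp (Subgroup.pow_mem _ (hcent he) k) g₀, inv_mul_cancel_left]
  have ht := MonoidHom.transfer_eq_pow (MonoidHom.id B) e hkey
  have htriv : MonoidHom.transfer (MonoidHom.id B) e = 1 := by
    have h1 : commutator K ≤ (MonoidHom.transfer (MonoidHom.id B)).ker := Abelianization.commutator_subset_ker _
    rw [hperf] at h1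
    exact h1 (Subgroup.mem_top e)
  rw [htriv, MonoidHom.id_apply] at ht
  have h2 : e ^ B.index = 1 := (congrArg Subtype.val ht).symm
  rw [hindex, pow_eq_pow_mod 49280 he3, show (49280 % 3 : ℕ) = 2 from rfl] at h2
  exact he1 (by rw [← he3, pow_succ, h2, one_mul])

end CfsgLib.JankoFour.Shape
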