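/-
The centraliser shape 2^{1+12}.(3.M22).2 gives the Janko-four type conditions.
-/
import Cfsg.Agent.Lib.JankoFour.ShapeRep
import Cfsg.Agent.Lib.JankoFour.ShapeWit
import Cfsg.Agent.Lib.LargeExtra.Odd
import Cfsg.Prelude.Def_JankoFourType

set_option autoImplicit false

namespace CfsgLib.JankoFour.Shape

open Cfsg Subgroup
open scoped commutatorElement

universe u

/-- Two subgroups of order three of a group of order 3*2^13 are conjugate. -/
theorem three_conj {K : Type*} [Group K] [Finite K] (hK : Nat.card K = 3 * 2 ^ 13) {A B : Subgroup K}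
    (hA : Nat.card A = 3) (hB : Nat.card B = 3) : ∃ g : K, A.map (MulAut.conj g).toMonoidHom = B := by
  classical
  haveI : Fact (Nat.Prime 3) := ⟨Nat.prime_three⟩
  have hf : (Nat.card K).factorization 3 = 1 := by
    rw [hK, Nat.factorization_mul (by norm_num) (by norm_num), Finsupp.coe_add, Pi.add_apply,
      Nat.prime_three.factorization_self, Nat.Prime.factorization_pow Nat.prime_two]
    simp
  obtain ⟨g, hg⟩ := MulAction.exists_smul_eq K (Sylow.ofCard A (by rw [hA, hf]; norm_num))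
    (Sylow.ofCard B (by rw [hB, hf]; norm_num))
  exact ⟨g, congrArg (fun S : Sylow 3 K => (S : Subgroup K)) hg⟩

/-- Isomorphic images of an extraspecial 2-group of order 2^13. -/
theorem extraspecial_congr {K L : Type*} [Group K] [Group L] [Finite K] [Finite L] (e : K ≃* L)
    (hc : Nat.card K = 2 ^ 13) (hK : IsExtraspecial 2 K) : IsExtraspecial 2 L := by
  obtain ⟨w, hw⟩ := CfsgLib.ExtraTwo.ofExtraspecial hK
  have hL : CfsgLib.ExtraTwo.Ext2 L (e w) := by
    refine ⟨fun h => hw.ne (e.map_eq_one_iff.mp h), fun b => ?_, fun b => ?_⟩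
    · obtain ⟨a, rfl⟩ := e.surjective b
      rw [e.map_eq_one_iff, e.injective.eq_iff, ← hw.center_iff, mem_center_iff, mem_center_iff]
      refine ⟨fun h c => e.injective (by rw [map_mul, map_mul]; exact h (e c)), fun h d => ?_⟩
      obtain ⟨c, rfl⟩ := e.surjective d
      rw [← map_mul, ← map_mul, h c]
    · obtain ⟨a, rfl⟩ := e.surjective b
      rw [← map_mul, e.map_eq_one_iff, e.injective.eq_iff]
      exact hw.sq a
  obtain ⟨a, b, hne⟩ : ∃ a b : L, a * b ≠ b * a := by
    by_contra hall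
    push Not at hall
    have htop : center K = ⊤ := eq_top_iff.mpr fun a _ => mem_center_iff.mpr fun c =>
      e.injective (by rw [map_mul, map_mul]; exact hall _ _)
    have h := hw.card_center
    rw [htop, card_top, hc] at h
    norm_num at h
  exact CfsgLargeExtra.isExtraspecial_of_ext2 hL hne

variable {G : Type u} [Group G] [Finite G]

/-- The centraliser of an element. -/
abbrev Cen (t : G) : Subgroup G := centralizer ({t} : Set G)

/-- The centraliser shape gives Janko-four type. -/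
theorem type_of_shape (t : G) (ht : orderOf t = 2) (Q N M : Subgroup (centralizer ({t} : Set G))) [Q.Normal]
    [N.Normal] [M.Normal] (hQN : Q ≤ N) (hNM : N ≤ M) (hM : M.index = 2) (hQ : IsExtraspecial 2 Q)
    (hcard : Nat.card Q = 2 ^ 13) (hN : Nat.card N = 3 * Nat.card Q) (hcent : ⁅M, N⁆ ≤ Q) (hperf : M ≤ ⁅M, M⁆ ⊔ Q)
    (h2c : centralizer (Q : Set (centralizer ({t} : Set G))) ≤ Q)
    (hout : ∀ c : centralizer ({t} : Set G), (∀ m ∈ M, c * m * c⁻¹ * m⁻¹ ∈ N) → c ∈ M)
    (hM22 : Spor.IsoM22 (M ⧸ N.subgroupOf M)) :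
    (∃ P : Subgroup G, IsOfJankoFourTypeWith t P) ∧ ¬ IsMulCommutative G := by
  classical
  haveI : Fact (Nat.Prime 3) := ⟨Nat.prime_three⟩
  haveI : Fact (Nat.Prime 2) := ⟨Nat.prime_two⟩
  haveI := CfsgGolay.isSimple_sporM22
  obtain ⟨e⟩ := hM22
  set π : ↥M →* MTwoTwo := e.toMonoidHom.comp (QuotientGroup.mk' (N.subgroupOf M)) with hπdef
  have hπ : Function.Surjective π := e.surjective.comp (QuotientGroup.mk'_surjective _)
  have hπk : ∀ m : ↥M, π m = 1 ↔ (m : (Cen t)) ∈ N := fun m => by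
    show e (QuotientGroup.mk' _ m) = 1 ↔ _
    rw [EmbeddingLike.map_eq_one_iff]
    exact QuotientGroup.eq_one_iff m
  obtain ⟨z, hE⟩ := CfsgLib.ExtraTwo.ofExtraspecial hQ
  -- the two-core is Q
  have hNQ : Q.relIndex N = 3 := by
    have h := card_mul_index (Q.subgroupOf N)
    rw [Nat.card_congr (subgroupOfEquivOfLe hQN).toEquiv, hN] at h
    have h2 : (Q.subgroupOf N).index = Q.relIndex N := rfl
    rw [h2, mul_comm 3] at h
    exact Nat.eq_of_mul_eq_mul_left Nat.card_pos h
  have hcore : pCore 2 ↥(Cen t) = Q := by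
    refine le_antisymm ?_ (CfsgLib.le_pCore (IsPGroup.of_card hcard))
    set O := pCore 2 ↥(Cen t) with hO
    haveI hOn : O.Normal := (CfsgLib.sSup_prop_of_closed_sup (fun A : Subgroup (Cen t) => A.Normal ∧ IsPGroup 2 A)
      ⟨inferInstance, IsPGroup.of_bot⟩ (fun _ _ h₁ h₂ => CfsgLib.pCore_mem_sup 2 h₁ h₂)
      (S := {S : Subgroup (Cen t) | S.Normal ∧ IsPGroup 2 S}) (fun _ h => h)).1
    have hO2 : IsPGroup 2 O := CfsgLib.isPGroup_pCore 2
    have hOM : ∀ x ∈ O, x ∈ M → x ∈ N := by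
      haveI : ((O.subgroupOf M).map π).Normal := Normal.map inferInstance π hπ
      have hp2 : IsPGroup 2 ((O.subgroupOf M).map π) :=
        (hO2.comap_of_injective M.subtype M.subtype_injective).map π
      rcases (inferInstance : ((O.subgroupOf M).map π).Normal).eq_bot_or_eq_top with h | h
      · intro x hx hxM
        exact (hπk ⟨x, hxM⟩).mp (mem_bot.mp (h ▸ mem_map_of_mem π (show (⟨x, hxM⟩ : ↥M) ∈ O.subgroupOf M from hx)))
      · exfalso
        obtain ⟨k, hk⟩ := IsPGroup.iff_card.mp hp2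
        rw [h, card_top, show Nat.card MTwoTwo = 443520 from CfsgGolay.card_sporM22] at hk
        have h7 : 7 ∣ 2 ^ k := hk ▸ (by norm_num)
        have := (Nat.prime_dvd_prime_iff_eq (by norm_num) Nat.prime_two).mp ((by norm_num : Nat.Prime 7).dvd_of_dvd_pow h7)
        omega
    intro x hx
    have hxM : x ∈ M := hout x fun m hm => by
      refine hOM _ ?_ ?_
      · rw [show x * m * x⁻¹ * m⁻¹ = x * (m * x⁻¹ * m⁻¹) by group]
        exact mul_mem hx (hOn.conj_mem _ (inv_mem hx) m)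
      · exact mul_mem (Normal.conj_mem ‹M.Normal› m hm x) (inv_mem hm)
    have hxN := hOM x hx hxM
    have h3 : x ^ 3 ∈ Q := by
      have h : (⟨x, hxN⟩ : ↥N) ^ 3 ∈ Q.subgroupOf N := by
        rw [← hNQ]; exact Subgroup.pow_index_mem _ _
      exact h
    obtain ⟨k, hk⟩ := hO2 ⟨x, hx⟩
    have hk' : x ^ 2 ^ k = 1 := congrArg Subtype.val hk
    have hcop : Nat.Coprime 3 (2 ^ k) := Nat.Coprime.pow_right k (by norm_num)
    obtain ⟨j, hj⟩ := exists_pow_eq_self_of_coprime (x := x) (n := 3)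
      (Nat.Coprime.coprime_dvd_right (orderOf_dvd_of_pow_eq_one hk') hcop)
    rw [← hj]
    exact pow_mem h3 j
  -- t in Q
  set t' : (Cen t) := ⟨t, mem_centralizer_singleton_iff.mpr rfl⟩ with ht'
  have ht'c : ∀ g : (Cen t), g * t' = t' * g := fun g => Subtype.ext (mem_centralizer_singleton_iff.mp g.2)
  have ht'2 : orderOf t' = 2 := by rw [← Subgroup.orderOf_coe]; exact ht
  have ht'Q : t' ∈ Q := h2c (mem_centralizer_iff.mpr fun g _ => ht'c g)
  have ht'z : (⟨t', ht'Q⟩ : ↥Q) = z := by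
    refine ((hE.center_iff _).mp (mem_center_iff.mpr fun g => Subtype.ext (ht'c g))).resolve_left fun h => ?_
    have h' : t' = 1 := congrArg Subtype.val h
    rw [h', orderOf_one] at ht'2
    norm_num at ht'2
  -- an element of order three of N
  obtain ⟨⟨p, hpN⟩, hp⟩ := exists_prime_orderOf_dvd_card' 3 (show 3 ∣ Nat.card N by rw [hN]; exact dvd_mul_right _ _)
  rw [← Subgroup.orderOf_coe] at hp
  change orderOf p = 3 at hp
  have p3 : p ^ 3 = 1 := by rw [← hp, pow_orderOf_eq_one]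
  have p1 : p ≠ 1 := fun h => by rw [h, orderOf_one] at hp; norm_num at hp
  have hfpf := fpf_of_shape hQN hNM hQ hcard hN hcent hperf h2c π hπ hπk hpN p3 p1
  set R := zpowers p with hR
  have hRc : Nat.card R = 3 := by rw [hR, Nat.card_zpowers, hp]
  have hRN : R ≤ N := zpowers_le.mpr hpN
  have hRQ : ∀ x ∈ R, x ∈ Q → x = 1 := fun x hx hxQ => by
    have h := Subgroup.inf_eq_bot_of_coprime (H := Q) (K := R) (by rw [hcard, hRc]; norm_num)
    exact mem_bot.mp (h ▸ mem_inf.mpr ⟨hxQ, hx⟩)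
  have hsupN : Q ⊔ R = N := by
    refine eq_of_le_of_card_ge (sup_le hQN hRN) (Nat.le_of_dvd Nat.card_pos ?_)
    rw [hN]
    exact Nat.Coprime.mul_dvd_of_dvd_of_dvd (by rw [hcard]; norm_num) (hRc ▸ card_dvd_of_le le_sup_right)
      (card_dvd_of_le le_sup_left)
  have hdecN : ∀ n ∈ N, ∃ q ∈ Q, ∃ r ∈ R, n = q * r := fun n hn => by
    have hmem : n ∈ ((Q ⊔ R : Subgroup (Cen t)) : Set (Cen t)) := hsupN.symm ▸ hn
    rw [normal_mul] at hmem
    obtain ⟨q, hq, r, hr, e⟩ := hmem
    exact ⟨q, hq, r, hr, e.symm⟩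
  -- Frattini
  have hfrat : ∀ g : (Cen t), ∃ q ∈ Q, q * g ∈ normalizer (R : Set (Cen t)) := by
    intro g
    have hAN : R.map (MulAut.conj g).toMonoidHom ≤ N := by
      rintro _ ⟨r, hr, rfl⟩
      exact Normal.conj_mem ‹N.Normal› r (hRN hr) g
    obtain ⟨k, hk⟩ := three_conj (K := ↥N) (by rw [hN, hcard])
      (A := (R.map (MulAut.conj g).toMonoidHom).subgroupOf N) (B := R.subgroupOf N)
      (by rw [Nat.card_congr (subgroupOfEquivOfLe hAN).toEquiv,
        card_map_of_injective (MulAut.conj g).injective, hRc])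
      (by rw [Nat.card_congr (subgroupOfEquivOfLe hRN).toEquiv, hRc])
    have hnorm : (k : (Cen t)) * g ∈ normalizer (R : Set (Cen t)) := by
      have hmap : ∀ r ∈ R, (k : (Cen t)) * g * r * ((k : (Cen t)) * g)⁻¹ ∈ R := by
        intro r hr
        have h : MulAut.conj k (⟨MulAut.conj g r, hAN ⟨r, hr, rfl⟩⟩ : ↥N) ∈ R.subgroupOf N :=
          hk ▸ mem_map_of_mem _ (show (⟨MulAut.conj g r, hAN ⟨r, hr, rfl⟩⟩ : ↥N) ∈
            (R.map (MulAut.conj g).toMonoidHom).subgroupOf N from ⟨r, hr, rfl⟩)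
        have h2 : (k : (Cen t)) * (g * r * g⁻¹) * (k : (Cen t))⁻¹ ∈ R := h
        rwa [show (k : (Cen t)) * g * r * ((k : (Cen t)) * g)⁻¹ = (k : (Cen t)) * (g * r * g⁻¹) * (k : (Cen t))⁻¹ by group]
      rw [Subgroup.mem_normalizer_iff]
      refine fun x => ⟨hmap x, fun hx => ?_⟩
      let F : R → R := fun r => ⟨(k : (Cen t)) * g * r * ((k : (Cen t)) * g)⁻¹, hmap r r.2⟩
      have hF : Function.Injective F := fun a b h => Subtype.ext (by
        have := congrArg Subtype.val h
        simpa [F] using this)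
      obtain ⟨r, hr⟩ := Finite.injective_iff_surjective.mp hF ⟨_, hx⟩
      have := congrArg Subtype.val hr
      simp only [F, mul_left_inj, mul_right_inj] at this
      exact this ▸ r.2
    obtain ⟨q, hq, r, hr, hkqr⟩ := hdecN k k.2
    refine ⟨r⁻¹ * q * r, ?_, ?_⟩
    · simpa using Normal.conj_mem ‹Q.Normal› q hq r⁻¹
    · rw [show r⁻¹ * q * r * g = r⁻¹ * ((k : (Cen t)) * g) by rw [hkqr]; group]
      exact mul_mem (inv_mem (le_normalizer hr)) hnorm
  -- an element inverting p
  obtain ⟨u, v, σ, u3, v3, huv, u1, v1, hvu, hvu2, hσu, hσv⟩ := exists_det_neg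
  obtain ⟨a, ha⟩ := hπ u
  obtain ⟨b, hb⟩ := hπ v
  have hcardM : Nat.card M = 443520 * (3 * 2 ^ 13) := by
    have h := card_eq_card_quotient_mul_card_subgroup (N.subgroupOf M)
    rw [Nat.card_congr e.toEquiv, show Nat.card MTwoTwo = 443520 from CfsgGolay.card_sporM22,
      Nat.card_congr (subgroupOfEquivOfLe hNM).toEquiv, hN, hcard] at h
    exact h
  have hnotQ : ⁅(a : (Cen t)), (b : (Cen t))⁆ ∉ Q := by
    intro hab
    set QM := Q.subgroupOf M with hQM
    let πb : ↥M ⧸ QM →* MTwoTwo := QuotientGroup.lift QM π fun m hm => (hπk m).mpr (hQN hm)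
    have hk : ∀ m : ↥M, πb (QuotientGroup.mk m) = π m := fun m => rfl
    have hkerc : Nat.card πb.ker = 3 := by
      have h := card_mul_index πb.ker
      rw [Subgroup.index_ker, MonoidHom.range_eq_top.mpr (fun x => by
        obtain ⟨m, rfl⟩ := hπ x; exact ⟨QuotientGroup.mk m, hk m⟩), card_top,
        show Nat.card MTwoTwo = 443520 from CfsgGolay.card_sporM22] at h
      have h2 := card_eq_card_quotient_mul_card_subgroup QM
      rw [hcardM, Nat.card_congr (subgroupOfEquivOfLe (hQN.trans hNM)).toEquiv, hcard, ← h] at h2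
      omega
    have hcent' : πb.ker ≤ center (↥M ⧸ QM) := by
      intro x hx
      obtain ⟨n, rfl⟩ := QuotientGroup.mk_surjective x
      refine mem_center_iff.mpr fun y => ?_
      obtain ⟨m, rfl⟩ := QuotientGroup.mk_surjective y
      refine commutatorElement_eq_one_iff_mul_comm.mp ?_
      show ⁅QuotientGroup.mk' QM m, QuotientGroup.mk' QM n⁆ = 1
      rw [← map_commutatorElement (QuotientGroup.mk' QM)]
      exact (QuotientGroup.eq_one_iff _).mpr (hcent (commutator_mem_commutator m.2 ((hπk n).mp hx)))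
    have hperf' : commutator (↥M ⧸ QM) = ⊤ := by
      refine eq_top_iff.mpr fun x _ => ?_
      obtain ⟨m, rfl⟩ := QuotientGroup.mk_surjective x
      have hm : (m : (Cen t)) ∈ ((⁅M, M⁆ ⊔ Q : Subgroup (Cen t)) : Set (Cen t)) := hperf m.2
      rw [mul_normal] at hm
      obtain ⟨c, hc, q, hq, e'⟩ := hm
      have hcM : c ∈ M := (commutator_le.mpr fun x hx y hy => by
        rw [commutatorElement_def]; exact mul_mem (mul_mem (mul_mem hx hy) (inv_mem hx)) (inv_mem hy)) hc
      have hc' : (⟨c, hcM⟩ : ↥M) ∈ commutator ↥M := by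
        rw [← Subgroup.map_subtype_commutator] at hc
        obtain ⟨c', hc', e''⟩ := hc
        exact (show c' = ⟨c, hcM⟩ from Subtype.ext e'') ▸ hc'
      have heq : (QuotientGroup.mk m : ↥M ⧸ QM) = QuotientGroup.mk (⟨c, hcM⟩ : ↥M) := by
        refine (QuotientGroup.eq.mpr ?_).symm
        show c⁻¹ * (m : (Cen t)) ∈ Q
        rw [← e', inv_mul_cancel_left]; exact hq
      rw [heq]
      have h2 := mem_map_of_mem (QuotientGroup.mk' QM) hc'
      rw [_root_.commutator_def, map_commutator] at h2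
      exact commutator_mono le_top le_top h2
    refine lifts_not_comm hperf' πb (fun x => by obtain ⟨m, rfl⟩ := hπ x; exact ⟨_, hk m⟩) hcent' hkerc u3 v3 huv
      u1 v1 hvu hvu2 (a := QuotientGroup.mk a) (b := QuotientGroup.mk b) (by rw [hk, ha]) (by rw [hk, hb]) ?_
    refine commutatorElement_eq_one_iff_mul_comm.mp ?_
    show ⁅QuotientGroup.mk' QM a, QuotientGroup.mk' QM b⁆ = 1
    rw [← map_commutatorElement (QuotientGroup.mk' QM)]
    exact (QuotientGroup.eq_one_iff _).mpr hab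
  -- the action on M / N
  let act : (Cen t) →* MulAut (↥M ⧸ N.subgroupOf M) :=
    { toFun := fun g => QuotientGroup.congr (N.subgroupOf M) (N.subgroupOf M) (MulAut.conjNormal g) (by
        ext m
        constructor
        · rintro ⟨x, hx, rfl⟩
          exact Normal.conj_mem ‹N.Normal› _ hx g
        · intro hm
          refine ⟨(MulAut.conjNormal g).symm m, ?_, (MulAut.conjNormal g).apply_symm_apply m⟩
          show (((MulAut.conjNormal g).symm m : ↥M) : (Cen t)) ∈ N
          rw [MulAut.conjNormal_symm_apply]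
          simpa using Normal.conj_mem ‹N.Normal› _ hm g⁻¹)
      map_one' := MulEquiv.ext fun x => by
        obtain ⟨m, rfl⟩ := QuotientGroup.mk_surjective x
        show (QuotientGroup.mk (MulAut.conjNormal (1 : (Cen t)) m) : ↥M ⧸ N.subgroupOf M) = QuotientGroup.mk m
        rw [map_one]; rfl
      map_mul' := fun g g' => MulEquiv.ext fun x => by
        obtain ⟨m, rfl⟩ := QuotientGroup.mk_surjective x
        show (QuotientGroup.mk (MulAut.conjNormal (g * g') m) : ↥M ⧸ N.subgroupOf M) =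
          QuotientGroup.mk (MulAut.conjNormal g (MulAut.conjNormal g' m))
        rw [map_mul]; rfl }
  let Ψ : (Cen t) →* MulAut ↥Spor.M22 := (MulAut.congr e).toMonoidHom.comp act
  have hΨ : ∀ (g : (Cen t)) (m : ↥M), Ψ g (π m) = π (MulAut.conjNormal g m) := by
    intro g m
    show e (act g (e.symm (e (QuotientGroup.mk' _ m)))) = e (QuotientGroup.mk' _ (MulAut.conjNormal g m))
    rw [e.symm_apply_apply]; rfl
  have hΨker : Ψ.ker = N := by
    ext g
    rw [MonoidHom.mem_ker]
    constructor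
    · intro hg
      have hgc : ∀ m : ↥M, π (MulAut.conjNormal g m) = π m := fun m => by rw [← hΨ, hg, MulAut.one_apply]
      have hgM : g ∈ M := hout g fun m hm => by
        have h := hgc ⟨m, hm⟩
        have h2 : MulAut.conjNormal g (⟨m, hm⟩ : ↥M) * (⟨m, hm⟩ : ↥M)⁻¹ ∈ π.ker := by
          rw [MonoidHom.mem_ker, map_mul, map_inv, h, mul_inv_cancel]
        have h3 := (hπk _).mp h2
        simpa using h3
      have hgz : π ⟨g, hgM⟩ ∈ center MTwoTwo := mem_center_iff.mpr fun x => by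
        obtain ⟨m, rfl⟩ := hπ x
        have h := hgc m
        have h2 : MulAut.conjNormal g m = (⟨g, hgM⟩ : ↥M) * m * (⟨g, hgM⟩ : ↥M)⁻¹ := Subtype.ext (by simp)
        rw [h2, map_mul, map_mul, map_inv, mul_inv_eq_iff_eq_mul] at h
        exact h.symm
      have hbot : center MTwoTwo = ⊥ :=
        ((inferInstance : (center MTwoTwo).Normal).eq_bot_or_eq_top).resolve_right fun h => by
          obtain ⟨x, hx⟩ := hπ u
          exact hnotQ (by
            exfalso
            have h1 := mem_center_iff.mp (h ▸ mem_top v : v ∈ center MTwoTwo)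
            have hall : ∀ x y : MTwoTwo, x * y = y * x := fun x y => mem_center_iff.mp (h ▸ mem_top y : y ∈ center MTwoTwo) x
            have hn : (zpowers u).Normal := ⟨fun x hx g => by rwa [hall g x, mul_inv_cancel_right]⟩
            rcases hn.eq_bot_or_eq_top with h2 | h2
            · exact u1 (mem_bot.mp (h2 ▸ mem_zpowers u))
            · have h3 : Nat.card MTwoTwo = 3 := by
                rw [← card_top, ← h2, Nat.card_zpowers, orderOf_eq_prime u3 u1]
              rw [show Nat.card MTwoTwo = 443520 from CfsgGolay.card_sporM22] at h3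
              norm_num at h3)
      rw [hbot, mem_bot] at hgz
      exact (hπk _).mp hgz
    · intro hg
      refine MulEquiv.ext fun x => ?_
      obtain ⟨m, rfl⟩ := hπ x
      rw [hΨ, MulAut.one_apply]
      have h : MulAut.conjNormal g m * m⁻¹ ∈ π.ker := (hπk _).mpr (by
        show ((MulAut.conjNormal g m : ↥M) : (Cen t)) * ((m : (Cen t)))⁻¹ ∈ N
        rw [MulAut.conjNormal_apply, show g * (m : (Cen t)) * g⁻¹ * (m : (Cen t))⁻¹ = g * ((m : (Cen t)) * g⁻¹ * (m : (Cen t))⁻¹) by group]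
        exact mul_mem hg (Normal.conj_mem ‹N.Normal› _ (inv_mem hg) _))
      rw [MonoidHom.mem_ker, map_mul, map_inv, mul_inv_eq_one] at h
      exact h
  have hΨsurj : Function.Surjective Ψ := by
    have hA : Nat.card (MulAut ↥Spor.M22) = 887040 := by
      have hidx : (MulAut.conj (G := ↥Spor.M22)).range.index = 2 := CfsgGolay.OutSmall.out_M22
      have := Subgroup.card_mul_index (MulAut.conj (G := ↥Spor.M22)).range
      rw [hidx, ← Nat.card_congr (MonoidHom.ofInjective conj_m22_injective).toEquiv,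
        CfsgGolay.card_sporM22] at this
      exact this.symm
    haveI : Finite (MulAut ↥Spor.M22) := Nat.finite_of_card_ne_zero (by rw [hA]; norm_num)
    have h1 := card_mul_index Ψ.ker
    have h2 := card_mul_index M
    rw [Subgroup.index_ker, hΨker, hN, hcard] at h1
    rw [hM, hcardM, ← h1] at h2
    exact MonoidHom.range_eq_top.mp (eq_top_of_card_eq _ (by rw [hA]; omega))
  obtain ⟨g, hg⟩ := hΨsurj σ
  have hga : π (MulAut.conjNormal g a) = v := by rw [← hΨ, hg, ha, hσu]
  have hgb : π (MulAut.conjNormal g b) = u * v := by rw [← hΨ, hg, hb, hσv]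
  -- modulo Q
  have hQsub : ∀ x : (Cen t), x ∈ Q ↔ QuotientGroup.mk' Q x = 1 := fun x => (QuotientGroup.eq_one_iff x).symm
  set mk := QuotientGroup.mk' Q with hmk
  have hcentral : ∀ n ∈ N, ∀ m ∈ M, Commute (mk n) (mk m) := fun n hn m hm => by
    have h := (hQsub _).mp (hcent (commutator_mem_commutator hm hn))
    rw [map_commutatorElement, commutatorElement_eq_one_iff_mul_comm] at h
    exact h.symm
  obtain ⟨n₁, hn₁, e₁⟩ : ∃ n ∈ N, g * (a : (Cen t)) * g⁻¹ = (b : (Cen t)) * n := by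
    refine ⟨(b : (Cen t))⁻¹ * (g * (a : (Cen t)) * g⁻¹), ?_, by group⟩
    have h : b⁻¹ * MulAut.conjNormal g a ∈ π.ker := by
      rw [MonoidHom.mem_ker, map_mul, map_inv, hga, hb, inv_mul_cancel]
    simpa using (hπk _).mp h
  obtain ⟨n₂, hn₂, e₂⟩ : ∃ n ∈ N, g * (b : (Cen t)) * g⁻¹ = (a : (Cen t)) * (b : (Cen t)) * n := by
    refine ⟨((a : (Cen t)) * b)⁻¹ * (g * (b : (Cen t)) * g⁻¹), ?_, by group⟩
    have h : (a * b)⁻¹ * MulAut.conjNormal g b ∈ π.ker := by
      rw [MonoidHom.mem_ker, map_mul, map_inv, map_mul, hgb, ha, hb, inv_mul_cancel]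
    simpa [mul_assoc] using (hπk _).mp h
  have habN : ⁅(a : (Cen t)), (b : (Cen t))⁆ ∈ N := by
    have h : ⁅a, b⁆ ∈ π.ker := by
      rw [MonoidHom.mem_ker, map_commutatorElement, ha, hb, commutatorElement_eq_one_iff_mul_comm, huv]
    exact (hπk _).mp h
  have hinvQ : mk (g * ⁅(a : (Cen t)), (b : (Cen t))⁆ * g⁻¹) = (mk ⁅(a : (Cen t)), (b : (Cen t))⁆)⁻¹ := by
    have h0 : g * ⁅(a : (Cen t)), (b : (Cen t))⁆ * g⁻¹ = ⁅(b : (Cen t)) * n₁, (a : (Cen t)) * (b : (Cen t)) * n₂⁆ := by
      rw [← e₁, ← e₂, commutatorElement_def, commutatorElement_def]; group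
    rw [h0, map_commutatorElement, map_commutatorElement, map_mul, map_mul, map_mul]
    have c₁ := fun m hm => (hcentral n₁ hn₁ m hm).eq
    have c₂ := fun m hm => (hcentral n₂ hn₂ m hm).eq
    have hcab : Commute (mk ⁅(a : (Cen t)), (b : (Cen t))⁆) (mk (a : (Cen t))) := hcentral _ habN _ a.2
    rw [map_commutatorElement] at hcab
    set A := mk (a : (Cen t)) with hA
    set B := mk (b : (Cen t)) with hB
    set X := mk n₁
    set Y := mk n₂
    have xA : X * A = A * X := c₁ _ a.2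
    have xB : X * B = B * X := c₁ _ b.2
    have xY : X * Y = Y * X := c₁ _ (hNM hn₂)
    have yA : Y * A = A * Y := c₂ _ a.2
    have yB : Y * B = B * Y := c₂ _ b.2
    have step : ⁅B * X, A * B * Y⁆ = ⁅B, A * B⁆ := by
      have hx : Commute X (A * B * Y) := ((Commute.mul_right xA xB).mul_right xY)
      have hy : Commute Y B := yB
      simp only [commutatorElement_def]
      calc B * X * (A * B * Y) * (B * X)⁻¹ * (A * B * Y)⁻¹
          = B * (X * (A * B * Y) * X⁻¹) * B⁻¹ * (A * B * Y)⁻¹ := by group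
        _ = B * (A * B) * (Y * B⁻¹ * Y⁻¹) * (A * B)⁻¹ := by rw [hx.eq]; group
        _ = B * (A * B) * B⁻¹ * (A * B)⁻¹ := by rw [hy.inv_right.eq]; group
    rw [step]
    have h3 : ⁅B, A * B⁆ = ⁅B, A⁆ := by simp only [commutatorElement_def]; group
    rw [h3, commutatorElement_inv]
  have hpinv : mk (g * p * g⁻¹) = (mk p)⁻¹ := by
    obtain ⟨q, hq, r, hr, hqr⟩ := hdecN _ habN
    obtain ⟨i, rfl⟩ := mem_powers_iff_mem_zpowers.mpr hr
    simp only at hqr
    have hmk : mk ⁅(a : (Cen t)), (b : (Cen t))⁆ = mk p ^ i := by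
      rw [hqr, map_mul, (hQsub q).mp hq, one_mul, map_pow]
    have hi3 : i % 3 ≠ 0 := fun h => hnotQ (by
      rw [hqr, pow_eq_pow_mod i p3, h, pow_zero, mul_one]; exact hq)
    have hmp3 : mk p ^ 3 = 1 := by rw [← map_pow, p3, map_one]
    have h1 : mk (g * p * g⁻¹) ^ i = ((mk p)⁻¹) ^ i := by
      have hq' : mk (g * q * g⁻¹) = 1 := (hQsub _).mp (Normal.conj_mem ‹Q.Normal› q hq g)
      have h2 : g * ⁅(a : (Cen t)), (b : (Cen t))⁆ * g⁻¹ = g * q * g⁻¹ * (g * p * g⁻¹) ^ i := by
        rw [conj_pow, hqr]; group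
      rw [h2, map_mul, hq', one_mul, map_pow, hmk, ← inv_pow] at hinvQ
      exact hinvQ
    have hpow : ∀ x : (Cen t) ⧸ Q, x ^ 3 = 1 → (x ^ i) ^ i = x := fun x hx => by
      have : (i % 3) = 1 ∨ i % 3 = 2 := by omega
      rw [← pow_mul, pow_eq_pow_mod (i * i) hx]
      have h9 : i * i % 3 = 1 := by
        rcases this with h | h <;> rw [Nat.mul_mod, h]
      rw [h9, pow_one]
    have h3a : mk (g * p * g⁻¹) ^ 3 = 1 := by rw [← map_pow, conj_pow, p3, mul_one, mul_inv_cancel, map_one]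
    have h3b : (mk p)⁻¹ ^ 3 = 1 := by rw [inv_pow, hmp3, inv_one]
    rw [← hpow _ h3a, h1, hpow _ h3b]
  obtain ⟨q0, hq0, hh⟩ := hfrat g
  have hinv : q0 * g * p * (q0 * g)⁻¹ = p⁻¹ := by
    have h1 : mk (q0 * g * p * (q0 * g)⁻¹ * p) = 1 := by
      rw [show q0 * g * p * (q0 * g)⁻¹ * p = q0 * (g * p * g⁻¹) * q0⁻¹ * p by group, map_mul, map_mul, map_mul,
        hpinv, map_inv, (hQsub q0).mp hq0]
      group
    have h2 : q0 * g * p * (q0 * g)⁻¹ * p ∈ R :=
      mul_mem ((Subgroup.mem_normalizer_iff.mp hh p).mp (mem_zpowers p)) (mem_zpowers p)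
    exact eq_inv_of_mul_eq_one_left (hRQ _ h2 ((hQsub _).mpr h1))
  -- M = Q C_M(P)
  set L := M ⊓ centralizer (R : Set (Cen t)) with hL
  have hML : M ≤ L ⊔ Q := by
    intro m hm
    obtain ⟨q, hq, hn⟩ := hfrat m
    have hqm : q * m ∈ L := by
      refine ⟨mul_mem ((hQN.trans hNM) hq) hm, mem_centralizer_iff.mpr fun r hr => ?_⟩
      have h1 : q * m * r * (q * m)⁻¹ * r⁻¹ ∈ Q := hcent (by
        have := commutator_mem_commutator (H₁ := M) (H₂ := N) (mul_mem ((hQN.trans hNM) hq) hm) (hRN hr)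
        rwa [commutatorElement_def] at this)
      have h2 : q * m * r * (q * m)⁻¹ * r⁻¹ ∈ R :=
        mul_mem ((Subgroup.mem_normalizer_iff.mp hn r).mp hr) (inv_mem hr)
      have h3 := hRQ _ h2 h1
      rw [mul_inv_eq_one, mul_inv_eq_iff_eq_mul] at h3
      exact h3.symm
    rw [show m = q⁻¹ * (q * m) by group]
    exact mul_mem (mem_sup_right (inv_mem hq)) (mem_sup_left hqm)
  have hpL : p ∈ L := by
    refine ⟨hNM hpN, mem_centralizer_iff.mpr fun r hr => ?_⟩
    obtain ⟨i, rfl⟩ := mem_powers_iff_mem_zpowers.mpr hr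
    exact (Commute.refl p).pow_left i
  have hLQ : ∀ x ∈ L, x ∈ Q → x = 1 ∨ x = t' := fun x hx hxQ => by
    have hc := hfpf ⟨x, hxQ⟩ (mem_centralizer_iff.mp hx.2 p (mem_zpowers p))
    rcases (hE.center_iff _).mp hc with h | h
    · exact Or.inl (congrArg Subtype.val h)
    · exact Or.inr (congrArg Subtype.val (h.trans ht'z.symm))
  have hpLL : p ∈ ⁅L, L⁆ := by
    have hmap : M.map mk = L.map mk := le_antisymm (by
      rintro _ ⟨m, hm, rfl⟩
      have hm' : m ∈ ((L ⊔ Q : Subgroup (Cen t)) : Set (Cen t)) := hML hm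
      rw [mul_normal] at hm'
      obtain ⟨l, hl, q, hq, rfl⟩ := hm'
      exact ⟨l, hl, by rw [map_mul, (hQsub q).mp hq, mul_one]⟩) (map_mono inf_le_left)
    have h : mk p ∈ (⁅L, L⁆).map mk := by
      rw [map_commutator, ← hmap, ← map_commutator]
      have hm : p ∈ ((⁅M, M⁆ ⊔ Q : Subgroup (Cen t)) : Set (Cen t)) := hperf (hNM hpN)
      rw [mul_normal] at hm
      obtain ⟨c, hc, q, hq, hcq⟩ := hm
      refine ⟨c, hc, ?_⟩
      rw [← hcq, map_mul, (hQsub q).mp hq, mul_one]
    obtain ⟨l, hl, hlp⟩ := h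
    have hlL : l ∈ L := (commutator_le.mpr fun x hx y hy => by
      rw [commutatorElement_def]; exact mul_mem (mul_mem (mul_mem hx hy) (inv_mem hx)) (inv_mem hy)) hl
    have hq : l⁻¹ * p ∈ Q := (hQsub _).mpr (by rw [map_mul, map_inv, hlp, inv_mul_cancel])
    rcases hLQ _ (mul_mem (inv_mem hlL) hpL) hq with h | h
    · rw [inv_mul_eq_one] at h
      exact h ▸ hl
    · have hpl : p = l * t' := by rw [← h]; group
      have h4 : p ^ 4 = l ^ 4 := by
        rw [hpl, (show Commute l t' from ht'c l).mul_pow, show t' ^ 4 = (t' ^ 2) ^ 2 by rw [← pow_mul],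
          show t' ^ 2 = 1 by rw [← ht'2, pow_orderOf_eq_one], one_pow, mul_one]
      have h5 : p = p ^ 4 := by rw [pow_succ, p3, one_mul]
      rw [h5, h4]
      exact pow_mem hl 4
  -- transport
  set P := R.map (Cen t).subtype with hP
  have hmemP : ∀ {x : (Cen t)}, (x : G) ∈ P ↔ x ∈ R := fun {x} =>
    ⟨fun ⟨y, hy, e⟩ => Subtype.ext e ▸ hy, fun h => ⟨x, h, rfl⟩⟩
  have hEeq : twoCoreOfCentralizer t = Q.map (Cen t).subtype := by
    show (pCore 2 ↥(Cen t)).map (Cen t).subtype = _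
    rw [hcore]
  refine ⟨⟨P, ht, ?_, ?_, ?_, ⟨N.map (Cen t).subtype, ?_, map_subtype_le _, ?_, ?_, ?_, map_mono hRN⟩, ?_, ?_, ?_, ?_⟩, ?_⟩
  · rw [hEeq]
    exact extraspecial_congr (equivMapOfInjective Q (Cen t).subtype (Cen t).subtype_injective) hcard hQ
  · rw [hEeq, card_map_of_injective (Cen t).subtype_injective, hcard]
  · rw [hEeq]
    rintro x ⟨hx, hx'⟩
    exact ⟨⟨x, hx⟩, h2c (mem_centralizer_iff.mpr fun q hq =>
      Subtype.ext (mem_centralizer_iff.mp hx' q ⟨q, hq, rfl⟩)), rfl⟩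
  · rw [hEeq]; exact map_mono hQN
  · intro x hx
    rw [Subgroup.mem_normalizer_iff]
    intro n
    constructor
    · rintro ⟨m, hm, rfl⟩
      exact ⟨⟨x, hx⟩ * m * ⟨x, hx⟩⁻¹, Normal.conj_mem ‹N.Normal› m hm _, rfl⟩
    · rintro ⟨m, hm, e'⟩
      refine ⟨⟨x, hx⟩⁻¹ * m * ⟨x, hx⟩, by simpa using Normal.conj_mem ‹N.Normal› m hm ⟨x, hx⟩⁻¹, ?_⟩
      simp only [coe_subtype, Subgroup.coe_mul, Subgroup.coe_inv] at e' ⊢
      rw [e']; group
  · rw [card_map_of_injective (Cen t).subtype_injective, hEeq, card_map_of_injective (Cen t).subtype_injective, hN]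
  · have hsub : (N.map (Cen t).subtype).subgroupOf (Cen t) = N := comap_map_eq_self_of_injective (Cen t).subtype_injective N
    haveI : ((N.map (Cen t).subtype).subgroupOf (Cen t)).Normal := by rw [hsub]; infer_instance
    refine ⟨inferInstance, ⟨(QuotientGroup.quotientMulEquivOfEq (hsub.trans hΨker.symm)).trans
      (QuotientGroup.quotientKerEquivOfSurjective Ψ hΨsurj)⟩⟩
  · rw [hP, card_map_of_injective (Cen t).subtype_injective, hRc]
  · rw [hEeq]
    refine le_antisymm ?_ (zpowers_le.mpr ⟨⟨t', ht'Q, rfl⟩, mem_centralizer_iff.mpr ?_⟩)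
    · rintro _ ⟨⟨q, hq, rfl⟩, hc⟩
      have hcc := hfpf ⟨q, hq⟩ (Subtype.ext (mem_centralizer_iff.mp hc p (hmemP.mpr (mem_zpowers p))))
      rcases (hE.center_iff _).mp hcc with h | h
      · have h' : q = 1 := congrArg Subtype.val h
        rw [h']; exact one_mem _
      · have h' : q = t' := congrArg Subtype.val (h.trans ht'z.symm)
        rw [h']; exact mem_zpowers t
    · rintro _ ⟨r, -, rfl⟩
      exact mem_centralizer_singleton_iff.mp r.2
  · intro heq
    set h := q0 * g
    have hin : (h : G) ∈ centralizer ({t} : Set G) ⊓ normalizer (P : Set G) := by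
      refine Subgroup.mem_inf.mpr ⟨h.2, ?_⟩
      rw [Subgroup.mem_normalizer_iff]
      intro x
      constructor
      · rintro ⟨r, hr, rfl⟩
        exact ⟨h * r * h⁻¹, (Subgroup.mem_normalizer_iff.mp hh r).mp hr, rfl⟩
      · rintro ⟨r, hr, e'⟩
        refine ⟨h⁻¹ * r * h, ?_, ?_⟩
        · exact (Subgroup.mem_normalizer_iff.mp hh _).mpr (by rwa [show h * (h⁻¹ * r * h) * h⁻¹ = r by group])
        · simp only [coe_subtype, Subgroup.coe_mul, Subgroup.coe_inv] at e' ⊢
          rw [e']; group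
    rw [heq] at hin
    have hc : h * p * h⁻¹ = p := mul_inv_eq_iff_eq_mul.mpr (Subtype.ext
      (mem_centralizer_iff.mp hin.2 p (hmemP.mpr (mem_zpowers p))).symm)
    rw [hinv] at hc
    have h2 : p ^ 2 = 1 := by rw [pow_two]; exact inv_eq_iff_mul_eq_one.mp hc
    exact p1 (by rw [← p3, pow_succ, h2, one_mul])
  · intro x hx
    obtain ⟨r, hr, rfl⟩ := hx
    obtain ⟨i, rfl⟩ := mem_powers_iff_mem_zpowers.mpr hr
    have h : (Cen t).subtype p ∈ (⁅L, L⁆).map (Cen t).subtype := mem_map_of_mem _ hpLL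
    rw [map_commutator] at h
    have hle : L.map (Cen t).subtype ≤ centralizer ({t} : Set G) ⊓ centralizer (P : Set G) := by
      rintro _ ⟨l, hl, rfl⟩
      refine ⟨l.2, mem_centralizer_iff.mpr ?_⟩
      rintro _ ⟨r, hr, rfl⟩
      exact congrArg Subtype.val (mem_centralizer_iff.mp hl.2 r hr)
    rw [map_pow]
    exact pow_mem (commutator_mono hle hle h) i
  · intro hcomm
    have hQtriv : center ↥Q = ⊤ := eq_top_iff.mpr fun q _ => mem_center_iff.mpr fun r =>
      Subtype.ext (Subtype.ext (hcomm.is_comm.comm _ _))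
    have h := hE.card_center
    rw [hQtriv, card_top, hcard] at h
    norm_num at h

end CfsgLib.JankoFour.Shape
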