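/-
A certified search for large elementary subgroups with large fixed spaces.
-/
import Cfsg.Agent.Lib.JankoFour.TenSyn

set_option autoImplicit false

namespace CfsgGolay.Ten

open Cfsg CfsgGolay

attribute [local irreducible] codeL octadL dodecadL slpCodes

/-- The scalar product of two masks. -/
def dotB : ℕ → ℕ → ℕ → Bool
  | 0, _, _ => false
  | k + 1, r, v => Bool.xor (r.testBit 0 && v.testBit 0) (dotB k (r / 2) (v / 2))

/-- One row of a list of columns. -/
def bitRow : List ℕ → ℕ → ℕ
  | [], _ => 0
  | c :: cs, j => (if c.testBit j then 1 else 0) + 2 * bitRow cs j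

/-- The unit columns. -/
def unitCols : List ℕ := [1, 2, 4, 8, 16, 32, 64, 128, 256, 512, 1024]

/-- The columns of a permutation minus the identity. -/
def diffCols (c : ℕ) : List ℕ := List.zipWith Nat.xor (actCols c) unitCols

theorem testBit_xorCols : ∀ (cols : List ℕ) (v j : ℕ),
    (xorCols cols v).testBit j = dotB cols.length (bitRow cols j) v
  | [], v, j => by simp [xorCols, dotB]
  | c :: cs, v, j => by
    simp only [xorCols, List.length_cons, dotB, bitRow, Nat.testBit_xor]
    rw [testBit_xorCols cs (v / 2) j]
    cases hc : c.testBit j <;> rcases Nat.mod_two_eq_zero_or_one v with h | h <;>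
      simp [h, hc, Nat.testBit_zero] <;> (try congr 1) <;> omega

theorem dotB_zero : ∀ (k r : ℕ), dotB k r 0 = false
  | 0, _ => rfl
  | k + 1, r => by simp [dotB, dotB_zero k]

theorem dotB_zero_left : ∀ (k v : ℕ), dotB k 0 v = false
  | 0, _ => rfl
  | k + 1, v => by simp [dotB, dotB_zero_left k]

theorem xor_div_two (a b : ℕ) : (a ^^^ b) / 2 = a / 2 ^^^ b / 2 := by
  simpa [Nat.shiftRight_eq_div_pow] using Nat.shiftRight_xor_distrib (a := a) (b := b) (i := 1)

theorem dotB_xor : ∀ (k r a b : ℕ), dotB k r (a ^^^ b) = Bool.xor (dotB k r a) (dotB k r b)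
  | 0, _, _, _ => rfl
  | k + 1, r, a, b => by
    simp only [dotB, xor_div_two, dotB_xor k, Nat.testBit_xor]
    cases r.testBit 0 <;> cases a.testBit 0 <;> cases b.testBit 0 <;> simp

theorem dotB_comm : ∀ (k r v : ℕ), dotB k r v = dotB k v r
  | 0, _, _ => rfl
  | k + 1, r, v => by simp [dotB, dotB_comm k (r / 2), Bool.and_comm]

theorem dotB_xor_left (k r s a : ℕ) : dotB k (r ^^^ s) a = Bool.xor (dotB k r a) (dotB k s a) := by
  rw [dotB_comm, dotB_xor, dotB_comm k a r, dotB_comm k a s]

theorem dotB_none : ∀ (k r v : ℕ), (∀ i < k, r.testBit i = true → v.testBit i = false) → dotB k r v = false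
  | 0, _, _, _ => rfl
  | k + 1, r, v, h => by
    have h0 := h 0 (Nat.succ_pos k)
    simp only [dotB]
    rw [dotB_none k (r / 2) (v / 2) fun i hi hr => by
      have := h (i + 1) (by omega)
      simp only [Nat.testBit_succ] at this
      exact this hr]
    cases hr : r.testBit 0 <;> cases hv : v.testBit 0 <;> simp [hr, hv] at h0 ⊢

theorem dotB_one : ∀ (k r v p : ℕ), p < k → r.testBit p = true → v.testBit p = true →
    (∀ i < k, r.testBit i = true → v.testBit i = true → i = p) → dotB k r v = true
  | 0, _, _, _, h, _, _, _ => absurd h (Nat.not_lt_zero _)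
  | k + 1, r, v, 0, _, hr, hv, h => by
    simp only [dotB]
    rw [dotB_none k (r / 2) (v / 2) fun i hi hr' => by
      by_contra hv'
      simp only [Bool.not_eq_false] at hv'
      have := h (i + 1) (by omega) (by rw [Nat.testBit_succ]; exact hr') (by rw [Nat.testBit_succ]; exact hv')
      omega]
    simp [hr, hv]
  | k + 1, r, v, p + 1, hp, hr, hv, h => by
    rw [Nat.testBit_succ] at hr hv
    simp only [dotB]
    rw [dotB_one k (r / 2) (v / 2) p (by omega) hr hv fun i hi hr' hv' => by
      have := h (i + 1) (by omega) (by rw [Nat.testBit_succ]; exact hr') (by rw [Nat.testBit_succ]; exact hv')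
      omega]
    have h00 : (r.testBit 0 && v.testBit 0) = false := by
      by_contra hc
      simp only [Bool.not_eq_false, Bool.and_eq_true] at hc
      have := h 0 (Nat.succ_pos k) hc.1 hc.2
      omega
    rw [h00]; rfl

theorem unit_checked : ((List.range 2048).all fun v => Nat.beq (xorCols unitCols v) v) = true := by decide +kernel

theorem xorCols_zip : ∀ (as bs : List ℕ) (v : ℕ), as.length = bs.length →
    xorCols (List.zipWith Nat.xor as bs) v = xorCols as v ^^^ xorCols bs v
  | [], [], _, _ => by simp [xorCols]
  | [], _ :: _, _, h => by simp at h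
  | _ :: _, [], _, h => by simp at h
  | a :: as, b :: bs, v, h => by
    simp only [List.zipWith_cons_cons, xorCols, xorCols_zip as bs (v / 2) (by simpa using h)]
    rcases Nat.mod_two_eq_zero_or_one v with h' | h' <;>
      simp [h', Nat.xor_assoc, Nat.xor_left_comm, Nat.xor_comm]

theorem diffCols_spec (c : ℕ) {v : ℕ} (hv : v < 2048) : xorCols (diffCols c) v = actV c v ^^^ v := by
  have h := Nat.eq_of_beq_eq_true (List.all_eq_true.mp unit_checked v (List.mem_range.mpr hv))
  rw [diffCols, xorCols_zip _ _ _ (by simp [actCols, liftCols, unitCols]), h]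
  rfl

/-- A row of a permutation minus the identity is orthogonal to its fixed points. -/
theorem row_orth (c j : ℕ) {v : ℕ} (hv : v < 2048) (hf : actV c v = v) :
    dotB 11 (bitRow (diffCols c) j) v = false := by
  have h := testBit_xorCols (diffCols c) v j
  rw [diffCols_spec c hv, hf, Nat.xor_self, Nat.zero_testBit] at h
  rw [show (11 : ℕ) = (diffCols c).length by simp [diffCols, actCols, liftCols, unitCols]]
  exact h.symm

/-- A point orthogonal to all rows is fixed. -/
theorem fixed_of_orth {c : ℕ} {g : Equiv.Perm GolayPt} (hg : Repr c g) {v : ℕ} (hv : v < 2048)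
    (h : ∀ j < 11, dotB 11 (bitRow (diffCols c) j) v = false) : actV c v = v := by
  have h0 : actV c v ^^^ v = 0 := by
    apply Nat.eq_of_testBit_eq
    intro j
    rw [Nat.zero_testBit]
    by_cases hj : j < 11
    · rw [← diffCols_spec c hv, testBit_xorCols]
      rw [show (diffCols c).length = 11 by simp [diffCols, actCols, liftCols, unitCols]]
      exact h j hj
    · exact Nat.testBit_lt_two_pow (lt_of_lt_of_le (Nat.xor_lt_two_pow (n := 11) (actV_lt hg v) hv)
        (Nat.pow_le_pow_right (by norm_num) (not_lt.mp hj)))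
  exact Nat.xor_eq_zero_iff.mp h0

/-- Evaluate a number before use. -/
def forceN {β : Type*} : ℕ → (ℕ → β) → β
  | 0, f => f 0
  | m + 1, f => f (m + 1)

theorem forceN_eq {β : Type*} (n : ℕ) (f : ℕ → β) : forceN n f = f n := by cases n <;> rfl

/-- Evaluate a list of pairs before use. -/
def forceE {β : Type*} : List (ℕ × ℕ) → (List (ℕ × ℕ) → β) → β
  | [], f => f []
  | e :: l, f => forceN e.1 fun a => forceN e.2 fun b => forceE l fun l' => f ((a, b) :: l')

theorem forceE_eq {β : Type*} : ∀ (l : List (ℕ × ℕ)) (f : List (ℕ × ℕ) → β), forceE l f = f l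
  | [], _ => rfl
  | e :: l, f => by simp only [forceE, forceN_eq, forceE_eq l]

/-- Evaluate the spine of a list before use. -/
def forceL {α β : Type*} : List α → (List α → β) → β
  | [], f => f []
  | a :: l, f => forceL l fun l' => f (a :: l')

theorem forceL_eq {α β : Type*} : ∀ (l : List α) (f : List α → β), forceL l f = f l
  | [], _ => rfl
  | a :: l, f => by simp only [forceL, forceL_eq l]

/-- Reduce a row by an echelon list, newest first. -/
def redRow : List (ℕ × ℕ) → ℕ → ℕ
  | [], r => r
  | e :: E, r =>
    forceN (redRow E r) fun r' => if r'.testBit e.1 then Nat.xor r' e.2 else r'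

/-- Insert a row. -/
def insRow (E : List (ℕ × ℕ)) (r : ℕ) : List (ℕ × ℕ) :=
  forceN (redRow E r) fun r' => match (List.range 11).find? r'.testBit with
  | none => E
  | some p => (p, r') :: E

/-- Insert several rows. -/
def insAll (E : List (ℕ × ℕ)) (rs : List ℕ) : List (ℕ × ℕ) := rs.foldl insRow E

/-- The echelon shape. -/
def okE : List (ℕ × ℕ) → Bool
  | [] => true
  | e :: E => Nat.blt e.1 11 && e.2.testBit e.1 && E.all (fun q => !e.2.testBit q.1 && !Nat.beq q.1 e.1) && okE E

/-- All rows orthogonal to all vectors of a set. -/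
def Orth (F : Finset ℕ) (E : List (ℕ × ℕ)) : Prop := ∀ e ∈ E, ∀ v ∈ F, dotB 11 e.2 v = false

theorem orth_red {F : Finset ℕ} : ∀ {E : List (ℕ × ℕ)} {r : ℕ}, Orth F E →
    (∀ v ∈ F, dotB 11 r v = false) → ∀ v ∈ F, dotB 11 (redRow E r) v = false
  | [], _, _, hr => hr
  | e :: E, r, hE, hr => fun v hv => by
    have ih := orth_red (fun x hx => hE x (List.mem_cons_of_mem _ hx)) hr v hv
    simp only [redRow, forceN_eq]
    split_ifs
    · show dotB 11 (redRow E r ^^^ e.2) v = false
      rw [dotB_xor_left, ih, hE e (List.mem_cons_self ..) v hv]; rfl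
    · exact ih

theorem orth_ins {F : Finset ℕ} {E : List (ℕ × ℕ)} {r : ℕ} (hE : Orth F E)
    (hr : ∀ v ∈ F, dotB 11 r v = false) : Orth F (insRow E r) := by
  simp only [insRow, forceN_eq]
  split
  · exact hE
  · intro e he
    rcases List.mem_cons.mp he with rfl | he
    · exact orth_red hE hr
    · exact hE e he

theorem orth_all {F : Finset ℕ} : ∀ (rs : List ℕ) {E : List (ℕ × ℕ)}, Orth F E →
    (∀ r ∈ rs, ∀ v ∈ F, dotB 11 r v = false) → Orth F (insAll E rs)
  | [], _, hE, _ => hE
  | r :: rs, E, hE, h => orth_all rs (orth_ins hE (h r (List.mem_cons_self ..)))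
      fun x hx => h x (List.mem_cons_of_mem _ hx)

theorem okE_kill : ∀ {E : List (ℕ × ℕ)}, okE E = true → ∀ d : ℕ,
    (∀ i < 11, d.testBit i = true → i ∈ E.map Prod.fst) → (∀ e ∈ E, dotB 11 e.2 d = false) →
    ∀ i < 11, d.testBit i = false
  | [], _, d, hd, _, i, hi => by
    by_contra h
    have := hd i hi (by simpa using h)
    simp at this
  | e :: E, hok, d, hd, ho, i, hi => by
    simp only [okE, Bool.and_eq_true, List.all_eq_true, Bool.not_eq_true'] at hok
    obtain ⟨⟨⟨hp, hep⟩, hE⟩, hok'⟩ := hok
    have hp' : e.1 < 11 := Nat.blt_eq.mp hp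
    have hdp : d.testBit e.1 = false := by
      by_contra h
      have h' : d.testBit e.1 = true := by simpa using h
      have := ho e (List.mem_cons_self ..)
      rw [dotB_one 11 e.2 d e.1 hp' hep h' fun j hj he hj' => ?_] at this
      · simp at this
      · rcases List.mem_cons.mp (hd j hj hj') with rfl | hm
        · rfl
        · obtain ⟨q, hq, rfl⟩ := List.mem_map.mp hm
          rw [(hE q hq).1] at he
          simp at he
    refine okE_kill hok' d (fun j hj hj' => ?_) (fun x hx => ho x (List.mem_cons_of_mem _ hx)) i hi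
    rcases List.mem_cons.mp (hd j hj hj') with rfl | hm
    · rw [hdp] at hj'; simp at hj'
    · exact hm

theorem okE_pivots : ∀ {E : List (ℕ × ℕ)}, okE E = true → (E.map Prod.fst).Nodup ∧ ∀ p ∈ E.map Prod.fst, p < 11
  | [], _ => ⟨List.nodup_nil, by simp⟩
  | e :: E, hok => by
    simp only [okE, Bool.and_eq_true, List.all_eq_true, Bool.not_eq_true'] at hok
    obtain ⟨⟨⟨hp, -⟩, hE⟩, hok'⟩ := hok
    obtain ⟨h1, h2⟩ := okE_pivots hok'
    refine ⟨List.nodup_cons.mpr ⟨fun h => ?_, h1⟩, ?_⟩
    · obtain ⟨q, hq, e'⟩ := List.mem_map.mp h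
      have := (hE q hq).2
      rw [e'] at this
      simp at this
    · intro p hp'
      rcases List.mem_cons.mp hp' with rfl | hp'
      · exact Nat.blt_eq.mp hp
      · exact h2 p hp'

theorem card_le_of_okE {E : List (ℕ × ℕ)} (hok : okE E = true) (F : Finset ℕ) (hlt : ∀ v ∈ F, v < 2048)
    (hO : Orth F E) : F.card ≤ 2 ^ (11 - E.length) := by
  classical
  obtain ⟨hnd, hp⟩ := okE_pivots hok
  set S := (Finset.range 11) \ (E.map Prod.fst).toFinset with hS
  have hSc : S.card = 11 - E.length := by
    rw [hS, Finset.card_sdiff_of_subset (fun p hp' => Finset.mem_range.mpr (hp p (List.mem_toFinset.mp hp'))),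
      Finset.card_range, List.toFinset_card_of_nodup hnd, List.length_map]
  rw [← hSc, ← Finset.card_powerset]
  refine Finset.card_le_card_of_injOn (fun v => S.filter fun i => v.testBit i = true)
    (fun v _ => Finset.mem_powerset.mpr (Finset.filter_subset _ _)) fun a ha b hb hab => ?_
  have hall : ∀ i < 11, (a ^^^ b).testBit i = false := by
    refine okE_kill hok _ (fun i hi hd => ?_) fun e he => ?_
    · by_contra hn
      have hiS : i ∈ S := by simp [hS, hi, List.mem_toFinset, hn]
      have h1 := Finset.ext_iff.mp hab i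
      simp only [Finset.mem_filter, hiS, true_and] at h1
      rw [Nat.testBit_xor] at hd
      cases hA : a.testBit i <;> cases hB : b.testBit i <;> simp [hA, hB] at h1 hd
    · rw [dotB_xor, hO e he a ha, hO e he b hb]; rfl
  apply Nat.eq_of_testBit_eq
  intro i
  by_cases hi : i < 11
  · have := hall i hi
    rw [Nat.testBit_xor] at this
    cases hA : a.testBit i <;> cases hB : b.testBit i <;> simp [hA, hB] at this ⊢
  · have h2 : 2048 ≤ 2 ^ i := le_trans (by norm_num) (Nat.pow_le_pow_right (by norm_num) (not_lt.mp hi))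
    rw [Nat.testBit_lt_two_pow (lt_of_lt_of_le (hlt a ha) h2), Nat.testBit_lt_two_pow (lt_of_lt_of_le (hlt b hb) h2)]

/-- An involution of the search. -/
structure Rec where
  id : ℕ
  c : ℕ
  com : ℕ
  rows : List ℕ
  inX : Bool

/-- The search: every admissible set lies in the distinguished one. -/
def goS : ℕ → List Rec → ℕ → List (ℕ × ℕ) → Bool → Bool
  | 0, _, _, _, _ => false
  | f + 1, cand, k, E, ax =>
    (Nat.blt ((k + cand.length) * 2 ^ (11 - E.length)) 1024 && okE E) || (ax && cand.all Rec.inX) ||
      match cand with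
      | [] => false
      | h :: t => (forceL (t.filter fun x => h.com.testBit x.id) fun t' => forceE (insAll E h.rows) fun E' =>
            forceN (k + 1) fun k' => if ax && h.inX then goS f t' k' E' true else goS f t' k' E' false) &&
          goS f t k E ax

theorem goS_sound {S : Rec → Prop} {F : Finset ℕ} {n : ℕ} (hn : (n + 1) * F.card = 1024)
    (hcount : ∀ L : List Rec, (∀ r, S r → r ∈ L) → n ≤ L.length)
    (hcom : ∀ a b, S a → S b → a.id = b.id ∨ a.com.testBit b.id = true)
    (hid : ∀ a b, S a → S b → a.id = b.id → a = b)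
    (hrows : ∀ a, S a → ∀ r ∈ a.rows, ∀ v ∈ F, dotB 11 r v = false)
    (hlt : ∀ v ∈ F, v < 2048) :
    ∀ (f : ℕ) (cand : List Rec) (k : ℕ) (E : List (ℕ × ℕ)) (ax : Bool) (ch : List Rec),
      goS f cand k E ax = true → k = ch.length + 1 → (ax = ch.all Rec.inX) → Orth F E → (∀ r ∈ ch, S r) →
      (∀ r, S r → r ∈ ch ++ cand) → ∀ r, S r → r.inX = true := by
  intro f
  induction f with
  | zero => intro cand k E ax ch h; simp [goS] at h
  | succ f ih =>
    intro cand k E ax ch h hk hax hE hch hS r hr
    simp only [goS, Bool.or_eq_true, Bool.and_eq_true] at h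
    rcases h with (⟨hb, hok⟩ | ⟨h1, h2⟩) | h
    · exfalso
      have h3 := hcount (ch ++ cand) hS
      have h4 := card_le_of_okE hok F hlt hE
      rw [List.length_append] at h3
      have h5 := Nat.blt_eq.mp hb
      have : (n + 1) * F.card ≤ (k + cand.length) * 2 ^ (11 - E.length) :=
        Nat.mul_le_mul (by omega) h4
      omega
    · rcases List.mem_append.mp (hS r hr) with h | h
      · rw [hax] at h1; exact List.all_eq_true.mp h1 r h
      · exact List.all_eq_true.mp h2 r h
    · match cand, h, hS with
      | [], h, _ => simp at h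
      | a :: t, h, hS =>
        simp only [Bool.and_eq_true, forceL_eq, forceE_eq, forceN_eq] at h
        have hb : goS f (t.filter fun x => a.com.testBit x.id) (k + 1) (insAll E a.rows) (ax && a.inX) = true := by
          have h1 := h.1
          split_ifs at h1 with hc
          · rw [show (ax && a.inX) = true by simp [hc]]; exact h1
          · rw [show (ax && a.inX) = false by simpa using hc]; exact h1
        by_cases ha : S a
        · refine ih _ _ _ _ (a :: ch) hb (by simp [hk]) (by rw [List.all_cons, hax, Bool.and_comm])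
            (orth_all _ hE (hrows a ha)) (fun x hx => ?_) (fun x hx => ?_) r hr
          · rcases List.mem_cons.mp hx with rfl | hx
            exacts [ha, hch x hx]
          · rcases List.mem_append.mp (hS x hx) with h' | h'
            · simp [h']
            rcases List.mem_cons.mp h' with rfl | h'
            · simp
            · rcases hcom a x ha hx with e | e
              · simp [hid a x ha hx e]
              · exact List.mem_append_right _ (List.mem_filter.mpr ⟨h', e⟩)
        · refine ih t k E ax ch h.2 hk hax hE hch (fun x hx => ?_) r hr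
          rcases List.mem_append.mp (hS x hx) with h' | h'
          · exact List.mem_append_left _ h'
          rcases List.mem_cons.mp h' with rfl | h'
          · exact absurd hx ha
          · exact List.mem_append_right _ h'

end CfsgGolay.Ten
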