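/-
A simple group of Janko-four type has exactly two classes of involutions.
-/
import Cfsg.Agent.Lib.JankoFour.OrbFuse
import Cfsg.Agent.Lib.JankoFour.OrbCent
import Cfsg.Agent.Lib.JankoFour.OrbSplit
import Cfsg.Agent.Lib.JankoFour.CenCenter
import Cfsg.Agent.Lib.JankoFour.FiveOuter

set_option autoImplicit false

namespace CfsgLib.JankoFour

open Cfsg Subgroup

universe u

/-- Two classes of involutions, represented by z and one other. -/
theorem two_classes {G : Type u} [Group G] [Finite G] [IsSimpleGroup G] (hG : ¬ IsMulCommutative G) {z : G}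
    {P : Subgroup G} (hJ : IsOfJankoFourTypeWith z P) :
    ∃ x y : G, orderOf x = 2 ∧ orderOf y = 2 ∧ ¬ IsConj x y ∧ ∀ w : G, orderOf w = 2 → IsConj w x ∨ IsConj w y := by
  classical
  obtain ⟨c⟩ := ctx_of_type hJ
  obtain ⟨A, o⟩ := c.exists_orb hG (hinv_of_type hJ)
  obtain ⟨hex, hfaith⟩ := c.outer_facts hJ
  obtain ⟨K, hKN, hKV, hKsup, -⟩ := o.exists_compl hex hfaith
  set V := c.vGrp A o.hA.1.1 with hV
  obtain ⟨a, ha, -, -, -, -, a1, -⟩ := Ctx.exists_three o.hA.1.2.1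
  obtain ⟨y, hy, hyZ, -, hny⟩ := o.exists_lift ha a1
  have hyT : y ∈ c.Tset V := ⟨mem_sup_right hy, fun h => hyZ (h ▸ one_mem _), hny⟩
  have hy2 : orderOf y = 2 :=
    orderOf_eq_prime (hp := ⟨Nat.prime_two⟩) (by rw [pow_two]; exact c.vGrp_sq o.hA.1 hyT.1) hyT.2.1
  refine ⟨z, y, c.oz, hy2, fun h => hny (isConj_iff.mp h), fun w hw => ?_⟩
  have hw2 : w * w = 1 := by rw [← pow_two, ← hw, pow_orderOf_eq_one]
  have hw1 : w ≠ 1 := fun h => by rw [h, orderOf_one] at hw; norm_num at hw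
  rcases o.invol_class hKN hKV hKsup hw2 hw1 with h | ⟨g, hg⟩
  · exact Or.inl (IsConj.symm (isConj_iff.mpr h))
  · obtain ⟨n, -, e⟩ := o.T_to hg hy hyZ hny
    exact Or.inr (isConj_iff.mpr ⟨n * g, by rw [← e]; group⟩)

end CfsgLib.JankoFour
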